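import Cfsg.Agent.INV.HS8.LE

/-!
The possible pairs of automisers of `E` and `F`.

Let `N° = {g | NT d g ∧ Into φ4 φ4 g}` (such `g` also normalise `F`, `Rl.dich`). Each `g ∈ N°` acts as
`app5 mt mv ma mw` (`Rl.exists_A`, `mv.w = false`), with actions `fE`, `fF` on `E`, `F`.
(1) By `Hy.st` and `Hy.not_z` (for `d` and `d.swap`) no word `s f s' f s'' f s''' f` (`s.. ∈ S3`, at most
four `f`) fixes `t` outside `S3` or sends `t` to `z`; of 1536 automorphisms 68 survive.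
(2) `O = {mt}` is the orbit of `t` under `N°`; the stabiliser acts as an inner automorphism
(`Hy.stabS`); `O` is closed under composition, and by `Hy.toN0` (for `d`, `d.swap`) every central element in
the orbit of `t` under `⟨S3, fE⟩` or `⟨S3, fF⟩` lies in `O`. Result (python, codes `(mt, mv, ma, mw)` modulo
inner automorphisms `mv ↦ mv z`, `mw ↦ mw z`): `O = {1}`: K1. `O = {1,13}`: `(13,2,4,16)` or its twist
`(13,2,8,16)`: K4. `O = {1,5}`: `(5,6,4,16)`; `O = {1,9}`: `(9,2,4,24)` (swap); `O = {1,4}`: `(4,7,1,16)`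
(twist); `O = {1,8}`: `(8,2,13,25)` (twist and swap): K2. `O = {1,5,9,13}` or its twist `{1,4,8,13}`: K8 with
`(9,2,4,16 or 24)`, `(5,2 or 6,4,16)`.
(3) `AE.le`: for `g ∈ N(E)` move `g t g⁻¹` into `Z0` by a power of `ρ`, take `k ∈ N°` from `toN0`, apply
`st` to `k⁻¹ ρ^i g`. `AE.ge`: conjugate by `ρ`, multiply by `w`.
(4) `R` = a Sylow 2-subgroup of `N°` containing `S0`; every `g ∈ N°` has `g ^ 4 ∈ C(S0)`, use `cover`.
-/

set_option autoImplicit false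

open Subgroup CL.TwoS CL.MSS

namespace CL.HS8

variable {G : Type*} [Group G] [Finite G] {d : Dat G}

namespace Cls

set_option synthInstance.maxSize 4000
set_option synthInstance.maxHeartbeats 200000

/-- `x` is the action of an element of `N(E)`. -/
def Rz (d : Dat G) (x : L4) : Prop := ∃ g, Act d.φ4 g x

theorem Rz.mul {x y : L4} (h : Rz d x) (k : Rz d y) : Rz d (x * y) :=
  let ⟨_, a⟩ := h; let ⟨_, b⟩ := k; ⟨_, a.mul b⟩

theorem rz_one : Rz d 1 := ⟨1, Act.one⟩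
theorem rz_rr (r : Rl d) : Rz d rr := ⟨_, r.act_ρ⟩
theorem rz_ri (r : Rl d) : Rz d ri := ⟨_, r.act_ρ.inv rr_ri⟩
theorem rz_sg (r : Rl d) : Rz d sg := ⟨_, r.act_w⟩

/-- The word `s₁ f s₂ f …`. -/
def ev (f : L4) (w : List ℕ) : L4 := w.foldl (fun g s => g * [1, rr, ri].getD s 1 * f) 1

theorem rz_ev (r : Rl d) {f : L4} (h : Rz d f) (w : List ℕ) : Rz d (ev f w) := by
  refine List.foldlRecOn w _ rz_one fun g hg s _ => (hg.mul ?_).mul h
  match s with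
  | 0 => exact rz_one
  | 1 => exact rz_rr r
  | 2 => exact rz_ri r
  | _ + 3 => exact rz_one

theorem app_t (f : L4) : f.app (.of 1) = f.t := by change f.t * 1 * 1 * 1 = _; simp
theorem app_v (f : L4) : f.app (.of 2) = f.v := by change 1 * f.v * 1 * 1 = _; simp
theorem app_a (f : L4) : f.app (.of 4) = f.a := by change 1 * 1 * f.a * 1 = _; simp
theorem app_b (f : L4) : f.app (.of 8) = f.b := by change 1 * 1 * 1 * f.b = _; simp

theorem act_t {g : G} {x : L4} (a : Act d.φ4 g x) : g * d.t * g⁻¹ = d.φ4 x.t := by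
  rw [← app_t, ← a, d.ψt]

def chk (x : L4) : Prop := (x.t = .of 1 → x ∈ S3) ∧ x.t ≠ .of 12

instance (x : L4) : Decidable (chk x) := by unfold chk; infer_instance

theorem chk_of (h : Hy d) {x : L4} (k : Rz d x) : chk x := by
  obtain ⟨g, a⟩ := k
  refine ⟨fun e => h.st a (comm_of_cj (by rw [act_t a, e, d.ψt])), fun e => h.not_z a.into ?_⟩
  rw [act_t a, e]; simp [Dat.φ4_of, Nat.testBit]

def WW : List (List ℕ) := [[1, 0, 1], [1, 0, 0, 1], [1, 1, 0], [1, 0, 1, 0], [1, 1, 0, 0], [2, 1, 2, 2],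
  [0, 1, 1], [0, 1, 2], [0, 1, 1, 2]]

def GE : List (ℕ × ℕ × ℕ) := [(1, 2, 4), (1, 14, 4), (4, 2, 1), (4, 7, 1), (4, 11, 1), (4, 14, 1), (5, 2, 4),
  (5, 6, 4), (5, 10, 4), (5, 14, 4), (8, 2, 5), (8, 14, 5), (8, 2, 13), (8, 14, 13), (9, 2, 4), (9, 14, 4),
  (9, 2, 13), (9, 14, 13), (13, 2, 4), (13, 6, 4), (13, 10, 4), (13, 14, 4), (13, 2, 8), (13, 7, 8),
  (13, 11, 8), (13, 14, 8)]

theorem good : ∀ ft : V4, ft.v = false → ∀ fa : V4, fa.v = false → ∀ fv : V4,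
    (∀ e, L4.app ⟨ft, fv, fa, fa * .of 12⟩ e = 1 → e = 1) →
    (∀ w ∈ WW, chk (ev ⟨ft, fv, fa, fa * .of 12⟩ w)) →
    ∃ q ∈ GE, ft = .of q.1 ∧ fv = .of q.2.1 ∧ fa = .of q.2.2 := by decide +kernel

theorem a5t (mt mv ma mw : M5) : app5 mt mv ma mw (.of 1) = mt := by
  change mt * 1 * 1 * 1 * 1 = _; simp
theorem a5v (mt mv ma mw : M5) : app5 mt mv ma mw (.of 2) = mv := by
  change 1 * mv * 1 * 1 * 1 = _; simp
theorem a5a (mt mv ma mw : M5) : app5 mt mv ma mw (.of 4) = ma := by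
  change 1 * 1 * ma * 1 * 1 = _; simp
theorem a5b (mt mv ma mw : M5) : app5 mt mv ma mw (.of 8) = ma * .of 12 := by
  change 1 * 1 * 1 * (ma * .of 12) * 1 = _; simp
theorem a5w (mt mv ma mw : M5) : app5 mt mv ma mw (.of 16) = mw := by
  change 1 * 1 * 1 * 1 * mw = _; simp

theorem codeE (h : Hy d) {g : G} (hg : NT d g) (hE : Into d.φ4 d.φ4 g) : ∃ q ∈ GE, ∃ mw,
    ∀ m, g * d.φ5 m * g⁻¹ = d.φ5 (app5 (.of q.1) (.of q.2.1) (.of q.2.2) mw m) := by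
  have r := h.toRl
  obtain ⟨mv, mw, -, ma, ca, -, -, mt, ct, hA⟩ := r.exists_A hg
  obtain ⟨f, a⟩ := r.act_of_into hE
  have k : ∀ e, app5 mt mv ma mw ⟨e, false⟩ = ⟨f.app e, false⟩ := fun e =>
    r.inj (by rw [← hA, d.φ5_e, d.φ5_e, a])
  obtain rfl : mt = ⟨f.t, false⟩ := (a5t ..).symm.trans (app_t f ▸ k (.of 1))
  obtain rfl : mv = ⟨f.v, false⟩ := (a5v ..).symm.trans (app_v f ▸ k (.of 2))
  obtain rfl : ma = ⟨f.a, false⟩ := (a5a ..).symm.trans (app_a f ▸ k (.of 4))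
  have e : f.b = f.a * .of 12 := by
    have := congrArg M5.e ((a5b ..).symm.trans (app_b f ▸ k (.of 8)))
    rw [M5.mul_eq] at this; exact this.symm
  obtain ⟨ft, fv, fa, fb⟩ := f
  obtain rfl : fb = fa * .of 12 := e
  obtain ⟨q, hq, e1, e2, e3⟩ := good ft (by simpa [M5.cen] using ct) fa (by simpa [M5.cen] using ca) fv
    (fun e he => r.mod4.inj (by
      have := a e
      rw [he, r.mod4.one] at this
      rw [r.mod4.one]; simpa using this))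
    fun w _ => chk_of h (rz_ev r ⟨g, a⟩ w)
  have H : ∀ q ∈ GE, M5.of q.1 = ⟨.of q.1, false⟩ ∧ M5.of q.2.1 = ⟨.of q.2.1, false⟩ ∧
    M5.of q.2.2 = ⟨.of q.2.2, false⟩ := by decide +kernel
  obtain ⟨h1, h2, h3⟩ := H q hq
  exact ⟨q, hq, mw, by rw [h1, h2, h3, ← e1, ← e2, ← e3]; exact hA⟩

theorem into_swap (r : Rl d) {g : G} (hg : NT d g) (hE : Into d.φ4 d.φ4 g) :
    Into d.swap.φ4 d.swap.φ4 g := (r.dich hg).elim And.right fun ⟨k, _⟩ => by
  obtain ⟨f, hf⟩ := inv_of_inj r.mod4.inj r.mod4.inj hE (.of 2)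
  obtain ⟨f', hf'⟩ := k f
  rw [← hf, r.φ4_swap, show g * (g⁻¹ * d.φ4 (.of 2) * g⁻¹⁻¹) * g⁻¹ = d.φ4 (.of 2) by group,
    ← d.φ5_e] at hf'
  exact absurd (r.inj hf') (by generalize f' = x; revert x; decide +kernel)

theorem into_twist (r : Rl d) {g : G} (hE : Into d.twist.φ4 d.twist.φ4 g) : Into d.φ4 d.φ4 g := by
  have k : ∀ e, d.twist.φ4 e = d.φ4 (tw5 ⟨e, false⟩).e := fun e => by
    rw [← Dat.φ5_e, r.φ5_twist, ← d.φ5_e]; congr 1; revert e; decide +kernel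
  intro e
  obtain ⟨f, hf⟩ := hE (tw5 ⟨e, false⟩).e
  rw [k, k, show (tw5 ⟨(tw5 ⟨e, false⟩).e, false⟩).e = e by
    generalize e = x; revert x; decide +kernel] at hf
  exact ⟨_, hf⟩

/-- The classes of automorphisms of `S0`. -/
def CL : List (ℕ × ℕ × ℕ × ℕ) := [(1, 2, 4, 16), (4, 2, 1, 16), (4, 7, 1, 16), (5, 2, 4, 16), (5, 6, 4, 16),
  (8, 2, 13, 16), (8, 2, 13, 25), (9, 2, 4, 16), (9, 2, 4, 24), (13, 2, 4, 16), (13, 2, 4, 24), (13, 2, 8, 16),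
  (13, 2, 8, 25), (13, 6, 4, 16), (13, 6, 4, 24), (13, 7, 8, 16), (13, 7, 8, 25)]

theorem code (h : Hy d) {g : G} (hg : NT d g) (hE : Into d.φ4 d.φ4 g) :
    ∃ c ∈ CL, ∃ i, Au d (d.φ5 i * g) c.1 c.2.1 c.2.2.1 c.2.2.2 := by
  have r := h.toRl
  obtain ⟨q, hq, mw, hA⟩ := codeE h hg hE
  obtain ⟨q', hq', mw', hA'⟩ := codeE h.swap (r.nt_swap.2 hg) (into_swap r hg hE)
  have k : ∀ m, app5 (.of q.1) (.of q.2.1) (.of q.2.2) mw (sw5 m) =
      sw5 (app5 (.of q'.1) (.of q'.2.1) (.of q'.2.2) mw' m) := fun m =>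
    r.inj (by rw [← hA, ← r.φ5_swap, hA', r.φ5_swap])
  have k1 := k (.of 1)
  have k2 := k (.of 2)
  have k3 := k (.of 4)
  rw [show sw5 (.of 1) = .of 1 by decide, a5t, a5t] at k1
  rw [show sw5 (.of 2) = .of 16 by decide, a5w, a5v] at k2
  rw [show sw5 (.of 4) = .of 8 by decide, a5b, a5a] at k3
  have H : ∀ q ∈ GE, ∀ q' ∈ GE, M5.of q.1 = sw5 (.of q'.1) → M5.of q.2.2 * .of 12 = sw5 (.of q'.2.2) →
      ∃ c ∈ CL, c.1 = q.1 ∧ c.2.2.1 = q.2.2 ∧ ∃ i ∈ [M5.of 0, .of 2, .of 16, .of 18],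
        ∀ m ∈ [M5.of 2, .of 16, .of 1, .of 4, .of 8], i * app5 (.of q.1) (.of q.2.1) (.of q.2.2) (sw5 (.of q'.2.1)) m =
          app5 (.of c.1) (.of c.2.1) (.of c.2.2.1) (.of c.2.2.2) m * i := by decide +kernel
  obtain ⟨c, hc, -, -, i, -, e⟩ := H q hq q' hq' k1 k3
  have u : ∀ m ∈ [M5.of 2, .of 16, .of 1, .of 4, .of 8], d.φ5 i * g * d.φ5 m * (d.φ5 i * g)⁻¹ =
      d.φ5 (app5 (.of c.1) (.of c.2.1) (.of c.2.2.1) (.of c.2.2.2) m) := fun m hm => by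
    rw [← r.mod5.cj (e m hm), ← k2, ← hA]; group
  simp only [List.forall_mem_cons, a5t, a5v, a5a, a5b, a5w, d.φt, d.φv, d.φa, d.φb, d.φw] at u
  exact ⟨c, hc, i, r.au_of u.2.2.1 u.1 u.2.2.2.1 u.2.2.2.2.1 u.2.1⟩

/-- `t` is conjugate to `φ5 n` in `N(S0) ∩ N(E)`. -/
def O (d : Dat G) (n : ℕ) : Prop :=
  ∃ g, NT d g ∧ Into d.φ4 d.φ4 g ∧ g * d.t * g⁻¹ = d.φ5 (.of n)

theorem O.swap (r : Rl d) {n n' : ℕ} (h : O d n) (e : sw5 (.of n') = .of n) : O d.swap n' :=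
  let ⟨g, a, b, c⟩ := h; ⟨g, r.nt_swap.2 a, into_swap r a b, by rw [r.φ5_swap, e]; exact c⟩

theorem au_t {y : G} {a b c e : ℕ} (h : Au d y a b c e) : y * d.t * y⁻¹ = d.φ5 (.of a) := by
  rw [← d.φt, h, a5t]

theorem au_rz {y : G} {a b c e : ℕ} (h : Au d y a b c e) {f : L4}
    (k : ∀ x, app5 (.of a) (.of b) (.of c) (.of e) ⟨x, false⟩ = ⟨f.app x, false⟩) : Rz d f :=
  ⟨y, fun x => by rw [← d.φ5_e, h, k, d.φ5_e]⟩

theorem au_swap (r : Rl d) {y : G} {a b c e a' b' c' e' : ℕ} (h : Au d y a b c e)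
    (k : ∀ m, app5 (.of a) (.of b) (.of c) (.of e) (sw5 m) =
      sw5 (app5 (.of a') (.of b') (.of c') (.of e') m)) : Au d.swap y a' b' c' e' := fun m => by
  rw [r.φ5_swap, r.φ5_swap, h, k]

theorem force (h : Hy d) {f : L4} (k : Rz d f) (w : List ℕ) (e : (ev f w).t = .of 9) : O d 9 := by
  obtain ⟨g, a⟩ := rz_ev h.toRl k w
  exact h.toN0 a.into (m := .of 9) rfl (by rw [act_t a, e, ← d.φ5_e]; rfl)

theorem ct (h : Hy d) {g : G} {c : ℕ × ℕ × ℕ × ℕ} (hc : c ∈ CL) {i : M5}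
    (hA : Au d (d.φ5 i * g) c.1 c.2.1 c.2.2.1 c.2.2.2) : g * d.t * g⁻¹ = d.φ5 (.of c.1) := by
  have H : ∀ c ∈ CL, ∀ i : M5, i⁻¹ * .of c.1 = .of c.1 * i⁻¹ := by decide +kernel
  rw [← h.toRl.mod5.cj (H c hc i), ← au_t hA, h.toRl.φ5_inv]; group

theorem exists_R (h : Hy d) : ∃ R, Ov0 d R ∧ ∀ g, NT d g → Into d.φ4 d.φ4 g → ∃ c ∈ CL,
    (∃ y ∈ R, Au d y c.1 c.2.1 c.2.2.1 c.2.2.2) ∧ g * d.t * g⁻¹ = d.φ5 (.of c.1) := by
  have := Fact.mk Nat.prime_two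
  have r := h.toRl
  let N : Subgroup G := subOfMul {g | NT d g ∧ Into d.φ4 d.φ4 g} (r.ov_S0.nt 1 (one_mem _))
    fun _ a _ b => ⟨a.1.mul b.1, Into.mul a.2 b.2⟩
  have SN : r.S0 ≤ N := r.ov_S0.nt
  obtain ⟨R, hR, le⟩ := exists_sylIn_ge r.ov_S0.pg SN
  refine ⟨R, ⟨⟨hR.pgroup, fun m => le (r.ov_S0.s0 m)⟩, fun x hx => hR.le hx⟩, fun g a b => ?_⟩
  have nm : N ≤ normalizer (r.S0 : Set G) := le_normalizer_of_cj_le fun x hx =>
    cj_le_iff_forall.2 fun y hy => by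
      obtain ⟨m, rfl⟩ := r.mem_S0.1 hy
      obtain ⟨n, e⟩ := hx.1 m
      exact r.mem_S0.2 ⟨n, e.symm⟩
  obtain ⟨c, hc, i, hA⟩ := code h a b
  obtain ⟨p, hp, k, hk, e⟩ := cover hR (C := N ⊓ centralizer (r.S0 : Set G)) inf_le_left
    (le_normalizer_inf le_normalizer (le_normalizer_centralizer nm)) (fun g hg => ⟨2, pow_mem hg _, by
      obtain ⟨c, hc, i, hA⟩ := code h hg.1 hg.2
      have H : ∀ c ∈ CL, app5 (.of c.1) (.of c.2.1) (.of c.2.2.1) (.of c.2.2.2) (.of c.1) = .of 1 := by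
        decide +kernel
      have k := hA (.of c.1)
      rw [H c hc, d.φt] at k
      obtain ⟨m, hm⟩ := h.stabS (mul_mem hg hg).1 (mul_mem hg hg).2 (comm_of_cj (by
        rw [← ct h hc hA] at k
        calc _ = (d.φ5 i)⁻¹ * (d.φ5 i * g * (g * d.t * g⁻¹) * (d.φ5 i * g)⁻¹) * (d.φ5 i)⁻¹⁻¹ := by group
          _ = _ := by rw [k, cj_of_comm (r.comm_t i).inv_left]))
      intro x hx
      obtain ⟨n, rfl⟩ := r.mem_S0.1 hx
      refine (comm_of_cj ?_).eq.symm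
      have H2 : ∀ m n : M5, m * (m * n * m⁻¹) = n * m := by decide +kernel
      conv_rhs => rw [← r.mod5.cj (H2 m n), ← hm, r.mod5.mul, r.mod5.mul, r.φ5_inv, ← hm]
      norm_num only
      simp only [pow_succ, pow_zero, one_mul, mul_inv_rev, mul_assoc]⟩)
    (mul_mem (SN (r.ov_S0.s0 i)) (show g ∈ N from ⟨a, b⟩))
  refine ⟨c, hc, ⟨p, hp, fun m => ?_⟩, ?_⟩
  · rw [← hA, e, mul_assoc p k, ← hk.2 _ (r.ov_S0.s0 m)]; group
  · exact ct h hc hA

theorem ae (h : Hy d) {A : List L4} (L : List ℕ) (ge : ∀ f ∈ A, Rz d f)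
    (H : ∀ e : V4, (∃ n ∈ L, (⟨rpE e, false⟩ : M5) = .of n) → ∃ f ∈ A, f.t = e)
    (hO : ∀ k, NT d k → Into d.φ4 d.φ4 k → ∃ n ∈ L, k * d.t * k⁻¹ = d.φ5 (.of n)) : AE d A := by
  have r := h.toRl
  refine ⟨fun g hg => ?_, ge⟩
  obtain ⟨x, a⟩ := r.act_of_into hg
  obtain ⟨g', a'⟩ : ∃ g', Into d.φ4 d.φ4 g' ∧ g' * d.t * g'⁻¹ = d.φ4 (rpE x.t) := by
    unfold rpE
    split_ifs
    · exact ⟨g, hg, act_t a⟩
    · exact ⟨_, (r.act_ρ.mul a).into, act_t (r.act_ρ.mul a)⟩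
    · exact ⟨_, (r.act_ρ.mul (r.act_ρ.mul a)).into, act_t (r.act_ρ.mul (r.act_ρ.mul a))⟩
  obtain ⟨k, k1, k2, k3⟩ := h.toN0 a'.1 (m := ⟨rpE x.t, false⟩)
    (by generalize x.t = e; revert e; decide +kernel) (a'.2.trans (d.φ5_e _).symm)
  obtain ⟨n, hn, e⟩ := hO k k1 k2
  obtain ⟨f, hf, e'⟩ := H x.t ⟨n, hn, r.inj (k3.symm.trans e)⟩
  obtain ⟨y, b⟩ := ge f hf
  obtain ⟨s, c⟩ := r.act_of_into (Into.mul (inv_of_inj r.mod4.inj r.mod4.inj b.into) hg)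
  refine ⟨f, hf, s, h.st c (comm_of_cj ?_), by simpa using b.mul c⟩
  calc _ = y⁻¹ * (g * d.t * g⁻¹) * y := by group
    _ = _ := by rw [act_t a, ← e', ← act_t b]; group

theorem geT (r : Rl d) (k : Rz d nb) : ∀ f ∈ A4T, Rz d f := by
  have a : Rz d al := (show rr * nb * ri = al by decide) ▸ ((rz_rr r).mul k).mul (rz_ri r)
  simp only [A4T, List.forall_mem_cons]
  exact ⟨rz_one, k, a, k.mul a, by simp⟩

theorem geB (r : Rl d) (k : Rz d (.of 5 6 4 8)) : ∀ f ∈ A4B, Rz d f := by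
  have k : Rz d ph := (show L4.of 5 6 4 8 * sg = ph by decide) ▸ k.mul (rz_sg r)
  have a : Rz d ab := (show rr * ph * ri = ab by decide) ▸ ((rz_rr r).mul k).mul (rz_ri r)
  simp only [A4B, List.forall_mem_cons]
  exact ⟨rz_one, k, a, k.mul a, by simp⟩

theorem ge8 {A : List L4} (h : ∀ f ∈ A, Rz d f) (k : Rz d kb) : ∀ f ∈ A ++ A.map (kb * ·), Rz d f := by
  simp only [List.mem_append, List.mem_map]
  rintro f (a | ⟨g, a, rfl⟩)
  exacts [h f a, k.mul (h g a)]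

theorem ae8 (h : Hy d) {y y' : G} {α β : Bool} (a : Au d y 9 2 4 (cond β 24 16))
    (a' : Au d y' 5 (cond α 6 2) 4 16)
    (hO : ∀ k, NT d k → Into d.φ4 d.φ4 k → ∃ n ∈ [1, 5, 9, 13], k * d.t * k⁻¹ = d.φ5 (.of n)) :
    AE d (A8 α) := by
  have k : Rz d kb := au_rz a (by cases β <;> decide +kernel)
  refine ae h _ ?_ (by cases α <;> decide +kernel) hO
  cases α
  · exact ge8 (geT h.toRl ((show kb * L4.of 5 2 4 8 = nb by decide) ▸
      k.mul (au_rz a' (by decide +kernel)))) k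
  · exact ge8 (geB h.toRl (au_rz a' (by decide +kernel))) k

theorem hO_swap (r : Rl d) {L L' : List ℕ} (e : ∀ n ∈ L, ∃ n' ∈ L', sw5 (.of n') = .of n)
    (hO : ∀ k, NT d k → Into d.φ4 d.φ4 k → ∃ n ∈ L, k * d.t * k⁻¹ = d.φ5 (.of n)) :
    ∀ k, NT d.swap k → Into d.swap.φ4 d.swap.φ4 k →
      ∃ n ∈ L', k * d.swap.t * k⁻¹ = d.swap.φ5 (.of n) := fun k a b => by
  obtain ⟨n, hn, c⟩ := hO k (r.nt_swap.1 a) (into_swap r.swap a b)
  obtain ⟨n', hn', e'⟩ := e n hn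
  exact ⟨n', hn', by rw [r.φ5_swap, e']; exact c⟩

/-- All of `N(S0) ∩ N(E)` centralises `a`. -/
def U (d : Dat G) : Prop := ∀ g, NT d g → Into d.φ4 d.φ4 g → Commute g d.a

/-- The classes fixing `a`. -/
def Cu (d : Dat G) (R : Subgroup G) (g : G) (n : ℕ) : Prop :=
  ∃ α β, ∃ y ∈ R, (n = 5 → β = false) ∧ (n = 9 → α = false) ∧
    Au d y n (cond α 6 2) 4 (cond β 24 16) ∧ g * d.t * g⁻¹ = d.φ5 (.of n)

theorem exists_R' (h : Hy d) (u : U d) : ∃ R, Ov0 d R ∧ ∀ g, NT d g → Into d.φ4 d.φ4 g →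
    ∃ n ∈ [1, 5, 9, 13], Cu d R g n := by
  obtain ⟨R, hR, k⟩ := exists_R h
  refine ⟨R, hR, fun g a b => ?_⟩
  obtain ⟨c, hc, ⟨y, hy, hA⟩, e⟩ := k g a b
  have := hA (.of 4)
  rw [a5a, d.φa, cj_of_comm (u y (hR.nt y hy).1 (hR.nt y hy).2), ← d.φa] at this
  have H : ∀ c ∈ CL, M5.of 4 = .of c.2.2.1 → c.1 ∈ [1, 5, 9, 13] ∧ ∃ α β,
    (c.1 = 5 → β = false) ∧ (c.1 = 9 → α = false) ∧ c.2 = (cond α 6 2, 4, cond β 24 16) := by decide +kernel
  obtain ⟨h1, α, β, h2, h3, h4⟩ := H c hc (h.inj this)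
  rw [h4] at hA
  exact ⟨_, h1, α, β, y, hy, h2, h3, hA, e⟩

theorem U.swap (h : Hy d) (u : U d) : U d.swap := fun g a b => by
  have r := h.toRl
  have a' := r.nt_swap.1 a
  obtain ⟨mv, mw, -, ma, -, -, -, mt, -, hA⟩ := r.exists_A a'
  have k := hA (.of 4)
  have k' := hA (.of 8)
  rw [a5a, d.φa, cj_of_comm (u g a' (into_swap r.swap a b)), ← d.φa] at k
  rw [a5b, ← r.inj k, show M5.of 4 * .of 12 = .of 8 by decide, d.φb] at k'
  exact comm_of_cj k'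

theorem Cu.of {R : Subgroup G} (r : Rl d) (k : ∀ g, NT d g → Into d.φ4 d.φ4 g → ∃ n ∈ [1, 5, 9, 13], Cu d R g n)
    {n : ℕ} (hn : n ∈ [1, 5, 9, 13]) (o : O d n) : ∃ g, Cu d R g n := by
  obtain ⟨g, a, b, e⟩ := o
  obtain ⟨n', hn', c⟩ := k g a b
  have H : ∀ n ∈ [1, 5, 9, 13], ∀ n' ∈ [1, 5, 9, 13], M5.of n = .of n' → n = n' := by decide
  obtain rfl := H n hn n' hn' (r.inj (e.symm.trans c.choose_spec.choose_spec.choose_spec.2.2.2.2))
  exact ⟨g, c⟩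

theorem Cu.o {R : Subgroup G} {g : G} {n : ℕ} (a : NT d g) (b : Into d.φ4 d.φ4 g) (c : Cu d R g n) :
    O d n ∧ g * d.t * g⁻¹ = d.φ5 (.of n) :=
  let ⟨_, _, _, _, _, _, _, e⟩ := c; ⟨⟨g, a, b, e⟩, e⟩

theorem k2 (h : Hy d) (u : U d) (o5 : O d 5) (o9 : ¬ O d 9) : K2 d := by
  have r := h.toRl
  obtain ⟨R, hR, k⟩ := exists_R' h u
  obtain ⟨-, α, β, y, hy, e, -, a, -⟩ := Cu.of r k (by decide) o5
  obtain rfl := e rfl
  obtain rfl : α = true := by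
    cases α
    · exact absurd (force h (au_rz a (f := .of 5 2 4 8) (by decide +kernel)) [0, 1, 1] (by decide)) o9
    · rfl
  have hO : ∀ g, NT d g → Into d.φ4 d.φ4 g → ∃ n ∈ [1, 5], g * d.t * g⁻¹ = d.φ5 (.of n) := fun g b c => by
    obtain ⟨n, hn, cu⟩ := k g b c
    obtain ⟨o, e⟩ := cu.o b c
    simp only [List.mem_cons, List.not_mem_nil, or_false] at hn
    rcases hn with rfl | rfl | rfl | rfl
    · exact ⟨1, by decide, e⟩
    · exact ⟨5, by decide, e⟩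
    · exact absurd o o9
    · refine absurd ⟨y * g, (hR.nt y hy).1.mul b, Into.mul (hR.nt y hy).2 c, ?_⟩ o9
      rw [show y * g * d.t * (y * g)⁻¹ = y * (g * d.t * g⁻¹) * y⁻¹ by group, e, a]
      congr 1
  refine ⟨ae h _ (geB r (au_rz a (by decide +kernel))) (by decide +kernel) hO,
    ae h.swap [1, 9] ?_ (by decide +kernel) (hO_swap r (by decide) hO), R, y, hR, hy, a⟩
  simp only [A2, List.forall_mem_cons]
  exact ⟨rz_one, au_rz (au_swap r a (a' := 9) (b' := 2) (c' := 4) (e' := 24) (by decide +kernel))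
    (by decide +kernel), by simp⟩

theorem main (h : Hy d) (u : U d) : K1 d ∨ K2 d ∨ K2 d.swap ∨ K4 d ∨ ∃ α β, K8 d α β := by
  have r := h.toRl
  obtain ⟨R, hR, k⟩ := exists_R' h u
  by_cases o5 : O d 5 <;> by_cases o9 : O d 9
  · obtain ⟨-, α, β, y', hy', e, -, a', -⟩ := Cu.of r k (by decide) o5
    obtain rfl := e rfl
    obtain ⟨-, α', β, y, hy, -, e, a, -⟩ := Cu.of r k (by decide) o9
    obtain rfl := e rfl
    have hO : ∀ g, NT d g → Into d.φ4 d.φ4 g → ∃ n ∈ [1, 5, 9, 13], g * d.t * g⁻¹ = d.φ5 (.of n) :=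
      fun g b c => let ⟨n, hn, cu⟩ := k g b c; ⟨n, hn, (cu.o b c).2⟩
    exact Or.inr (Or.inr (Or.inr (Or.inr ⟨α, β, ae8 h a a' hO, ae8 h.swap (β := α)
      (au_swap r a' (by cases α <;> decide +kernel)) (au_swap r a (by cases β <;> decide +kernel))
      (hO_swap r (by decide) hO), R, y, y', hR, hy, hy', a, a'⟩)))
  · exact Or.inr (Or.inl (k2 h u o5 o9))
  · exact Or.inr (Or.inr (Or.inl (k2 h.swap (u.swap h) (o9.swap r (by decide))
      fun o => o5 (o.swap r.swap (by decide)))))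
  have hO : ∀ g, NT d g → Into d.φ4 d.φ4 g → g * d.t * g⁻¹ = d.φ5 (.of 1) ∨
      O d 13 ∧ g * d.t * g⁻¹ = d.φ5 (.of 13) := fun g b c => by
    obtain ⟨n, hn, cu⟩ := k g b c
    obtain ⟨o, e⟩ := cu.o b c
    simp only [List.mem_cons, List.not_mem_nil, or_false] at hn
    rcases hn with rfl | rfl | rfl | rfl
    exacts [Or.inl e, absurd o o5, absurd o o9, Or.inr ⟨o, e⟩]
  by_cases o : O d 13
  · obtain ⟨-, α, β, y, hy, -, -, a, -⟩ := Cu.of r k (by decide) o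
    obtain rfl : α = false := by
      cases α
      · rfl
      · exact absurd (force h (au_rz a (f := .of 13 6 4 8) (by cases β <;> decide +kernel)) [0, 1, 2]
          (by decide)) o9
    obtain rfl : β = false := by
      cases β
      · rfl
      · exact absurd ((force h.swap (au_rz (au_swap r a (a' := 13) (b' := 6) (c' := 4) (e' := 16)
          (by decide +kernel)) (f := .of 13 6 4 8) (by decide +kernel)) [0, 1, 2] (by decide)).swap
          r.swap (by decide)) o5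
    have hO' : ∀ g, NT d g → Into d.φ4 d.φ4 g → ∃ n ∈ [1, 13], g * d.t * g⁻¹ = d.φ5 (.of n) :=
      fun g b c => (hO g b c).elim (fun e => ⟨1, by decide, e⟩) fun e => ⟨13, by decide, e.2⟩
    exact Or.inr (Or.inr (Or.inr (Or.inl ⟨ae h _ (geT r (au_rz a (by decide +kernel))) (by decide +kernel) hO',
      ae h.swap [1, 13] (geT r.swap (au_rz (au_swap r a (a' := 13) (b' := 2) (c' := 4) (e' := 16)
        (by decide +kernel)) (by decide +kernel))) (by decide +kernel) (hO_swap r (by decide) hO'),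
      R, y, hR, hy, a⟩)))
  · have hO' : ∀ g, NT d g → Into d.φ4 d.φ4 g → ∃ n ∈ [1], g * d.t * g⁻¹ = d.φ5 (.of n) :=
      fun g b c => ⟨1, by decide, (hO g b c).resolve_right fun e => o e.1⟩
    have ge : ∀ d : Dat G, ∀ f ∈ A1, Rz d f := fun d f hf => List.mem_singleton.1 hf ▸ rz_one
    exact Or.inl ⟨ae h _ (ge _) (by decide +kernel) hO',
      ae h.swap [1] (ge _) (by decide +kernel) (hO_swap r (by decide) hO')⟩

theorem fix (h : Hy d) {g : G} (a : NT d g) (b : Into d.φ4 d.φ4 g) :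
    Commute g d.a ∨ Commute g (d.t * d.a) := by
  have r := h.toRl
  obtain ⟨c, hc, i, hA⟩ := code h a b
  have H : ∀ c ∈ CL, ∃ m ∈ [M5.of 4, .of 1 * .of 4],
    app5 (.of c.1) (.of c.2.1) (.of c.2.2.1) (.of c.2.2.2) m = m ∧ ∀ i : M5, i * m = m * i := by
    decide +kernel
  obtain ⟨m, hm, e, ci⟩ := H c hc
  have k : Commute g (d.φ5 m) := by
    have := (r.mod5.comm.2 (ci i)).inv_left.mul_left (comm_of_cj ((hA m).trans (by rw [e])))
    rwa [inv_mul_cancel_left] at this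
  simp only [List.mem_cons, List.not_mem_nil, or_false] at hm
  rcases hm with rfl | rfl
  · exact Or.inl (d.φa ▸ k)
  · exact Or.inr (by rwa [r.mod5.mul, d.φt, d.φa] at k)

end Cls

open Cls

theorem Hy.cls (h : Hy d) : ∃ d' : Dat G, (d' = d ∨ d' = d.twist ∨ d' = d.swap ∨ d' = d.twist.swap) ∧
    (K1 d' ∨ K2 d' ∨ K4 d' ∨ ∃ α β, K8 d' α β) := by
  by_cases u : U d
  · rcases main h u with k | k | k | k
    · exact ⟨d, Or.inl rfl, Or.inl k⟩
    · exact ⟨d, Or.inl rfl, Or.inr (Or.inl k)⟩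
    · exact ⟨_, Or.inr (Or.inr (Or.inl rfl)), Or.inr (Or.inl k)⟩
    · exact ⟨d, Or.inl rfl, Or.inr (Or.inr k)⟩
  have u' : U d.twist := fun g a b => by
    simp only [U, not_forall] at u
    obtain ⟨k, ka, kb, n⟩ := u
    have a' := h.toRl.nt_twist.1 a
    have b' := Cls.into_twist h.toRl b
    refine (fix h a' b').elim (fun c => (fix h (ka.mul a') (Into.mul kb b')).elim (fun e => (n ?_).elim)
      fun e => ?_) id
    · simpa using e.mul_left c.inv_left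
    · show Commute g (d.t * d.a)
      simpa using ((fix h ka kb).resolve_left n).inv_left.mul_left e
  rcases main h.twist u' with k | k | k | k
  · exact ⟨_, Or.inr (Or.inl rfl), Or.inl k⟩
  · exact ⟨_, Or.inr (Or.inl rfl), Or.inr (Or.inl k)⟩
  · exact ⟨_, Or.inr (Or.inr (Or.inr rfl)), Or.inr (Or.inl k)⟩
  · exact ⟨_, Or.inr (Or.inl rfl), Or.inr (Or.inr k)⟩

theorem K8.swap {α β : Bool} (h : Rl d) (k : K8 d α β) : K8 d.swap β α := by
  obtain ⟨k1, k2, R, y, y', hR, hy, hy', a, a'⟩ := k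
  exact ⟨k2, k1, R, y', y, hR.swap h, hy', hy, au_swap h a' (by cases α <;> decide +kernel),
    au_swap h a (by cases β <;> decide +kernel)⟩

theorem K4.swap (h : Rl d) (k : K4 d) : K4 d.swap := by
  obtain ⟨k1, k2, R, y, hR, hy, a⟩ := k
  exact ⟨k2, k1, R, y, hR.swap h, hy, au_swap h a (by decide +kernel)⟩

end CL.HS8
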