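import Cfsg.Agent.INV.HS8.LTB

/-!
Type T. `E0 ≤ Z(M)`. For `x ∈ M - E`, `x ^ 2 ∈ E` commutes with `x`, so lies in `E0`; hence `M / E0` is
elementary abelian. Take `x ∈ M` acting as `nb`, `N(x) = x (ρ x ρ⁻¹) (ρ² x ρ⁻²) ∈ E`; replacing `x` by `x t`
gives `N(x) ∈ E0`; `ρ N ρ⁻¹ = x⁻¹ N x = N` (`ρ3`) so `N ∈ ⟨b⟩`; `x ↦ x b` gives `N = 1`, `x ↦ x v` keeps
`N` and changes `[w, x]` by `z`. With `α = ρ n ρ⁻¹`, `γ = (n α)⁻¹`: `[n, α] ∈ E0` is fixed by `ρ`, so it is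
`b ^ δ`; `w n w⁻¹ = n e`, `e ∈ E0` (from `w ρ w = ρ⁻¹` on `M`: `w` preserves `{x | N(x) ∈ E0}`), `n ^ 2 ∈ E0` is fixed
by `w`, so `n ^ 2 = z ^ μ b ^ ε`, and applying `ρ`, `ρ²` gives `ε = δ`; `w α w = w ρ n ρ⁻¹ w = ρ⁻¹ (w n w) ρ`.
Apply `w` to `n α γ = 1`: `(n e) (γ ρ⁻¹e) (α ρe) = 1` gives `e ∈ b ^ δ ⟨v, z⟩`, and `w ^ 2 = 1` gives
`e ∈ b ^ δ ⟨z⟩`. If `y ∈ P` acts as `nb` and centralises `w` then `y = n e'` forces `δ = 0`.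
-/

set_option autoImplicit false

open Subgroup CL.TwoS CL.MSS

namespace CL.HS8

variable {G : Type*} [Group G] [Finite G] {d : Dat G} {P M : Subgroup G} {ρ : G}

open Ltb

theorem Ltb.gdT {A : List L4} (hA : A = A4T ∨ A = A8T) : Gd A ∧ nb ∈ A := by
  rcases hA with rfl | rfl
  exacts [⟨gd4T, by decide⟩, ⟨gd8 false, by decide⟩]

theorem Ltb.okT : Ok nb al (nb * al) := by decide +kernel

theorem Lo.tn' (h : Hy d) {A : List L4} (hA : A = A4T ∨ A = A8T) (l : Lo d A P M ρ) :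
    ∃ n ∈ M, ∃ α ∈ M, ∃ γ μ δ, TN d ρ n α μ δ ∧ Act d.φ4 γ (nb * al) ∧ ρ * α * ρ⁻¹ = γ ∧
      n * (α * γ) = 1 ∧ d.w * n * d.w⁻¹ = n * d.φ4 (bp (.of 8) δ) := by
  obtain ⟨gA, hf⟩ := gdT hA
  have m := h.toRl.mod4
  obtain ⟨n, hn, α, hα, γ, an, aα, aγ, eα, eγ, hN, s, c, δ, hs, hc, hw, k1, k2⟩ :=
    l.gen h gA okT hf (by decide +kernel)
  obtain ⟨rfl, μ, rfl⟩ := (by decide +kernel : ∀ (s c : V4) (δ : Bool),
    Con1 nb al (nb * al) 1 c (bp (.of 8) δ) → Con2 nb al s 1 c (bp (.of 8) δ) →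
      c = bp (.of 8) δ ∧ ∃ μ, s = bp (.of 8) δ * bp (.of 12) μ) s c δ k1 k2
  have eg : γ = (n * α)⁻¹ := eq_inv_of_mul_eq_one_right (by rw [mul_assoc, hN])
  have φz : d.φ4 (bp (.of 12) μ) = bp (d.a * d.b) μ := by
    rw [map_bp m.one]; congr 1; simp [Dat.φ4_of, Nat.testBit]
  have φv : d.φ4 (bp (.of 2) μ) = bp d.v μ := by rw [map_bp m.one, d.ψv]
  refine ⟨n, hn, α, hα, γ, μ, δ, ⟨l.ρa, an, aα, eα, eγ.trans eg, by rw [hs, m.mul, φb, φz], ?_, ?_,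
    by rw [hw, φb], ?_⟩, aγ, eγ, hN, hw⟩
  · rw [← eα, ← cjm, hs, l.ρa, ← φb, ← φv, mm m]
    congr 1
    cases δ <;> cases μ <;> decide
  · rw [hc, ← φb, mul_assoc, mul_assoc, mm m, V4.mul_self, m.one, mul_one]
  · rw [← eg, ← eα, l.w_ρ h gA hn, hw, cjm ρ n, eα, cjm ρ α, eγ, l.ρa, l.ρa, ← φb]
    congr 2
    cases δ <;> decide

/-- Common part, for `A = A4T` or `A8T`. -/
theorem Lo.tn (h : Hy d) {A : List L4} (hA : A = A4T ∨ A = A8T) (l : Lo d A P M ρ) :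
    ∃ n ∈ M, ∃ α ∈ M, ∃ μ δ, TN d ρ n α μ δ := by
  obtain ⟨n, hn, α, hα, -, μ, δ, k, -⟩ := l.tn' h hA
  exact ⟨n, hn, α, hα, μ, δ, k⟩

theorem Lo.t4 (h : Hy d) (l : Lo d A4T P M ρ) {y : G} (hy : y ∈ P) (a : Au d y 13 2 4 16) :
    ∃ n ∈ M, ∃ α ∈ M, ∃ μ, TN d ρ n α μ false ∧ ∃ c, InZ d c ∧ y = n * c := by
  obtain ⟨n, hn, α, hα, -, μ, δ, k, -, -, -, hw⟩ := l.tn' h (Or.inl rfl)
  have m := h.toRl.mod4
  obtain ⟨e, he⟩ := l.eq_mul h (l.le hn) hy k.na (act_au a (by decide +kernel))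
  have k1 := w_au h.toRl (β := false) a
  rw [he, cjm, hw, h.toRl.act_w, mul_assoc, mul_assoc, mm m, mm m] at k1
  obtain ⟨rfl, k2⟩ := (by decide +kernel : ∀ (e : V4) (δ : Bool), bp (.of 8) δ * sg.app e =
    e * bp (.of 8) false → δ = false ∧ e.v = false) e δ (m.inj (mul_left_cancel k1))
  exact ⟨n, hn, α, hα, μ, k, _, inZ k2, he⟩

theorem Lo.t8 (h : Hy d) (l : Lo d A8T P M ρ) {y y' : G} (hy : y ∈ P) (hy' : y' ∈ P) {β : Bool}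
    (a : Au d y 9 2 4 (cond β 24 16)) (a' : Au d y' 5 2 4 16) :
    ∃ n ∈ M, ∃ α ∈ M, ∃ k ∈ M, ∃ μ η, TN d ρ n α μ β ∧ KN d ρ k n α β η ∧
      (∃ c, InZ d c ∧ y = k * c) ∧ ∃ c, InZ d c ∧ y' = k * n * c := by
  obtain ⟨n, hn, α, hα, γ, μ, δ, t, aγ, eγ, hN, hw⟩ := l.tn' h (Or.inr rfl)
  have m := h.toRl.mod4
  obtain ⟨k, hk, η, kn, hc⟩ := l.kn h (gd8 false) okT (by decide) (by decide) (by decide) hn t.na
    t.αa aγ t.ρn eγ hN hw hy a rfl (by decide +kernel)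
  obtain ⟨e, he⟩ := l.eq_mul h (l.le (mul_mem hk hn)) hy' (kn.ka.mul t.na)
    (act_au a' (by decide +kernel))
  have k1 := w_au h.toRl (β := false) a'
  rw [he, cjm, cjm, hw, kn.wk, ← φb, h.toRl.act_w] at k1
  simp only [mul_assoc, mv' t.na (by decide), mm m] at k1
  obtain ⟨rfl, k2⟩ := (by decide +kernel : ∀ (e : V4) (β δ : Bool), nb.app (bp (.of 8) β) *
    (bp (.of 8) δ * sg.app e) = e * bp (.of 8) false → δ = β ∧ e.v = false) e β δ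
    (m.inj (mul_left_cancel (mul_left_cancel k1)))
  exact ⟨n, hn, α, hα, k, hk, μ, η, t, kn, hc, _, inZ k2, he⟩

end CL.HS8
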