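import Cfsg.Agent.INV.HS8.KT
import Cfsg.Agent.INV.HS8.LT

/-!
Automorphisms of a model given by the images of the generators; the type T relations.
-/

set_option autoImplicit false
set_option linter.unusedSectionVars false

open Subgroup CL.TwoS CL.MSS CL.K

namespace CL.HS8

variable {G : Type*} [Group G] {d : Dat G}

namespace PC

/-- The code of the image of `x` when the generators have the images `im`. -/
noncomputable def apk (P : PC) (im : List ℕ) (x : ℕ) (k : ℕ) : ℕ :=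
  Nat.rec (motive := fun _ => ℕ) 0
    (fun k ih => cond (x.testBit k) (P.mul ih (im.getD k 0)) ih) k

noncomputable def ap (P : PC) (im : List ℕ) (x : ℕ) : ℕ := force x fun x => P.apk im x P.n

/-- Composition. -/
noncomputable def cp (P : PC) (im im' : List ℕ) : List ℕ := im'.map (P.ap im)

/-- `u` acts on the generators as `im`. -/
def Ac (P : PC) (g : ℕ → G) (u : G) (im : List ℕ) : Prop :=
  im.length = P.n ∧ ∀ j < P.n, im.getD j 0 < 2 ^ P.n ∧ u * g j * u⁻¹ = P.ev g (im.getD j 0)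

variable {P : PC} {g : ℕ → G}

theorem Md.ap (h : Md P g) {u : G} {im : List ℕ} (a : P.Ac g u im) (x : ℕ) :
    P.ap im x < 2 ^ P.n ∧ u * P.ev g x * u⁻¹ = P.ev g (P.ap im x) := by
  have k : ∀ k ≤ P.n, P.apk im x k < 2 ^ P.n ∧ u * evk g k x * u⁻¹ = P.ev g (P.apk im x k) := by
    intro k hk
    induction k with
    | zero => exact ⟨Nat.two_pow_pos _, by rw [evk, mul_one, mul_inv_cancel]; exact (P.ev_zero g).symm⟩
    | succ k ih =>
      obtain ⟨i1, i2⟩ := ih (by omega)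
      obtain ⟨a1, a2⟩ := a.2 k hk
      have e : P.apk im x (k + 1) = cond (x.testBit k) (P.mul (P.apk im x k) (im.getD k 0))
        (P.apk im x k) := rfl
      rw [e, evk]
      cases x.testBit k
      · exact ⟨i1, by rw [bp_false, mul_one]; exact i2⟩
      · exact ⟨mul_lt h.ok i1 a1, by rw [bp_true, Jn.cjm, i2, a2, cond_true, h.mul i1 a1]⟩
  rw [PC.ap, force_eq]
  exact k _ le_rfl

theorem Md.cp (h : Md P g) {u v : G} {im im' : List ℕ} (a : P.Ac g u im) (b : P.Ac g v im') :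
    P.Ac g (u * v) (P.cp im im') := by
  refine ⟨by rw [PC.cp, List.length_map, b.1], fun j hj => ?_⟩
  have e : (P.cp im im').getD j 0 = P.ap im (im'.getD j 0) := by
    have : j < im'.length := b.1 ▸ hj
    simp [PC.cp, List.getD_eq_getElem?_getD, List.getElem?_eq_getElem this]
  rw [e]
  refine ⟨(h.ap a _).1, ?_⟩
  rw [← (h.ap a _).2, ← (b.2 j hj).2]; group

end PC

namespace TN

open Kt Ltb

variable {ρ n α : G} {μ : Bool}

theorem nw (l : TN d ρ n α μ false) : Commute n d.w :=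
  (comm_of_cj (by simpa using l.wn)).symm

theorem comm (l : TN d ρ n α μ false) : Commute n α := by simpa [commute_iff_eq] using l.nα

theorem au (h : Rl d) (l : TN d ρ n α μ false) : Au d n 13 2 4 16 :=
  h.au_of ((act_t l.na).trans (d.φ5_e _).symm) (by rw [← d.ψv, l.na, ← d.φ5_e]; rfl)
    (by rw [← d.ψa, l.na, ← d.φ5_e]; rfl) (by rw [← d.ψb, l.na, ← d.φ5_e]; rfl)
    (by rw [cj_of_comm l.nw, d.φw])

theorem n_sq (h : Rl d) (l : TN d ρ n α μ false) : n * n = d.φ4 (bp (.of 12) μ) := by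
  rw [l.nn, map_bp h.mod4.one, Rl.ψz, bp_false, one_mul]

theorem α_sq (h : Rl d) (l : TN d ρ n α μ false) : α * α = d.φ4 (bp (.of 2) μ) := by
  rw [l.αα, map_bp h.mod4.one, d.ψv, bp_false, one_mul]

theorem n_inv (h : Rl d) (l : TN d ρ n α μ false) : n⁻¹ = d.φ4 (bp (.of 12) μ) * n :=
  inv_eq_of_mul_eq_one_left (by rw [mul_assoc, l.n_sq h, mm h.mod4, V4.mul_self, h.mod4.one])

theorem α_inv (h : Rl d) (l : TN d ρ n α μ false) : α⁻¹ = d.φ4 (bp (.of 2) μ) * α :=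
  inv_eq_of_mul_eq_one_left (by rw [mul_assoc, l.α_sq h, mm h.mod4, V4.mul_self, h.mod4.one])

/-- `α w α⁻¹ = v ^ μ n w`. -/
theorem αw (h : Rl d) (l : TN d ρ n α μ false) :
    α * d.w * α⁻¹ = d.φ4 (bp (.of 2) μ) * (n * d.w) := by
  have k := l.wα
  rw [bp_false, mul_one] at k
  calc _ = n⁻¹ * (n * α) * d.w * α * (α * α)⁻¹ := by group
    _ = n⁻¹ * d.w * (α * α)⁻¹ := by rw [← inv_inv (n * α), ← k]; group
    _ = _ := by
      rw [l.n_inv h, l.α_sq h, inv h.mod4]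
      simp only [mul_assoc, comm_l h.act_w, comm_l' l.na, mm' h.mod4]
      cases μ <;> exact fin1 (by decide)

end TN

namespace Kt

theorem inZ_e {c : G} (k : InZ d c) : ∃ e : V4, e.v = false ∧ c = d.φ4 e := by
  obtain ⟨i, j, l, rfl⟩ := k
  exact ⟨⟨i, false, j, l⟩, rfl, (Hyp.φ4_cen ⟨i, false, j, l⟩ rfl).symm⟩

theorem φ4_sw (h : Rl d) {e : V4} (he : e.v = false) : d.φ4 e = d.swap.φ4 ⟨e.t, false, e.b, e.a⟩ := by
  rw [← d.φ5_e, h.φ5_F _ he]; rfl

theorem inZ_sw (h : Rl d) {c : G} (k : InZ d.swap c) : ∃ e : V4, e.v = false ∧ c = d.φ4 e := by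
  obtain ⟨e, he, rfl⟩ := inZ_e k
  exact ⟨_, rfl, φ4_sw h.swap he⟩

/-- The action of `β` on `Z0`. -/
theorem β_e (h : Rl d) {β : G} (a : Act d.swap.φ4 β al) {e : V4} (he : e.v = false) :
    β * d.φ4 e * β⁻¹ = d.φ4 e * bp d.w e.t := by
  rw [φ4_sw h he, a, show bp d.w e.t = d.swap.φ4 (bp (.of 2) e.t) by
    rw [map_bp h.swap.mod4.one, d.swap.ψv]; rfl, ← h.swap.mod4.mul]
  congr 1
  obtain ⟨i, j, k, l⟩ := e
  cases i <;> cases k <;> cases l <;> rfl

theorem au_swap (h : Rl d) {y : G} (a : Au d y 13 2 4 16) : Au d.swap y 13 2 4 16 := fun m => by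
  rw [h.φ5_swap, h.φ5_swap, a]
  congr 1
  revert m; decide +kernel

end Kt

variable [Finite G] {P M : Subgroup G} {ρ n α : G}

theorem Lo.M_le4 (h : Hy d) (l : Lo d A4T P M ρ) (hn : n ∈ M) (hα : α ∈ M) (an : Act d.φ4 n nb)
    (aα : Act d.φ4 α al) {H : Subgroup G} (hE : ∀ e, d.φ4 e ∈ H) (h1 : n ∈ H) (h2 : α ∈ H) :
    M ≤ H := fun x hx => by
  obtain ⟨hP, f, hf, a⟩ := (l.memM x).1 hx
  have k : ∀ {y}, y ∈ M → y ∈ H → Act d.φ4 y f → x ∈ H := fun hy hy' b => by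
    obtain ⟨e, rfl⟩ := l.eq_mul h (l.le hy) hP b a
    exact mul_mem hy' (hE e)
  simp only [A4T, List.mem_cons, List.not_mem_nil, or_false] at hf
  rcases hf with rfl | rfl | rfl | rfl
  exacts [k (one_mem _) (one_mem _) Act.one, k hn h1 an, k hα h2 aα,
    k (mul_mem hn hα) (mul_mem h1 h2) (an.mul aα)]

theorem Lo.P_le4 (h : Hy d) (l : Lo d A4T P M ρ) (hn : n ∈ M) (hα : α ∈ M) (an : Act d.φ4 n nb)
    (aα : Act d.φ4 α al) {H : Subgroup G} (hE : ∀ e, d.φ4 e ∈ H) (h1 : n ∈ H) (h2 : α ∈ H)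
    (h3 : d.w ∈ H) : P ≤ H := fun x hx => by
  have k := l.M_le4 h hn hα an aα hE h1 h2
  rcases l.cases h hx with a | a
  exacts [k a, (mul_mem_cancel_right h3).1 (k a)]

/-- `M` is the centraliser of `v` in `P`. -/
theorem Lo.memM4 (h : Hy d) (l : Lo d A4T P M ρ) {x : G} : x ∈ M ↔ x ∈ P ∧ Commute x d.v := by
  rw [l.memM, ← d.ψv]
  refine and_congr_right fun hx => ⟨fun ⟨f, hf, a⟩ => h.toRl.act_comm a
    ((by decide : ∀ f ∈ A4T, f.app (.of 2) = .of 2) f hf), fun k => ?_⟩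
  obtain ⟨f, hf, a | a⟩ := l.act x hx
  · exact ⟨f, hf, a⟩
  · exact absurd (h.toRl.act_fix a k) ((by decide : ∀ f ∈ A4T, (f * sg).app (.of 2) ≠ .of 2) f hf)

/-- `P` centralises `Z`. -/
theorem Lo.commZ4 (h : Hy d) (l : Lo d A4T P M ρ) {x : G} (hx : x ∈ P) {c : V4} (h1 : c.t = false)
    (h2 : c.v = false) : Commute x (d.φ4 c) := by
  have k := (by decide +kernel : ∀ f ∈ A4T, ∀ c : V4, c.t = false → c.v = false →
    f.app c = c ∧ (f * sg).app c = c)
  obtain ⟨f, hf, a | a⟩ := l.act x hx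
  exacts [h.toRl.act_comm a (k f hf c h1 h2).1, h.toRl.act_comm a (k f hf c h1 h2).2]

end CL.HS8
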