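import Cfsg.Agent.INV.HS8.Jn

/-!
Class tables and centraliser orders in a polycyclic model.
-/

set_option autoImplicit false

open Subgroup CL.TwoS CL.MSS CL.K

namespace CL.HS8

variable {G : Type*} [Group G] {d : Dat G}

namespace PC

/-- the order of the centraliser of a code -/
noncomputable def cenN (P : PC) (x : ℕ) : ℕ :=
  sumLt2 (fun y => cond (Nat.blt y (Nat.pow 2 P.n) && Nat.beq (P.mul x y) (P.mul y x)) 1 0) (Nat.pow 2 (P.n - 4)) 16

/-- every involution `x` is the conjugate by `S x` of `R x` -/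
noncomputable def clsb (P : PC) (S R : ℕ) (q : ℕ → ℕ → Bool) : Bool :=
  allLt2 (fun x => Nat.ble (Nat.pow 2 P.n) x || !(Nat.beq (P.mul x x) 0) || Nat.beq x 0 ||
    force (lk S x) fun s => force (lk R x) fun r => Nat.blt s (Nat.pow 2 P.n) && Nat.blt r (Nat.pow 2 P.n) &&
      q x r && Nat.beq (P.cj s r) x) (Nat.pow 2 (P.n - 4)) 16

theorem lt16 {n x : ℕ} (hx : x < 2 ^ n) : x < 2 ^ (n - 4) * 16 := hx.trans_le (by
  rw [show 16 = 2 ^ 4 from rfl, ← pow_add]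
  exact Nat.pow_le_pow_right two_pos (by omega))

theorem cls_spec {P : PC} {S R : ℕ} {q : ℕ → ℕ → Bool} (h : P.clsb S R q = true) {x : ℕ} (hx : x < 2 ^ P.n)
    (h2 : P.mul x x = 0) (h0 : x ≠ 0) : ∃ s < 2 ^ P.n, ∃ r < 2 ^ P.n, q x r = true ∧ P.cj s r = x := by
  simp only [clsb, allLt2_iff, Bool.or_eq_true, force_eq, Bool.and_eq_true, Nat.blt_eq, Nat.beq_eq, Nat.ble_eq,
    Nat.pow_eq, Bool.not_eq_true'] at h
  rcases h x (lt16 hx) with ((a | a) | a) | ⟨⟨⟨a, b⟩, c⟩, e⟩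
  · omega
  · exact absurd h2 (Nat.ne_of_beq_eq_false a)
  · exact absurd a h0
  · exact ⟨_, a, _, b, c, e⟩

namespace Md

variable {P : PC} {g : ℕ → G} (m : Md P g)
include m

/-- a conjugate of the involution `t` inside the model -/
theorem cls (i : P.Inj g) {S R : ℕ} {q : ℕ → ℕ → Bool} (h : P.clsb S R q = true) {t : G} (t2 : t * t = 1)
    (t1 : t ≠ 1) {x : ℕ} (hx : x < 2 ^ P.n) (c : IsConj t (P.ev g x)) :
    ∃ s < 2 ^ P.n, ∃ r < 2 ^ P.n, q x r = true ∧ IsConj t (P.ev g r) ∧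
      P.ev g x = P.ev g s * P.ev g r * (P.ev g s)⁻¹ := by
  obtain ⟨s, hs, r, hr, a, e⟩ := cls_spec h hx
    ((m.eq_one i (mul_lt m.ok hx hx)).1 ((m.mul hx hx).trans (sq_of_isConj t2 c)))
    (by rintro rfl; rw [ev_zero, isConj_one_left] at c; exact t1 c)
  have k := m.cj hs hr
  rw [e] at k
  exact ⟨s, hs, r, hr, a, (isConj_cj _).1 (k ▸ c), k⟩

theorem gen_mem {j : ℕ} (hj : j < P.n) : g j ∈ m.sub :=
  P.ev_gen g hj ▸ m.ev_mem (Nat.pow_lt_pow_right one_lt_two hj)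

end Md

end PC

theorem Rl.t_ne (h : Rl d) : d.t ≠ 1 := fun e =>
  absurd (h.inj (d.φt.trans (e.trans h.mod5.one.symm))) (by decide)

theorem Rl.b_ne (h : Rl d) : d.b ≠ 1 := fun e =>
  absurd (h.inj (d.φb.trans (e.trans h.mod5.one.symm))) (by decide)

theorem s0_of {R : Subgroup G} (ht : d.t ∈ R) (hv : d.v ∈ R) (ha : d.a ∈ R) (hb : d.b ∈ R) (hw : d.w ∈ R)
    (m : M5) : d.φ5 m ∈ R := by
  have k : ∀ {x : G}, x ∈ R → ∀ b, bp x b ∈ R := fun hx b => by cases b; exacts [one_mem _, hx]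
  exact mul_mem (mul_mem (mul_mem (mul_mem (k ht _) (k hv _)) (k ha _)) (k hb _)) (k hw _)

variable [Finite G]

theorem Hy.big (h : Hy d) (c : C1 d) {P : PC} {g : ℕ → G} (m : PC.Md P g) (i : P.Inj g) {x : ℕ}
    (hx : x < 2 ^ P.n) (hb : 32 < P.cenN x) : ¬ IsConj d.t (P.ev g x) := fun k => by
  have := h.card32 c k ((m.pg_sub i).to_inf_left (K := centralizer {P.ev g x})) fun y hy =>
    mem_centralizer_singleton_iff.1 hy.2
  rw [m.card_cen i hx] at this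
  exact absurd hb (not_lt.2 this)

end CL.HS8
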