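import Cfsg.Agent.INV.HS8.LB
import Cfsg.Agent.INV.HS8.Cls
import Cfsg.Agent.INV.HS8.KU
import Cfsg.Agent.INV.HS8.L5x
import Cfsg.Agent.SYL.O6.IDef

/-!
Configuration K8 with both types B (Sylow type `M₂₂`).
-/

set_option autoImplicit false
set_option linter.unusedSectionVars false
set_option linter.unusedSimpArgs false

open Subgroup CL.TwoS CL.MSS CL.K

namespace CL.HS8

variable {G : Type*} [Group G] [Finite G] {d : Dat G} {X : Subgroup G}

/-- Local data on both sides. -/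
structure BB (d : Dat G) (P M P' M' : Subgroup G) (ρ φ α k ρ' φ' α' k' : G) : Prop where
  ae : AE d A8B
  ae' : AE d.swap A8B
  lo : Lo d A8B P M ρ
  lo' : Lo d.swap A8B P' M' ρ'
  φM : φ ∈ M
  αM : α ∈ M
  kM : k ∈ M
  φM' : φ' ∈ M'
  αM' : α' ∈ M'
  kM' : k' ∈ M'
  bn : BN d ρ φ α
  kn : KN d ρ k φ α true true
  bn' : BN d.swap ρ' φ' α'
  kn' : KN d.swap ρ' k' φ' α' true true
  kφ : ∃ i j, k = φ' * d.t * d.v * bp d.a i * bp d.b j
  kφ' : ∃ i j, k' = φ * d.t * d.w * bp d.a i * bp d.b j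

open Kt Ltb

theorem Bb.aux (r : Rl d) {ρ φ α k φ' : G} {η : Bool} (bn : BN d ρ φ α) (kn : KN d ρ k φ α true η)
    (h2 : φ' * φ' = 1) {e : V4} (he : e.v = true) (hk : φ' = k * d.φ4 e) :
    η = e.t ∧ φ * φ' * (φ * φ') = d.b * bp d.a η := by
  have m := r.mod4
  have kk : ∀ x, k * (k * x) = d.φ4 (bp (.of 8) η) * x := fun x => by rw [← mul_assoc, kn.kk, φb]
  have e1 : η = e.t := (by decide +kernel : ∀ (e : V4) (η : Bool), bp (.of 8) η * (kb.app e * e) = 1 →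
      η = e.t) e η (m.inj (by
    rwa [hk, mul_assoc, mv' kn.ka (by decide), kk, mm m, mm m, ← m.one] at h2))
  refine ⟨e1, ?_⟩
  rw [hk, ← mul_assoc φ k, ← kn.kx.eq, mul_assoc, mul_assoc, mul_assoc,
    mv' kn.ka (by decide), mv' bn.φa (by decide), kn.kx.symm.left_comm, ← mul_assoc φ φ, bn.φφ, one_mul, kk,
    mm m, mm m, ← d.ψb, ← d.ψa, ← map_bp m.one, mm m, e1]
  exact fin2 (by clear * - he; revert e; decide +kernel)

/-- `Hy.le`, `Lo.b8` on both sides: `k = φ' v c t^r`, `k' = φ w c' t^s`; `k² = b^r`, `k'² = a^s`; `[k, φ] = 1 = [k', φ']` give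
`[φ, φ'] = b a^r = a b^s`, so `r = s = 1`. -/
theorem K8.bb (h : Hy d) (k : K8 d true true) :
    ∃ P M P' M' ρ φ α k ρ' φ' α' k', BB d P M P' M' ρ φ α k ρ' φ' α' k' := by
  have r := h.toRl
  have m := r.mod4
  have m' := r.swap.mod4
  obtain ⟨ae, ae', R, y, y', hR, hy, hy', a, a'⟩ := k
  obtain ⟨P, M, ρ, le, lo⟩ := h.le (gd8 true) ae hR.toOv fun x hx => (hR.nt x hx).2
  obtain ⟨P', M', ρ', le', lo'⟩ := h.swap.le (gd8 true) ae' (hR.swap r).toOv
    fun x hx => ((hR.swap r).nt x hx).2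
  obtain ⟨φ, φM, α, αM, k, kM, η, bn, kn, ⟨c1, z1, e1⟩, c2, z2, e2⟩ :=
    Lo.b8 h lo (le hy) (le hy') (β := true) a a'
  obtain ⟨φ', φM', α', αM', k', kM', η', bn', kn', ⟨c3, z3, e3⟩, c4, z4, e4⟩ :=
    Lo.b8 h.swap lo' (le' hy') (le' hy) (β := true) (Cls.au_swap r a' (by decide +kernel))
      (Cls.au_swap r a (by decide +kernel))
  obtain ⟨f1, v1, rfl⟩ := inZ_e z1
  obtain ⟨f2, v2, rfl⟩ := inZ_sw (d := d.swap) r.swap z2
  obtain ⟨f3, v3, rfl⟩ := inZ_e z3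
  obtain ⟨f4, v4, rfl⟩ := inZ_sw r z4
  obtain ⟨e, ve, he⟩ : ∃ e : V4, e.v = true ∧ k = φ' * d.φ4 e :=
    ⟨.of 2 * f4 * f1, by change xor (xor _ _) _ = _; rw [v1, v4]; rfl, by
      rw [m.mul, m.mul, d.ψv, ← mul_assoc, ← mul_assoc]
      exact eq_mul_inv_of_mul_eq (e1.symm.trans e4) |>.trans (by rw [inv m]; rfl)⟩
  obtain ⟨f, vf, hf⟩ : ∃ e : V4, e.v = true ∧ k' = φ * d.swap.φ4 e :=
    ⟨.of 2 * f2 * f3, by change xor (xor _ _) _ = _; rw [v2, v3]; rfl, by
      rw [m'.mul, m'.mul, d.swap.ψv, ← mul_assoc, ← mul_assoc]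
      exact eq_mul_inv_of_mul_eq (e3.symm.trans e2) |>.trans (by rw [inv m']; rfl)⟩
  obtain ⟨a1, a2⟩ := Bb.aux r bn kn bn'.φφ ve (by rw [he, mul_assoc, mm m, V4.mul_self, m.one, mul_one])
  obtain ⟨a3, a4⟩ := Bb.aux r.swap bn' kn' bn.φφ vf (by
    rw [hf, mul_assoc, mm m', V4.mul_self, m'.one, mul_one])
  obtain ⟨rfl, rfl⟩ : η = true ∧ η' = true := (by decide : ∀ η η' : Bool,
      V4.of 8 * bp (.of 4) η * (.of 4 * bp (.of 8) η') = 1 → η = true ∧ η' = true) η η' (m.inj (by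
    change _ = d.a * bp d.b η' at a4
    rw [m.mul, m.mul, m.mul, map_bp m.one, map_bp m.one, d.ψa, d.ψb, ← a2, ← a4, m.one]
    calc _ = φ * (φ' * (φ * (φ' * φ') * φ) * φ') * φ := by group
      _ = _ := by simp only [bn.φφ, bn'.φφ, mul_one]))
  refine ⟨P, M, P', M', ρ, φ, α, k, ρ', φ', α', k', ae, ae', lo, lo', φM, αM, kM, φM', αM', kM', bn, kn, bn',
    kn', ⟨e.a, e.b, ?_⟩, f.b, f.a, ?_⟩
  · rw [he, Dat.φ4, W4, ← a1, ve]
    simp only [bp_true, mul_assoc]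
  · rw [hf, Dat.φ4, W4, ← a3, vf, mul_assoc _ (bp d.a _), (bp_comm r.c4.ab _ _).eq]
    simp only [bp_true, mul_assoc]
    rfl

def PB : PC := ⟨8, 0x7b07a07907807f07e07d07c07007107207307407507607706a06b06806906e06f06c06d06106006306206506406706605805905a05b05c05d05e05f05305205105005705605505404904804b04a04d04c04f04e04204304004104604704404503c03d03e03f03803903a03b03603703403503203303003102d02c02f02e02902802b02a02702602502402302202102001c01d01e01f01801901a01b01601701401501201301001100d00c00f00e00900800b00a00700600500400300200100003103003203303503403603703803903b03a03c03d03f03e02602702502402202302102002e02f02d02c02a02b02902801a01b01901801e01f01d01c01301201001101701601401500e00f00d00c00a00b00900800600700500400200300100001e01f01c01d01901801b01a01601701401501101001301200c00d00e00f00b00a00900800400500600700300200100000c00d00e00f00800900a00b007006005004003002001000006007004005003002001000003002001000001000000000, 0x0,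 0xf40f50f70f60f30f20f00f10fd0fc0fe0ff0fb0fa0f80f90e30e20e00e10e40e50e70e60e90e80ea0eb0ef0ee0ec0ed0de0df0dd0dc0db0da0d80d90d70d60d40d50d30d20d00d10c90c80ca0cb0cc0cd0cf0ce0c30c20c00c10c70c60c40c50bf0be0bd0bc0b90b80bb0ba0b70b60b50b40b00b10b20b30af0ae0ad0ac0a90a80ab0aa0a40a50a60a70a30a20a10a009e09f09c09d09b09a09909809609709409509209309009108c08d08e08f08908808b08a08708608508408308208108007307207007107407507707607907807a07b07f07e07c07d06506406606706206306106006c06d06f06e06a06b06906805905805a05b05c05d05f05e05305205005105705605405504f04e04c04d04a04b04904804604704504404204304104003c03d03e03f03a03b03803903603703403503103003303202d02c02f02e02b02a02902802402502602702302202102001d01c01f01e01801901a01b01701601501401301201101000e00f00c00d00b00a009008007006005004003002001000⟩ -- b a v f g w al t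

namespace Bb

variable {ρ φ α k : G}

theorem αw (l : BN d ρ φ α) : α * d.w = φ * (d.w * α) := by
  calc _ = φ * (φ * α) * d.w := by rw [← mul_assoc, l.φφ, one_mul]
    _ = _ := by rw [← l.wα]; group

theorem nφ (h : Hy d) (c : C1 d) (l : BN d ρ φ α) : ¬ IsConj d.t φ := fun e =>
  h.nsq c e (x := d.w * α) (by
    rw [mul_assoc, ← mul_assoc α, αw l, mul_assoc, mul_assoc, l.αα, mul_one,
      l.φw.symm.left_comm, h.ww, mul_one])

theorem memX (hX : Gl d X) (l : BN d ρ φ α) : φ ∈ X ∧ α ∈ X := by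
  have x1 : φ * α ∈ X := by
    have := hX.comm φ ρ
    rwa [show φ * ρ * φ⁻¹ * ρ⁻¹ = φ * (ρ * φ * ρ⁻¹)⁻¹ by group, l.ρφ,
      inv_eq_of_mul_eq_one_right l.αα] at this
  have x2 : φ ∈ X := by
    have := hX.nm.conj_mem _ x1 ρ
    rwa [cjm, l.ρφ, l.ρα, l.φα.eq, ← mul_assoc, l.αα, one_mul] at this
  exact ⟨x2, (mul_mem_cancel_left x2).1 x1⟩

/-- The generators. -/
def gT (d : Dat G) (φ α k : G) : ℕ → G :=
  PC.gl [d.φ4 (.of 8), d.φ4 (.of 4), d.φ4 (.of 2), φ, k * d.φ4 (.of 3), d.w, α, d.φ4 (.of 1)]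

theorem okB : PB.ok = true := by decide +kernel

theorem md (h : Rl d) (l : BN d ρ φ α) (kn : KN d ρ k φ α true true) : PC.Md PB (gT d φ α k) := by
  refine ⟨okB, PC.rel_of [0, 0, 0, 0, 0, 0, 0, 0] [[], [1], [1, 2], [1, 2, 5], [1, 2, 4, 11],
    [1, 2, 7, 8, 18], [1, 3, 4, 8, 21, 40], [1, 2, 4, 10, 17, 32, 69]] (by decide +kernel) fun j hj => ?_⟩
  have m := h.mod4
  have ag := act_mul_e m kn.ka (.of 3)
  have wk : d.w * k = k * (d.φ4 (.of 8) * d.w) := by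
    rw [d.ψb, ← mul_assoc]; exact mul_inv_eq_iff_eq_mul.1 kn.wk
  have kk : k * k = d.φ4 (.of 8) := d.ψb ▸ kn.kk
  have gg : k * d.φ4 (.of 3) * (k * d.φ4 (.of 3)) = 1 := by
    rw [mul_assoc, mv' kn.ka (by decide), ← mul_assoc, kk, mm m, mm m]; exact m.one
  have gφ : k * d.φ4 (.of 3) * φ = d.φ4 (.of 12) * (φ * (k * d.φ4 (.of 3))) := by
    rw [mv' l.φa (by decide), mv' kn.ka (by decide), mm m, mul_assoc, mv l.φa (by decide),
      kn.kx.left_comm]; rfl
  have wg : d.w * (k * d.φ4 (.of 3)) = d.φ4 (.of 4) * (k * d.φ4 (.of 3) * d.w) := by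
    rw [← mul_assoc, wk, mul_assoc, mul_assoc, comm_l h.act_w, mul_assoc k, mv' kn.ka (by decide), mm' m,
      mm' m]; rfl
  have αg : α * (k * d.φ4 (.of 3)) = d.φ4 (.of 10) * (k * d.φ4 (.of 3) * α) := by
    rw [kn.ky.symm.left_comm, comm_l l.αa, mul_assoc k, mv' kn.ka (by decide), mm' m]; rfl
  change j < 8 at hj
  change _ = PC.evk _ 8 _ ∧ ∀ i < j, _ = PC.evk _ 8 _ * _
  unfold gT
  generalize k * d.φ4 (.of 3) = g at ag gg gφ wg αg
  interval_cases j <;> refine ⟨?_, fun i hi => ?_⟩ <;> (try interval_cases i) <;>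
    simp [PC.gl, PC.evk, Nat.testBit, -mul_left_inj, -mul_right_inj] <;>
    simp only [mul_assoc, comm_l l.φa, comm_l' l.φa, comm_l l.αa, comm_l' l.αa, comm_l h.act_w,
      comm_l' h.act_w, comm_l ag, comm_l' ag, mm m, mm' m, l.φφ, l.αα, h.ww, gg, gφ, wg, αg, αw l,
      l.φw.symm.eq, l.φα.symm.eq] <;>
    e_fin m

/-- Codes of the elements of `E`. -/
def ce (e : V4) : ℕ := cond e.b 1 0 + cond e.a 2 0 + cond e.v 4 0 + cond e.t 128 0

theorem ce_lt : ∀ e, ce e < 2 ^ 8 := by decide +kernel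

theorem ev_ce (h : Rl d) (φ α k : G) (e : V4) : PB.ev (gT d φ α k) (ce e) = d.φ4 e := by
  have m := h.mod4
  change PC.evk _ 8 _ = _
  obtain ⟨_ | _, _ | _, _ | _, _ | _⟩ := e <;>
    simp [ce, gT, PC.gl, PC.evk, Nat.testBit, -mul_left_inj, -mul_right_inj] <;>
    (try simp only [mul_assoc, mm m]) <;> e_fin m

omit [Finite G] in
theorem evk_mem {g : ℕ → G} {H : Subgroup G} {x : ℕ} :
    ∀ k, (∀ j < k, x.testBit j = true → g j ∈ H) → PC.evk g k x ∈ H
  | 0, _ => H.one_mem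
  | k + 1, h => H.mul_mem (evk_mem k fun j hj => h j (by omega)) (by
      cases e : x.testBit k
      exacts [H.one_mem, h k (by omega) e])

/-- Images of the generators in the Sylow subgroup of `U4(3)`. -/
def w7 : ℕ → O6.I (ZMod 4) := PC.gl [O6.I.mk4 2 2 false false false, O6.I.mk4 0 2 false false false,
  O6.I.mk4 0 0 true true false, O6.I.mk4 1 1 true true false, O6.I.mk4 0 2 false true false,
  O6.I.mk4 0 3 false true false, O6.I.mk4 0 0 false false true]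

end Bb

/-- `g = k v t` (`= φ' c`). `PB` (generators `b a v φ g w α t`) is a model of `T = P` (order 256, `inj_of` with `K = [1]`), `T0 = lev 7`,
`T1 = C_T(a) = ⟨S0, φ, g⟩`. Classes of involutions: `b a v φ g w α` in `T0`; `t, φ g t` (size 4, so not conjugate to `t` by `card32`), `w t`,
`v g w t`, `a g α t`. Not conjugate to `t`: `a ~ z` by `α`, `b ~ z` by `α'`, `v, w ~ z`, `φ = (w α)²`, `φ' = (v α')²` (`nsq`), `g ~ φ'` in `T1`, `α ~ φ`.
Sylow (`syl_of`, `Q ≥ T` a 2-group, `x ∈ Q` normalising `T`): `x` normalises the class `{a, z}` (the only one of size 2), so `T1`, and `x` or `x α`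
centralises `Z`. `α, α'` normalise `T1`; the words `1, α, α', α α', α' α, α α' α` act on `Z` as the six elements of `S3` and map `t Z` to
`t Z, t v Z, t w Z, t v w φ Z, t v w g Z, t v w φ g Z`; the only other coset of involutions in `T1 - T0` is `t φ g Z`. If `x t x⁻¹ ∈ σ t Z σ⁻¹` then
`s σ⁻¹ x ∈ C(t) ∩ N(T1)` (`s ∈ T1`) centralises `Z` by `stab1`, so `σ = 1` and `x ∈ T` (`cover1`). Then `t_not`; `T0 ≤ X` by `Gl.comm`; `syl_X`;
`hom_from` with images `(p, q, r, e, f, d)` = `b (2,2,0,0,0,0)`, `a (0,2,2,0,0,0)`, `v (0,0,0,1,1,0)`, `φ (1,1,2,1,1,0)`, `g (0,2,2,0,1,0)`,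
`w (0,3,1,0,1,0)`, `α (0,0,0,0,0,1)` and `O6.card_I`. -/
theorem BB.main (h : Hy d) (c : C1 d) (hX : Gl d X) {P M P' M' : Subgroup G} {ρ φ α k ρ' φ' α' k' : G}
    (s : BB d P M P' M' ρ φ α k ρ' φ' α' k') : d.t ∉ X ∧ SyX (O6.I (ZMod 4)) X := by
  have r := h.toRl
  have m := r.mod4
  have md := Bb.md r s.bn s.kn
  have ec := Bb.ev_ce r φ α k
  set g := Bb.gT d φ α k with hg
  have eb : PB.ev g 1 = d.b := (ec (.of 8)).trans d.ψb
  have ea : PB.ev g 2 = d.a := (ec (.of 4)).trans d.ψa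
  have et : PB.ev g 128 = d.t := (ec (.of 1)).trans d.ψt
  have eg : PB.ev g 16 = k * d.φ4 (.of 3) := PC.ev_gen _ g (j := 4) (by decide)
  have ew : PB.ev g 32 = d.w := PC.ev_gen _ g (j := 5) (by decide)
  have eα : PB.ev g 64 = α := PC.ev_gen _ g (j := 6) (by decide)
  have i : PB.Inj g := md.inj_of (K := [1]) (by decide +kernel) (by
    simp only [List.mem_singleton, forall_eq]
    rw [eb]; exact r.b_ne)
  have eT : ∀ e, d.φ4 e ∈ md.sub := fun e => ec e ▸ md.ev_mem (Bb.ce_lt e)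
  have hT : Ov d md.sub := ⟨md.pg_sub i, fun x => mul_mem (eT _) (by
    cases x.w
    exacts [one_mem _, ew ▸ md.ev_mem (by decide)])⟩
  obtain ⟨i1, j1, hk⟩ := s.kφ
  have eφ : φ' = PB.ev g (PB.mul 16 (Bb.ce ⟨false, false, i1, j1⟩)) := by
    rw [md.mul (by decide) (Bb.ce_lt _), eg, ec, hk, ← d.ψt, ← d.ψv, ← d.ψa, ← d.ψb, ← map_bp m.one,
      ← map_bp m.one]
    simp only [mul_assoc, mm m]
    rw [(by decide +kernel : ∀ i j : Bool, V4.of 1 * (.of 2 * (bp (.of 4) i * (bp (.of 8) j *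
      (.of 3 * ⟨false, false, i, j⟩)))) = 1) i1 j1, m.one, mul_one]
  have big : ∀ x ∈ [1, 2, 4, 8, 152], ¬ IsConj d.t (PB.ev g x) := fun x hx =>
    h.big c md i ((by decide : ∀ x ∈ [1, 2, 4, 8, 152], x < 2 ^ 8) x hx)
      ((by decide +kernel : ∀ x ∈ [1, 2, 4, 8, 152], 32 < PB.cenN x) x hx)
  have cl : ∀ u ∈ md.sub, IsConj d.t u → ∃ x ∈ [128, 160, 180, 210], ∃ s ∈ md.sub,
      u = s * PB.ev g x * s⁻¹ := by
    intro u hu e
    obtain ⟨x, hx, y, hy, rfl⟩ := md.kcl i (R := [0, 16, 32, 64] ++ ([1, 2, 4, 8, 152] ++ [128, 160, 180, 210]))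
      (by decide +kernel) (by decide) hu (sq_of_isConj r.c4.tt e)
    rw [isConj_cj] at e
    rcases List.mem_append.1 hx with hx | hx
    · exfalso
      simp only [List.mem_cons, List.not_mem_nil, or_false] at hx
      rcases hx with rfl | rfl | rfl | rfl
      · rw [PC.ev_zero] at e; exact t_ne r (isConj_one_left.1 e)
      · obtain ⟨u, hu, e1⟩ := (by decide +kernel : ∀ i j : Bool, ∃ u < 2 ^ 8,
          PB.mul 16 (Bb.ce ⟨false, false, i, j⟩) = PB.cj u 16) i1 j1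
        refine Bb.nφ h.swap (c.swap r) s.bn' ?_
        rwa [eφ, e1, md.cj hu (by decide), isConj_cj]
      · rw [ew, ← d.φw] at e
        exact h.z_not c (Rl.φz (d := d) ▸ isConj_rp r e :)
      · rw [eα, ← s.bn.ρφ, isConj_cj] at e
        exact Bb.nφ h c s.bn e
    · rcases List.mem_append.1 hx with hx | hx
      exacts [(big x hx e).elim, ⟨x, hx, y, hy, rfl⟩]
  have cb : ∀ u ∈ md.sub, Commute d.b u := by
    rintro _ ⟨y, hy, rfl⟩
    rw [← eb]
    exact (md.comm i (by decide) hy).2 ((by decide +kernel : ∀ y < 2 ^ 8, PB.mul 1 y = PB.mul y 1) y hy)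
  have ca : ∀ u ∈ md.sub, u * d.a * u⁻¹ = d.a ∨ u * d.a * u⁻¹ = d.a * d.b := by
    rintro _ ⟨y, hy, rfl⟩
    rw [← ea, ← eb, ← md.cj hy (by decide), ← md.mul (by decide) (by decide)]
    exact ((by decide +kernel : ∀ y < 2 ^ 8, PB.cj y 2 = 2 ∨ PB.cj y 2 = PB.mul 2 1) y hy).imp
      (congrArg _) (congrArg _)
  obtain ⟨T1, hT1⟩ : ∃ T1, T1 = md.sub ⊓ centralizer {PB.ev g 2} := ⟨_, rfl⟩
  have c1 : Nat.card T1 = 128 := by rw [hT1, md.card_cen i (by decide)]; decide +kernel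
  have m1 : ∀ u, u ∈ T1 ↔ u ∈ md.sub ∧ Commute u d.a := fun u => by
    rw [hT1, ea, mem_inf, mem_centralizer_singleton_iff]; rfl
  have o1 : Ov d T1 := ⟨hT.pg.to_le fun u hu => ((m1 u).1 hu).1, fun x => (m1 _).2 ⟨hT.s0 x, by
    rw [← d.φa, r.mod5.comm]; revert x; decide +kernel⟩⟩
  have nm : ∀ {R : Subgroup G} {x : G}, (∀ u ∈ R, x * u * x⁻¹ ∈ R) → x ∈ normalizer (R : Set G) := fun k =>
    mem_normalizer_of_cj_le (cj_le_iff_forall.2 k)
  have pw : ∀ j < 8, 2 ^ j < 2 ^ 8 := fun j hj => Nat.pow_lt_pow_right one_lt_two hj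
  have nT : ∀ x ∈ normalizer (md.sub : Set G), x * d.b * x⁻¹ = d.b ∧ x ∈ normalizer (T1 : Set G) := by
    intro x hx
    have k0 : ∀ j < 8, ∃ y ∈ md.sub, PB.ev g (2 ^ j) = x * y * x⁻¹ := fun j hj =>
      ⟨_, (mem_normalizer_iff''.1 hx _).1 (md.ev_mem (pw j hj)), by group⟩
    obtain ⟨y, hy, ey⟩ := (mem_normalizer_iff.1 hx _).1 (d.ψb ▸ eT (.of 8) :)
    have k1 : x * d.b * x⁻¹ = d.b := by
      rcases (by decide +kernel : ∀ y < 2 ^ 8, (∀ j < 8, PB.mul y (2 ^ j) = PB.mul (2 ^ j) y) →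
        y = 0 ∨ y = 1) y hy fun j hj => (md.comm i hy (pw j hj)).1 (by
          obtain ⟨u, hu, e⟩ := k0 j hj
          rw [ey, e]; exact comm_cj.2 (cb u hu)) with rfl | rfl
      · rw [PC.ev_zero] at ey
        exact (r.b_ne (by simpa using ey.symm)).elim
      · rw [← ey, eb]
    obtain ⟨z, hz, ez⟩ := (mem_normalizer_iff.1 hx _).1 (d.ψa ▸ eT (.of 4) :)
    have k2 : ∀ u ∈ md.sub, Commute u (x * d.a * x⁻¹) → Commute u d.a := fun u hu e => by
      rcases (by decide +kernel : ∀ z < 2 ^ 8, PB.mul z z = 0 → (∀ j < 8, PB.cj (2 ^ j) z = z ∨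
        PB.cj (2 ^ j) z = PB.mul z 1) → z = 0 ∨ z = 1 ∨ z = 2 ∨ z = PB.mul 1 2) z hz
        ((md.eq_one i (PC.mul_lt md.ok hz hz)).1 (by rw [md.mul hz hz, ez, ← cjm, r.c4.aa]; group))
        (fun j hj => by
          obtain ⟨u, hu, e⟩ := k0 j hj
          have e1 : PB.ev g (PB.cj (2 ^ j) z) = x * (u * d.a * u⁻¹) * x⁻¹ := by
            rw [md.cj (pw j hj) hz, e, ez]; group
          exact (ca u hu).imp (fun e2 => i _ (PC.cj_lt md.ok (pw j hj) hz) _ hz (by rw [e1, e2, ez]))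
            fun e2 => i _ (PC.cj_lt md.ok (pw j hj) hz) _ (PC.mul_lt md.ok hz (by decide)) (by
              rw [e1, e2, md.mul hz (by decide), ez, eb, cjm, k1])) with rfl | rfl | rfl | rfl
      · rw [PC.ev_zero] at ez
        have : d.φ4 (.of 4) = d.φ4 1 := by rw [d.ψa, m.one]; simpa using ez.symm
        exact absurd (m.inj this) (by decide)
      · rw [eb, ← k1, TwoS.cj_inj, ← d.ψa, ← d.ψb] at ez
        exact absurd (m.inj ez) (by decide)
      · rwa [← ez, ea] at e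
      · rw [← ez, md.mul (by decide) (by decide), ea, eb] at e
        exact comm_of_mul (cb u hu).symm e
    exact ⟨k1, nm fun u hu => (m1 _).2 ⟨(mem_normalizer_iff.1 hx _).1 ((m1 u).1 hu).1,
      k2 _ ((mem_normalizer_iff.1 hx _).1 ((m1 u).1 hu).1) (comm_cj.2 ((m1 u).1 hu).2)⟩⟩
  have n1 : ∀ u ∈ md.sub, u ∈ normalizer (T1 : Set G) := fun u hu => (nT u (le_normalizer hu)).2
  have s' : ∀ x, d.φ5 x ∈ P' := (s.lo'.toOv.swap r.swap).s0
  have s4 : ∀ e, d.φ4 e ∈ P' := fun e => d.φ5_e e ▸ s' _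
  have bm : ∀ {u : G} (i : Bool), u ∈ P' → bp u i ∈ P' := fun i hu => by
    cases i
    exacts [one_mem _, hu]
  have l1 : T1 ≤ P' := fun u hu => by
    obtain ⟨⟨y, hy, rfl⟩, e⟩ := (m1 u).1 hu
    have e1 := (by decide +kernel : ∀ y < 2 ^ 8, PB.mul y 2 = PB.mul 2 y → y.testBit 6 = false) y hy
      ((md.comm i hy (by decide)).1 (ea ▸ e))
    refine Bb.evk_mem 8 fun j hj hb => ?_
    interval_cases j
    · exact s4 _
    · exact s4 _
    · exact s4 _
    · obtain ⟨i2, j2, hk'⟩ := s.kφ'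
      have := s.lo'.le s.kM'
      rwa [hk', mul_mem_cancel_right (bm _ (d.φb ▸ s' _)), mul_mem_cancel_right (bm _ (d.φa ▸ s' _)),
        mul_mem_cancel_right (d.φw ▸ s' _), mul_mem_cancel_right (d.φt ▸ s' _)] at this
    · have := s.lo'.le s.φM'
      rwa [eφ, md.mul (by decide) (Bb.ce_lt _), eg, ec, mul_mem_cancel_right (s4 _)] at this
    · exact (d.φw ▸ s' _ :)
    · exact absurd (e1.symm.trans hb) (by decide)
    · exact s4 _
  have n2 : α' ∈ normalizer (T1 : Set G) := nm (norm_of_card l1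
    (by rw [c1, s.lo'.card_P h.swap (gd8 true)]; rfl) _ (s.lo'.le s.αM'))
  have a1 : α' * d.t * α'⁻¹ = d.t * d.w * d.a := by
    have := act_t (d := d.swap) s.bn'.αa
    simpa [ab, L4.of, Dat.φ4_of, Nat.testBit, Dat.swap] using this
  have a2 : α' * d.b * α'⁻¹ = d.b * d.a := by
    have := s.bn'.αa (.of 4)
    rwa [d.swap.ψa, show ab.app (.of 4) = .of 12 from rfl, Rl.ψz] at this
  have a3 : α' * d.a * α'⁻¹ = d.a := by
    have := s.bn'.αa (.of 8)
    rwa [show ab.app (.of 8) = .of 8 from rfl, d.swap.ψb] at this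
  have a4 : α' * d.v * α'⁻¹ = φ' * d.v := by
    have : α' * d.v = φ' * (d.v * α') := Bb.αw s.bn'
    rw [this]; group
  have key : ∀ x ∈ normalizer (md.sub : Set G), ∀ u ∈ md.sub, ∀ y ∈ md.sub,
      x * d.t * x⁻¹ ≠ u * (α' * (y * d.t * y⁻¹) * α'⁻¹) * u⁻¹ := fun x hx u hu y hy e => by
    have n3 := mul_mem (inv_mem (mul_mem (mul_mem (n1 u hu) n2) (n1 y hy))) (nT x hx).2
    obtain ⟨z, hz⟩ := h.stab1 c o1 (fun v hv => (mem_normalizer_iff.1 n3 v).1 hv) (comm_of_cj (by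
      rw [show (u * α' * y)⁻¹ * x * d.t * ((u * α' * y)⁻¹ * x)⁻¹ =
        (u * α' * y)⁻¹ * (x * d.t * x⁻¹) * (u * α' * y) by group, e]; group))
    have e1 := hz d.b (d.φb ▸ o1.s0 _)
    rw [cj_of_comm (cb _ (hT.s0 z)).symm, show (u * α' * y)⁻¹ * x * d.b * ((u * α' * y)⁻¹ * x)⁻¹ =
      y⁻¹ * (α'⁻¹ * (u⁻¹ * (x * d.b * x⁻¹) * u⁻¹⁻¹) * α') * y by group, (nT x hx).1,
      cj_of_comm (cb _ (inv_mem hu)).symm] at e1
    have e2 : α' * (y * d.b * y⁻¹) * α'⁻¹ = d.b := by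
      conv_lhs => rw [← e1]
      group
    rw [cj_of_comm (cb y hy).symm, a2, mul_eq_left, ← d.ψa, ← m.one] at e2
    exact absurd (m.inj e2) (by decide)
  have hS : SylIn 2 md.sub ⊤ := syl_of hT.pg le_top fun Q hQ h1 _ x hx hn => by
    have hn' := nm hn
    obtain ⟨y, hy, u, hu, e⟩ := cl _ (hn _ (d.φt ▸ hT.s0 _)) (isConj_iff.2 ⟨x, rfl⟩)
    simp only [List.mem_cons, List.not_mem_nil, or_false] at hy
    rcases hy with rfl | rfl | rfl | rfl
    · obtain ⟨z, rfl⟩ := h.cover1 c ⟨hQ, fun z => h1 (hT.s0 z)⟩ hx (h1 hu) (et ▸ e)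
      exact mul_mem hu (hT.s0 z)
    · refine (key x hn' u hu φ (md.gmem (j := 3) (by decide)) ?_).elim
      rw [e, act_t s.bn.φa, show ph.t = .of 1 * .of 4 from rfl, m.mul, d.ψt, d.ψa, cjm α', a1, a3,
        mul_assoc (d.t * d.w), r.c4.aa, mul_one, ← et, ← ew, ← md.mul (by decide) (by decide),
        show PB.mul 128 32 = 160 by decide +kernel]
    · obtain ⟨v, hv, e1⟩ := (by decide +kernel : ∀ i j : Bool, ∃ v < 2 ^ 8, 180 = PB.cj v
        (PB.mul (PB.mul (PB.mul (PB.mul 128 32) 2) (PB.mul (PB.mul 16 (Bb.ce ⟨false, false, i, j⟩)) 4))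
          (PB.mul 1 2))) i1 j1
      have l := @PC.mul_lt _ md.ok
      have l2 := l (x := 128) (y := 32) (by decide) (by decide)
      have l3 := l (x := 16) (by decide) (Bb.ce_lt ⟨false, false, i1, j1⟩)
      have l4 := l l2 (y := 2) (by decide)
      have l5 := l l3 (y := 4) (by decide)
      have l6 := l (x := 1) (y := 2) (by decide) (by decide)
      refine (key x hn' _ (mul_mem hu (md.ev_mem hv)) α (md.gmem (j := 6) (by decide)) ?_).elim
      rw [e, e1, md.cj hv (l (l l4 l5) l6), md.mul (l l4 l5) l6, md.mul l4 l5, md.mul l2 (by decide),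
        md.mul l3 (by decide), ← eφ, md.mul (by decide) (by decide), md.mul (by decide) (by decide), et, ew,
        ea, eb, show PB.ev g 4 = d.v from (ec (.of 2)).trans d.ψv, act_t s.bn.αa,
        show ab.t = .of 1 * .of 2 * .of 8 from rfl, m.mul, m.mul, d.ψt, d.ψv, d.ψb, cjm α', cjm α', a1, a2, a4]
      group
    · have := (mem_normalizer_iff.1 (nT x hn').2 _).1 (d.φt ▸ o1.s0 _ : d.t ∈ T1)
      rw [e, ← mem_normalizer_iff.1 (n1 u hu), m1, ← ea, md.comm i (by decide) (by decide)] at this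
      exact absurd this.2 (by decide +kernel)
  have ok7 : (PB.lev 7).ok = true := by decide +kernel
  have md7 := md.lev (k := 7) (by decide) ok7
  have le7 : md7.sub ≤ md.sub := md7.sub_le fun j hj => md.gmem (lt_trans hj (by decide))
  have or7 := md.lev_or (k := 7) rfl md7 (by
    change d.φ4 _ * d.φ4 _ = 1
    rw [d.ψt, r.c4.tt])
  change ∀ x ∈ _, _ ∨ x * d.φ4 (.of 1) ∈ _ at or7
  rw [d.ψt] at or7
  have tn : d.t ∉ X := h.t_not c hX hS le7 or7 fun x hx hx' => by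
    obtain ⟨y, hy, _, ⟨u, hu, rfl⟩, e⟩ := cl _ (d.φt ▸ hx _) (isConj_iff.2 ⟨x, rfl⟩)
    obtain ⟨z, hz, e'⟩ := hx'
    have hz' : z < 2 ^ 7 := hz
    have hy' := (by decide : ∀ y ∈ [128, 160, 180, 210], y < 2 ^ 8) y hy
    rw [PC.Md.lev_ev (by decide) hz', e, ← md.cj hu hy'] at e'
    have := i _ (hz'.trans (by decide)) _ (PC.cj_lt md.ok hu hy') e'
    have := (by decide +kernel : ∀ y ∈ [128, 160, 180, 210], ∀ u < 2 ^ 8, 128 ≤ PB.cj u y) y hy u hu
    omega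
  have := hX.nm
  obtain ⟨x1, x2⟩ := Bb.memX hX s.bn
  have x3 : ∀ e, d.φ4 (e * ph.app e) ∈ X := fun e => by
    have := hX.comm (d.φ4 e) φ
    rwa [inv m, mul_assoc, mul_assoc, ← mul_assoc φ, s.bn.φa, mm m] at this
  have xb : d.φ4 (.of 8) ∈ X := x3 (.of 2)
  have xa : d.φ4 (.of 4) ∈ X := x3 (.of 1)
  have X7 : md7.sub ≤ X := md7.sub_le fun j hj => by
    change j < 7 at hj
    interval_cases j
    · exact xb
    · exact xa
    · exact (d.ψv.symm ▸ hX.v :)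
    · exact x1
    · have := (Bb.memX hX.swap s.bn').1
      rwa [eφ, md.mul (by decide) (Bb.ce_lt _), eg, ec, mul_mem_cancel_right] at this
      cases i1 <;> cases j1
      exacts [(m.one.symm ▸ one_mem X :), xb, xa, (m.mul _ _ ▸ mul_mem xa xb :)]
    · exact hX.w
    · exact x2
  have rw7 : (PB.lev 7).Rel Bb.w7 := by decide +kernel
  obtain ⟨f, f1, f2⟩ := md7.hom_from (PC.Md.lev_inj i (by decide)) rw7
    (PC.Md.inj_of ⟨ok7, rw7⟩ (K := [1]) (by decide +kernel) (by decide +kernel))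
    (O6.card_I (k := 1) one_pos)
  exact ⟨tn, f, f1, f2 ▸ syl_X hS X7 le7 tn or7⟩

theorem kBB (h : Hy d) (c : C1 d) (hX : Gl d X) (k : K8 d true true) :
    d.t ∉ X ∧ SyX (O6.I (ZMod 4)) X := by
  obtain ⟨P, M, P', M', ρ, φ, α, k, ρ', φ', α', k', s⟩ := k.bb h
  exact s.main h c hX

end CL.HS8
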