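import Cfsg.Agent.INV.TwoS6.Mod
import Cfsg.Agent.SPOR.KComp

/-!
Polycyclic presentations with relative orders 2, elements coded by numbers:
`x` stands for `g₀^{x₀} g₁^{x₁} ⋯`. Tables are made by `HS8/pc.py.txt`.
-/

set_option autoImplicit false
set_option linter.unusedSectionVars false

open Subgroup CL.K CL.TwoS

namespace CL.HS8

/-- `tab`: conjugation by `g k` on codes below `2 ^ k`; `sqs`: squares; `ivs`: inverses. -/
structure PC where
  n : ℕ
  tab : ℕ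
  sqs : ℕ
  ivs : ℕ

namespace PC

variable {G : Type*} [Group G] (P : PC)

def lk (T i : ℕ) : ℕ := Nat.land (Nat.shiftRight T (Nat.mul 12 i)) 4095
/-- code of `g k * y * (g k)⁻¹` -/
def th (k y : ℕ) : ℕ := lk P.tab (Nat.add (Nat.pow 2 k) y)
/-- code of `g k * g k` -/
def sq (k : ℕ) : ℕ := lk P.sqs k
/-- code of the inverse -/
def iv (x : ℕ) : ℕ := lk P.ivs x

noncomputable def mk' (k : ℕ) : ℕ → ℕ → ℕ :=
  Nat.rec (motive := fun _ => ℕ → ℕ → ℕ) (fun _ _ => 0) (fun k ih x y =>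
    force x fun x => force y fun y =>
    Bool.rec (motive := fun _ => ℕ) (force (Nat.pow 2 k) fun p =>
      Bool.rec (motive := fun _ => ℕ)
        (Bool.rec (motive := fun _ => ℕ) (ih x y) (Nat.add p (ih x (Nat.sub y p))) (Nat.ble p y))
        (Bool.rec (motive := fun _ => ℕ) (Nat.add p (ih (Nat.sub x p) (P.th k y)))
          (ih (ih (Nat.sub x p) (P.th k (Nat.sub y p))) (P.sq k)) (Nat.ble p y))
        (Nat.ble p x)) x (Nat.beq y 0)) k

theorem mk_succ (k x y : ℕ) : P.mk' (k + 1) x y = if y = 0 then x else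
    if 2 ^ k ≤ x then (if 2 ^ k ≤ y then P.mk' k (P.mk' k (x - 2 ^ k) (P.th k (y - 2 ^ k))) (P.sq k)
      else 2 ^ k + P.mk' k (x - 2 ^ k) (P.th k y))
    else if 2 ^ k ≤ y then 2 ^ k + P.mk' k x (y - 2 ^ k) else P.mk' k x y := by
  have e0 : P.mk' (k + 1) x y = force x fun x => force y fun y =>
    Bool.rec (motive := fun _ => ℕ) (force (Nat.pow 2 k) fun p =>
      Bool.rec (motive := fun _ => ℕ)
        (Bool.rec (motive := fun _ => ℕ) (P.mk' k x y) (Nat.add p (P.mk' k x (Nat.sub y p))) (Nat.ble p y))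
        (Bool.rec (motive := fun _ => ℕ) (Nat.add p (P.mk' k (Nat.sub x p) (P.th k y)))
          (P.mk' k (P.mk' k (Nat.sub x p) (P.th k (Nat.sub y p))) (P.sq k)) (Nat.ble p y))
        (Nat.ble p x)) x (Nat.beq y 0) := rfl
  rw [e0]
  simp only [force_eq]
  have e1 : ∀ a b : ℕ, Nat.ble a b = decide (a ≤ b) := fun a b => by
    rw [Bool.eq_iff_iff, Nat.ble_eq, decide_eq_true_eq]
  have e2 : ∀ a b : ℕ, Nat.beq a b = decide (a = b) := fun a b => by
    rw [Bool.eq_iff_iff, Nat.beq_eq, decide_eq_true_eq]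
  rw [e1, e1, e2]
  change Bool.rec (motive := fun _ => ℕ) (Bool.rec (motive := fun _ => ℕ)
    (Bool.rec (motive := fun _ => ℕ) _ _ (decide (2 ^ k ≤ y)))
    (Bool.rec (motive := fun _ => ℕ) _ _ (decide (2 ^ k ≤ y))) (decide (2 ^ k ≤ x))) _ _ = _
  split_ifs with h1 h2 h3 h4 <;> simp only [*, decide_true, decide_false] <;> rfl

/-- the product -/
noncomputable def mul (x y : ℕ) : ℕ := P.mk' P.n x y
/-- `k x k⁻¹` -/
noncomputable def cj (k x : ℕ) : ℕ := force k fun k => P.mul (P.mul k x) (P.iv k)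
/-- `x y x⁻¹ y⁻¹` -/
noncomputable def cm (x y : ℕ) : ℕ := P.mul (P.cj x y) (P.iv y)

/-- the tables are consistent with their values at the generators -/
noncomputable def ok : Bool :=
  allLt (fun k => Nat.blt (P.sq k) (Nat.pow 2 k) && Nat.beq (P.th k 0) 0 &&
    allLt (fun j => force (Nat.pow 2 j) fun p => force (P.th k p) fun q => allLt (fun y =>
      force (P.th k (Nat.add p y)) fun r => Nat.blt r (Nat.pow 2 k) &&
        Nat.beq r (P.mk' k (P.th k y) q)) p) k) P.n &&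
  allLt2 (fun x => Nat.ble (Nat.pow 2 P.n) x ||
    (Nat.blt (P.iv x) (Nat.pow 2 P.n) && Nat.beq (P.mul x (P.iv x)) 0)) (Nat.pow 2 (P.n - 4)) 16

/-- evaluation of the low `k` bits -/
def evk (g : ℕ → G) : ℕ → ℕ → G
  | 0, _ => 1
  | k + 1, x => evk g k x * bp (g k) (x.testBit k)

/-- evaluation -/
def ev (g : ℕ → G) (x : ℕ) : G := evk g P.n x

/-- the defining relations hold -/
def Rel (g : ℕ → G) : Prop :=
  ∀ k < P.n, g k * g k = P.ev g (P.sq k) ∧ ∀ j < k, g k * g j = P.ev g (P.th k (2 ^ j)) * g k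

instance [DecidableEq G] (g : ℕ → G) : Decidable (P.Rel g) := by unfold Rel; infer_instance

theorem evk_congr (g : ℕ → G) {x y : ℕ} : ∀ k, (∀ i < k, x.testBit i = y.testBit i) →
    evk g k x = evk g k y
  | 0, _ => rfl
  | k + 1, h => by
    rw [evk, evk, evk_congr g k fun i hi => h i (by omega), h k (by omega)]

theorem evk_lt (g : ℕ → G) {x k : ℕ} (h : x < 2 ^ k) : ∀ m, k ≤ m → evk g m x = evk g k x := by
  intro m hm
  induction m, hm using Nat.le_induction with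
  | base => rfl
  | succ m hm ih =>
    rw [evk, ih, Nat.testBit_lt_two_pow (h.trans_le (Nat.pow_le_pow_right two_pos hm)), bp_false,
      mul_one]

theorem evk_zero (g : ℕ → G) (k : ℕ) : evk g k 0 = 1 := evk_lt g (k := 0) one_pos k k.zero_le

theorem evk_lo (g : ℕ → G) {x k : ℕ} (h : x < 2 ^ k) : evk g (k + 1) x = evk g k x :=
  evk_lt g h _ k.le_succ

theorem evk_hi (g : ℕ → G) {x k : ℕ} (h : x < 2 ^ k) :
    evk g (k + 1) (2 ^ k + x) = evk g k x * g k := by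
  rw [evk, Nat.testBit_two_pow_add_eq, Nat.testBit_lt_two_pow h, evk_congr g k fun i hi =>
    Nat.testBit_two_pow_add_gt hi x]
  rfl

theorem ev_zero (g : ℕ → G) : P.ev g 0 = 1 := evk_zero g _

theorem ev_lt (g : ℕ → G) {x k : ℕ} (h : x < 2 ^ k) (hk : k ≤ P.n) : P.ev g x = evk g k x :=
  evk_lt g h _ hk

theorem ev_gen (g : ℕ → G) {j : ℕ} (hj : j < P.n) : P.ev g (2 ^ j) = g j := by
  rw [P.ev_lt g (k := j + 1) (Nat.pow_lt_pow_right one_lt_two j.lt_succ_self) hj,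
    ← add_zero (2 ^ j), evk_hi g (Nat.two_pow_pos j), evk_zero, one_mul]

variable {P}

theorem ok_spec (h : P.ok = true) : (∀ k < P.n, P.sq k < 2 ^ k ∧ P.th k 0 = 0 ∧ ∀ j < k,
    ∀ y < 2 ^ j, P.th k (2 ^ j + y) < 2 ^ k ∧ P.th k (2 ^ j + y) = P.mk' k (P.th k y) (P.th k (2 ^ j))) ∧
    ∀ x < 2 ^ P.n, P.iv x < 2 ^ P.n ∧ P.mul x (P.iv x) = 0 := by
  simp only [ok, Bool.and_eq_true, allLt_iff, allLt2_iff, force_eq, Nat.blt_eq, Nat.beq_eq,
    Bool.or_eq_true, Nat.ble_eq, Nat.pow_eq, Nat.add_eq] at h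
  refine ⟨fun k hk => ⟨(h.1 k hk).1.1, (h.1 k hk).1.2, (h.1 k hk).2⟩, fun x hx => ?_⟩
  refine (h.2 x (hx.trans_le ?_)).resolve_left hx.not_ge
  rw [show 16 = 2 ^ 4 from rfl, ← pow_add]
  exact Nat.pow_le_pow_right two_pos (by omega)

theorem th_lt (h : P.ok = true) {k y : ℕ} (hk : k < P.n) (hy : y < 2 ^ k) : P.th k y < 2 ^ k := by
  obtain ⟨-, h0, h1⟩ := (ok_spec h).1 k hk
  rcases y.eq_zero_or_pos with rfl | hp
  · rw [h0]; exact Nat.two_pow_pos k
  · have a := Nat.pow_log_le_self 2 hp.ne'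
    have b := Nat.lt_pow_succ_log_self one_lt_two y
    have c : Nat.log 2 y < k := Nat.log_lt_of_lt_pow hp.ne' hy
    have := (h1 _ c (y - 2 ^ Nat.log 2 y) (by rw [pow_succ] at b; omega)).1
    rwa [Nat.add_sub_cancel' a] at this

theorem mk_lt (h : P.ok = true) : ∀ k ≤ P.n, ∀ x < 2 ^ k, ∀ y < 2 ^ k, P.mk' k x y < 2 ^ k
  | 0, _, _, _, _, _ => one_pos
  | k + 1, hk, x, hx, y, hy => by
    have ih := mk_lt h k (by omega)
    have e : 2 ^ (k + 1) = 2 ^ k + 2 ^ k := by rw [pow_succ]; omega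
    rw [mk_succ]
    split_ifs with h1 h2 h3 h4
    · exact hx
    · have := ih _ (ih (x - 2 ^ k) (by omega) _ (th_lt h hk (y := y - 2 ^ k) (by omega))) _
        ((ok_spec h).1 k hk).1
      omega
    · have := ih (x - 2 ^ k) (by omega) _ (th_lt h hk (y := y) (by omega)); omega
    · have := ih x (by omega) (y - 2 ^ k) (by omega); omega
    · have := ih x (by omega) y (by omega); omega

theorem mk_inj (h : P.ok = true) : ∀ k ≤ P.n, ∀ x < 2 ^ k, ∀ x' < 2 ^ k, ∀ y < 2 ^ k,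
    P.mk' k x y = P.mk' k x' y → x = x'
  | 0, _, _, _, _, _, _, _, _ => by omega
  | k + 1, hk, x, hx, x', hx', y, hy, e0 => by
    have ih := mk_inj h k (by omega)
    have lt := mk_lt h k (by omega)
    have e : 2 ^ (k + 1) = 2 ^ k + 2 ^ k := by rw [pow_succ]; omega
    have s := ((ok_spec h).1 k hk).1
    have t1 := fun (a : 2 ^ k ≤ y) => th_lt h hk (y := y - 2 ^ k) (by omega)
    have t2 := fun (a : ¬ 2 ^ k ≤ y) => th_lt h hk (y := y) (by omega)
    rw [mk_succ, mk_succ] at e0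
    split_ifs at e0 with h1 h2 h3 h4 h5 h6 h7 h8
    · exact e0
    · have := ih (x - 2 ^ k) (by omega) (x' - 2 ^ k) (by omega) _ (t1 h3)
        (ih _ (lt _ (by omega) _ (t1 h3)) _ (lt _ (by omega) _ (t1 h3)) _ s e0)
      omega
    · have := lt _ (lt (x - 2 ^ k) (by omega) _ (t1 h3)) _ s; omega
    · have := ih (x - 2 ^ k) (by omega) (x' - 2 ^ k) (by omega) _ (t2 h3) (by omega); omega
    · have := lt x' (by omega) y (by omega); omega
    · have := lt _ (lt (x' - 2 ^ k) (by omega) _ (t1 h6)) _ s; omega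
    · exact ih x (by omega) x' (by omega) (y - 2 ^ k) (by omega) (by omega)
    · have := lt x (by omega) y (by omega); omega
    · exact ih x (by omega) x' (by omega) y (by omega) e0

theorem mul_lt (h : P.ok = true) {x y : ℕ} (hx : x < 2 ^ P.n) (hy : y < 2 ^ P.n) :
    P.mul x y < 2 ^ P.n := mk_lt h _ le_rfl _ hx _ hy

theorem iv_lt (h : P.ok = true) {x : ℕ} (hx : x < 2 ^ P.n) : P.iv x < 2 ^ P.n :=
  ((ok_spec h).2 x hx).1

theorem cj_eq (k x : ℕ) : P.cj k x = P.mul (P.mul k x) (P.iv k) := force_eq _ _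

theorem cj_lt (h : P.ok = true) {x y : ℕ} (hx : x < 2 ^ P.n) (hy : y < 2 ^ P.n) :
    P.cj x y < 2 ^ P.n := by
  rw [cj_eq]; exact mul_lt h (mul_lt h hx hy) (iv_lt h hx)

theorem cm_lt (h : P.ok = true) {x y : ℕ} (hx : x < 2 ^ P.n) (hy : y < 2 ^ P.n) :
    P.cm x y < 2 ^ P.n := mul_lt h (cj_lt h hx hy) (iv_lt h hy)

variable {g : ℕ → G}

theorem evk_mk (h : P.ok = true) (r : P.Rel g) : ∀ k ≤ P.n, ∀ x < 2 ^ k, ∀ y < 2 ^ k,
    evk g k (P.mk' k x y) = evk g k x * evk g k y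
  | 0, _, _, _, _, _ => (one_mul _).symm
  | k + 1, hk, x, hx, y, hy => by
    have ih := evk_mk h r k (by omega)
    have lt := mk_lt h k (by omega)
    have e : 2 ^ (k + 1) = 2 ^ k + 2 ^ k := by rw [pow_succ]; omega
    obtain ⟨s, s0, s1⟩ := (ok_spec h).1 k hk
    have c : ∀ j ≤ k, ∀ y < 2 ^ j, g k * evk g k y = evk g k (P.th k y) * g k := by
      intro j hj
      induction j with
      | zero =>
        intro y hy
        obtain rfl : y = 0 := by omega
        rw [s0, evk_zero, one_mul, mul_one]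
      | succ j ij =>
        intro y hy
        by_cases a : y < 2 ^ j
        · exact ij (by omega) y a
        have b : y - 2 ^ j < 2 ^ j := by rw [pow_succ] at hy; omega
        have b' : y - 2 ^ j < 2 ^ k := b.trans_le (Nat.pow_le_pow_right two_pos (by omega))
        have b2 : 2 ^ j < 2 ^ k := Nat.pow_lt_pow_right one_lt_two hj
        have d : y = 2 ^ j + (y - 2 ^ j) := by omega
        rw [d, (s1 j hj _ b).2, ih _ (th_lt h hk b') _ (th_lt h hk b2), evk_lt g (d ▸ hy) k hj,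
          evk_hi g b, ← evk_lt g b k (by omega), ← mul_assoc, ij (by omega) _ b, mul_assoc,
          (r k hk).2 j hj, P.ev_lt g (th_lt h hk b2) (by omega), mul_assoc]
    have q : g k * g k = evk g k (P.sq k) := by rw [(r k hk).1, P.ev_lt g s (by omega)]
    have hi : ∀ x < 2 ^ (k + 1), 2 ^ k ≤ x → evk g (k + 1) x = evk g k (x - 2 ^ k) * g k :=
      fun x a b => by rw [← evk_hi g (by omega), Nat.add_sub_cancel' b]
    rw [mk_succ]
    split_ifs with h1 h2 h3 h4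
    · rw [h1, evk_zero, mul_one]
    · have t1 := th_lt h hk (y := y - 2 ^ k) (by omega)
      have t2 := lt (x - 2 ^ k) (by omega) _ t1
      rw [evk_lo g (lt _ t2 _ s), ih _ t2 _ s, ih _ (by omega) _ t1, hi x hx h2, hi y hy h3, ← q,
        mul_assoc, mul_assoc, ← mul_assoc (g k) _ (g k), c k le_rfl _ (by omega), mul_assoc]
    · have t1 := th_lt h hk (y := y) (by omega)
      rw [evk_hi g (lt _ (by omega) _ t1), ih _ (by omega) _ t1, hi x hx h2,
        evk_lo g (x := y) (by omega), mul_assoc, mul_assoc, c k le_rfl _ (by omega)]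
    · rw [evk_hi g (lt _ (by omega) _ (by omega)), ih _ (by omega) _ (by omega), hi y hy h4,
        evk_lo g (x := x) (by omega), mul_assoc]
    · rw [evk_lo g (lt _ (by omega) _ (by omega)), ih _ (by omega) _ (by omega),
        evk_lo g (x := x) (by omega), evk_lo g (x := y) (by omega)]

/-- A consistent table whose relations hold in `G`. -/
structure Md (P : PC) (g : ℕ → G) : Prop where
  ok : P.ok = true
  rel : P.Rel g

namespace Md

variable (h : Md P g) {x y : ℕ}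
include h

theorem mul (hx : x < 2 ^ P.n) (hy : y < 2 ^ P.n) : P.ev g (P.mul x y) = P.ev g x * P.ev g y :=
  evk_mk h.ok h.rel _ le_rfl _ hx _ hy

theorem iv (hx : x < 2 ^ P.n) : P.ev g (P.iv x) = (P.ev g x)⁻¹ :=
  eq_inv_of_mul_eq_one_right (by rw [← h.mul hx (iv_lt h.ok hx), ((ok_spec h.ok).2 x hx).2, ev_zero])

theorem cj (hx : x < 2 ^ P.n) (hy : y < 2 ^ P.n) :
    P.ev g (P.cj x y) = P.ev g x * P.ev g y * (P.ev g x)⁻¹ := by
  rw [cj_eq, h.mul (mul_lt h.ok hx hy) (iv_lt h.ok hx), h.mul hx hy, h.iv hx]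

theorem cm (hx : x < 2 ^ P.n) (hy : y < 2 ^ P.n) :
    P.ev g (P.cm x y) = P.ev g x * P.ev g y * (P.ev g x)⁻¹ * (P.ev g y)⁻¹ := by
  rw [PC.cm, h.mul (cj_lt h.ok hx hy) (iv_lt h.ok hy), h.cj hx hy, h.iv hy]

/-- The subgroup generated. -/
def sub : Subgroup G where
  carrier := {u | ∃ x < 2 ^ P.n, P.ev g x = u}
  one_mem' := ⟨0, Nat.two_pow_pos _, P.ev_zero g⟩
  mul_mem' := by
    rintro _ _ ⟨x, hx, rfl⟩ ⟨y, hy, rfl⟩
    exact ⟨_, mul_lt h.ok hx hy, h.mul hx hy⟩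
  inv_mem' := by
    rintro _ ⟨x, hx, rfl⟩
    exact ⟨_, iv_lt h.ok hx, h.iv hx⟩

theorem mem_sub {u : G} : u ∈ h.sub ↔ ∃ x < 2 ^ P.n, P.ev g x = u := Iff.rfl

theorem ev_mem (hx : x < 2 ^ P.n) : P.ev g x ∈ h.sub := ⟨x, hx, rfl⟩

theorem sub_le {H : Subgroup G} (hH : ∀ j < P.n, g j ∈ H) : h.sub ≤ H := by
  rintro _ ⟨x, -, rfl⟩
  have : ∀ k ≤ P.n, evk g k x ∈ H := fun k hk => by
    induction k with
    | zero => exact H.one_mem
    | succ k ih =>
      refine H.mul_mem (ih (by omega)) ?_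
      cases x.testBit k
      exacts [H.one_mem, hH k hk]
  exact this _ le_rfl

end Md

/-- Evaluation is injective. -/
def Inj (P : PC) (g : ℕ → G) : Prop := ∀ x < 2 ^ P.n, ∀ y < 2 ^ P.n, P.ev g x = P.ev g y → x = y

/-- Every non-zero code outside `K` has a smaller non-zero commutator with a generator. -/
noncomputable def injb (P : PC) (K : List ℕ) : Bool :=
  allLt2 (fun x => Nat.beq x 0 || Nat.ble (Nat.pow 2 P.n) x || K.elem x ||
    anyLt (fun j => force (P.cm x (Nat.pow 2 j)) fun c => Nat.blt 0 c && Nat.blt c x) P.n)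
    (Nat.pow 2 (P.n - 4)) 16

namespace Md

variable (h : Md P g) {x y : ℕ}
include h

theorem inj_of {K : List ℕ} (hb : P.injb K = true) (hK : ∀ x ∈ K, P.ev g x ≠ 1) : P.Inj g := by
  simp only [injb, allLt2_iff, Bool.or_eq_true, anyLt_iff, force_eq, Bool.and_eq_true, Nat.blt_eq,
    Nat.beq_eq, Nat.ble_eq, Nat.pow_eq, List.elem_eq_mem, decide_eq_true_eq] at hb
  have k : ∀ x < 2 ^ P.n, P.ev g x = 1 → x = 0 := by
    intro x
    induction x using Nat.strong_induction_on with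
    | _ x ih =>
      intro hx e
      have l : x < 2 ^ (P.n - 4) * 16 := hx.trans_le (by
        rw [show 16 = 2 ^ 4 from rfl, ← pow_add]
        exact Nat.pow_le_pow_right two_pos (by omega))
      rcases hb x l with ((a | a) | a) | ⟨j, hj, a, b⟩
      · exact a
      · omega
      · exact absurd e (hK x a)
      · have := ih _ b (b.trans hx) (by
          rw [h.cm hx (Nat.pow_lt_pow_right one_lt_two hj), e]; group)
        omega
  intro x hx y hy e
  refine mk_inj h.ok _ le_rfl x hx y hy _ (iv_lt h.ok hy) ?_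
  exact (k _ (mul_lt h.ok hx (iv_lt h.ok hy)) (by
    rw [h.mul hx (iv_lt h.ok hy), h.iv hy, e, mul_inv_cancel])).trans ((ok_spec h.ok).2 y hy).2.symm

theorem card_sub (i : P.Inj g) : Nat.card h.sub = 2 ^ P.n := by
  rw [← Nat.card_eq_of_bijective (fun x : Fin (2 ^ P.n) => (⟨_, h.ev_mem x.2⟩ : h.sub))
    ⟨fun x y e => Fin.ext (i _ x.2 _ y.2 (congrArg Subtype.val e)),
      fun ⟨_, x, hx, e⟩ => ⟨⟨x, hx⟩, Subtype.ext e⟩⟩, Nat.card_eq_fintype_card, Fintype.card_fin]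

theorem pg_sub (i : P.Inj g) : IsPGroup 2 h.sub := IsPGroup.of_card (h.card_sub i)

theorem eq_one (i : P.Inj g) (hx : x < 2 ^ P.n) : P.ev g x = 1 ↔ x = 0 :=
  ⟨fun e => i _ hx _ (Nat.two_pow_pos _) (e.trans (P.ev_zero g).symm), fun e => e ▸ P.ev_zero g⟩

theorem comm (i : P.Inj g) (hx : x < 2 ^ P.n) (hy : y < 2 ^ P.n) :
    Commute (P.ev g x) (P.ev g y) ↔ P.mul x y = P.mul y x := by
  rw [commute_iff_eq, ← h.mul hx hy, ← h.mul hy hx]
  exact ⟨i _ (mul_lt h.ok hx hy) _ (mul_lt h.ok hy hx), congrArg _⟩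

/-- A homomorphism from the generated subgroup, given by images of the generators. -/
theorem lift (i : P.Inj g) {W : Type*} [Group W] {w : ℕ → W} (r : P.Rel w) :
    ∃ ψ : h.sub →* W, ∀ x (hx : x < 2 ^ P.n), ψ ⟨_, h.ev_mem hx⟩ = P.ev w x := by
  choose c hc he using fun u : h.sub => u.2
  have k : ∀ x (hx : x < 2 ^ P.n), c ⟨_, h.ev_mem hx⟩ = x := fun x hx => i _ (hc _) _ hx (he _)
  refine ⟨MonoidHom.mk' (fun u => P.ev w (c u)) fun u v => ?_, fun x hx => congrArg _ (k x hx)⟩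
  rw [← Md.mul ⟨h.ok, r⟩ (hc u) (hc v)]
  refine congrArg _ (i _ (hc _) _ (mul_lt h.ok (hc u) (hc v)) ?_)
  rw [he, h.mul (hc u) (hc v), he, he]; rfl

/-- An isomorphism from a concrete group of the right order. -/
theorem hom_from (i : P.Inj g) {W : Type*} [Group W] [Finite W] {w : ℕ → W} (r : P.Rel w)
    (j : P.Inj w) (hc : Nat.card W = 2 ^ P.n) :
    ∃ f : W →* G, Function.Injective f ∧ f.range = h.sub := by
  have h' : Md P w := ⟨h.ok, r⟩
  obtain ⟨ψ, hψ⟩ := h'.lift j h.rel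
  have t : h'.sub = ⊤ := eq_top_of_card_eq _ ((h'.card_sub j).trans hc.symm)
  let e : W →* h'.sub := (MonoidHom.id W).codRestrict _ fun u => t ▸ mem_top u
  have k : ∀ u, ∃ x < 2 ^ P.n, P.ev w x = u ∧ ψ (e u) = P.ev g x := fun u => by
    obtain ⟨x, hx, rfl⟩ := (e u).2
    exact ⟨x, hx, rfl, hψ x hx⟩
  refine ⟨ψ.comp e, (injective_iff_map_eq_one _).2 fun u hu => ?_, le_antisymm ?_ ?_⟩
  · obtain ⟨x, hx, rfl, a⟩ := k u
    rw [(h.eq_one i hx).1 (a.symm.trans hu), ev_zero]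
  · rintro _ ⟨u, rfl⟩
    obtain ⟨x, hx, -, a⟩ := k u
    exact ⟨x, hx, a.symm⟩
  · rintro _ ⟨x, hx, rfl⟩
    exact ⟨P.ev w x, hψ x hx⟩

/-- The permutation of the codes induced by an element normalising the subgroup. -/
theorem aut (i : P.Inj g) {u : G} (hu : ∀ s ∈ h.sub, u * s * u⁻¹ ∈ h.sub) :
    ∃ θ : ℕ → ℕ, (∀ x < 2 ^ P.n, θ x < 2 ^ P.n ∧ u * P.ev g x * u⁻¹ = P.ev g (θ x)) ∧
      (∀ x < 2 ^ P.n, ∀ y < 2 ^ P.n, θ (P.mul x y) = P.mul (θ x) (θ y)) ∧
      ∀ x < 2 ^ P.n, ∀ y < 2 ^ P.n, θ x = θ y → x = y := by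
  have : ∀ x, ∃ y, x < 2 ^ P.n → y < 2 ^ P.n ∧ u * P.ev g x * u⁻¹ = P.ev g y := fun x => by
    by_cases hx : x < 2 ^ P.n
    · obtain ⟨y, hy, e⟩ := hu _ (h.ev_mem hx)
      exact ⟨y, fun _ => ⟨hy, e.symm⟩⟩
    · exact ⟨0, fun a => absurd a hx⟩
  choose θ hθ using this
  refine ⟨θ, hθ, fun x hx y hy => ?_, fun x hx y hy e => i _ hx _ hy ?_⟩
  · have l := mul_lt h.ok hx hy
    refine i _ (hθ _ l).1 _ (mul_lt h.ok (hθ x hx).1 (hθ y hy).1) ?_
    rw [← (hθ _ l).2, h.mul hx hy, h.mul (hθ x hx).1 (hθ y hy).1, ← (hθ x hx).2, ← (hθ y hy).2]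
    group
  · have := (hθ x hx).2.trans (e ▸ (hθ y hy).2.symm)
    simpa using this

end Md

end PC

end CL.HS8
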