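import Cfsg.Agent.INV.HS8.LE
import Cfsg.Agent.INV.HS8.PC

/-!
Joining local data; conjugating and renormalising it; counting centralisers in a model.
-/

set_option autoImplicit false

open Subgroup CL.TwoS CL.MSS CL.K

namespace CL.HS8

variable {G : Type*} [Group G] {d : Dat G}

namespace Jn

theorem cjm (g x y : G) : g * (x * y) * g⁻¹ = g * x * g⁻¹ * (g * y * g⁻¹) := by group

theorem cji (g x : G) : (g * x * g⁻¹)⁻¹ = g * x⁻¹ * g⁻¹ := by group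

theorem cjb (g x : G) (i : Bool) : bp (g * x * g⁻¹) i = g * bp x i * g⁻¹ := by cases i <;> simp

theorem cjc {g x y : G} (h : Commute x y) : Commute (g * x * g⁻¹) (g * y * g⁻¹) := comm_cj.2 h

theorem cjd_eq {c : G} (hc : ∀ m, Commute c (d.φ5 m)) :
    HS8.cjd c d = ⟨d.t, d.a, d.b, d.w, d.v, c * d.ρ * c⁻¹, c * d.ρ' * c⁻¹⟩ := by
  have k1 := cj_of_comm (d.φt ▸ hc _)
  have k2 := cj_of_comm (d.φa ▸ hc _)
  have k3 := cj_of_comm (d.φb ▸ hc _)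
  have k4 := cj_of_comm (d.φw ▸ hc _)
  have k5 := cj_of_comm (d.φv ▸ hc _)
  rw [HS8.cjd, k1, k2, k3, k4, k5]

theorem bn_cjd {ρ φ α : G} (l : BN d ρ φ α) (g : G) :
    BN (cjd g d) (g * ρ * g⁻¹) (g * φ * g⁻¹) (g * α * g⁻¹) := by
  refine ⟨act_cjd.2 l.ρa, act_cjd.2 l.φa, act_cjd.2 l.αa, ?_, ?_, ?_, ?_, cjc l.φα, cjc l.φw, ?_⟩
  · rw [← l.ρφ]; group
  · rw [← cjm g φ, ← l.ρα]; group
  · rw [← cjm, l.φφ]; group
  · rw [← cjm, l.αα]; group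
  · rw [← cjm g φ, ← l.wα]; simp only [HS8.cjd]; group

theorem kn_cjd {ρ k x y : G} {β η : Bool} (l : KN d ρ k x y β η) (g : G) :
    KN (cjd g d) (g * ρ * g⁻¹) (g * k * g⁻¹) (g * x * g⁻¹) (g * y * g⁻¹) β η := by
  refine ⟨act_cjd.2 l.ka, cjc l.kρ, cjc l.kx, cjc l.ky, ?_, ?_⟩
  · simp only [HS8.cjd]; rw [cjb, ← cjm g k, ← l.wk]; group
  · simp only [HS8.cjd]; rw [cjb, ← cjm, l.kk]

theorem mv {φ : V4 → G} {x : G} {f : L4} (hx : Act φ x f) (hf : f * f = 1) (e : V4) :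
    φ e * x = x * φ (f.app e) := by
  have := hx (f.app e)
  rw [← L4.mul_app, hf, L4.one_app] at this
  rw [← this]; group

theorem mv' {φ : V4 → G} {x : G} {f : L4} (hx : Act φ x f) (hf : f * f = 1) (e : V4) (y : G) :
    φ e * (x * y) = x * (φ (f.app e) * y) := by rw [← mul_assoc, mv hx hf, mul_assoc]

theorem act_mul_e {φ : V4 → G} (h : IsMod φ) {x : G} {f : L4} (hx : Act φ x f) (e : V4) :
    Act φ (x * φ e) f := fun u => by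
  rw [show x * φ e * φ u * (x * φ e)⁻¹ = x * (φ e * φ u * (φ e)⁻¹) * x⁻¹ by group,
    h.cj (mul_comm e u), hx]

theorem pow_act {R : Subgroup G} {g k : G} (hk : ∀ x ∈ R, k * x * k⁻¹ ∈ R)
    (e : ∀ x ∈ R, g * x * g⁻¹ = k * x * k⁻¹) (n : ℕ) :
    ∀ x ∈ R, g ^ n * x * (g ^ n)⁻¹ = k ^ n * x * (k ^ n)⁻¹ := by
  induction n with
  | zero => simp
  | succ n ih =>
    intro x hx
    calc _ = g ^ n * (g * x * g⁻¹) * (g ^ n)⁻¹ := by rw [pow_succ]; group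
      _ = k ^ n * (k * x * k⁻¹) * (k ^ n)⁻¹ := by rw [e x hx, ih _ (hk x hx)]
      _ = _ := by rw [pow_succ]; group

end Jn

open Jn

theorem Lo.cjd {A : List L4} {P M : Subgroup G} {ρ : G} (l : Lo d A P M ρ) (g : G) :
    Lo (cjd g d) A (g •ᶜ P) (g •ᶜ M) (g * ρ * g⁻¹) := by
  have ex : ∀ {K : Subgroup G} {x : G}, x ∈ g •ᶜ K → ∃ y ∈ K, g * y * g⁻¹ = x := mem_cj'.1
  refine ⟨⟨isPGroup_cj g l.pg, fun m => by rw [cjd_φ5]; exact conj_mem_cj (l.s0 m)⟩,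
    fun x hx => ?_, fun x => ?_, fun f hf => ?_, fun x hx a => ?_, act_cjd.2 l.ρa, fun x hx => ?_,
    fun x hx => ?_, fun x hx => ?_⟩
  · obtain ⟨y, hy, rfl⟩ := ex hx
    simpa only [act_cjd] using l.act y hy
  · obtain ⟨y, rfl⟩ : ∃ y, g * y * g⁻¹ = x := ⟨g⁻¹ * x * g, by group⟩
    simpa only [act_cjd, conj_mem_cj_iff] using l.memM y
  · obtain ⟨y, hy, a⟩ := l.cov f hf
    exact ⟨_, conj_mem_cj hy, act_cjd.2 a⟩
  · obtain ⟨y, hy, rfl⟩ := ex hx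
    obtain ⟨e, rfl⟩ := l.ker y hy (act_cjd.1 a)
    exact ⟨e, (cjd_φ4 _ _ _).symm⟩
  · obtain ⟨y, hy, rfl⟩ := ex hx
    rw [cji, ← cjm, ← cjm]
    exact conj_mem_cj (l.ρn y hy)
  · obtain ⟨y, hy, rfl⟩ := ex hx
    rw [← cjm, ← cjm]
    exact cjc (l.ρ3 y hy)
  · obtain ⟨y, hy, rfl⟩ := ex hx
    simp only [HS8.cjd]
    rw [← cjm, ← cjm, ← cjm]
    exact cjc (l.ρw y hy)

theorem TN.cjd {ρ n α : G} {μ δ : Bool} (l : TN d ρ n α μ δ) (g : G) :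
    TN (cjd g d) (g * ρ * g⁻¹) (g * n * g⁻¹) (g * α * g⁻¹) μ δ := by
  refine ⟨act_cjd.2 l.ρa, act_cjd.2 l.na, act_cjd.2 l.αa, ?_, ?_, ?_, ?_, ?_, ?_, ?_⟩ <;>
    simp only [HS8.cjd, cjb, cji, ← cjm]
  exacts [by rw [l.ρn], by rw [l.ρα], by rw [l.nn], by rw [l.αα], by rw [l.nα], by rw [l.wn],
    by rw [l.wα]]

theorem Lo.cj {A : List L4} {P M : Subgroup G} {ρ c : G} (l : Lo d A P M ρ)
    (hc : ∀ m, Commute c (d.φ5 m)) : Lo d A (c •ᶜ P) (c •ᶜ M) (c * ρ * c⁻¹) := by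
  have k := l.cjd c
  rw [cjd_eq hc] at k
  exact ⟨⟨k.pg, k.s0⟩, k.act, k.memM, k.cov, k.ker, k.ρa, k.ρn, k.ρ3, k.ρw⟩

theorem TN.cj {ρ n α c : G} {μ δ : Bool} (l : TN d ρ n α μ δ) (hc : ∀ m, Commute c (d.φ5 m)) :
    TN d (c * ρ * c⁻¹) (c * n * c⁻¹) (c * α * c⁻¹) μ δ := by
  have k := l.cjd c
  rw [cjd_eq hc] at k
  exact ⟨k.ρa, k.na, k.αa, k.ρn, k.ρα, k.nn, k.αα, k.nα, k.wn, k.wα⟩

theorem BN.cj {ρ φ α c : G} (l : BN d ρ φ α) (hc : ∀ m, Commute c (d.φ5 m)) :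
    BN d (c * ρ * c⁻¹) (c * φ * c⁻¹) (c * α * c⁻¹) := by
  have k := bn_cjd l c
  rw [cjd_eq hc] at k
  exact ⟨k.ρa, k.φa, k.αa, k.ρφ, k.ρα, k.φφ, k.αα, k.φα, k.φw, k.wα⟩

theorem KN.cj {ρ k x y c : G} {β η : Bool} (l : KN d ρ k x y β η) (hc : ∀ m, Commute c (d.φ5 m)) :
    KN d (c * ρ * c⁻¹) (c * k * c⁻¹) (c * x * c⁻¹) (c * y * c⁻¹) β η := by
  have k := kn_cjd l c
  rw [cjd_eq hc] at k
  exact ⟨k.ka, k.kρ, k.kx, k.ky, k.wk, k.kk⟩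

theorem TN.shift (h : Rl d) {ρ n α : G} {μ δ : Bool} (l : TN d ρ n α μ δ) :
    TN d ρ (n * (d.a * d.b)) (α * d.v) μ δ := by
  have m := h.mod4
  have z : d.a * d.b = d.φ4 (.of 12) := by simp [Dat.φ4_of, Nat.testBit]
  have n2 : nb * nb = 1 := by decide
  have a2 : al * al = 1 := by decide
  have iv : ∀ e, (d.φ4 e)⁻¹ = d.φ4 e := fun e =>
    inv_eq_of_mul_eq_one_right (by rw [← m.mul, V4.mul_self, m.one])
  have eb : bp d.b δ = d.φ4 (bp (.of 8) δ) := by rw [map_bp m.one, d.ψb]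
  have k : (n * d.φ4 (.of 12) * (α * d.φ4 (.of 2)))⁻¹ = (n * α)⁻¹ * d.φ4 (.of 14) := by
    rw [mul_assoc, mv' l.αa a2, ← m.mul, ← mul_assoc, mul_inv_rev, iv,
      mv ((l.na.mul l.αa).inv (f' := nb * al) (by decide)) (by decide)]
    rfl
  have ev := d.ψv.symm
  refine ⟨l.ρa, z ▸ act_mul_e m l.na _, ev ▸ act_mul_e m l.αa _, ?_, ?_, ?_, ?_, ?_, ?_, ?_⟩
  · rw [cjm, l.ρn, z, l.ρa, ev]; rfl
  · rw [z, ev, k, cjm, l.ρα, l.ρa]; rfl
  · rw [← l.nn, z, mul_assoc, mv' l.na n2, ← m.mul, show nb.app (.of 12) * .of 12 = 1 by decide, m.one,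
      mul_one]
  · rw [← l.αα, ev, mul_assoc, mv' l.αa a2, ← m.mul, show al.app (.of 2) * .of 2 = 1 by decide, m.one,
      mul_one]
  · rw [z, ev, mul_assoc, mv' l.αa a2, ← mul_assoc, l.nα, eb]
    simp only [mul_assoc, mv' l.na n2, ← m.mul]
    congr 3
    cases δ <;> decide
  · rw [cjm, l.wn, z, h.act_w, eb]
    simp only [mul_assoc, ← m.mul]
    congr 2
    cases δ <;> decide
  · rw [z, ev, k, cjm, l.wα, h.act_w, eb]
    simp only [mul_assoc, ← m.mul]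
    congr 2
    cases δ <;> decide

theorem BN.shift (h : Rl d) {ρ φ α : G} (l : BN d ρ φ α) :
    BN d ρ (φ * d.a) (α * (d.v * d.b)) := by
  have m := h.mod4
  have z : d.v * d.b = d.φ4 (.of 10) := by simp [Dat.φ4_of, Nat.testBit]
  have ea := d.ψa.symm
  have n2 : ph * ph = 1 := by decide
  have a2 : ab * ab = 1 := by decide
  have k : φ * d.φ4 (.of 4) * (α * d.φ4 (.of 10)) = φ * α * d.φ4 (.of 6) := by
    rw [mul_assoc, mv' l.αa a2, ← m.mul, ← mul_assoc]; rfl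
  rw [z]
  refine ⟨l.ρa, ea ▸ act_mul_e m l.φa _, act_mul_e m l.αa _, ?_, ?_, ?_, ?_, ?_, ?_, ?_⟩
  · rw [cjm, l.ρφ, ea, l.ρa]; rfl
  · rw [ea, k, cjm, l.ρα, l.ρa]; rfl
  · rw [← l.φφ, ea, mul_assoc, mv' l.φa n2, ← m.mul, show ph.app (.of 4) * .of 4 = 1 by decide, m.one,
      mul_one]
  · rw [← l.αα, mul_assoc, mv' l.αa a2, ← m.mul, show ab.app (.of 10) * .of 10 = 1 by decide, m.one,
      mul_one]
  · rw [commute_iff_eq, ea, k, l.φα.eq, mul_assoc α (d.φ4 _), mv' l.φa n2, ← m.mul, mul_assoc]; rfl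
  · exact l.φw.mul_left h.aw
  · rw [ea, k, cjm, l.wα, h.act_w]; rfl

variable [Finite G]

/-- `join` for `N = N(R)`: an element `g` of `N` is `σ s x` with `x ∈ N ∩ C(t)`, and `x` acts on `R` as an
element of `S0` (`Hy.stab1`). -/
theorem Hy.join1 (h : Hy d) (c : C1 d) {R P1 P2 : Subgroup G} (hR : Ov d R) (W : List G)
    (hW : ∀ σ ∈ W, ∀ x ∈ R, σ * x * σ⁻¹ ∈ R)
    (cov : ∀ g, (∀ x ∈ R, g * x * g⁻¹ ∈ R) → ∃ σ ∈ W, ∃ s ∈ R, g * d.t * g⁻¹ = σ * s * d.t * (σ * s)⁻¹)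
    (two : ∀ σ ∈ W, ∀ s ∈ R, ∃ k : ℕ, ∀ x ∈ R, Commute ((σ * s) ^ 2 ^ k) x)
    (h1 : IsPGroup 2 P1) (n1 : ∀ g ∈ P1, ∀ x ∈ R, g * x * g⁻¹ ∈ R)
    (h2 : IsPGroup 2 P2) (n2 : ∀ g ∈ P2, ∀ x ∈ R, g * x * g⁻¹ ∈ R) :
    ∃ o, (∀ x ∈ R, Commute o x) ∧ ∃ P : Subgroup G, SylIn 2 P (normalizer (R : Set G)) ∧ R ≤ P ∧
      P1 ≤ P ∧ ∀ x ∈ P2, o * x * o⁻¹ ∈ P := by
  have nm : ∀ {g : G}, (∀ x ∈ R, g * x * g⁻¹ ∈ R) → g ∈ normalizer (R : Set G) := fun k =>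
    mem_normalizer_of_cj_le (cj_le_iff_forall.2 k)
  have l1 : P1 ≤ normalizer (R : Set G) := fun g hg => nm (n1 g hg)
  obtain ⟨o, -, ho, P, hP, l, k⟩ := join (R := R) (N := normalizer (R : Set G)) (P1 := P1 ⊔ R)
    (P2 := P2) le_rfl (fun g hg => by
      have hg' : ∀ x ∈ R, g * x * g⁻¹ ∈ R := fun x hx => (mem_normalizer_iff.1 hg x).1 hx
      obtain ⟨σ, hσ, s, hs, e⟩ := cov g hg'
      have n0 : σ * s ∈ normalizer (R : Set G) := mul_mem (nm (hW σ hσ)) (le_normalizer hs)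
      obtain ⟨m, hm⟩ := h.stab1 c hR (g := (σ * s)⁻¹ * g)
        (fun x hx => (mem_normalizer_iff.1 (mul_mem (inv_mem n0) hg) x).1 hx)
        (comm_of_cj (by
          rw [show (σ * s)⁻¹ * g * d.t * ((σ * s)⁻¹ * g)⁻¹ = (σ * s)⁻¹ * (g * d.t * g⁻¹) * (σ * s) by group, e]
          group))
      obtain ⟨k, hk⟩ := two σ hσ _ (mul_mem hs (hR.s0 m))
      refine ⟨k, fun x hx => comm_of_cj ?_⟩
      rw [pow_act (k := σ * (s * d.φ5 m)) (fun x hx => (mem_normalizer_iff.1 (mul_mem (nm (hW σ hσ))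
        (le_normalizer (mul_mem hs (hR.s0 m)))) x).1 hx) (fun x hx => ?_) _ x hx, cj_of_comm (hk x hx)]
      calc _ = σ * s * ((σ * s)⁻¹ * g * x * ((σ * s)⁻¹ * g)⁻¹) * (σ * s)⁻¹ := by group
        _ = _ := by rw [hm x hx]; group)
    (h1.to_sup_of_normal_right' hR.pg l1) (sup_le l1 le_normalizer) h2 fun g hg => nm (n2 g hg)
  exact ⟨o, ho, P, hP, le_sup_right.trans l, le_sup_left.trans l, k⟩

/-- An element of a 2-group over `S0` is determined modulo `S0` by its action on `t`. -/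
theorem Hy.cover1 (h : Hy d) (c : C1 d) {P : Subgroup G} (hP : Ov d P) {g σ : G} (hg : g ∈ P)
    (hσ : σ ∈ P) (e : g * d.t * g⁻¹ = σ * d.t * σ⁻¹) : ∃ m, g = σ * d.φ5 m := by
  obtain ⟨m, hm⟩ := h.cT c hP (mul_mem (inv_mem hσ) hg) (comm_of_cj (by
    rw [mul_inv_rev, inv_inv, mul_assoc _ g, mul_assoc, ← mul_assoc (g * d.t), e]; group))
  exact ⟨m, by rw [← hm]; group⟩

/-- A subgroup of index two is normal. -/
theorem norm_of_card {R P : Subgroup G} (hle : R ≤ P) (e : Nat.card P = 2 * Nat.card R) :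
    ∀ g ∈ P, ∀ x ∈ R, g * x * g⁻¹ ∈ R := by
  have k : (R.subgroupOf P).index = 2 := by
    have := (R.subgroupOf P).index_mul_card
    rw [Nat.card_congr (subgroupOfEquivOfLe hle).toEquiv, e] at this
    exact Nat.eq_of_mul_eq_mul_right Nat.card_pos this
  intro g hg x hx
  exact (normal_of_index_eq_two k).conj_mem ⟨x, hle hx⟩ hx ⟨g, hg⟩

namespace PC.Md

variable {P : PC} {g : ℕ → G} (h : Md P g)

omit [Finite G] in
theorem card_cen (i : P.Inj g) {x : ℕ} (hx : x < 2 ^ P.n) :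
    Nat.card ↥(h.sub ⊓ centralizer {P.ev g x}) = sumLt2 (fun y => cond (Nat.blt y (Nat.pow 2 P.n) &&
      Nat.beq (P.mul x y) (P.mul y x)) 1 0) (Nat.pow 2 (P.n - 4)) 16 := by
  classical
  have l : 2 ^ P.n ≤ 2 ^ (P.n - 4) * 16 := by
    rw [show 16 = 2 ^ 4 from rfl, ← pow_add]
    exact Nat.pow_le_pow_right two_pos (by omega)
  rw [sumLt2_eq, ← card_filter_range_eq_sum _ (fun y => y < 2 ^ P.n ∧ P.mul x y = P.mul y x) _
    (fun y _ => by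
      rw [← Bool.cond_decide]
      congr 1
      rw [Bool.eq_iff_iff]
      simp), ← Nat.card_eq_finsetCard]
  refine (Nat.card_eq_of_bijective (fun y => ⟨P.ev g y, h.ev_mem (Finset.mem_filter.1 y.2).2.1,
    mem_centralizer_singleton_iff.2 ((h.comm i hx (Finset.mem_filter.1 y.2).2.1).2
      (Finset.mem_filter.1 y.2).2.2).symm.eq⟩) ⟨fun y z e => Subtype.ext (i _ (Finset.mem_filter.1 y.2).2.1
        _ (Finset.mem_filter.1 z.2).2.1 (congrArg Subtype.val e)), ?_⟩).symm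
  rintro ⟨_, ⟨y, hy, rfl⟩, k⟩
  exact ⟨⟨y, Finset.mem_filter.2 ⟨Finset.mem_range.2 (hy.trans_le l), hy,
    (h.comm i hx hy).1 (mem_centralizer_singleton_iff.1 k).symm⟩⟩, rfl⟩

/-- The presentation of the subgroup generated by the first `k` generators. -/
def _root_.CL.HS8.PC.lev (P : PC) (k : ℕ) : PC := ⟨k, P.tab, P.sqs, P.ivs⟩

omit [Finite G] in
theorem lev_ev {k x : ℕ} (hk : k ≤ P.n) (hx : x < 2 ^ k) : (P.lev k).ev g x = P.ev g x :=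
  (P.ev_lt g hx hk).symm

omit [Finite G] in
include h in
theorem lev {k : ℕ} (hk : k ≤ P.n) (ok : (P.lev k).ok = true) : Md (P.lev k) g := by
  refine ⟨ok, fun j hj => ?_⟩
  have hj' : j < k := hj
  have p : 2 ^ j ≤ 2 ^ k := Nat.pow_le_pow_right two_pos hj'.le
  obtain ⟨r1, r2⟩ := h.rel j (hj'.trans_le hk)
  refine ⟨?_, fun i hi => ?_⟩
  · rw [lev_ev hk (((ok_spec ok).1 j hj).1.trans_le p)]; exact r1
  · rw [lev_ev hk ((th_lt ok hj (Nat.pow_lt_pow_right one_lt_two hi)).trans_le p)]; exact r2 i hi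

omit [Finite G] in
theorem lev_inj (i : P.Inj g) {k : ℕ} (hk : k ≤ P.n) : (P.lev k).Inj g := fun x hx y hy e => by
  have p : 2 ^ k ≤ 2 ^ P.n := Nat.pow_le_pow_right two_pos hk
  rw [lev_ev hk hx, lev_ev hk hy] at e
  exact i x (hx.trans_le p) y (hy.trans_le p) e

omit [Finite G] in
/-- The last generator has index two subgroup `lev k`. -/
theorem lev_or {k : ℕ} (hk : P.n = k + 1) (h' : Md (P.lev k) g) (e : g k * g k = 1) :
    ∀ x ∈ h.sub, x ∈ h'.sub ∨ x * g k ∈ h'.sub := by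
  rintro _ ⟨x, hx, rfl⟩
  rw [hk, pow_succ] at hx
  by_cases a : x < 2 ^ k
  · exact Or.inl ⟨x, a, lev_ev (by omega) a⟩
  · refine Or.inr ⟨x - 2 ^ k, show x - 2 ^ k < 2 ^ k by omega, ?_⟩
    have := evk_hi g (x := x - 2 ^ k) (k := k) (by omega)
    rw [Nat.add_sub_cancel' (by omega)] at this
    rw [PC.ev, PC.ev, hk, this, mul_assoc, e, mul_one]
    rfl

end PC.Md

end CL.HS8
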