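import Cfsg.Agent.INV.HS8.SPb

/-!
Configuration K8 with both types T, `μ = 0`: the generators.
-/

set_option autoImplicit false
set_option linter.unusedSectionVars false

open Subgroup CL.TwoS CL.MSS

namespace CL.HS8

variable {G : Type*} [Group G] [Finite G] {d : Dat G} {X : Subgroup G}

namespace Spc

open Spa Spb Ltb

theorem dih {α β : G} (a2 : α * α = 1) (b2 : β * β = 1) :
    ∃ o, (∀ y, Commute ((α * β) ^ 4) y → Commute o y) ∧ ∃ j, (α * (o * β * o⁻¹)) ^ 2 ^ j = 1 := by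
  obtain ⟨i, j, k, e, h1, h2⟩ := two_part (α * β)
  obtain ⟨m, hm⟩ := exists_pow_eq_self_of_coprime (x := (α * β) ^ j) (n := 2 ^ 3)
    (Nat.Coprime.pow_left _ (Nat.coprime_two_left.2 h2))
  have ai := inv_eq_of_mul_eq_one_left a2
  have xi : ∀ s, α * (α * β) ^ s * α⁻¹ = ((α * β) ^ s)⁻¹ := fun s => by
    rw [← conj_pow, ← inv_pow, mul_inv_rev, ← mul_assoc, a2, one_mul, inv_eq_of_mul_eq_one_left b2]
  refine ⟨((α * β) ^ 4) ^ (j * m), fun y hy => hy.pow_left _, k, ?_⟩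
  rw [← h1, ← pow_mul (α * β) 4]
  congr 1
  have e2 : (α * β) ^ (4 * (j * m)) * (α * β) ^ (4 * (j * m)) = (α * β) ^ j := by
    rw [← hm, ← pow_mul, ← pow_mul, ← pow_add]; congr 1; ring
  have e3 := xi (4 * (j * m))
  have e4 := ((Commute.refl (α * β)).pow_right (4 * (j * m))).inv_right.eq
  generalize (α * β) ^ (4 * (j * m)) = o at e2 e3 e4
  calc _ = α * o * α⁻¹ * (α * β) * o⁻¹ := by group
    _ = α * β * (o * o)⁻¹ := by rw [e3, ← e4, mul_inv_rev, mul_assoc]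
    _ = _ := by rw [e2, mul_inv_eq_iff_eq_mul, ← e]

/-- The relations of `β`. -/
structure Bt (d : Dat G) (n k m β : G) : Prop where
  sq : β * β = 1
  t : β * d.t * β⁻¹ = d.t * d.w
  v : β * d.v * β⁻¹ = m * d.v
  w : Commute β d.w
  a : Commute β d.a
  b : Commute β d.b
  n : Commute β n
  k : Commute β k

theorem Bt.cj {n k m β o : G} (h : Bt d n k m β) (ht : Commute o d.t) (hv : Commute o d.v)
    (hw : Commute o d.w) (ha : Commute o d.a) (hb : Commute o d.b) (hn : Commute o n)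
    (hk : Commute o k) (hm : Commute o m) : Bt d n k m (o * β * o⁻¹) := by
  have c : ∀ {y}, Commute o y → Commute β y → Commute (o * β * o⁻¹) y := fun a b =>
    (a.mul_left b).mul_left a.inv_left
  refine ⟨by rw [cj_mul_cj, h.sq, mul_one, mul_inv_cancel], ?_, ?_, c hw h.w, c ha h.a, c hb h.b,
    c hn h.n, c hk h.k⟩
  · rw [← cj_of_comm (ht.mul_right hw), ← cjd_rel h.t, cj_of_comm ht]
  · rw [← cj_of_comm (hm.mul_right hv), ← cjd_rel h.v, cj_of_comm hv]

variable {P M P' M' : Subgroup G} {ρ n α k ρ' m β k' : G}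
  (s : SP d P M P' M' ρ n α k ρ' m β k' false) (r : Rl d)
include s r

omit r in
theorem nn : n * n = 1 := s.tn.nn.trans (one_mul _)

theorem btα : Bt d.swap n k n α :=
  ⟨s.tn.αα.trans (one_mul _), s.tn.αt1, by
    have := s.tn.αw1
    rwa [s.tn.αα, bp_false, bp_false, one_mul, mul_one] at this, s.tn.cαv r, s.tn.cαb r, s.tn.cαa r,
    s.tn.cαn, s.kn.ky.symm⟩

theorem btβ : Bt d n k m β := by
  refine ⟨s.tn'.αα.trans (one_mul _), s.tn'.αt1, by
    have := s.tn'.αw1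
    rwa [s.tn'.αα, bp_false, bp_false, one_mul, mul_one] at this, s.tn'.cαv r.swap, s.tn'.cαb r.swap,
    s.tn'.cαa r.swap, s.βn r, ?_⟩
  obtain ⟨i, j, e⟩ := s.kk
  have := s.kn'.ky.symm
  rw [e, mul_assoc, mul_assoc] at this
  have c : Commute β (n * (bp d.a i * bp d.b j)) := (s.βn r).mul_right
    ((comm_bp (s.tn'.cαb r.swap) i).mul_right (comm_bp (s.tn'.cαa r.swap) j))
  simpa [mul_assoc] using this.mul_right c.inv_right

theorem ka : Commute k d.a := d.ψa ▸ r.act_comm s.kn.ka (e := .of 4) (by decide)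
theorem kb' : Commute k d.b := d.ψb ▸ r.act_comm s.kn.ka (e := .of 8) (by decide)
theorem kv : Commute k d.v := d.ψv ▸ r.act_comm s.kn.ka (e := .of 2) (by decide)
omit r in
theorem kw : Commute k d.w := (comm_of_cj (s.kn.wk.trans (mul_one _))).symm

theorem act_H (e : V4) : Act d.φ4 (W4 k n d.a d.b e) (bp kb e.t * bp nb e.v) := by
  rw [W4, mul_assoc, φab]
  exact act_mul_e r.mod4 ((act_bp s.kn.ka _).mul (act_bp s.tn.na _)) _

theorem modH : IsMod (W4 k n d.a d.b) := by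
  have mul := C4.mul ⟨s.kn.kk, nn s, r.c4.aa, r.c4.bb, s.kn.kx, ka s r, kb' s r, s.tn.cna r, s.tn.cnb r,
    r.c4.ab⟩
  have k1 : ∀ e, W4 k n d.a d.b e = 1 → e = 1 := fun e he => by
    obtain ⟨a, b⟩ := (by decide : ∀ i j, bp kb i * bp nb j = 1 → i = false ∧ j = false) _ _
      (Act.unique r.mod4.inj (act_H s r e) (he ▸ Act.one))
    rw [W4, a, b, mul_assoc, φab, bp_false, bp_false, one_mul, one_mul, ← r.mod4.one] at he
    have := r.mod4.inj he
    exact V4.ext a b (congrArg V4.a this :) (congrArg V4.b this :)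
  refine ⟨mul, W4_one _ _ _ _, fun e f he => ?_⟩
  exact (by decide +kernel : ∀ e f : V4, e * f = 1 → e = f) e f
    (k1 _ (by rw [mul, he, ← mul, V4.mul_self, W4_one]))

/-- The action of `(α β)²`. -/
theorem sq_act {β : G} (b : Bt d n k m β) : Commute (α * β * (α * β)) d.v ∧ Commute (α * β * (α * β)) d.w ∧
    ∃ i j, α * β * (α * β) * d.t * (α * β * (α * β))⁻¹ = d.φ4 ⟨true, false, i, j⟩ := by
  have a := btα s r
  have md := r.mod4
  obtain ⟨i, j, e⟩ := s.mn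
  have c : ∀ x y : G, x * x * y * (x * x)⁻¹ = x * (x * y * x⁻¹) * x⁻¹ := fun x y => by group
  have c2 : ∀ y, α * β * y * (α * β)⁻¹ = α * (β * y * β⁻¹) * α⁻¹ := fun y => by group
  have xn := cj_of_comm (a.n.mul_left b.n)
  have αm : Commute α m := e ▸ (a.n.mul_right (comm_bp a.b i)).mul_right (comm_bp a.a j)
  have xm := cj_of_comm (αm.mul_left
    (e ▸ (b.n.mul_right (comm_bp b.a i)).mul_right (comm_bp b.b j) : Commute β m))
  have xv : α * β * d.v * (α * β)⁻¹ = m * d.v := by rw [c2, b.v]; exact cj_of_comm (αm.mul_right a.w)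
  have xw : α * β * d.w * (α * β)⁻¹ = n * d.w := by rw [c2, cj_of_comm b.w]; exact a.v
  have xt : α * β * d.t * (α * β)⁻¹ = d.t * d.v * (n * d.w) := by
    rw [c2, b.t, ← cj_mul_cj]; exact congrArg₂ _ a.t a.v
  refine ⟨comm_of_cj ?_, comm_of_cj ?_, !i, !j, ?_⟩
  · rw [c, xv, ← cj_mul_cj, xm, xv, ← mul_assoc, show m * m = 1 from s.tn'.nn.trans (one_mul _), one_mul]
  · rw [c, xw, ← cj_mul_cj, xn, xw, ← mul_assoc, nn s, one_mul]
  · rw [c, xt, ← cj_mul_cj, ← cj_mul_cj, ← cj_mul_cj, xt, xv, xn, xw, e, mul_assoc n (bp _ _), φab,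
      ← d.ψt, ← d.ψv]
    have wn : ∀ y, d.w * (n * y) = n * (d.w * y) := fun y => by
      rw [← mul_assoc, ← s.tn.cnw.eq, mul_assoc]
    have n2 : ∀ y, n * (n * y) = y := fun y => by rw [← mul_assoc, nn s, one_mul]
    simp only [mul_assoc, wn, n2, Kt.comm_l' r.act_w, r.ww, mul_one, mm md]
    cases i <;> cases j <;> rfl

theorem ht (i j : Bool) : bp k (xor i j) * bp n i * d.t * (bp k (xor i j) * bp n i)⁻¹ =
    d.φ4 ⟨true, false, i, j⟩ := by
  rw [Kt.act_t ((act_bp s.kn.ka _).mul (act_bp s.tn.na _))]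
  cases i <;> cases j <;> rfl

theorem memH (i j : Bool) {e : V4} (h1 : e.t = false) (h2 : e.v = false) :
    ∃ f, W4 k n d.a d.b f = bp k i * bp n j * d.φ4 e :=
  ⟨⟨i, j, e.a, e.b⟩, by rw [W4, mul_assoc, φab]; exact congrArg (_ * d.φ4 ·) (V4.ext h1.symm h2.symm rfl rfl)⟩

omit r in
/-- After conjugating `β`, `(α β)² ∈ H0`. -/
theorem exβ (h : Hy d) (c : C1 d) : ∃ o, Bt d n k m (o * β * o⁻¹) ∧
    ∃ e, W4 k n d.a d.b e = α * (o * β * o⁻¹) * (α * (o * β * o⁻¹)) := by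
  have r := h.toRl
  have md := r.mod4
  have a := btα s r
  have b := btβ s r
  obtain ⟨o, ho, l, hl⟩ := dih a.sq b.sq
  have c2 : ∀ {y}, Commute (α * β * (α * β)) y → Commute o y := fun hy => ho _ (by
    rw [show (α * β) ^ 4 = α * β * (α * β) * (α * β * (α * β)) by simp only [pow_succ]; group]
    exact hy.mul_left hy)
  have c1 : ∀ {y}, Commute α y → Commute β y → Commute o y := fun h1 h2 =>
    ho _ ((h1.mul_left h2).pow_left _)
  obtain ⟨b1, b2, i, j, b3⟩ := sq_act s r b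
  have b' : Bt d n k m (o * β * o⁻¹) := by
    refine b.cj (ho _ (comm_of_cj ?_)) (c2 b1) (c2 b2) (c1 a.b b.a) (c1 a.a b.b) (c1 a.n b.n)
      (c1 a.k b.k) ?_
    · have ca := (Commute.mul_left (a := α) (c := d.a) a.b b.a)
      have cb := (Commute.mul_left (a := α) (c := d.b) a.a b.b)
      generalize α * β = x at b3 ca cb
      rw [φt, ← φab, bp_true] at b3
      rw [show x ^ 4 * d.t * (x ^ 4)⁻¹ = x * x * (x * x * d.t * (x * x)⁻¹) * (x * x)⁻¹ by
        simp only [pow_succ, pow_zero, one_mul, mul_inv_rev, mul_assoc], b3, ← cj_mul_cj, b3, cj_of_comm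
        ((comm_bp (ca.mul_left ca) i).mul_right (comm_bp (cb.mul_left cb) j)), φab, mul_assoc, mm md,
        V4.mul_self, md.one, mul_one]
    · obtain ⟨i, j, e⟩ := s.mn
      exact e ▸ ((c1 a.n b.n).mul_right (comm_bp (c1 a.b b.a) i)).mul_right (comm_bp (c1 a.a b.b) j)
  refine ⟨o, b', ?_⟩
  generalize o * β * o⁻¹ = β at b' hl
  obtain ⟨b1, b2, i, j, b3⟩ := sq_act s r b'
  have cx : ∀ {y}, Commute α y → Commute β y → Commute (α * β * (α * β)) y := fun h1 h2 =>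
    (h1.mul_left h2).mul_left (h1.mul_left h2)
  have ch : ∀ {y}, Commute k y → Commute n y → Commute (bp k (xor i j) * bp n i)⁻¹ y := fun h1 h2 =>
    ((comm_bp h1.symm _).mul_right (comm_bp h2.symm _)).inv_right.symm
  obtain ⟨y, hy⟩ : ∃ y, y = (bp k (xor i j) * bp n i)⁻¹ * (α * β * (α * β)) := ⟨_, rfl⟩
  have yt : Commute y d.t := comm_of_cj (by
    rw [hy, show ∀ u x t : G, u⁻¹ * x * t * (u⁻¹ * x)⁻¹ = u⁻¹ * (x * t * x⁻¹) * u from
      fun _ _ _ => by group, b3, ← ht s r]; group)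
  have yv : Commute y d.v := hy ▸ (ch (kv s r) (s.tn.cnv r)).mul_left b1
  have yw : Commute y d.w := hy ▸ (ch (kw s) s.tn.cnw).mul_left b2
  have yn : Commute y n := hy ▸ (ch s.kn.kx (Commute.refl _)).mul_left (cx a.n b'.n)
  have yS : ∀ m, Commute y (d.φ5 m) := fun m => (comm_W4 yt yv
    (hy ▸ (ch (ka s r) (s.tn.cna r)).mul_left (cx a.b b'.a))
    (hy ▸ (ch (kb' s r) (s.tn.cnb r)).mul_left (cx a.a b'.b)) _).mul_right (comm_bp yw _)
  have y2 : y ^ 2 ^ (l + 1) = 1 := by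
    have e : (bp k (xor i j) * bp n i) ^ 2 = 1 := by
      rw [pow_two, (bp_comm s.kn.kx.symm _ _).mul_mul_mul_comm, ← bp_xor s.kn.kk, ← bp_xor (nn s)]
      simp
    rw [hy, ((ch a.k.symm a.n.symm).mul_right (ch b'.k.symm b'.n.symm)).mul_right
      ((ch a.k.symm a.n.symm).mul_right (ch b'.k.symm b'.n.symm)) |>.mul_pow, inv_pow, pow_succ',
      pow_mul, e, one_pow, inv_one, one_mul, ← pow_two, ← pow_mul, mul_comm, pow_mul, pow_succ',
      mul_comm 2, pow_mul, hl, one_pow, one_pow, one_mul]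
  obtain ⟨m0, hm⟩ := r.mem_S0.1 ((h.sylS0 c).le_of_normalizes (isPGroup_zpowers y2)
    (zpowers_le.2 (mem_centralizer_singleton_iff.2 yt))
    (zpowers_le.2 (mem_normalizer_of_cj_le (cj_le_iff_forall.2 fun x hx => by
      obtain ⟨m, rfl⟩ := r.mem_S0.1 hx
      rwa [cj_of_comm (yS m)]))) (mem_zpowers y))
  obtain ⟨e1, e2⟩ := (by decide +kernel : ∀ m : M5, m * .of 2 = .of 2 * m → m * .of 16 = .of 16 * m →
    m.w = false ∧ m.e.v = false) m0 (r.mod5.comm.1 (hm ▸ yS _)) (r.mod5.comm.1 (hm ▸ yS _))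
  rw [Rl.φ5_E _ e1] at hm
  obtain ⟨f, hf⟩ := memH s r (xor i j) i ((by decide +kernel : ∀ e : V4, nb.app e = e → e.t = false) _
    (r.act_fix s.tn.na (hm ▸ yn.symm))) e2
  exact ⟨f, by rw [hf, hm, hy]; group⟩

end Spc

end CL.HS8
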