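import Cfsg.Agent.INV.HS8.LT
import Cfsg.Agent.INV.HS8.Cls
import Cfsg.Agent.INV.HS8.Jn
import Cfsg.Agent.INV.HS8.SPc

/-!
Configuration K8 with both types T (`PSp₄(4)`).
-/

set_option autoImplicit false

open Subgroup CL.TwoS CL.MSS

namespace CL.HS8

variable {G : Type*} [Group G] [Finite G] {d : Dat G} {X : Subgroup G}

namespace Spc

omit [Finite G] in
/-- Generators central modulo a central subgroup `H`. -/
theorem cls2 {H : Subgroup G} {S : Set G} (c : ∀ y ∈ S, ∀ x ∈ H, Commute y x)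
    (k : ∀ x ∈ S, ∀ y ∈ S, x * y * x⁻¹ * y⁻¹ ∈ H) (q : ∀ x ∈ S, x * x ∈ H) :
    (∀ y ∈ closure S, ∀ x ∈ H, Commute y x) ∧
      (∀ x ∈ closure S, ∀ y ∈ closure S, x * y * x⁻¹ * y⁻¹ ∈ H) ∧ ∀ x ∈ closure S, x * x ∈ H := by
  have c0 : ∀ y ∈ closure S, ∀ x ∈ H, Commute y x := fun y hy x hx =>
    mem_centralizer_singleton_iff.1 ((closure_le (centralizer {x})).2
      (fun u hu => mem_centralizer_singleton_iff.2 (c u hu x hx)) hy)
  have k1 : ∀ y, (∀ x ∈ S, x * y * x⁻¹ * y⁻¹ ∈ H) → ∀ x ∈ closure S, x * y * x⁻¹ * y⁻¹ ∈ H :=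
    fun y hy x hx => by
    induction hx using closure_induction with
    | mem x hx => exact hy x hx
    | one => simp
    | mul x u hx _ a b =>
      rw [show x * u * y * (x * u)⁻¹ * y⁻¹ = x * (u * y * u⁻¹ * y⁻¹) * x⁻¹ * (x * y * x⁻¹ * y⁻¹) by group,
        cj_of_comm (c0 x hx _ b)]
      exact H.mul_mem b a
    | inv x hx a =>
      rw [show x⁻¹ * y * x⁻¹⁻¹ * y⁻¹ = x⁻¹ * (x * y * x⁻¹ * y⁻¹)⁻¹ * x⁻¹⁻¹ by group,
        cj_of_comm (c0 x hx _ (H.inv_mem a)).inv_left]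
      exact H.inv_mem a
  have sy : ∀ {x y : G}, x * y * x⁻¹ * y⁻¹ ∈ H → y * x * y⁻¹ * x⁻¹ ∈ H := fun {x y} a => by
    simpa [mul_assoc] using H.inv_mem a
  have k2 := fun x hx y hy => k1 y (fun u hu => sy (k1 u (fun v hv => k v hv u hu) y hy)) x hx
  refine ⟨c0, k2, fun x hx => ?_⟩
  induction hx using closure_induction with
  | mem x hx => exact q x hx
  | one => simp
  | mul x u hx hu a b =>
    rw [show x * u * (x * u) = x * x * (x⁻¹ * u * x⁻¹⁻¹ * u⁻¹) * (u * u) by group]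
    exact H.mul_mem (H.mul_mem a (k2 _ (inv_mem hx) _ hu)) b
  | inv x hx a => rw [← mul_inv_rev]; exact H.inv_mem a

theorem P_le (h : Hy d) {P M : Subgroup G} {ρ n α k : G} (l : Lo d A8T P M ρ) (hk : k ∈ P) (hn : n ∈ P)
    (hα : α ∈ P) (ak : Act d.φ4 k kb) (an : Act d.φ4 n nb) (aα : Act d.φ4 α al) {K : Subgroup G}
    (hS : ∀ m, d.φ5 m ∈ K) (h1 : k ∈ K) (h2 : n ∈ K) (h3 : α ∈ K) : P ≤ K := by
  have k0 : M ≤ K := fun x hx => by
    obtain ⟨xP, f, hf, a⟩ := (l.memM x).1 hx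
    obtain ⟨i, j, u, rfl⟩ := Spb.A8_dec f hf
    obtain ⟨e, rfl⟩ := l.eq_mul h (P.mul_mem (P.mul_mem (Spb.bp_mem hk i) (Spb.bp_mem hn j))
      (Spb.bp_mem hα u)) xP (((Spb.act_bp ak i).mul (Spb.act_bp an j)).mul (Spb.act_bp aα u)) a
    exact K.mul_mem (K.mul_mem (K.mul_mem (Spb.bp_mem h1 i) (Spb.bp_mem h2 j)) (Spb.bp_mem h3 u))
      (d.φ5_e e ▸ hS _)
  intro x hx
  rcases l.cases h hx with a | a
  exacts [k0 a, (K.mul_mem_cancel_right (d.φw ▸ hS _)).1 (k0 a)]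

end Spc

open Spa Spb Spc Ltb

/-- `μ = 0`. `H0 = ⟨a, b, n, k⟩` is central in `T0 = ⟨H0, v, w, α, β⟩` after conjugating `β` (`exβ`); no element of `T0` is
conjugate to `t` (`rank4`), the involutions of `T0 t` are conjugate in `T = T0 ⟨t⟩`; transfer to `T / T0`. -/
theorem SP.zero (h : Hy d) (c : C1 d) (hX : Gl d X) {P M P' M' : Subgroup G} {ρ n α k ρ' m β k' : G}
    (s : SP d P M P' M' ρ n α k ρ' m β k' false) : d.t ∉ X ∧ Cl2 256 X := by
  classical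
  have r := h.toRl
  have md := r.mod4
  have t2 := r.c4.tt
  have ti := inv_eq_of_mul_eq_one_left t2
  have nm := hX.nm
  have a := btα s r
  have αw : α * d.w * α⁻¹ = n * d.w := a.v
  have nX : n ∈ X := by simpa [αw] using hX.comm α d.w
  have αX : α ∈ X := s.tn.ρn ▸ nm.conj_mem _ nX ρ
  have βX : β ∈ X := s.tn'.ρn ▸ nm.conj_mem _ (by simpa [(btβ s r).v] using hX.comm β d.v) ρ'
  obtain ⟨o, b, e0, he0⟩ := exβ s h c
  replace βX := nm.conj_mem _ βX o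
  generalize o * β * o⁻¹ = γ at b he0 βX
  have mH := modH s r
  obtain ⟨H, hH, cH⟩ : ∃ H : Subgroup G, (∀ x, x ∈ H ↔ ∃ e, W4 k n d.a d.b e = x) ∧ Nat.card H = 16 :=
    ⟨mH.sub (fun _ => true) rfl fun _ _ _ _ => rfl, fun x => by simp [IsMod.mem_sub],
      mH.card_sub V4.nodup_all V4.mem_all⟩
  have HE : ∀ i j (e : V4), e.t = false → e.v = false → bp k i * bp n j * d.φ4 e ∈ H :=
    fun i j e h1 h2 => (hH _).2 (memH s r i j h1 h2)
  have ZH : ∀ e : V4, e.t = false → e.v = false → d.φ4 e ∈ H := fun e h1 h2 => by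
    simpa using HE false false e h1 h2
  have kH : k ∈ H := by simpa [md.one] using HE true false 1 rfl rfl
  have nH : n ∈ H := by simpa [md.one] using HE false true 1 rfl rfl
  have aH : d.a ∈ H := d.ψa ▸ ZH _ rfl rfl
  have bH : d.b ∈ H := d.ψb ▸ ZH _ rfl rfl
  have mH' : m ∈ H := by
    obtain ⟨i, j, e⟩ := s.mn
    exact e ▸ H.mul_mem (H.mul_mem nH (bp_mem aH i)) (bp_mem bH j)
  have Hle : ∀ K : Subgroup G, k ∈ K → n ∈ K → d.a ∈ K → d.b ∈ K → H ≤ K := fun K h1 h2 h3 h4 x hx => by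
    obtain ⟨e, rfl⟩ := (hH x).1 hx
    exact K.mul_mem (K.mul_mem (K.mul_mem (bp_mem h1 _) (bp_mem h2 _)) (bp_mem h3 _)) (bp_mem h4 _)
  have H2 : ∀ x ∈ H, x * x = 1 := fun x hx => by
    obtain ⟨e, rfl⟩ := (hH x).1 hx
    exact mH.sq.2 (V4.mul_self e)
  have cS : ∀ y ∈ {x | x ∈ H ∨ x = d.v ∨ x = d.w ∨ x = α ∨ x = γ}, ∀ x ∈ H, Commute y x := by
    intro y hy x hx
    obtain ⟨e, rfl⟩ := (hH x).1 hx
    rcases hy with hy | rfl | rfl | rfl | rfl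
    · obtain ⟨f, rfl⟩ := (hH y).1 hy
      exact mH.comm.2 (mul_comm _ _)
    exacts [comm_W4 (kv s r).symm (s.tn.cnv r).symm r.c4.va r.c4.vb e,
      comm_W4 (kw s).symm s.tn.cnw.symm r.aw.symm r.bw.symm e, comm_W4 a.k a.n a.b a.a e,
      comm_W4 b.k b.n b.a b.b e]
  have o1 : ∀ {x y : G}, Commute x y → x * y * x⁻¹ * y⁻¹ ∈ H := fun e => by
    rw [cj_of_comm e, mul_inv_cancel]; exact H.one_mem
  have sy : ∀ {x y : G}, x * y * x⁻¹ * y⁻¹ ∈ H → y * x * y⁻¹ * x⁻¹ ∈ H := fun {x y} a => by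
    simpa [mul_assoc] using H.inv_mem a
  have wv : d.w * d.v * d.w⁻¹ * d.v⁻¹ = d.a * d.b := by
    rw [r.wv, mul_assoc d.v, cj_of_comm (r.c4.va.mul_right r.c4.vb)]
  have αi := inv_eq_of_mul_eq_one_left a.sq
  have γi := inv_eq_of_mul_eq_one_left b.sq
  obtain ⟨c0, cm, sq⟩ := cls2 cS (by
    have p1 : d.w * d.v * d.w⁻¹ * d.v⁻¹ ∈ H := wv ▸ H.mul_mem aH bH
    have p2 : α * d.w * α⁻¹ * d.w⁻¹ ∈ H := by simpa [αw] using nH
    have p3 : γ * d.v * γ⁻¹ * d.v⁻¹ ∈ H := by simpa [b.v] using mH'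
    have p4 : α * γ * α⁻¹ * γ⁻¹ ∈ H := by rw [αi, γi, mul_assoc]; exact (hH _).2 ⟨_, he0⟩
    intro x hx y hy
    rcases hx with hx | hx
    · exact o1 (cS y hy x hx).symm
    rcases hy with hy | hy
    · exact o1 (cS x (Or.inr hx) y hy)
    rcases hx with rfl | rfl | rfl | rfl <;> rcases hy with rfl | rfl | rfl | rfl
    exacts [o1 (Commute.refl _), sy p1, o1 a.w.symm, sy p3, p1, o1 (Commute.refl _), sy p2, o1 b.w.symm,
      o1 a.w, p2, o1 (Commute.refl _), p4, p3, o1 b.w, sy p4, o1 (Commute.refl _)]) (by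
    rintro x (hx | rfl | rfl | rfl | rfl)
    exacts [H.mul_mem hx hx, r.c4.vv ▸ H.one_mem, r.ww ▸ H.one_mem, a.sq ▸ H.one_mem, b.sq ▸ H.one_mem])
  obtain ⟨T0, hT0⟩ : ∃ T0, T0 = closure {x | x ∈ H ∨ x = d.v ∨ x = d.w ∨ x = α ∨ x = γ} := ⟨_, rfl⟩
  have le0 : ∀ K : Subgroup G, H ≤ K → d.v ∈ K → d.w ∈ K → α ∈ K → γ ∈ K → T0 ≤ K :=
    fun K h1 h2 h3 h4 h5 => hT0 ▸ (closure_le K).2 (by
      rintro x (hx | rfl | rfl | rfl | rfl)
      exacts [h1 hx, h2, h3, h4, h5])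
  have H0 : H ≤ T0 := fun x hx => hT0 ▸ subset_closure (Or.inl hx)
  have v0 : d.v ∈ T0 := hT0 ▸ subset_closure (by simp)
  have w0 : d.w ∈ T0 := hT0 ▸ subset_closure (by simp)
  have α0 : α ∈ T0 := hT0 ▸ subset_closure (by simp)
  have γ0 : γ ∈ T0 := hT0 ▸ subset_closure (by simp)
  rw [← hT0] at c0 cm sq
  have E0 : ∀ e : V4, e.t = false → d.φ4 e ∈ T0 := fun e he => by
    rw [Dat.φ4, W4, he, bp_false, one_mul]
    exact T0.mul_mem (T0.mul_mem (bp_mem v0 _) (bp_mem (H0 aH) _)) (bp_mem (H0 bH) _)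
  have nt : ∀ x ∈ T0, d.t * x * d.t⁻¹ ∈ T0 := by
    have k1 : ∀ {x f}, x ∈ T0 → Act d.φ4 x f → f * f = 1 → (f.app (.of 1)).t = true →
        d.t * x * d.t⁻¹ ∈ T0 := fun hx h1 h2 h3 => by
      rw [ti, ← d.ψt, mv h1 h2, mul_assoc, mm md]
      exact T0.mul_mem hx (E0 _ (by change xor _ _ = _; rw [h3]; rfl))
    refine le0 (T0.comap (MulAut.conj d.t).toMonoidHom) (Hle _ (k1 (H0 kH) s.kn.ka (by decide) rfl)
      (k1 (H0 nH) s.tn.na (by decide) rfl) ?_ ?_) ?_ (k1 w0 r.act_w (by decide) rfl)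
      (k1 α0 s.tn.αa (by decide) rfl) ?_
    · exact ((cj_of_comm r.c4.ta).symm ▸ H0 aH : d.t * d.a * d.t⁻¹ ∈ T0)
    · exact ((cj_of_comm r.c4.tb).symm ▸ H0 bH : d.t * d.b * d.t⁻¹ ∈ T0)
    · exact ((cj_of_comm r.c4.tv).symm ▸ v0 : d.t * d.v * d.t⁻¹ ∈ T0)
    · change d.t * γ * d.t⁻¹ ∈ T0
      rw [show d.t * γ * d.t⁻¹ = d.t * (γ * d.t * γ⁻¹)⁻¹ * γ by group, b.t, mul_inv_rev, ← mul_assoc,
        cj_of_comm r.tw.inv_right]
      exact T0.mul_mem (T0.inv_mem w0) γ0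
  have NC : ∀ y ∈ T0, ¬ IsConj d.t y := fun y hy hc => by
    have k1 : ∀ g ∈ T0, g ∉ H → g * g = 1 → ¬ Commute g y := fun g hg h1 h2 h3 => by
      have := h.rank4 hc (B := ext2 H g (fun x hx => by rwa [cj_of_comm (c0 g hg x hx)]) (h2 ▸ H.one_mem))
        (fun x hx => hx.elim (H2 x) fun hx => by
          rw [← inv_mul_cancel_right x g, (c0 g hg _ hx).mul_mul_mul_comm, H2 _ hx, h2, one_mul])
        fun x hx => hx.elim (fun hx => (c0 y hy x hx).symm) fun hx => by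
          rw [← inv_mul_cancel_right x g]; exact (c0 y hy _ hx).symm.mul_left h3
      rw [card_ext2 h1, cH] at this
      omega
    by_cases e : y ∈ H
    · refine k1 _ v0 (fun a => ?_) r.c4.vv (c0 _ v0 y e)
      have := c0 _ w0 _ a
      rw [← d.φv, ← d.φw, r.mod5.comm] at this
      exact absurd this (by decide)
    · exact k1 y hy e (sq_of_isConj t2 hc) (Commute.refl y)
  have t0 : d.t ∉ T0 := fun e => NC _ e (IsConj.refl _)
  obtain ⟨T, hT, cT⟩ : ∃ T : Subgroup G, (∀ x, x ∈ T ↔ x ∈ T0 ∨ x * d.t ∈ T0) ∧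
      Nat.card T = 2 * Nat.card T0 :=
    ⟨ext2 T0 d.t nt (t2 ▸ T0.one_mem), fun x => by rw [mem_ext2, ti], card_ext2 t0⟩
  have lT : T0 ≤ T := fun x hx => (hT x).2 (Or.inl hx)
  have tT : d.t ∈ T := (hT _).2 (Or.inr (t2 ▸ T0.one_mem))
  have sT := s0_of tT (lT v0) (lT (H0 aH)) (lT (H0 bH)) (lT w0)
  have kP := s.lo.le s.kM
  have nP := s.lo.le s.nM
  have αP := s.lo.le s.αM
  have sP := s.lo.s0
  have Pl := fun K => P_le h s.lo kP nP αP s.kn.ka s.tn.na s.tn.αa (K := K)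
  have PT : P ≤ T := Pl T sT (lT (H0 kH)) (lT (H0 nH)) (lT α0)
  have HP : H ≤ P := Hle P kP nP (d.φa ▸ sP _) (d.φb ▸ sP _)
  have c256 : Nat.card T0 = 256 := by
    have tP : d.t ∈ P := d.φt ▸ sP _
    have vP : d.v ∈ P := d.φv ▸ sP _
    have wP := s.lo.w_mem
    have k0 : ∀ {x}, x ∈ P → Commute γ x → x ∈ P.comap (MulAut.conj γ).toMonoidHom := fun {x} hx e =>
      ((cj_of_comm e).symm ▸ hx : γ * x * γ⁻¹ ∈ P)
    have n1 : ∀ x ∈ P, γ * x * γ⁻¹ ∈ P := Pl (P.comap (MulAut.conj γ).toMonoidHom)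
      (s0_of (b.t ▸ P.mul_mem tP wP :) (b.v ▸ P.mul_mem (HP mH') vP :) (k0 (HP aH) b.a) (k0 (HP bH) b.b)
        (k0 wP b.w)) (k0 kP b.k) (k0 nP b.n)
      ((P.mul_mem_cancel_right (P.inv_mem αP)).1 (HP (cm _ γ0 _ α0)))
    have n2 : γ ∉ P := fun e => by
      have : Into d.φ4 d.φ4 γ := by
        obtain ⟨f, -, u | u⟩ := s.lo.act γ e
        exacts [u.into, u.into]
      obtain ⟨f, hf⟩ := this (.of 1)
      rw [d.ψt, b.t, ← d.φt, ← d.φw, ← r.mod5.mul, ← d.φ5_e] at hf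
      exact Bool.noConfusion (congrArg M5.w (r.mod5.inj hf))
    have e : T = ext2 P γ n1 (b.sq ▸ P.one_mem) := by
      have l1 : P ≤ ext2 P γ n1 (b.sq ▸ P.one_mem) := fun x hx => Or.inl hx
      have l2 := le0 _ (HP.trans l1) (l1 vP) (l1 wP) (l1 αP) self_mem_ext2
      refine le_antisymm (fun x hx => ((hT x).1 hx).elim (@l2 x) fun a =>
        (mul_mem_cancel_right (l1 tP)).1 (l2 a)) fun x hx => hx.elim (@PT x) fun a =>
          (T.mul_mem_cancel_right (T.inv_mem (lT γ0))).1 (PT a)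
    rw [e, card_ext2 n2, s.lo.card_P h (gd8 false)] at cT
    change 2 * (32 * 8) = _ at cT
    omega
  have oT : Ov d T := ⟨isPGroup_of_card (k := 9) (by rw [cT, c256]; rfl), sT⟩
  have INV : ∀ y ∈ T, y ∉ T0 → y * y = 1 → ∃ u ∈ T, y = u * d.t * u⁻¹ := fun y hy h0 h2 => by
    have j1 : ∀ e : V4, e.t = true → ∃ u ∈ T, d.φ4 e = u * d.t * u⁻¹ := fun e he => by
      obtain ⟨f, hf, k1⟩ := (by decide +kernel : ∀ e : V4, e.t = true → ∃ f ∈ A8T, f.t = e) e he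
      obtain ⟨x, hx, ax⟩ := s.lo.cov f hf
      exact ⟨x, PT (s.lo.le hx), by rw [Kt.act_t ax, k1]⟩
    have j2 : ∀ g ∈ T, ∀ x, (∃ u ∈ T, x = u * d.t * u⁻¹) → ∃ u ∈ T, g * x * g⁻¹ = u * d.t * u⁻¹ := by
      rintro g hg _ ⟨u, hu, rfl⟩
      exact ⟨g * u, T.mul_mem hg hu, by group⟩
    have j3 : ∀ e : V4, e.t = true → e.v = false → ∃ u ∈ T, d.φ4 e * d.w = u * d.t * u⁻¹ :=
      fun e h1 h2 => by
      have := j2 γ (lT γ0) _ (j1 e h1)
      rw [φt, h1, h2, ← φab, bp_true, ← cj_mul_cj, b.t, cj_of_comm ((comm_bp b.a _).mul_right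
        (comm_bp b.b _))] at this
      rwa [φt, h1, h2, ← φab, bp_true, mul_assoc, ((comm_bp r.aw.symm _).mul_right
        (comm_bp r.bw.symm _)).symm.eq, ← mul_assoc]
    have x0 := ((hT y).1 hy).resolve_left h0
    have q1 : y * d.t * y⁻¹ = y * d.t * (y * d.t) * d.t := by
      rw [inv_eq_of_mul_eq_one_left h2, mul_assoc _ _ d.t, mul_assoc y d.t d.t, t2, mul_one]
    obtain ⟨e, he⟩ := (hH _).1 (sq _ x0)
    obtain ⟨q2, q3⟩ := (by decide : ∀ i j, (bp kb i * bp nb j).app (.of 1) = .of 1 → i = false ∧ j = false)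
      _ _ (r.act_fix (act_H s r e) (by
        rw [d.ψt, he]
        refine (comm_of_cj ?_).symm
        rw [← cj_mul_cj, show d.t * (y * d.t) * d.t⁻¹ = (y * d.t)⁻¹ by
          rw [mul_inv_rev, inv_eq_of_mul_eq_one_left h2, ← mul_assoc, mul_inv_cancel_right, ti], ← mul_inv_rev,
          inv_eq_of_mul_eq_one_left (H2 _ (sq _ x0))]))
    obtain ⟨i, j, m0, rfl⟩ : ∃ i j m0, y = bp k i * bp n j * d.φ5 m0 := ⟨_, _,
      h.cover1 c oT hy (T.mul_mem (bp_mem (PT kP) (xor e.a e.b)) (bp_mem (PT nP) e.a)) (by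
        rw [q1, ht s r, ← he, W4, q2, q3, bp_false, bp_false, one_mul, one_mul, φab, ← d.ψt, mm md]
        cases e.a <;> cases e.b <;> rfl)⟩
    have mt : m0.e.t = true := by
      by_contra e
      exact h0 (T0.mul_mem (T0.mul_mem (bp_mem (H0 kH) _) (bp_mem (H0 nH) _))
        (T0.mul_mem (E0 _ (by simpa using e)) (bp_mem w0 _)))
    have u2 := H2 _ (H.mul_mem (bp_mem kH i) (bp_mem nH j))
    obtain ⟨rfl, rfl⟩ := (by decide +kernel : ∀ i j (m : M5), m.e.t = true →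
      ⟨(bp kb i * bp nb j).app m.e, m.w⟩ * m = 1 → false = i ∧ (m.e.v && m.w) = j) i j m0 mt (r.mod5.inj (by
        rw [r.mod5.mul, r.mod5.one, ← h2, Dat.φ5, ← (act_bp s.kn.ka i).mul (act_bp s.tn.na j),
          ← cj_of_comm (comm_bp ((comm_bp (kw s).symm i).mul_right (comm_bp s.tn.cnw.symm j)).symm m0.w),
          cj_mul_cj, inv_eq_of_mul_eq_one_left u2, mul_assoc]
        rfl))
    obtain ⟨e, _ | _⟩ := m0
    · simpa [d.φ5_e] using j1 e mt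
    cases he : e.v
    · simpa [Dat.φ5] using j3 e mt he
    · have k1 : ∀ e : V4, e.t = true → e.v = true → (al.app (nb.app e)).t = true ∧
        (al.app (nb.app e)).v = false ∧ nb.app (al.app (al.app (nb.app e))) = e := by decide +kernel
      obtain ⟨k2, k3, k4⟩ := k1 e mt he
      have := j2 α (lT α0) _ (j3 _ k2 k3)
      rw [← cj_mul_cj, s.tn.αa, αw, mv' s.tn.na (by decide), k4] at this
      simpa [Dat.φ5] using this
  have syl : SylIn 2 T ⊤ := h.syl1 c oT fun g hg => INV _ (hg _ tT)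
    (fun e => NC _ e (isConj_iff.2 ⟨g, rfl⟩)) (sq_of_isConj t2 (isConj_iff.2 ⟨g, rfl⟩))
  have h0 := fun x hx => (hT x).1 hx
  have tX : d.t ∉ X := h.t_not c hX syl lT h0 fun g _ e => NC _ e (isConj_iff.2 ⟨g, rfl⟩)
  have bX : d.b ∈ X := by
    have := hX.comm k d.t
    rwa [Kt.act_t s.kn.ka, ti, ← d.ψt, mm md, show kb.t * .of 1 = .of 8 from rfl, d.ψb] at this
  have kX : k ∈ X := by
    refine (hX.ix k).resolve_right fun e => ?_
    let ψ : T →* ℤˣ := MonoidHom.mk' (fun x => if (x : G) ∈ T0 then 1 else -1) fun x y => by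
      by_cases hx : (x : G) ∈ T0 <;> by_cases hy : (y : G) ∈ T0
      · simp [hx, hy, mul_mem]
      · simp [hx, hy, T0.mul_mem_cancel_left hx]
      · simp [hx, hy, T0.mul_mem_cancel_right hy]
      · have := mul_mem ((h0 _ x.2).resolve_left hx)
          (inv_mem ((h0 _ (inv_mem y.2)).resolve_left (by simpa using hy)))
        rw [show (x : G) * d.t * ((y : G)⁻¹ * d.t)⁻¹ = x * y by group] at this
        simp [hx, hy, this]
    obtain ⟨V, hV⟩ := tr_ext syl ψ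
    have V1 := hV d.t trivial t2 ⊥ IsPGroup.of_bot bot_le (by simp) (-1) fun g _ hg _ =>
      if_neg fun e => NC _ e (isConj_iff.2 ⟨g, rfl⟩)
    have V2 := hV k trivial s.kn.kk ⊥ IsPGroup.of_bot bot_le (by simp) 1 fun g _ hg _ =>
      if_pos (by
        by_contra e
        obtain ⟨u, -, hu⟩ := INV _ hg e (by rw [cj_mul_cj, s.kn.kk]; simp)
        exact NC k (H0 kH) ((isConj_cj g).1 (hu ▸ isConj_iff.2 ⟨u, rfl⟩)))
    have V3 := hX.hom V e
    rw [show (⟨k * d.t, trivial⟩ : (⊤ : Subgroup G)) = ⟨k, trivial⟩ * ⟨d.t, trivial⟩ from rfl, map_mul,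
      V1, V2] at V3
    exact absurd V3 (by decide)
  refine ⟨tX, T0, syl_X syl (le0 X (Hle X kX nX ((X.mul_mem_cancel_right bX).1
    (wv ▸ hX.comm d.w d.v)) bX) hX.v hX.w αX βX) lT tX h0, c256, ⟨_, v0, _, w0, fun e => ?_⟩,
    fun x hx y hy u hu => (c0 u hu _ (cm x hx y hy)).symm⟩
  rw [← d.φv, ← d.φw, r.mod5.comm] at e
  exact absurd e (by decide)

theorem kTT (h : Hy d) (c : C1 d) (hX : Gl d X) (k : K8 d false false) : d.t ∉ X ∧ Cl2 256 X := by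
  obtain ⟨P, M, P', M', ρ, n, α, k, ρ', m, β, k', _ | _, s⟩ := k.sp h
  · exact s.zero h c hX
  · exact ((s.mu' h).elim fun _ e => h.no_EF c e.1 e.2).elim

end CL.HS8
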