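import Cfsg.Agent.INV.HS8.W4e

/-!
Configuration K4 does not occur in case I.
-/

set_option autoImplicit false
set_option linter.unusedSectionVars false

open Subgroup CL.TwoS CL.MSS CL.K

namespace CL.HS8

variable {G : Type*} [Group G] [Finite G] {d : Dat G} {X : Subgroup G}

open Kt Ltb W4d W4e

/-- `T2 = ⟨z, n, a, v, w, α, β, t⟩` has model `PW0` / `PW1`; `J = lev 7 = ⟨a⟩ × W2`, `W2 = ⟨z, n, v, w, α, β⟩ ≤ X` (`Gl.comm`).
Every involution of `J` lies in an elementary abelian subgroup of order 32 (`B_E`, `B_F`, and for `e = 0` `⟨a, z, n, α, β⟩` and its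
`t`-conjugate), so is not conjugate to `t` (`rank4`); the involutions of `T2 - J` form the classes of `t` and `t a`.
No swap: `T2` is Sylow (`syl1`); `tr_ext` with `ψ : T2 → T2 / W2 ≅ 2 × 2` (`lift`): `V t = ψ t` (`R = S0`), `V a = ψ a` (`R = T2`: `g`
normalises `T2`, `g a g⁻¹ ∈ Z(T2) = ⟨a, z⟩`, and `z` is a commutator in `T2`, `a` is not); but `a ∈ X` or `a t ∈ X`. -/
theorem W4.ns (h : Hy d) (c : C1 d) (hX : Gl d X) {P M P' M' T1 Q : Subgroup G} {ρ n α ρ' β : G} {e : Bool}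
    (k : W4 d P M P' M' T1 Q ρ n α ρ' β e) (hn : ¬ IsConj d.t (d.t * d.a)) : False := by
  have r := h.toRl
  have m := W4e.mk h k
  have hT := ov r m
  obtain ⟨χ, hχ, χe⟩ := exists_χ r m
  have tT : d.t ∈ m.sub := gm m 7
  have aT : d.a ∈ m.sub := gm m 2
  have cl' : ∀ u ∈ m.sub, IsConj d.t u → ∃ s ∈ m.sub, u = s * d.t * s⁻¹ := fun u hu e => by
    obtain ⟨s, hs, e1 | e1⟩ := cl h c m hu e
    exacts [⟨s, hs, e1⟩, absurd ((isConj_cj s).1 (e1 ▸ e)) hn]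
  have hS : SylIn 2 m.sub ⊤ := h.syl1 c hT fun g hg => cl' _ (hg _ tT) (isConj_iff.2 ⟨g, rfl⟩)
  obtain ⟨V, hV⟩ := tr_ext hS (MonoidHom.mk' (fun x : m.sub => χ x) fun x y => hχ.mul _ x.2 _ y.2)
  have Vt : V ⟨d.t, trivial⟩ = .of 1 := hV _ _ r.c4.tt ⊥ IsPGroup.of_bot bot_le
    (fun x hx => mem_bot.1 hx ▸ Commute.one_left _) _ fun g _ hg _ => by
      obtain ⟨s, hs, e1⟩ := cl' _ hg (isConj_iff.2 ⟨g, rfl⟩)
      change χ (g * d.t * g⁻¹) = _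
      rw [e1, hχ.cj hs tT, ← evt (e := e), χe _ (by decide)]; rfl
  have Va : V ⟨d.a, trivial⟩ = .of 4 := hV _ _ r.c4.aa _ hT.pg le_top (fun x hx => (cenZ m r hx).1) _
    fun g _ hg e1 => by
      obtain ⟨x, hx, y, hy, e2⟩ := za m r (JT m) le_rfl e1
      have hx := JT m hx
      have hy := JT m hy
      have q := mul_mem (mul_mem hx hy) (inv_mem hx)
      change χ (g * d.a * g⁻¹) = _
      rw [e2, hχ.mul _ aT _ (mul_mem q (inv_mem hy)), hχ.mul _ q _ (inv_mem hy), hχ.cj hx hy, hχ.inv hy,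
        V4.mul_self, mul_one, ← eva (e := e), χe _ (by decide)]; rfl
  rcases hX.ix d.a with a | a
  · exact absurd (Va.symm.trans (hX.hom V a)) (by decide)
  · have := hX.hom V a
    rw [show (⟨d.a * d.t, trivial⟩ : (⊤ : Subgroup G)) = ⟨d.a, trivial⟩ * ⟨d.t, trivial⟩ from rfl, map_mul, Va,
      Vt] at this
    exact absurd this (by decide)

namespace W4c

variable {n α β g : G} {e : Bool} {Q : Subgroup G} {χ : G → V4} (m : PC.Md (PW e) (gW d n α β))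
  (hχ : Ch m.sub χ) (χe : ∀ c < 256, χ ((PW e).ev (gW d n α β) c) = ⟨c.testBit 7, false, c.testBit 2, false⟩)
include χe

theorem memJ' {x : G} : x ∈ J7 m ↔ x ∈ m.sub ∧ (χ x).t = false := by
  have k : ∀ c < 256, (c < 128 ↔ c.testBit 7 = false) := by decide +kernel
  refine ⟨fun hx => ⟨JT m hx, ?_⟩, ?_⟩
  · obtain ⟨c, hc, rfl⟩ := (memJ m).1 hx
    rw [χe c (by omega)]; exact (k c (by omega)).1 hc
  · rintro ⟨⟨c, hc, rfl⟩, h2⟩
    rw [χe c hc] at h2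
    exact eJ m c ((k c hc).2 h2)

include hχ

/-- `T0 = J ⟨g⟩`. -/
theorem exT0 (le : m.sub ≤ Q) (k : Sg m.sub Q χ g) : ∃ T0 : Subgroup G, J7 m ≤ T0 ∧ T0 ≤ Q ∧
    (∀ x ∈ Q, x ∈ T0 ∨ x * d.t ∈ T0) ∧ (∀ x ∈ T0, x * x = 1 → x ∈ J7 m) ∧
    (∀ H, J7 m ≤ H → g ∈ H → T0 ≤ H) ∧ d.a ∉ ⁅T0, T0⁆ := by
  have mJ := fun {x} => memJ' m χe (x := x)
  have τ : ∀ x : V4, ((L4.of 5 2 4 8).app x).t = x.t ∧ ((L4.of 5 2 4 8).app x = x ↔ x.t = false) := by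
    decide +kernel
  have gJ : ∀ x ∈ J7 m, g * x * g⁻¹ ∈ J7 m ∧ χ (g * x * g⁻¹) = χ x := fun x hx => by
    obtain ⟨h1, h2⟩ := mJ.1 hx
    obtain ⟨h3, h4⟩ := k.nm x h1
    exact ⟨mJ.2 ⟨h3, by rw [h4, (τ _).1, h2]⟩, h4.trans ((τ _).2.2 h2)⟩
  have g2 : g * g ∈ J7 m := mJ.2 ⟨k.sq, (τ _).2.1 (by
    rw [← (k.nm _ k.sq).2]; congr 1; group)⟩
  have tT : d.t ∈ m.sub := gm m 7
  have χt : (χ d.t).t = true := by rw [← evt (e := e), χe _ (by decide)]; rfl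
  have or : ∀ x ∈ m.sub, ∀ y ∈ m.sub, (χ y).t = true → x ∈ J7 m ∨ x * y ∈ J7 m := fun x hx y hy e1 => by
    rw [mJ, mJ, hχ.mul _ hx _ hy]
    change _ ∨ _ ∧ xor _ _ = false
    rw [e1]
    cases (χ x).t
    exacts [.inl ⟨hx, rfl⟩, .inr ⟨mul_mem hx hy, rfl⟩]
  have TH : ∀ H, J7 m ≤ H → g ∈ H → ext2 (J7 m) g (fun x hx => (gJ x hx).1) g2 ≤ H := fun H h1 h2 x hx =>
    hx.elim (fun a => h1 a) fun a => (mul_mem_cancel_right (inv_mem h2)).1 (h1 a)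
  refine ⟨ext2 (J7 m) g (fun x hx => (gJ x hx).1) g2, fun x hx => .inl hx, TH _ ((JT m).trans le) k.gQ,
    fun x hx => ?_, fun x hx e1 => hx.resolve_right fun a => k.ni _ (JT m a) (by simpa using e1), TH, fun ha => ?_⟩
  · rcases k.cov x hx with a | a
    · exact (or x a _ tT χt).imp .inl .inl
    · refine (or _ a _ (k.nm _ tT).1 (by rw [(k.nm _ tT).2, (τ _).1, χt])).imp .inr fun b => .inr ?_
      rwa [show x * g⁻¹ * (g * d.t * g⁻¹) = x * d.t * g⁻¹ by group] at b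
  · let W : Subgroup G := subOfMul {x | x ∈ m.sub ∧ χ x = 1} ⟨one_mem _, hχ.one⟩ fun x hx y hy =>
      ⟨mul_mem hx.1 hy.1, by rw [hχ.mul _ hx.1 _ hy.1, hx.2, hy.2, mul_one]⟩
    have c1 : ∀ y ∈ ext2 (J7 m) g (fun x hx => (gJ x hx).1) g2, ∀ x ∈ J7 m, x * (y * x⁻¹ * y⁻¹) ∈ W := by
      intro y hy x hx
      have hx' := inv_mem hx
      have : y * x⁻¹ * y⁻¹ ∈ m.sub ∧ χ (y * x⁻¹ * y⁻¹) = χ x⁻¹ := by
        rcases hy with a | a
        · exact ⟨JT m (mul_mem (mul_mem a hx') (inv_mem a)), hχ.cj (JT m a) (JT m hx')⟩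
        · obtain ⟨b1, b2⟩ := gJ _ hx'
          rw [show y * x⁻¹ * y⁻¹ = y * g⁻¹ * (g * x⁻¹ * g⁻¹) * (y * g⁻¹)⁻¹ by group, hχ.cj (JT m a) (JT m b1)]
          exact ⟨JT m (mul_mem (mul_mem a b1) (inv_mem a)), b2⟩
      exact ⟨mul_mem (JT m hx) this.1, by rw [hχ.mul _ (JT m hx) _ this.1, this.2, hχ.inv (JT m hx), V4.mul_self]⟩
    have := (commutator_le.2 (fun x hx y hy => by
      rw [commutatorElement_def]
      rcases hx with a | a
      · simpa only [mul_assoc] using c1 y hy x a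
      rcases id hy with b | b
      · simpa only [mul_assoc, mul_inv_rev, inv_inv] using inv_mem (c1 x (.inr a) y b)
      · have := c1 y hy _ (mul_mem a (inv_mem b))
        rwa [show x * g⁻¹ * (y * g⁻¹)⁻¹ * (y * (x * g⁻¹ * (y * g⁻¹)⁻¹)⁻¹ * y⁻¹) = x * y * x⁻¹ * y⁻¹ by group]
          at this) : _ ≤ W) ha
    exact absurd (this.2.symm.trans (by rw [← eva (e := e), χe _ (by decide)])) (by decide)

end W4c

open W4c

/-- `Q = T2 ∪ T2 g` (`cover1`). No involution `u ∈ Q - T2`: `u t u = t a x`, `x ∈ ⟨v, w, n, z⟩`, and `u² = 1` gives `u x u = x⁻¹ z`, so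
`x ∈ v w n ⟨z⟩` (`u` swaps `B_E`, `B_F`), `u v u = w n z^i`, `u w u = v n z^j`, `u n u = n z^k`, `i + j + k` odd, and then `u² v u⁻² = v z`.
So `Q` is Sylow in `G` (`syl1`), `t ∉ X` (`t_not`, `T0 = J ⟨g⟩`), `a = t⁻¹ (g t g⁻¹) ∈ X`, `T0 = Q ∩ X = J ⟨g'⟩` with `g' ∈ {g, g t}` is Sylow
in `X`, all its involutions lie in `J`, `T0 / W2` is abelian of order 4. `tr_ext` in `H = X` at `a` with `R = J`: `x J x⁻¹ ≤ T0` gives
`x J x⁻¹ = J` (generated by involutions), so `x a x⁻¹ ∈ Z(J) - J' ⊆ a W2`. Contradiction with `hom_perfect`. -/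
theorem W4.sw (h : Hy d) (c : C1 d) (hX : Gl d X) {P M P' M' T1 Q : Subgroup G} {ρ n α ρ' β : G} {e : Bool}
    (k : W4 d P M P' M' T1 Q ρ n α ρ' β e) (hn : IsConj d.t (d.t * d.a)) : False := by
  have r := h.toRl
  have m := W4e.mk h k
  obtain ⟨χ, hχ, χe⟩ := exists_χ r m
  obtain ⟨g, gQ, gt⟩ := exG h c k hn
  have k1 := sg h c k hχ χe gQ gt
  have TQ : m.sub ≤ Q := T2Q h k
  have tT : d.t ∈ m.sub := gm m 7
  have inT : ∀ γ, γ * d.t * γ⁻¹ ∈ Q → ∃ s ∈ m.sub, γ * d.t * γ⁻¹ = s * d.t * s⁻¹ ∨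
      γ * d.t * γ⁻¹ = s * (d.t * d.a) * s⁻¹ := fun γ hγ =>
    cl h c m ((k1.cov _ hγ).resolve_right fun a => k1.ni _ a (by
      simpa using sq_of_isConj r.c4.tt (isConj_iff.2 ⟨γ, rfl⟩))) (isConj_iff.2 ⟨γ, rfl⟩)
  have hS : SylIn 2 Q ⊤ := h.syl1 c (ovQ h k) fun γ hγ => by
    obtain ⟨s, hs, e1 | e1⟩ := inT γ (hγ _ (TQ tT))
    exacts [⟨s, TQ hs, e1⟩, ⟨s * g, mul_mem (TQ hs) gQ, by rw [e1, ← gt]; group⟩]
  have tX : d.t ∉ X := by
    obtain ⟨T0, -, h2, h3, h4, -⟩ := exT0 m hχ χe TQ k1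
    refine h.t_not c hX hS h2 h3 fun γ _ a => ?_
    have b := ((memJ' m χe).1 (h4 _ a (sq_of_isConj r.c4.tt (isConj_iff.2 ⟨γ, rfl⟩)))).2
    obtain ⟨s, hs, e1 | e1⟩ := inT γ (h2 a) <;> rw [e1] at b
    · rw [hχ.cj hs tT, ← evt (e := e), χe _ (by decide)] at b; exact absurd b (by decide)
    · rw [hχ.cj hs (x := d.t * d.a) (mul_mem tT (gm m 2)), ← evta r (e := e), χe _ (by decide)] at b; exact absurd b (by decide)
  have nX := hX.nm
  have aX : d.a ∈ X := by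
    have := hX.comm g d.t
    rwa [gt, cj_of_comm r.c4.ta] at this
  have zX : d.a * d.b ∈ X := by
    have := mul_mem (inv_mem hX.v) (nX.conj_mem _ hX.v d.w)
    rwa [r.wv, mul_assoc d.v, inv_mul_cancel_left] at this
  have n1 : n ∈ X := by
    have := hX.comm α d.w
    rwa [k.tn.αw r, bp_false, r.mod4.one, one_mul, mul_inv_cancel_right] at this
  have JX : J7 m ≤ X := J_le m fun j hj => by
    interval_cases j
    exacts [zX, n1, aX, hX.v, hX.w, show α ∈ X from k.tn.ρn ▸ nX.conj_mem _ n1 ρ,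
      show β ∈ X from k.tn'.ρn ▸ nX.conj_mem _ (mul_mem n1 zX) ρ']
  obtain ⟨g', k2, gX⟩ : ∃ g', Sg m.sub Q χ g' ∧ g' ∈ X := (hX.ix g).elim (fun a => ⟨g, k1, a⟩) fun a =>
    ⟨_, k1.mul hχ TQ (k1.nm _ tT).1, by rwa [inv_mul_cancel_right]⟩
  obtain ⟨T0, h1, h2, h3, h4, h5, h6⟩ := exT0 m hχ χe TQ k2
  obtain ⟨V, hV⟩ := tr_ext (syl_X hS (h5 X JX gX) h2 tX h3) (Abelianization.of (G := T0))
  have aJ : d.a ∈ J7 m := eva (e := e) (n := n) (α := α) (β := β) ▸ eJ m 4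
  have Va := hV d.a aX r.c4.aa (J7 m) ((ov r m).pg.to_le (JT m)) JX (fun x hx => (cenZ m r (JT m hx)).1)
    (Abelianization.of ⟨d.a, h1 aJ⟩) fun γ _ hγ e1 => by
      obtain ⟨x, hx, y, hy, e2⟩ := za m r le_rfl (JT m) (g := γ) fun u hu =>
        J_le m (H := (J7 m).comap (MulAut.conj γ).toMonoidHom) (fun j hj => by
          have b : gW d n α β j ∈ J7 m := gen e (gW d n α β) j (by omega) ▸
            eJ m _ (Nat.pow_lt_pow_right one_lt_two hj)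
          refine h4 (γ * _ * γ⁻¹) (e1 _ b) ?_
          rw [← cjm, (m.rel j (show j < 8 by omega)).1, (by decide +kernel : ∀ e, ∀ j < 7, (PW e).sq j = 0) e j hj,
            PC.ev_zero, mul_one, mul_inv_cancel]) hu
      rw [show (⟨γ * d.a * γ⁻¹, hγ⟩ : T0) = ⟨d.a, h1 aJ⟩ * (⟨x, h1 hx⟩ * ⟨y, h1 hy⟩ * (⟨x, h1 hx⟩)⁻¹ * (⟨y, h1 hy⟩)⁻¹)
        from Subtype.ext e2]
      simp only [map_mul, map_inv, mul_inv_cancel_comm, mul_inv_cancel, mul_one]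
  rw [hom_perfect V hX.pf le_rfl aX, eq_comm] at Va
  have := mem_map_of_mem T0.subtype ((QuotientGroup.eq_one_iff _).1 Va)
  rw [_root_.commutator_def, map_commutator, ← MonoidHom.range_eq_map, range_subtype] at this
  exact h6 this

theorem k4 (h : Hy d) (c : C1 d) (hX : Gl d X) (k : K4 d) : False := by
  obtain ⟨P, M, P', M', ρ, n, α, ρ', m, β, _ | _, w⟩ := k.w0 h c
  · obtain ⟨P', M', T1, Q, ρ', β, e, w⟩ := w.w4 h c
    exact w.ns h c hX (w.sw h c hX)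
  · exact w.mu h c

end CL.HS8
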