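import Mathlib
import Cfsg.Agent.TECH.SylIn
import Cfsg.Agent.SOLV.CoprimeSylow

/-!
General tools: transfer, Sylow recognition, joining 2-subgroups.
-/

set_option autoImplicit false

open Subgroup CL.MSS

namespace CL.HS8

variable {G : Type*} [Group G] [Finite G]

/-- `g = g2 * g'` with `g2` a 2-element and `g'` of odd order, both powers of `g`. -/
theorem two_part (g : G) : ∃ i j k : ℕ, g = g ^ i * g ^ j ∧ (g ^ i) ^ 2 ^ k = 1 ∧
    Odd (orderOf (g ^ j)) := by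
  obtain ⟨k, m, hm, e⟩ := Nat.exists_eq_two_pow_mul_odd (orderOf_pos g).ne'
  have c : (2 ^ k).Coprime m := Nat.Coprime.pow_left _ ((Nat.coprime_two_left).2 hm)
  obtain ⟨j, j1, j2⟩ := Nat.chineseRemainder c 0 1
  obtain ⟨i, i1, i2⟩ := Nat.chineseRemainder c 1 0
  refine ⟨i, j, k, ?_, ?_, ?_⟩
  · rw [← pow_add, eq_comm]
    conv_rhs => rw [← pow_one g]
    rw [pow_eq_pow_iff_modEq, e, ← Nat.modEq_and_modEq_iff_modEq_mul c]
    exact ⟨by simpa using i1.add j1, by simpa using i2.add j2⟩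
  · rw [← pow_mul, ← orderOf_dvd_iff_pow_eq_one, e, mul_comm]
    exact Nat.mul_dvd_mul_right ((Nat.modEq_zero_iff_dvd).1 i2) _
  · refine hm.of_dvd_nat (orderOf_dvd_of_pow_eq_one ?_)
    rw [← pow_mul, ← orderOf_dvd_iff_pow_eq_one, e]
    exact Nat.mul_dvd_mul_right ((Nat.modEq_zero_iff_dvd).1 j1) _

namespace Tl

open MulAction

theorem dvd_orb {B Ω : Type*} [Group B] [MulAction B Ω] [Finite B] {n : ℕ} (s : Finset Ω)
    (hs : ∀ b : B, ∀ x ∈ s, b • x ∈ s) (h : ∀ x ∈ s, n ∣ (stabilizer B x).index) : n ∣ s.card := by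
  classical
  rw [Finset.card_eq_sum_card_image (Quotient.mk (orbitRel B Ω))]
  refine Finset.dvd_sum fun q hq => ?_
  obtain ⟨x, hx, rfl⟩ := Finset.mem_image.mp hq
  refine (h x hx).trans (Eq.dvd (Eq.symm ?_))
  rw [index_stabilizer, ← Set.ncard_coe_finset]
  congr 1
  ext y
  simp only [Finset.coe_filter, Set.mem_ofPred_eq, Quotient.eq, orbitRel_apply]
  exact ⟨And.right, fun ⟨b, e⟩ => ⟨e ▸ hs b x hx, b, e⟩⟩

theorem tr_top {A : Type*} [CommGroup A] {M B : Subgroup G} (φ : M →* A) (hB : IsPGroup 2 B) {x : G}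
    (xB : x ∈ B) (x2 : x * x = 1) (xc : ∀ b ∈ B, b * x = x * b) (hi : ¬ 2 ∣ M.index) {u : A}
    (u2 : u * u = 1) (h : ∀ g (hg : g⁻¹ * x * g ∈ M), (∀ b ∈ B, g⁻¹ * b * g ∈ M) → φ ⟨_, hg⟩ = u) :
    φ.transfer x = u := by
  classical
  have := Fact.mk Nat.prime_two
  have := Fintype.ofFinite (G ⧸ M)
  have := Fintype.ofFinite (Quotient (orbitRel (zpowers x) (G ⧸ M)))
  have fx : ∀ (s : G) (ω : G ⧸ M), s • ω = ω → ω.out⁻¹ * s * ω.out ∈ M := fun s ω e => by
    rw [mul_assoc, ← QuotientGroup.eq, QuotientGroup.out_eq', ← smul_eq_mul, Quotient.coe_smul_out, e]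
  let f : G ⧸ M → A := fun ω => if e : x • ω = ω then φ ⟨_, fx x ω e⟩ else 1
  have ev : φ.transfer x = ∏ ω, f ω := by
    rw [MonoidHom.transfer_eq_prod_quotient_orbitRel_zpowers_quot]
    refine Finset.prod_of_injOn Quotient.out (fun _ _ _ _ e => Quotient.out_injective e)
      (fun _ _ => Finset.mem_univ _) (fun ω _ h => dif_neg fun e => h ⟨Quotient.mk _ ω, by simp, ?_⟩)
      fun q _ => ?_
    · obtain ⟨⟨_, k, rfl⟩, h⟩ := Quotient.mk_out (s := orbitRel (zpowers x) (G ⧸ M)) ω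
      exact h.symm.trans ((stabilizer G ω).zpow_mem e k)
    · have : Function.IsPeriodicPt (x • ·) 2 q.out := by
        rw [Function.IsPeriodicPt, Function.IsFixedPt, smul_iterate, pow_two, x2]; exact one_smul _ _
      simp only [f]
      split_ifs with e
      · exact congrArg φ (Subtype.ext (by
          simp only [Function.minimalPeriod_eq_one_iff_isFixedPt.2 e, pow_one]))
      · rw [← map_one φ]
        exact congrArg φ (Subtype.ext (by simp [Function.minimalPeriod_eq_prime this e, pow_two, x2]))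
  have f2 : ∀ ω, f ω * f ω = 1 := fun ω => by
    simp only [f]
    split_ifs with e
    · rw [← map_mul, ← map_one φ]
      refine congrArg φ (Subtype.ext ?_)
      show ω.out⁻¹ * x * ω.out * (ω.out⁻¹ * x * ω.out) = 1
      rw [show ω.out⁻¹ * x * ω.out * (ω.out⁻¹ * x * ω.out) = ω.out⁻¹ * (x * x) * ω.out by group, x2]
      group
    · exact one_mul _
  have inv : ∀ (b : B) ω, f (b • ω) = f ω := fun b ω => by
    have c : x • (b : G) • ω = (b : G) • x • ω := by rw [← mul_smul, ← xc b b.2, mul_smul]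
    have k : x • b • ω = b • ω ↔ x • ω = ω := by
      show x • (b : G) • ω = (b : G) • ω ↔ _
      rw [c, smul_left_cancel_iff]
    simp only [f]
    by_cases e : x • ω = ω
    swap; · rw [dif_neg e, dif_neg (mt k.1 e)]
    rw [dif_pos e, dif_pos (k.2 e)]
    obtain ⟨m, hm⟩ := QuotientGroup.mk_out_eq_mul M ((b : G) * ω.out)
    have e1 : (b • ω : G ⧸ M) = ((b : G) * ω.out : G) := (Quotient.coe_smul_out M (b : G) ω).symm
    have e2 : (⟨_, fx x _ (k.2 e)⟩ : M) = m⁻¹ * ⟨_, fx x ω e⟩ * m := Subtype.ext (by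
      show (b • ω).out⁻¹ * x * (b • ω).out = (m : G)⁻¹ * (ω.out⁻¹ * x * ω.out) * m
      rw [e1, hm]
      calc _ = (m : G)⁻¹ * ω.out⁻¹ * ((b : G)⁻¹ * (x * b)) * ω.out * m := by group
        _ = _ := by rw [← xc b b.2]; group)
    rw [e2, map_mul, map_mul, map_inv, inv_mul_cancel_comm]
  have z : ∏ ω, (f ω * u) = 1 := by
    rw [Finset.prod_comp (fun c => c) fun ω => f ω * u]
    refine Finset.prod_eq_one fun c hc' => ?_
    by_cases hc : c = 1
    · simp [hc]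
    obtain ⟨ω, -, rfl⟩ := Finset.mem_image.1 hc'
    have : 2 ∣ (Finset.univ.filter fun a => f a * u = f ω * u).card := by
      refine dvd_orb (B := B) _ (fun b ω e => by simpa [inv] using e) fun ω e => ?_
      obtain ⟨k, hk⟩ := hB.index (stabilizer B ω)
      rcases k with _ | k
      · refine (hc ?_).elim
        have e1 : ∀ b ∈ B, b • ω = ω := fun b hb =>
          show (⟨b, hb⟩ : B) ∈ stabilizer B ω from index_eq_one.1 hk ▸ trivial
        rw [← (Finset.mem_filter.1 e).2]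
        simp only [f, dif_pos (e1 x xB), h _ _ fun b hb => fx b ω (e1 b hb), u2]
      · rw [hk]; exact dvd_pow_self _ k.succ_ne_zero
    obtain ⟨k, hk⟩ := this
    rw [hk, pow_mul, pow_two, mul_mul_mul_comm, f2, u2, one_mul, one_pow]
  rw [Finset.prod_mul_distrib, Finset.prod_const, Finset.card_univ, ← Nat.card_eq_fintype_card] at z
  obtain ⟨k, hk⟩ : Odd (Nat.card (G ⧸ M)) := Nat.not_even_iff_odd.1 (mt even_iff_two_dvd.1 hi)
  rw [hk, pow_succ, pow_mul, pow_two, u2, one_pow, one_mul, ← u2] at z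
  exact ev.trans (mul_right_cancel z)

end Tl

/-- Transfer. Work in `↥H` (or with cosets of `T.subgroupOf H`), `V = ψ'.transfer`. For `x * x = 1`
the cycles of length 2 of `x` on `H ⧸ T` contribute 1, so `V x` is the product of
`ψ (g⁻¹ x g)` over the fixed cosets `g T` (compare `CL.O8.tr_eval` in PERM/O8/Tr, or
`MonoidHom.transfer_eq_prod_quotient_orbitRel_zpowers_quot`). The 2-group `R ⊔ ⟨x⟩` permutes the fixed
cosets, the contribution `c` (with `c * c = 1`) is constant on its orbits, so orbits of even length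
contribute 1; the cosets fixed by `R ⊔ ⟨x⟩` contribute `u` and are odd in number. -/
theorem tr_ext {A : Type*} [CommGroup A] {H T : Subgroup G} (hT : SylIn 2 T H) (ψ : T →* A) :
    ∃ V : H →* A, ∀ (x : G) (hx : x ∈ H), x * x = 1 → ∀ R : Subgroup G, IsPGroup 2 R → R ≤ H →
      (∀ r ∈ R, Commute r x) → ∀ u : A, (∀ g ∈ H, ∀ hg : g * x * g⁻¹ ∈ T,
        (∀ r ∈ R, g * r * g⁻¹ ∈ T) → ψ ⟨_, hg⟩ = u) → V ⟨x, hx⟩ = u := by
  have := Fact.mk Nat.prime_two
  refine ⟨(ψ.comp (subgroupOfEquivOfLe hT.le).toMonoidHom).transfer, fun x hx x2 R hR RH c u hu => ?_⟩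
  have hz : IsPGroup 2 (zpowers x) := isPGroup_zpowers (k := 1) (by rw [pow_one, pow_two, x2])
  have cz : ∀ y ∈ zpowers x, Commute y x := fun y ⟨k, e⟩ => e ▸ (Commute.refl x).zpow_left k
  have hB : IsPGroup 2 (R ⊔ zpowers x : Subgroup G) := isPGroup_sup_of_normalizes hR hz
    (le_normalizer_of_cj_le fun r hr => by rw [cj_zpowers, (c r hr).eq, mul_inv_cancel_right])
  have BH : R ⊔ zpowers x ≤ H := sup_le RH (zpowers_le.2 hx)
  have cB : R ⊔ zpowers x ≤ centralizer {x} := sup_le (fun r hr => mem_centralizer_singleton_iff.2 (c r hr))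
    fun r hr => mem_centralizer_singleton_iff.2 (cz r hr)
  have xB : x ∈ R ⊔ zpowers x := mem_sup_right (mem_zpowers x)
  obtain ⟨g, hg, e⟩ := hT.exists_conj_le hB BH
  rw [cj_le_iff_forall] at e
  refine Tl.tr_top _ (B := (R ⊔ zpowers x).subgroupOf H) hB.comap_subtype (x := ⟨x, hx⟩) xB (Subtype.ext x2)
    (fun b hb => Subtype.ext (mem_centralizer_singleton_iff.1 (cB hb))) hT.not_dvd_relIndex ?_
    fun k hk h => hu _ (inv_mem k.2) (by simpa [mem_subgroupOf] using hk) (fun r hr => by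
      simpa [mem_subgroupOf] using h ⟨r, RH hr⟩ (mem_sup_left hr)) ▸ congrArg ψ (Subtype.ext (by simp))
  rw [← hu g hg (e x xB) fun r hr => e r (mem_sup_left hr), ← map_mul, ← map_one ψ]
  exact congrArg ψ (Subtype.ext (by simp [conj_mul, x2]))

/-- A homomorphism to an abelian group kills a perfect subgroup. -/
theorem hom_perfect {A : Type*} [CommGroup A] {H X : Subgroup G} (V : H →* A) (hX : ⁅X, X⁆ = X)
    (hle : X ≤ H) {x : G} (hx : x ∈ X) : V ⟨x, hle hx⟩ = 1 := by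
  have : X ≤ V.ker.map H.subtype := by
    rw [← hX, commutator_le]
    intro a ha b hb
    exact ⟨⟨a, hle ha⟩ * ⟨b, hle hb⟩ * (⟨a, hle ha⟩ : H)⁻¹ * (⟨b, hle hb⟩ : H)⁻¹, by
      rw [SetLike.mem_coe, MonoidHom.mem_ker, map_mul, map_mul, map_mul, map_inv, map_inv,
        mul_inv_cancel_comm, mul_inv_cancel], rfl⟩
  obtain ⟨y, hy, rfl⟩ := this hx
  exact hy

/-- If no 2-element of `N(T) ∩ H` lies outside `T` then `T` is Sylow in `H` (normalisers grow). -/
theorem syl_of {T H : Subgroup G} (hT : IsPGroup 2 T) (hle : T ≤ H)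
    (h : ∀ Q : Subgroup G, IsPGroup 2 Q → T ≤ Q → Q ≤ H → ∀ g ∈ Q,
      (∀ x ∈ T, g * x * g⁻¹ ∈ T) → g ∈ T) : SylIn 2 T H := by
  have := Fact.mk Nat.prime_two
  refine ⟨hle, hT, fun Q hQ h1 h2 => by_contra fun hn => ?_⟩
  obtain ⟨g, hg, e⟩ := SetLike.exists_of_lt (lt_inf_normalizer_of_lt hQ (lt_of_le_of_ne h1 (Ne.symm hn)))
  exact e (h Q hQ h1 h2 g hg.1 fun x hx => conj_mem_of_normalizes le_rfl hg.2 hx)

/-- `T ∩ X` is Sylow in a normal subgroup `X`; here it is identified with `T0`. -/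
theorem syl_X {T T0 X : Subgroup G} [X.Normal] (hT : SylIn 2 T ⊤) (h0 : T0 ≤ X) (hle : T0 ≤ T)
    {t : G} (ht : t ∉ X) (h : ∀ x ∈ T, x ∈ T0 ∨ x * t ∈ T0) : SylIn 2 T0 X := by
  have := Fact.mk Nat.prime_two
  have k := hT.inf_normal_of_le (N := X) (le_normalizer_of_normal) le_top
  rwa [show T ⊓ X = T0 from le_antisymm (fun x hx => (h x hx.1).resolve_right fun e =>
    ht ((X.mul_mem_cancel_left hx.2).1 (h0 e))) (le_inf hle h0)] at k

/-- `P × Q` lemma: `E` is Sylow in its centraliser, `E ≤ R`, `g` normalises `R` and centralises `E`.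
By `two_part`, `g ^ i ∈ E`, and `g ^ j` centralises `R ⊓ C(E) = E`, hence `R`
(`thompson_p_times_q E ⟨g ^ j⟩ R`). -/
theorem stab {E R : Subgroup G} (hE : SylIn 2 E (centralizer (E : Set G))) (hR : IsPGroup 2 R)
    (hle : E ≤ R) {g : G} (hg : ∀ x ∈ R, g * x * g⁻¹ ∈ R) (hc : ∀ e ∈ E, Commute g e) :
    ∃ e ∈ E, ∀ x ∈ R, g * x * g⁻¹ = e * x * e⁻¹ := by
  have := Fact.mk Nat.prime_two
  obtain ⟨i, j, k, e, h2, ho⟩ := two_part g
  have gC : g ∈ centralizer (E : Set G) := fun x hx => (hc x hx).eq.symm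
  have gN : g ∈ normalizer (R : Set G) := mem_normalizer_of_cj_le (cj_le_iff_forall.2 hg)
  have iC := zpowers_le.2 (pow_mem gC i)
  have hi : g ^ i ∈ E := hE.le_of_normalizes (isPGroup_zpowers h2) iC
    (iC.trans (centralizer_le_normalizer _)) (mem_zpowers _)
  have jC : E ≤ centralizer (zpowers (g ^ j) : Set G) :=
    le_centralizer_iff.1 (zpowers_le.2 (pow_mem gC j))
  have := thompson_p_times_q E (zpowers (g ^ j)) R hE.pgroup
    (by rw [Nat.card_zpowers]; exact (Nat.coprime_two_right).2 ho) hR jC (hle.trans le_normalizer)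
    (zpowers_le.2 (pow_mem gN j))
    ((hE.max _ hR.to_inf_left (le_inf hle hE.le) inf_le_right).le.trans jC)
  refine ⟨_, hi, fun x hx => ?_⟩
  have c := this hx _ (mem_zpowers _)
  calc _ = g ^ i * g ^ j * x * (g ^ i * g ^ j)⁻¹ := by rw [← e]
    _ = g ^ i * (g ^ j * x) * (g ^ j)⁻¹ * (g ^ i)⁻¹ := by group
    _ = _ := by rw [c]; group

/-- A Sylow subgroup covers a 2-element modulo a normal subgroup `C` up to conjugacy. -/
theorem cover_cj {N C P : Subgroup G} (hP : SylIn 2 P N) (hn : N ≤ normalizer (C : Set G)) {g : G}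
    (hg : g ∈ N) {k : ℕ} (hk : g ^ 2 ^ k ∈ C) : ∃ n ∈ N, ∃ p ∈ P, ∃ c ∈ C, n * g * n⁻¹ = p * c := by
  have := Fact.mk Nat.prime_two
  obtain ⟨i, j, l, e, h2, ho⟩ := two_part g
  have hj : g ^ j ∈ C := by
    have c : (orderOf (g ^ j)).Coprime (2 ^ k) := Nat.Coprime.pow_right _ ((Nat.coprime_two_right).2 ho)
    obtain ⟨m, hm⟩ := exists_pow_eq_self_of_coprime c.symm
    rw [← hm, pow_right_comm g j]
    exact pow_mem (pow_mem hk _) _
  obtain ⟨n, hn', h⟩ := hP.exists_conj_le (isPGroup_zpowers h2) (zpowers_le.2 (pow_mem hg i))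
  exact ⟨n, hn', _, cj_le_iff_forall.1 h _ (mem_zpowers _), _, conj_mem_of_normalizes hn hn' hj,
    by rw [conj_mul, ← e]⟩

/-- If `N / C` is a 2-group then `N = P C`. -/
theorem cover {N C P : Subgroup G} (hP : SylIn 2 P N) (hC : C ≤ N)
    (hn : N ≤ normalizer (C : Set G)) (h : ∀ g ∈ N, ∃ k : ℕ, g ^ 2 ^ k ∈ C) {g : G} (hg : g ∈ N) :
    ∃ p ∈ P, ∃ c ∈ C, g = p * c := by
  have := Fact.mk Nat.prime_two
  have : (C.subgroupOf N).Normal := ⟨fun c hc n => conj_mem_of_normalizes hn n.2 hc⟩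
  have h2 : IsPGroup 2 (N ⧸ C.subgroupOf N) := fun q => by
    obtain ⟨x, rfl⟩ := QuotientGroup.mk_surjective q
    obtain ⟨k, hk⟩ := h x x.2
    exact ⟨k, by rw [← QuotientGroup.mk_pow, QuotientGroup.eq_one_iff]; exact hk⟩
  obtain ⟨k, hk⟩ := h2.exists_card_eq
  have le : P ⊔ C ≤ N := sup_le hP.le hC
  have d1 : (P ⊔ C).relIndex N ∣ 2 ^ k := hk ▸ relIndex_dvd_of_le_left N le_sup_right
  have d2 := fun e => hP.not_dvd_relIndex (dvd_trans e (relIndex_dvd_of_le_left N (le_sup_left (b := C))))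
  obtain ⟨l, -, e⟩ := (Nat.dvd_prime_pow Nat.prime_two).1 d1
  obtain rfl : l = 0 := by_contra fun a => d2 (e ▸ dvd_pow_self _ a)
  obtain ⟨p, hp, c, hc, e⟩ := (mem_sup_of_normalizes_right (hP.le.trans hn)).1 (relIndex_eq_one.1 e hg)
  exact ⟨p, hp, c, hc, e.symm⟩

/-- If `N / (N ∩ C(R))` is a 2-group then two 2-subgroups of `N` generate a 2-group after conjugating
one of them by an element of `N ∩ C(R)`: `C = N ⊓ C(R)` is normal in `N`, a Sylow `P ≥ P1` of `N` has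
`N = P C`, and `g P2 g⁻¹ ≤ P` with `g = p c`. -/
theorem join {R N P1 P2 : Subgroup G} (hN : N ≤ normalizer (R : Set G))
    (h2 : ∀ g ∈ N, ∃ k : ℕ, ∀ x ∈ R, Commute (g ^ 2 ^ k) x) (h1 : IsPGroup 2 P1) (l1 : P1 ≤ N)
    (h3 : IsPGroup 2 P2) (l2 : P2 ≤ N) : ∃ c ∈ N, (∀ x ∈ R, Commute c x) ∧
      ∃ P : Subgroup G, SylIn 2 P N ∧ P1 ≤ P ∧ ∀ x ∈ P2, c * x * c⁻¹ ∈ P := by
  have := Fact.mk Nat.prime_two
  obtain ⟨P, hP, le⟩ := exists_sylIn_ge h1 l1
  obtain ⟨g, hg, e⟩ := hP.exists_conj_le h3 l2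
  obtain ⟨p, hp, c, hc, rfl⟩ := cover hP (C := N ⊓ centralizer (R : Set G)) inf_le_left
    (le_normalizer_inf le_normalizer (le_normalizer_centralizer hN))
    (fun g hg => let ⟨k, hk⟩ := h2 g hg; ⟨k, pow_mem hg _, fun x hx => (hk x hx).eq.symm⟩) hg
  refine ⟨c, hc.1, fun x hx => (hc.2 x hx).symm, P, hP, le, fun x hx => ?_⟩
  have := mul_mem (mul_mem (inv_mem hp) (cj_le_iff_forall.1 e x hx)) hp
  rwa [show p⁻¹ * (p * c * x * (p * c)⁻¹) * p = c * x * c⁻¹ by group] at this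

/-- Frattini argument: `M` is Sylow in `K` and `g` normalises `K`. -/
theorem frattini {M K : Subgroup G} (hM : SylIn 2 M K) {g : G} (hg : ∀ x ∈ K, g * x * g⁻¹ ∈ K) :
    ∃ c ∈ K, ∀ x ∈ M, c * g * x * (c * g)⁻¹ ∈ M := by
  have := Fact.mk Nat.prime_two
  obtain ⟨n, hn, y, hy, rfl⟩ := hM.frattini (mem_normalizer_of_cj_le (cj_le_iff_forall.2 hg))
  exact ⟨n⁻¹, inv_mem hn, fun x hx => by
    rw [inv_mul_cancel_left]; exact conj_mem_of_normalizes le_rfl hy hx⟩

end CL.HS8
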