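import Cfsg.Agent.INV.HS8.Def2
import Cfsg.Agent.INV.HS8.Tl

/-!
The dihedral group `⟨v, w⟩` of order 8, and general lemmas.
-/

set_option autoImplicit false

open Subgroup CL.TwoS CL.MSS DihedralGroup

namespace CL.HS8

variable {G : Type*} [Group G] {v w : G}

/-- `⟨v, w⟩ ≅ D8`. -/
structure R8 (v w : G) : Prop where
  vv : v * v = 1
  ww : w * w = 1
  z1 : zz v w ≠ 1
  z2 : zz v w * zz v w = 1

theorem D8.r8 {ρ ρ' : G} (h : D8 v w ρ ρ') : R8 v w := ⟨h.vv, h.ww, h.z1, h.z2⟩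

theorem DD_swap (v w : G) : DD w v = DD v w := by rw [DD, DD, Set.pair_comm]

theorem v_mem (v w : G) : v ∈ DD v w := subset_closure (.inl rfl)

theorem w_mem (v w : G) : w ∈ DD v w := subset_closure (.inr rfl)

theorem z_mem (v w : G) : zz v w ∈ DD v w :=
  mul_mem (mul_mem (mul_mem (v_mem v w) (w_mem v w)) (v_mem v w)) (w_mem v w)

theorem DD_le {K : Subgroup G} (hv : v ∈ K) (hw : w ∈ K) : DD v w ≤ K :=
  (closure_le _).2 (by rintro _ (rfl | rfl); exacts [hv, hw])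

theorem comm_DD {x e : G} (hv : Commute x v) (hw : Commute x w) (he : e ∈ DD v w) : Commute x e :=
  (mem_centralizer_singleton_iff.1 (DD_le (K := centralizer {x}) (mem_centralizer_singleton_iff.2 hv.symm)
    (mem_centralizer_singleton_iff.2 hw.symm) he) : Commute e x).symm

theorem Sp.swap' {c : G} (h : Sp v w c) (e : zz w v = zz v w) : Sp w v c := by
  rw [Sp, e]; exact ⟨h.2, h.1⟩

namespace R8

variable (h : R8 v w)
include h

theorem vi : v⁻¹ = v := inv_eq_of_mul_eq_one_right h.vv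

theorem wi : w⁻¹ = w := inv_eq_of_mul_eq_one_right h.ww

theorem zi : (zz v w)⁻¹ = zz v w := inv_eq_of_mul_eq_one_right h.z2

theorem zz_swap : zz w v = zz v w := by
  rw [← h.zi]
  simp only [zz, mul_inv_rev, h.vi, h.wi, mul_assoc]

theorem swap : R8 w v := ⟨h.ww, h.vv, h.zz_swap ▸ h.z1, h.zz_swap ▸ h.z2⟩

theorem hom : ∃ f : DihedralGroup 4 →* G, Function.Injective f ∧ f (sr 0) = v ∧ f (sr 1) = w ∧
    f (r 2) = zz v w ∧ ∀ x, x ∈ DD v w ↔ ∃ d, f d = x := by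
  have h4 : (v * w) ^ 4 = 1 := by rw [← h.z2]; simp only [zz, pow_succ, pow_zero, one_mul, mul_assoc]
  have e1 : ∀ i j : ZMod 4, (v * w) ^ (i + j).val = (v * w) ^ i.val * (v * w) ^ j.val := fun i j => by
    rw [ZMod.val_add, ← pow_eq_pow_mod _ h4, pow_add]
  have e2 : ∀ i j : ZMod 4, (v * w) ^ (j - i).val = ((v * w) ^ i.val)⁻¹ * (v * w) ^ j.val := fun i j => by
    rw [eq_inv_mul_iff_mul_eq, ← e1, add_sub_cancel]
  have e3 : ∀ n : ℕ, (v * w) ^ n * v = v * ((v * w) ^ n)⁻¹ := fun n => by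
    have : v * (v * w) * v⁻¹ = (v * w)⁻¹ := by rw [mul_inv_rev, ← mul_assoc, h.vv, one_mul, h.wi]
    rw [← inv_pow, ← this, conj_pow, ← mul_assoc, ← mul_assoc, h.vv, one_mul, h.vi]
  let f : DihedralGroup 4 →* G := MonoidHom.mk' (fun d => match d with
    | r i => (v * w) ^ i.val
    | sr i => v * (v * w) ^ i.val) (by
      rintro (i | i) (j | j)
      · exact e1 i j
      · show v * (v * w) ^ (j - i).val = (v * w) ^ i.val * (v * (v * w) ^ j.val)
        rw [e2, ← mul_assoc ((v * w) ^ i.val), e3, mul_assoc v]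
      · show v * (v * w) ^ (i + j).val = v * (v * w) ^ i.val * (v * w) ^ j.val
        rw [e1, mul_assoc v ((v * w) ^ i.val)]
      · show (v * w) ^ (j - i).val = v * (v * w) ^ i.val * (v * (v * w) ^ j.val)
        rw [e2, mul_assoc v ((v * w) ^ i.val), ← mul_assoc ((v * w) ^ i.val), e3, ← mul_assoc, ← mul_assoc, h.vv,
          one_mul])
  have f0 : f (sr 0) = v := by
    show v * (v * w) ^ 0 = v
    rw [pow_zero, mul_one]
  have f1 : f (sr 1) = w := by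
    show v * (v * w) ^ 1 = w
    rw [pow_one, ← mul_assoc, h.vv, one_mul]
  have f2 : f (r 2) = zz v w := by
    show (v * w) ^ 2 = _
    rw [pow_two, zz, ← mul_assoc]
  refine ⟨f, (injective_iff_map_eq_one f).2 fun d hd => ?_, f0, f1, f2, fun x => ⟨fun hx => ?_, ?_⟩⟩
  · rcases (by decide : ∀ d : DihedralGroup 4, d = 1 ∨ d = r 2 ∨ ∃ e, e * d * e⁻¹ * d⁻¹ = r 2) d with
      e | rfl | ⟨e, he⟩
    · exact e
    · exact absurd (f2.symm.trans hd) h.z1
    · refine absurd ?_ h.z1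
      rw [← f2, ← he]; simp [hd]
  · exact DD_le (K := f.range) ⟨_, f0⟩ ⟨_, f1⟩ hx
  · rintro ⟨i | i, rfl⟩
    · exact pow_mem (mul_mem (v_mem v w) (w_mem v w)) _
    · exact mul_mem (v_mem v w) (pow_mem (mul_mem (v_mem v w) (w_mem v w)) _)

theorem zc {e : G} (he : e ∈ DD v w) : Commute (zz v w) e := by
  obtain ⟨f, i, rfl, rfl, hz, m⟩ := h.hom
  obtain ⟨d, rfl⟩ := (m e).1 he
  rw [← hz]
  exact Commute.map ((by decide : ∀ d : DihedralGroup 4, r 2 * d = d * r 2) d) f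

theorem zv : Commute (zz v w) v := h.zc (v_mem v w)

theorem zw : Commute (zz v w) w := h.zc (w_mem v w)

theorem wvw : w * v * w⁻¹ = v * zz v w := by
  rw [zz, h.wi]; simp only [← mul_assoc, h.vv, one_mul]

theorem vwv : v * w * v⁻¹ = w * zz v w := h.zz_swap ▸ h.swap.wvw

omit h in
theorem vw2 : v * w * (v * w) = zz v w := by rw [zz, ← mul_assoc]

theorem nc : ¬ Commute v w := fun c => h.z1 (by
  rw [zz, mul_assoc v, ← c.eq, ← mul_assoc, h.vv, one_mul, h.ww])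

theorem v1 : v ≠ 1 := fun e => h.nc (e ▸ Commute.one_left w)

theorem vz : v ≠ zz v w := fun e => h.nc (by simpa only [← e] using h.zw)

theorem mem_DD {x : G} : x ∈ DD v w ↔ x = 1 ∨ x = zz v w ∨ x = v ∨ x = v * zz v w ∨ x = w ∨ x = w * zz v w ∨
    x = v * w ∨ x = v * w * zz v w := by
  have a := v_mem v w
  have b := w_mem v w
  have c := z_mem v w
  refine ⟨fun hx => ?_, by
    rintro (rfl | rfl | rfl | rfl | rfl | rfl | rfl | rfl)
    exacts [one_mem _, c, a, mul_mem a c, b, mul_mem b c, mul_mem a b, mul_mem (mul_mem a b) c]⟩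
  obtain ⟨f, i, rfl, rfl, hz, m⟩ := h.hom
  obtain ⟨d, rfl⟩ := (m x).1 hx
  simp only [← hz, ← map_mul, i.eq_iff, map_eq_one_iff f i]
  clear hx; revert d; decide

theorem inv_cases {x : G} (hx : x ∈ DD v w) (h2 : x * x = 1) :
    x = 1 ∨ x = zz v w ∨ x = v ∨ x = v * zz v w ∨ x = w ∨ x = w * zz v w := by
  obtain ⟨f, i, rfl, rfl, hz, m⟩ := h.hom
  obtain ⟨d, rfl⟩ := (m x).1 hx
  simp only [← hz, ← map_mul, i.eq_iff, map_eq_one_iff f i] at h2 ⊢
  clear hx; revert d; decide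

theorem cen_v {x : G} (hx : x ∈ DD v w) (c : Commute x v) :
    x = 1 ∨ x = zz v w ∨ x = v ∨ x = v * zz v w := by
  obtain ⟨f, i, rfl, rfl, hz, m⟩ := h.hom
  obtain ⟨d, rfl⟩ := (m x).1 hx
  simp only [commute_iff_eq, ← hz, ← map_mul, i.eq_iff, map_eq_one_iff f i] at c ⊢
  clear hx; revert d; decide

theorem cen {x : G} (hx : x ∈ DD v w) (c : Commute x v) (c' : Commute x w) : x = 1 ∨ x = zz v w := by
  obtain ⟨f, i, rfl, rfl, hz, m⟩ := h.hom
  obtain ⟨d, rfl⟩ := (m x).1 hx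
  simp only [commute_iff_eq, ← hz, ← map_mul, i.eq_iff, map_eq_one_iff f i] at c c' ⊢
  clear hx; revert d; decide

theorem sq {x : G} (hx : x ∈ DD v w) : x * x = 1 ∨ x * x = zz v w := by
  obtain ⟨f, i, rfl, rfl, hz, m⟩ := h.hom
  obtain ⟨d, rfl⟩ := (m x).1 hx
  simp only [← hz, ← map_mul, i.eq_iff, map_eq_one_iff f i]
  clear hx; revert d; decide

theorem cj {x y : G} (hx : x ∈ DD v w) (hy : y ∈ DD v w) : x * y * x⁻¹ = y ∨ x * y * x⁻¹ = y * zz v w := by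
  obtain ⟨f, i, rfl, rfl, hz, m⟩ := h.hom
  obtain ⟨d, rfl⟩ := (m x).1 hx
  obtain ⟨e, rfl⟩ := (m y).1 hy
  simp only [← hz, ← map_mul, ← map_inv, i.eq_iff]
  clear hx hy; revert d e; decide

/-- A non-central element is conjugate to its product with `z`. -/
theorem mv {x : G} (hx : x ∈ DD v w) (h1 : x ≠ 1) (h2 : x ≠ zz v w) :
    ∃ e ∈ DD v w, e * x * e⁻¹ = x * zz v w := by
  obtain ⟨f, i, rfl, rfl, hz, m⟩ := h.hom
  obtain ⟨d, rfl⟩ := (m x).1 hx
  simp only [ne_eq, ← hz, i.eq_iff, map_eq_one_iff f i] at h1 h2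
  obtain ⟨e, he⟩ := (by decide : ∀ d : DihedralGroup 4, ¬ d = 1 → ¬ d = r 2 → ∃ e, e * d * e⁻¹ = d * r 2) d h1 h2
  exact ⟨f e, (m _).2 ⟨e, rfl⟩, by rw [← hz, ← map_mul, ← map_inv, ← map_mul, he, map_mul]⟩

/-- A four-subgroup is its own centraliser. -/
theorem four {a b c : G} (ha : a ∈ DD v w) (hb : b ∈ DD v w) (hc : c ∈ DD v w) (a2 : a * a = 1) (b2 : b * b = 1)
    (a1 : a ≠ 1) (b1 : b ≠ 1) (ab : a ≠ b) (h1 : Commute a b) (h2 : Commute c a) (h3 : Commute c b) :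
    c = 1 ∨ c = b ∨ c = a ∨ c = a * b := by
  obtain ⟨f, i, rfl, rfl, hz, m⟩ := h.hom
  obtain ⟨a, rfl⟩ := (m a).1 ha
  obtain ⟨b, rfl⟩ := (m b).1 hb
  obtain ⟨c, rfl⟩ := (m c).1 hc
  simp only [commute_iff_eq, ne_eq, ← map_mul, i.eq_iff, map_eq_one_iff f i] at a2 b2 a1 b1 ab h1 h2 h3 ⊢
  clear ha hb hc; revert a b c; decide

theorem equiv : Nonempty (DD v w ≃* DihedralGroup 4) := by
  obtain ⟨f, i, -, -, -, m⟩ := h.hom
  exact ⟨(MulEquiv.subgroupCongr (Subgroup.ext m : DD v w = f.range)).trans (MonoidHom.ofInjective i).symm⟩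

theorem card : Nat.card (DD v w) = 8 := by
  obtain ⟨e⟩ := h.equiv
  rw [Nat.card_congr e.toEquiv, DihedralGroup.nat_card]

theorem pg : IsPGroup 2 (DD v w) := IsPGroup.of_card (n := 3) h.card

theorem sgn : ∃ ψ : DD v w →* ℤˣ, ∀ x hx, x * x = 1 → x ≠ 1 → x ≠ zz v w → ψ ⟨x, hx⟩ = -1 := by
  obtain ⟨f, i, -, -, hz, m⟩ := h.hom
  let s : DihedralGroup 4 →* ℤˣ := MonoidHom.mk' (fun d => match d with
    | r _ => 1
    | sr _ => -1) (by decide)
  let e := (MulEquiv.subgroupCongr (Subgroup.ext m : DD v w = f.range)).trans (MonoidHom.ofInjective i).symm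
  refine ⟨s.comp e.toMonoidHom, fun x hx h1 h2 h3 => ?_⟩
  obtain ⟨d, rfl⟩ := (m x).1 hx
  have : e ⟨f d, hx⟩ = d := e.symm.injective (by rw [e.symm_apply_apply]; rfl)
  simp only [ne_eq, ← hz, ← map_mul, i.eq_iff, map_eq_one_iff f i] at h1 h2 h3
  show s (e _) = _
  rw [this]
  clear this hx; revert d; decide

/-- Elements normalising `D`. -/
theorem aut {c : G} (h1 : c * v * c⁻¹ ∈ DD v w) (h2 : c * w * c⁻¹ ∈ DD v w) : Commute c (zz v w) ∧
    ((∃ e ∈ DD v w, ∃ c0, Commute c0 v ∧ Commute c0 w ∧ c = c0 * e) ∨ Sp v w c) := by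
  have e1 : c * v * c⁻¹ * (c * v * c⁻¹) = 1 := by rw [conj_mul, h.vv]; simp
  have e2 : c * w * c⁻¹ * (c * w * c⁻¹) = 1 := by rw [conj_mul, h.ww]; simp
  have e3 : c * zz v w * c⁻¹ = c * v * c⁻¹ * (c * w * c⁻¹) * (c * v * c⁻¹) * (c * w * c⁻¹) := by
    simp only [conj_mul, zz]
  have e4 : c * zz v w * c⁻¹ ≠ 1 := by simpa using h.z1
  obtain ⟨f, i, f0, f1, hz, m⟩ := h.hom
  obtain ⟨a, ha⟩ := (m _).1 h1
  obtain ⟨b, hb⟩ := (m _).1 h2
  rw [e3] at e4
  simp only [ne_eq, ← ha, ← hb, ← map_mul, map_eq_one_iff f i] at e1 e2 e3 e4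
  obtain ⟨k1, k2⟩ := (by decide : ∀ a b : DihedralGroup 4, a * a = 1 → b * b = 1 → ¬ a * b * a * b = 1 →
    a * b * a * b = r 2 ∧ ((∃ e, e * a * e⁻¹ = sr 0 ∧ e * b * e⁻¹ = sr 1) ∨
      ((a = sr 1 ∨ a = sr 1 * r 2) ∧ (b = sr 0 ∨ b = sr 0 * r 2)))) a b e1 e2 e4
  refine ⟨mul_inv_eq_iff_eq_mul.1 (by rw [e3, k1, hz]), ?_⟩
  rcases k2 with ⟨e, k2, k3⟩ | k2
  · have c1 : Commute (f e * c) v := mul_inv_eq_iff_eq_mul.1 (by
      conv_rhs => rw [← f0, ← k2, map_mul, map_mul, map_inv, ha]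
      group)
    have c2 : Commute (f e * c) w := mul_inv_eq_iff_eq_mul.1 (by
      conv_rhs => rw [← f1, ← k3, map_mul, map_mul, map_inv, hb]
      group)
    have me : (f e)⁻¹ ∈ DD v w := inv_mem ((m _).2 ⟨e, rfl⟩)
    exact .inl ⟨_, me, _, c1, c2, by rw [(comm_DD c1 c2 me).eq]; group⟩
  · refine .inr ?_
    simp only [Sp, ← ha, ← hb, ← hz]
    simpa only [← f0, ← f1, ← map_mul, i.eq_iff] using k2

end R8

theorem exists_r8 {D : Subgroup G} (e : D ≃* DihedralGroup 4) : ∃ v w, R8 v w ∧ DD v w = D := by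
  let f := D.subtype.comp e.symm.toMonoidHom
  have i : Function.Injective f := D.subtype_injective.comp e.symm.injective
  have r : R8 (f (sr 0)) (f (sr 1)) := by
    refine ⟨?_, ?_, ?_, ?_⟩ <;> simp only [zz, ne_eq, ← map_mul, map_eq_one_iff f i] <;> decide
  have : Finite D := .of_equiv _ e.symm.toEquiv
  refine ⟨_, _, r, eq_of_le_of_card_ge (DD_le (e.symm _).2 (e.symm _).2) ?_⟩
  rw [r.card, Nat.card_congr e.toEquiv, DihedralGroup.nat_card]

variable [Finite G]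

/-- If `n²` and the 2-part of `n` centralise `x`, so does `n`. -/
theorem comm_of_two {n x : G} (h2 : Commute (n * n) x)
    (h : ∀ m k : ℕ, (n ^ m) ^ 2 ^ k = 1 → Commute (n ^ m) x) : Commute n x := by
  obtain ⟨k, _, ⟨m, rfl⟩, e⟩ := Nat.exists_eq_two_pow_mul_odd (orderOf_pos n).ne'
  have := h (2 * m + 1) k (by rw [← pow_mul, mul_comm, ← e, pow_orderOf_eq_one])
  rw [pow_succ, pow_mul, pow_two] at this
  simpa using (h2.pow_left m).inv_left.mul_left this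

/-- Burnside's fusion lemma for central elements. -/
theorem burn {T Y : Subgroup G} (hT : SylIn 2 T Y) {x g : G} (hg : g ∈ Y) (h1 : ∀ t ∈ T, Commute t x)
    (h2 : ∀ t ∈ T, Commute t (g * x * g⁻¹)) :
    ∃ n ∈ Y, (∀ t ∈ T, n * t * n⁻¹ ∈ T) ∧ n * x * n⁻¹ = g * x * g⁻¹ := by
  have : Fact (Nat.Prime 2) := ⟨Nat.prime_two⟩
  have s := hT.inf_of_le (K := centralizer {g * x * g⁻¹}) fun t ht => mem_centralizer_singleton_iff.2 (h2 t ht)
  obtain ⟨c, hc, e⟩ := s.exists_conj_le (isPGroup_cj g hT.pgroup) (le_inf (cj_le_of_mem hT.le hg)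
    (cj_le_iff_forall.2 fun t ht => mem_centralizer_singleton_iff.2 (comm_cj.2 (h1 t ht))))
  refine ⟨c * g, mul_mem hc.1 hg, cj_le_iff_forall.1 (cj_mul c g T ▸ e), ?_⟩
  have : Commute c (g * x * g⁻¹) := mem_centralizer_singleton_iff.1 hc.2
  rw [← this.mul_inv_cancel]; group

end CL.HS8
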