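import Cfsg.Agent.INV.HS8.K0w
import Cfsg.Agent.INV.HS8.D8

/-!
The case `C(t)` has Sylow subgroup `S = ⟨t⟩ × D`, `t` not conjugate to `t z`.
-/

set_option autoImplicit false
set_option linter.unusedSectionVars false

open Subgroup CL.TwoS CL.MSS CL.K

namespace CL.HS8

variable {G : Type*} [Group G] [Finite G] {X : Subgroup G} {t v w ρ ρ' : G}

open K0 Ltb

theorem H0.eight0 (h : H0 X t v w ρ ρ') (c : ¬ IsConj t (t * zz v w)) : t ∉ X ∧ Cl2 8 X := by
  have r := h.toD8.r8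
  have m := md h
  obtain ⟨s1, s2, s3⟩ := m3 t v w
  have t1 : ∀ g, g * t * g⁻¹ ≠ 1 := fun g e => h.tD (by
    rw [conj_eq_one_iff.1 e]; exact one_mem _)
  have nD : ∀ g, g * t * g⁻¹ ∉ DD v w := fun g k => by
    have cg : IsConj t (g * t * g⁻¹) := isConj_iff.2 ⟨g, rfl⟩
    have a1 : IsConj (zz v w) v := isConj_iff.2 ⟨ρ, h.ρz⟩
    have a2 : IsConj (zz v w) w := isConj_iff.2 ⟨ρ', h.ρ'z⟩
    rcases r.inv_cases k (sq_of_isConj h.tt cg) with e | e | e | e | e | e
    · exact t1 g e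
    all_goals rw [e] at cg; refine h.z_not (cg.trans (IsConj.symm ?_))
    exacts [IsConj.refl _, a1, a1.trans (isConj_iff.2 ⟨ρ, h.ρv⟩), a2, a2.trans (isConj_iff.2 ⟨ρ', h.ρ'w⟩)]
  have cS : ∀ x ∈ closure ({t, v, w} : Set G), Commute t x := fun x hx =>
    (mem_centralizer_singleton_iff.1 (h.syl.le hx)).symm
  have hS : SylIn 2 (closure ({t, v, w} : Set G)) ⊤ := syl_of h.syl.pgroup le_top fun Q hQ le _ g hg hn => by
    have k : ∀ x ∈ closure ({t, v, w} : Set G), Commute (g * t * g⁻¹) x := fun x hx => by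
      have := (cS _ ((mem_normalizer_iff.1 (inv_mem (K0.nm hn)) x).1 hx)).eq
      change _ = _
      calc _ = g * (t * (g⁻¹ * x * g⁻¹⁻¹)) * g⁻¹ := by group
        _ = _ := by rw [this]; group
    have cg : IsConj t (g * t * g⁻¹) := isConj_iff.2 ⟨g, rfl⟩
    obtain ⟨e, he, e1⟩ := cenS h (j := 1) (by rw [pow_one, pow_two]; exact sq_of_isConj h.tt cg)
      (k t s1) (k v s2) (k w s3)
    rcases (by decide +kernel : ∀ e : V4, e.v = false → cut e = cut 1 ∨ cut e = cut (.of 4) ∨ cut e = cut (.of 5) ∨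
      cut e = cut (.of 1)) e he with a | a | a | a <;> rw [ψ_cut a] at e1
    · exact (t1 g (e1.trans ψ1)).elim
    · exact (h.z_not (by rwa [e1, ψz] at cg)).elim
    · exact (c (by rwa [e1, ψ5] at cg)).elim
    · exact cT h hQ le hg (comm_of_cj (e1.trans ψt))
  have m3' := m.lev (k := 3) (show 3 ≤ 4 by decide) (by decide +kernel)
  have l3 : m3'.sub ≤ DD v w := m3'.sub_le fun j hj => by
    change j < 3 at hj
    interval_cases j
    exacts [z_mem v w, v_mem v w, w_mem v w]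
  have h0 : ∀ x ∈ closure ({t, v, w} : Set G), x ∈ DD v w ∨ x * t ∈ DD v w := fun x hx =>
    (m.lev_or (k := 3) rfl m3' h.tt x (subS h ▸ hx)).imp (l3 ·) (l3 ·)
  have tn : t ∉ X := t_not h.pf h.tt hS h0 fun g _ => nD g
  have := h.nm
  refine ⟨tn, _, syl_X hS (DD_le h.vX h.wX) (DD_le s2 s3) tn h0, r.card, ⟨v, v_mem v w, w, w_mem v w, r.nc⟩,
    fun x hx y hy u hu => ?_⟩
  rcases r.cj hx hy with e | e <;> rw [e]
  · rw [mul_inv_cancel]; exact Commute.one_left u
  · rw [cj_of_comm (r.zc hy).symm]; exact r.zc hu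

end CL.HS8
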