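import Cfsg.Agent.INV.HS8.LTB
import Cfsg.Agent.INV.HS8.Jn

/-!
Tools for the configurations K1, K2, K4: transport of actions, relations of models, classes in models.
-/

set_option autoImplicit false
set_option linter.unusedSectionVars false

open Subgroup CL.TwoS CL.MSS CL.K

namespace CL.HS8

variable {G : Type*} [Group G] {d : Dat G}

namespace Kt

theorem act1_of {φ ψ : V4 → G} {g x : G} (hg : Into φ ψ g) (h : Act ψ (g * x * g⁻¹) 1) :
    Act φ x 1 := fun e => by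
  obtain ⟨f, hf⟩ := hg e
  have := h f
  rw [L4.one_app, ← hf] at this
  rw [L4.one_app]
  calc _ = g⁻¹ * (g * x * g⁻¹ * (g * φ e * g⁻¹) * (g * x * g⁻¹)⁻¹) * g := by group
    _ = _ := by rw [this]; group

theorem into_cj {φ ψ : V4 → G} {g x : G} (hφ : IsMod φ) (hψ : IsMod ψ) (hg : Into φ ψ g)
    (hx : Into φ φ x) : Into ψ ψ (g * x * g⁻¹) :=
  (hg.mul hx).mul (inv_of_inj hφ.inj hψ.inj hg)

/-- The action on `F` of the conjugate of an element normalising `E`. -/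
theorem act_sw (h : Rl d) {A : List L4} (hA : AE d.swap A) {g x : G} (hg : Into d.φ4 d.swap.φ4 g)
    (hx : Into d.φ4 d.φ4 x) : ∃ f ∈ A, ∃ s ∈ S3, Act d.swap.φ4 (g * x * g⁻¹) (f * s) :=
  hA.le _ (into_cj h.mod4 h.swap.mod4 hg hx)

theorem act_t {g : G} {f : L4} (a : Act d.φ4 g f) : g * d.t * g⁻¹ = d.φ4 f.t := by
  have := a (.of 1)
  rwa [d.ψt, show f.app (.of 1) = f.t by change f.t * 1 * 1 * 1 = _; simp] at this

theorem t_ne (h : Rl d) : d.t ≠ 1 := fun e =>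
  absurd (h.mod4.inj (d.ψt.trans (e.trans h.mod4.one.symm))) (by decide)

theorem comm_l {x : G} {f : L4} (a : Act d.φ4 x f) (e : V4) : x * d.φ4 e = d.φ4 (f.app e) * x := by
  rw [← a]; group

theorem comm_l' {x : G} {f : L4} (a : Act d.φ4 x f) (e : V4) (y : G) :
    x * (d.φ4 e * y) = d.φ4 (f.app e) * (x * y) := by rw [← mul_assoc, comm_l a, mul_assoc]

theorem fin1 {φ : V4 → G} {e e' : V4} {x : G} (k : e = e') : φ e * x = φ e' * x := by rw [k]
theorem fin2 {φ : V4 → G} {e e' : V4} (k : e = e') : φ e = φ e' := by rw [k]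
theorem fin3 {φ : V4 → G} (m : IsMod φ) {e : V4} {x : G} (k : e = 1) : φ e * x = x := by
  rw [k, m.one, one_mul]
theorem fin4 {φ : V4 → G} (m : IsMod φ) {e : V4} (k : e = 1) : φ e = 1 := by rw [k, m.one]

/-- Closes an equation whose sides are `φ e * word`. -/
macro "e_fin " m:term : tactic => `(tactic| first
  | rfl | exact fin1 (by decide) | exact fin2 (by decide) | exact fin3 $m (by decide)
  | exact fin4 $m (by decide) | exact (fin3 $m (by decide)).symm | exact (fin4 $m (by decide)).symm)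

theorem isConj_rp (h : Rl d) {m : M5} (k : IsConj d.t (d.φ5 m)) : IsConj d.t (d.φ5 (rp m)) := by
  obtain ⟨g, -, e⟩ := h.cc_rp (h.mod5.sq.1 (sq_of_isConj h.c4.tt k))
  exact k.trans (isConj_iff.2 ⟨g, e⟩)

theorem rp_cen (m : M5) : (rp m).cen = true := by revert m; decide +kernel

/-- A homomorphism on `S0` given on the model. -/
theorem exists_ψ [Finite G] (h : Rl d) {A : Type*} [Group A] (χ : M5 → A)
    (hχ : ∀ m n, χ (m * n) = χ m * χ n) :
    ∃ ψ : h.S0 →* A, ∀ m (hm : d.φ5 m ∈ h.S0), ψ ⟨_, hm⟩ = χ m := by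
  choose c hc using fun u : h.S0 => h.mem_S0.1 u.2
  refine ⟨MonoidHom.mk' (fun u => χ (c u)) fun u v => ?_, fun m hm => congrArg χ (h.mod5.inj (hc _))⟩
  rw [← hχ]
  exact congrArg χ (h.mod5.inj (by rw [hc, h.mod5.mul, hc, hc]; rfl))

end Kt

namespace PC

/-- Generators given by a list. -/
def gl (l : List G) (i : ℕ) : G := l.getD i 1

theorem rel_of {P : PC} {g : ℕ → G} (sq : List ℕ) (tb : List (List ℕ))
    (h1 : ∀ k < P.n, P.sq k = sq.getD k 0 ∧ ∀ j < k, P.th k (2 ^ j) = (tb.getD k []).getD j 0)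
    (h2 : ∀ k < P.n, g k * g k = evk g P.n (sq.getD k 0) ∧
      ∀ j < k, g k * g j = evk g P.n ((tb.getD k []).getD j 0) * g k) : P.Rel g := fun k hk => by
  rw [(h1 k hk).1]
  exact ⟨(h2 k hk).1, fun j hj => by rw [(h1 k hk).2 j hj]; exact (h2 k hk).2 j hj⟩

/-- Every involution is conjugate to a member of `R`. -/
noncomputable def kcls (P : PC) (R : List ℕ) : Bool :=
  allLt2 (fun x => Nat.ble (Nat.pow 2 P.n) x || !Nat.beq (P.mul x x) 0 ||
    R.any fun r => anyLt (fun k => Nat.beq (P.cj k r) x) (Nat.pow 2 P.n)) (Nat.pow 2 (P.n - 4)) 16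

theorem le16 (n : ℕ) : 2 ^ n ≤ 2 ^ (n - 4) * 16 := by
  rw [show 16 = 2 ^ 4 from rfl, ← pow_add]
  exact Nat.pow_le_pow_right two_pos (by omega)

variable {P : PC} {g : ℕ → G}

theorem Md.kcl (h : Md P g) (i : P.Inj g) {R : List ℕ} (hb : P.kcls R = true)
    (hR : ∀ r ∈ R, r < 2 ^ P.n) {u : G} (hu : u ∈ h.sub) (h2 : u * u = 1) :
    ∃ r ∈ R, ∃ s ∈ h.sub, u = s * P.ev g r * s⁻¹ := by
  obtain ⟨x, hx, rfl⟩ := hu
  simp only [kcls, allLt2_iff, Bool.or_eq_true, anyLt_iff, Nat.beq_eq, Nat.ble_eq, Nat.pow_eq,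
    List.any_eq_true, Bool.not_eq_true', Bool.eq_false_iff, ne_eq] at hb
  rcases hb x (hx.trans_le (le16 _)) with (a | a) | ⟨r, hr, k, hk, e⟩
  · omega
  · exact absurd ((h.eq_one i (mul_lt h.ok hx hx)).1 (by rw [h.mul hx hx, h2])) a
  · exact ⟨r, hr, _, h.ev_mem hk, by rw [← h.cj hk (hR r hr), e]⟩

theorem Md.gmem (h : Md P g) {j : ℕ} (hj : j < P.n) : g j ∈ h.sub :=
  P.ev_gen g hj ▸ h.ev_mem (Nat.pow_lt_pow_right one_lt_two hj)

end PC

namespace Rl

variable (h : Rl d)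
include h

theorem ab' (x : G) : d.a * (d.b * x) = d.b * (d.a * x) := by rw [← mul_assoc, h.c4.ab.eq, mul_assoc]
theorem wv' : d.w * d.v = d.b * d.a * d.v * d.w := by
  rw [← h.c4.ab.eq, ← (h.c4.va.mul_right h.c4.vb).eq, ← mul_assoc, ← h.wv]; group

theorem s0_mem {T : Subgroup G} (h1 : d.t ∈ T) (h2 : d.v ∈ T) (h3 : d.a ∈ T) (h4 : d.b ∈ T)
    (h5 : d.w ∈ T) (m : M5) : d.φ5 m ∈ T := by
  have k : ∀ {x : G} (i : Bool), x ∈ T → bp x i ∈ T := fun i hx => by
    cases i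
    exacts [one_mem _, hx]
  exact mul_mem (mul_mem (mul_mem (mul_mem (k _ h1) (k _ h2)) (k _ h3)) (k _ h4)) (k _ h5)

end Rl

end CL.HS8
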