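import Cfsg.Agent.INV.HS8.K0a
import Cfsg.Agent.INV.HS8.KT
import Cfsg.Agent.INV.HS8.L5x
import Cfsg.Agent.INV.HS8.K0e

/-!
The case `C(t)` has Sylow subgroup `S = ⟨t⟩ × D`: the Sylow subgroup of `X`.
-/

set_option autoImplicit false

open Subgroup CL.TwoS CL.MSS

namespace CL.HS8

variable {G : Type*} [Group G] [Finite G] {X : Subgroup G} {t v w ρ ρ' : G}

/-- `exists_z0` for both sides. `N(S)` acts on `S` as a 2-group (`stab0`; `t ↦ t, t z`), so by `join` and `Z0.cj` the elements `n`, `m` lie in one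
2-group; `n⁻¹ m` centralises `S`, so lies in `Z(S) = ⟨t, z⟩`. If `m = n t zⁱ` then `m² = n² z`; `α : w ↦ w n⁻¹ v^μ`, `β : v ↦ v m⁻¹ w^μ'`, and
for `μ = 0` `β α β` maps `t` into `v ⟨z⟩`, for `μ = 1` `α β α` maps `t` into `w ⟨z⟩`, against `z_not`. Then `Z0.shift`. -/
theorem H0.both (h : H0 X t v w ρ ρ') (c : IsConj t (t * zz v w)) : ∃ P P' σ σ' n α β μ,
    Z0 P t v w σ n α μ ∧ Z0 P' t w v σ' (n * zz v w) β μ :=
  h.both0 c

/-- Shift so that `m = n`. `κ = β α` fixes `z`, `n`, `κ w κ⁻¹ = v`, `κ t κ⁻¹ = t v n`, so `κ F κ⁻¹ = E'' = ⟨t n, V1⟩`, normal in `P`. `κ P' κ⁻¹` and `P`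
are 2-subgroups of order 64 of `N(E'')`, Sylow there; after conjugating by `N(E'')` get `θ` normalising `M = C_P(V1)` and `E''`, rotating `V1`.
`M0 = ⟨n, α⟩ ≅ Z4²` is the set of elements of `M` not inverting (the unique abelian subgroup of index 2); `θ` rotates `M0 / V1` (squares), fixes
`t n V1`, so maps `t V1` to `t α V1` or `t n α V1`; a power of `σ` maps this to `t n V1`. So some `g` maps `E` to `F`, `t` into `t V2` (`z_not`);
adjust by `n, β`; `no_EF`. -/
theorem H0.mu (h : H0 X t v w ρ ρ') {P P' : Subgroup G} {σ σ' n α β : G}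
    (l : Z0 P t v w σ n α true) (l' : Z0 P' t w v σ' (n * zz v w) β true) : False :=
  h.mu0 l l'

/-- `μ = 0`. `T1 = ⟨z, n, v, w, t⟩ ≅ 2^{1+4}` is normalised by `α, β`. Conjugates of `t` lie in no elementary group of order 16 (`tr`; `S` has rank 3), and
`n, n v, n w, v, w` (times `z`) lie in `⟨z, v, n, α⟩` or `⟨z, w, n, β⟩`; so `N(T1)` permutes `t, t v, t w, t n v w` modulo `z`, transitively by
`α, β, α β`, with inner stabiliser (`stab0`): `N(T1)` acts as a 2-group, `join`, `Z0.cj`. `[β, α]` centralises `T1`, so lies in `⟨z⟩`. Models `PZ0`, `PZ1`: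
the involutions outside `W = lev 6` are the class of `t`; those in `W` lie in an elementary group of order 16. So `T` is Sylow (`syl_of`),
`t ∉ X` (`tr_ext`, `hom_perfect`), `W ≤ X` (`n = [w, α]` up to inverse, `α = σ n σ⁻¹`), `syl_X`. -/
theorem H0.zero (h : H0 X t v w ρ ρ') {P P' : Subgroup G} {σ σ' n α β : G}
    (l : Z0 P t v w σ n α false) (l' : Z0 P' t w v σ' (n * zz v w) β false) : t ∉ X ∧ Cl2 64 X :=
  h.zero0 l l'

/-- If `t` is not conjugate to `t z` then `N(S)` fixes `t`, `S` is Sylow in `G`, no conjugate of `t` lies in `D`: transfer to `S / D`. -/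
theorem H0.eight (h : H0 X t v w ρ ρ') (c : ¬ IsConj t (t * zz v w)) : t ∉ X ∧ Cl2 8 X :=
  h.eight0 c

theorem H0.main (h : H0 X t v w ρ ρ') : t ∉ X ∧ (Cl2 8 X ∨ Cl2 64 X) := by
  by_cases c : IsConj t (t * zz v w)
  · obtain ⟨P, P', σ, σ', n, α, β, _ | _, l, l'⟩ := h.both c
    · exact (h.zero l l').imp_right .inr
    · exact (h.mu l l').elim
  · exact (h.eight c).imp_right .inl

end CL.HS8
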