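import Cfsg.Agent.INV.HS8.Def2
import Cfsg.Agent.KSG.KInv.SpHe
import Cfsg.Agent.S2075

/-!
The centraliser of an outer involution of the Held group.
-/

set_option autoImplicit false

open Subgroup Cfsg

namespace CL.HS8

variable {G : Type*} [Group G] [Finite G] {X : Subgroup G}

/-- All involutions outside `X` are conjugate to `t`. -/
def One (t : G) (X : Subgroup G) : Prop := ∀ s, s ∉ X → s * s = 1 → IsConj t s

namespace ZH

open CL.K CL.CE CL.Net CL.He CL.KI CL.KI.HeI CL.A10 CL.A10.Hd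

theorem not27 {k : Spor.He} (hk : orderOf k = 2) : ¬ 27 ∣ Nat.card (C k) := by
  obtain ⟨S, n1, n4, t1, t4, h⟩ := exists_cf
  obtain ⟨f1, f2, f3, -⟩ := facts
  have c : ∀ {s t : Spor.He}, IsConj s t → Nat.card (C t) = Nat.card (C s) := fun k => by
    obtain ⟨c, rfl⟩ := isConj_iff.1 k
    rw [← map_conj_C, card_map_of_injective (MulAut.conj _).injective]
  have z : Nat.card (C (S.el zc)) = 21504 := S.card_H
  have k0 : IsConj (S.el tc) (g 0) := (two_cls h f1).resolve_left fun k => by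
    rw [c k, z] at f3
    omega
  have f6 := c k0 ▸ dvd_t S (by rw [He.card]; norm_num)
  obtain ⟨m, hm⟩ := Nat.Coprime.mul_dvd_of_dvd_of_dvd (by norm_num) f6 f3
  have m0 : m ≠ 0 := fun e => Nat.card_pos.ne' (hm.trans (by rw [e, mul_zero]))
  rcases two_cls h hk with e | e
  · rw [c e, z]; norm_num
  · rw [c e, ← c k0, hm]; omega

theorem exists_tau : ∃ τ : Spor.He →* Spor.He, ∀ a < 7, τ (g a) = g ([0, 1, 2, 3, 4, 6, 5].getD a 0) := by
  have h := (He.pres.append (R₂ := [[2, 3, 6, 5, 2, 3, 6, 5, 2, 3, 6, 5, 2, 3, 6, 5], [4, 5, 6, 5, 6],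
      [6, 5, 6, 5, 6, 5, 6, 5], [6, 5, 6, 5, 4]]) (by
    have h := lift.ev_eq model.inj (valid0.eq_of_chkX (b := 12) (R := Nat.pow 3 1400) (by norm_num)
      (es := [([2, 3, 6, 5, 2, 3, 6, 5, 2, 3, 6, 5, 2, 3, 6, 5], []), ([4, 5, 6, 5, 6], []),
        ([6, 5, 6, 5, 6, 5, 6, 5], []), ([6, 5, 6, 5, 4], [])]) (by decide +kernel))
    simp only [List.forall_mem_cons, ev_nil] at h ⊢
    exact ⟨h.1, h.2.1, h.2.2.1, h.2.2.2.1, by simp⟩)).subst (ws := [[0], [1], [2], [3], [4], [6], [5]])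
      (ivl := List.range 7) (Rels' := Rels) (by decide +kernel)
  obtain ⟨τ, hτ⟩ := cox_hom (edges := Spor.He.edges) (extra := Spor.He.extra) (gens := He.gens)
    (ivl := List.range 7) He.code (by decide +kernel) h (by decide +kernel)
  refine ⟨τ, fun a ha => (hτ a ha).trans ?_⟩
  interval_cases a <;> exact ev_singleton _ _

/-- The subgroup `3 . S7`. -/
noncomputable abbrev Y0 : Subgroup Spor.He := gen g [[0], [1], [2], [3], [4]]

theorem le5 {A : Type*} [Group A] {f : ℕ → A} (h : Pres f id Eabcde.rels) :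
    CardLe (gen f [[0], [1], [2], [3], [4]]) 15120 :=
  (h.idxLe [[0], [1], [2], [3], [4]] [[0], [1], [2]] Eabcde.covers (by decide +kernel)).cardLe
    ((h.idxLe [[0], [1], [2]] [] Eabc.covers (by decide +kernel)).cardLe (cardLe_nil f) le_rfl) (by norm_num)

theorem pres5 : Pres g id Eabcde.rels := He.pres.mono (by decide +kernel)

theorem card_Y0 : Nat.card Y0 = 15120 :=
  le_antisymm (le5 pres5).2 ((lift.card_gen model.inj _).symm ▸ ge_abcde)

/-- The signs of the letters. -/
def sg (a : ℕ) : ℤˣ := [-1, 1, 1, -1, -1].getD a 1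

theorem exists_sgn : ∃ ψ : Y0 →* ℤˣ, ∀ a < 5, ψ (inGen g _ a) = sg a := by
  have p : Pres sg id Eabcde.rels := ⟨fun a => (Int.units_inv_eq_self _).symm, by decide⟩
  obtain ⟨φ, -, hφ⟩ := exists_hom_of_card [[0], [1], [2], [3], [4]] (le5 (pres5.prod p)) card_Y0.ge
  refine ⟨(Subgroup.subtype _).comp φ, fun a ha => ?_⟩
  have := hφ [a]
  simp only [ev_singleton] at this
  refine Eq.trans this ?_
  interval_cases a <;> rfl

theorem key {Q : Type*} [Group Q] {a b c d e : Q} (aa : a * a = 1) (bb : b * b = 1) (cc : c * c = 1) (dd : d * d = 1)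
    (ac : Commute a c) (bc : Commute b c) (h2 : Commute (a * d) c) (r1 : (b * c) ^ 3 = 1) (r2 : e * (c * b * a) ^ 3 = 1)
    (r3 : a * (d * c) ^ 5 = 1) (r4 : (d * e) ^ 3 = 1) : b = 1 ∧ c = 1 ∧ d = a ∧ e = a := by
  have t : ∀ {x : Q}, x * x = 1 → x ^ 3 = x := fun h => by rw [pow_succ, sq, h, one_mul]
  have u : ∀ {x y : Q}, x * x = 1 → y * y = 1 → Commute x y → x * y * (x * y) = 1 := fun h k c => by
    rw [← sq, c.mul_pow, sq, sq, h, k, one_mul]
  have v : ∀ {x y : Q}, x * x = 1 → y * x = 1 → y = x := fun h k => mul_right_cancel (k.trans h.symm)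
  rw [t (u bb cc bc)] at r1
  rw [← bc.eq, r1, one_mul, t aa] at r2
  have dc : Commute d c := by simpa using ac.inv_left.mul_left h2
  rw [show 5 = 3 + 2 from rfl, pow_add, sq, u dd cc dc, mul_one, t (u dd cc dc), ← mul_assoc] at r3
  have e1 := v aa r2
  have e2 : d * a * c = 1 := by rw [← v cc r3, mul_assoc, ← mul_assoc a, aa, one_mul, dd]
  rw [e1, v cc e2, t cc] at r4
  rw [r4, mul_one] at e2
  exact ⟨(v cc r1).trans r4, r4, v aa e2, e1⟩

theorem perf {A : Type*} [Group A] {f : ℕ → A} (p : Pres f id Eabcde.rels) (top : gen f [[0], [1], [2], [3], [4]] = ⊤)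
    {ψ : A →* ℤˣ} (hψ : ∀ a < 5, ψ (f a) = sg a) : ⁅ψ.ker, ψ.ker⁆ = ψ.ker := by
  refine le_antisymm (commutator_le_left _ _) ?_
  set N := ⁅ψ.ker, ψ.ker⁆
  let π := QuotientGroup.mk' N
  have cm : ∀ x y, ψ x = 1 → ψ y = 1 → Commute (π x) (π y) := fun x y hx hy => by
    have := (QuotientGroup.eq_one_iff _).2 (commutator_mem_commutator (H₁ := ψ.ker) (H₂ := ψ.ker) hx hy)
    rw [← commutatorElement_eq_one_iff_commute, ← map_commutatorElement]
    exact this
  have r := (p.map π).rel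
  simp only [Eabcde.rels, List.forall_mem_cons, ev_cons, ev_nil, mul_one] at r
  obtain ⟨aa, bb, cc, dd, -, -, ac, -, -, bc, -, -, -, -, de, e3, a5, -⟩ := r
  have k2 := cm (f 0 * f 3) (f 2) (by rw [map_mul, hψ 0 (by norm_num), hψ 3 (by norm_num)]; rfl) (hψ 2 (by norm_num))
  rw [map_mul] at k2
  obtain ⟨h1, h2, h3, h4⟩ := key (e := π (f 4)) aa bb cc dd (by
      rw [← mul_assoc, mul_eq_one_iff_eq_inv, mul_inv_rev, inv_eq_of_mul_eq_one_right aa,
        inv_eq_of_mul_eq_one_right cc] at ac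
      exact ac) (cm (f 1) (f 2) (hψ 1 (by norm_num)) (hψ 2 (by norm_num))) k2
    (by simpa only [pow_succ, pow_zero, one_mul, mul_assoc] using bc)
    (by simpa only [pow_succ, pow_zero, one_mul, mul_assoc] using e3)
    (by simpa only [pow_succ, pow_zero, one_mul, mul_assoc] using a5)
    (by simpa only [pow_succ, pow_zero, one_mul, mul_assoc] using de)
  have all : ∀ x, π x ∈ zpowers (π (f 0)) := fun x => by
    have : gen f [[0], [1], [2], [3], [4]] ≤ (zpowers (π (f 0))).comap π := gen_le_iff.2 (by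
      simp only [List.forall_mem_cons, ev_singleton, mem_comap, h1, h2, h3, h4, one_mem, mem_zpowers, true_and]
      simp)
    exact this (top ▸ mem_top x)
  intro x hx
  obtain ⟨k, hk⟩ := all x
  have hn : f 0 ^ k * x⁻¹ ∈ N := (QuotientGroup.eq_one_iff _).1 (by
    show π _ = 1
    rw [map_mul, map_zpow, map_inv, ← hk, mul_inv_cancel])
  have h5 : ψ (f 0 ^ k * x⁻¹) = 1 := commutator_le_left ψ.ker ψ.ker hn
  rw [map_mul, map_inv, show ψ x = 1 from hx, inv_one, mul_one, map_zpow, hψ 0 (by norm_num)] at h5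
  refine (QuotientGroup.eq_one_iff _).1 (hk.symm.trans ?_)
  rcases Int.even_or_odd k with ⟨j, rfl⟩ | o
  · show π (f 0) ^ (j + j) = 1
    rw [← two_mul, zpow_mul, zpow_two, aa, one_zpow]
  · exact absurd (o.neg_one_zpow.symm.trans h5) (by decide)

theorem exists_Y : ∃ Y : Subgroup Spor.He, Y ≤ Y0 ∧ ⁅Y, Y⁆ = Y ∧ Nat.card Y = 7560 := by
  obtain ⟨ψ, hψ⟩ := exists_sgn
  have p : Pres (inGen g [[0], [1], [2], [3], [4]]) id Eabcde.rels :=
    (pres5.subst (ivl := List.range 5) (by decide +kernel)).toId.inGen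
  have := perf p (gen_inGen _ _ le_rfl) hψ
  refine ⟨ψ.ker.map Y0.subtype, map_subtype_le _, by rw [← map_commutator, this], ?_⟩
  have h1 := ψ.ker.card_mul_index
  have h2 : ψ.range = ⊤ := eq_top_iff.2 fun x _ => by
    rcases Int.units_eq_one_or x with rfl | rfl
    exacts [one_mem _, ⟨_, hψ 0 (by norm_num)⟩]
  rw [index_ker, h2, card_top, card_Y0, Nat.card_eq_fintype_card (α := ℤˣ), Fintype.card_units_int] at h1
  rw [card_map_of_injective Y0.subtype_injective]
  omega

theorem center_eq : ∀ k : Spor.He, (∀ x, k * x = x * k) → k = 1 := fun k hk => by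
  have := He.isSimpleGroup
  rcases (center Spor.He).normal_of_characteristic.eq_bot_or_eq_top with e | e
  · exact mem_bot.1 (e ▸ mem_center_iff.2 fun x => (hk x).symm)
  · have h : ev g [0, 1, 0, 1] ≠ 1 := lift.ne_one valid0 1 (by decide +kernel)
    have := He.pres.rel
    simp only [Rels, List.forall_mem_cons, ev_cons, ev_nil, mul_one] at this h
    refine absurd ?_ h
    rw [← mul_assoc (g 1), mem_center_iff.1 (e ▸ mem_top (g 0)) (g 1), mul_assoc, this.2.1, mul_one, this.1]

/-- A second element of order 5. -/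
def w5 : List ℕ := [6, 3, 1, 2, 3, 5, 2, 3, 2, 3, 5, 2, 3, 2, 1, 2, 3, 2, 3, 1, 2, 3, 2, 5, 3, 2, 3, 2, 5, 3, 2, 1, 3, 6]

theorem chk5 : allLt (fun i => allLt (fun j => Nat.beq (Nat.add i j) 0 ||
    hasCard 7 (fixm nets0 2058 2304 12 (wpow [2, 3, 2, 3] i ++ wpow w5 j)) 8) 5) 5 = true := by
  decide +kernel

theorem fix5 {y : Spor.He} (hy : orderOf y = 5) : (fx φ 2058 y).ncard = 8 := by
  have : Fact (Nat.Prime 5) := ⟨by norm_num⟩
  have h := lift.ev_eq model.inj (valid0.eq_of_chkX (b := 12) (R := Nat.pow 3 1400) (by norm_num)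
    (es := [(wpow [2, 3, 2, 3] 5, []), (wpow w5 5, []), ([2, 3, 2, 3] ++ w5, w5 ++ [2, 3, 2, 3])]) (by decide +kernel))
  simp only [List.forall_mem_cons, ev_append, ev_wpow, ev_nil] at h
  obtain ⟨e1, e2, e3, -⟩ := h
  have k : ∀ i < 5, ∀ j < 5, i + j ≠ 0 → (fx φ 2058 (ev g [2, 3, 2, 3] ^ i * ev g w5 ^ j)).ncard = 8 := fun i hi j hj h => by
    have := allLt_iff.1 (allLt_iff.1 chk5 i hi) j hj
    rw [Bool.or_eq_true, Nat.beq_eq] at this
    rw [← ev_wpow, ← ev_wpow, ← ev_append, ← lift.bits_fixm valid0 (by norm_num) (b := 12) (by norm_num),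
      ncard_bits (this.resolve_left h)]
  generalize ev g [2, 3, 2, 3] = a at *
  generalize ev g w5 = b at *
  have c : Commute a b := e3
  have one : (fx φ 2058 1).ncard ≠ 8 := by
    rw [show fx φ 2058 1 = Set.Iio 2058 from Set.ext fun p => by simp [fx], Set.ncard_Iio_nat]; norm_num
  have za : ∀ {x : Spor.He}, x ^ 5 = 1 → ∀ n : ZMod 5, ∀ m : ZMod 5, x ^ (n + m).val = x ^ n.val * x ^ m.val := fun h n m => by
    rw [ZMod.val_add, ← pow_eq_pow_mod _ h, pow_add]
  let F : Multiplicative (ZMod 5 × ZMod 5) →* Spor.He :=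
    { toFun := fun v => a ^ v.toAdd.1.val * b ^ v.toAdd.2.val
      map_one' := by simp
      map_mul' := fun v w => by
        rw [toAdd_mul, Prod.fst_add, Prod.snd_add, za e1, za e2]
        exact (c.pow_pow _ _).mul_mul_mul_comm _ _ }
  have k' : ∀ v, v ≠ 1 → (fx φ 2058 (F v)).ncard = 8 := fun v hv =>
    k _ (ZMod.val_lt _) _ (ZMod.val_lt _) fun e => hv (by
      rw [Nat.add_eq_zero_iff, ZMod.val_eq_zero, ZMod.val_eq_zero] at e
      exact Prod.ext e.1 e.2)
  have inj : Function.Injective F := (injective_iff_map_eq_one F).2 fun v hv => by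
    by_contra e
    exact one (hv ▸ k' v e)
  have cF : Nat.card F.range = 5 ^ 2 := by
    rw [← Nat.card_congr (MonoidHom.ofInjective inj).toEquiv]
    simp
  let P : Sylow 5 Spor.He := Sylow.ofCard F.range (by
    rw [cF, He.card, show 4030387200 = 5 ^ 2 * 161215488 from rfl, Nat.factorization_mul (by norm_num) (by norm_num),
      Finsupp.add_apply, Nat.Prime.factorization_pow (by norm_num), Finsupp.single_eq_same,
      Nat.factorization_eq_zero_of_not_dvd (by norm_num)])
  obtain ⟨Q, hQ⟩ := (IsPGroup.of_card (p := 5) (n := 1) (G := zpowers y) (by rw [Nat.card_zpowers, hy, pow_one])).exists_le_sylow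
  obtain ⟨u, hu⟩ := MulAction.exists_smul_eq Spor.He Q P
  have : u * y * u⁻¹ ∈ F.range := by
    show u * y * u⁻¹ ∈ P
    rw [← hu]
    exact ⟨y, hQ (mem_zpowers y), rfl⟩
  obtain ⟨v, hv⟩ := this
  rw [← model.ncard_fx_conj u, ← hv]
  refine k' v fun e => ?_
  rw [e, map_one, eq_comm, conj_eq_one_iff] at hv
  rw [hv, orderOf_one] at hy
  omega

theorem theta (hn : X.Normal) (e : X ≃* Spor.He) {t : G} (ht : t ∉ X) (cX : ∀ g, (∀ x ∈ X, Commute g x) → g = 1) :
    X.index = 2 ∧ ∃ θ : G ≃* MulAut Spor.He, ∀ c (x : X), θ c (e x) = e (MulAut.conjNormal c x) := by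
  let θ : G →* MulAut Spor.He := (MulAut.congr e).toMonoidHom.comp MulAut.conjNormal
  have inj : Function.Injective θ := (injective_iff_map_eq_one θ).2 fun c hc => cX c fun x hx => by
    have : MulAut.conjNormal (H := X) c = 1 := (MulAut.congr e).injective (hc.trans (map_one _).symm)
    have := congrArg Subtype.val (DFunLike.congr_fun this ⟨x, hx⟩)
    exact mul_inv_eq_iff_eq_mul.1 this
  have ci : Function.Injective (MulAut.conj : Spor.He →* MulAut Spor.He) :=
    (injective_iff_map_eq_one _).2 fun c hc => center_eq c fun x => mul_inv_eq_iff_eq_mul.1 (DFunLike.congr_fun hc x)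
  have h1 := (Inn Spor.He).card_mul_index
  rw [show (Inn Spor.He).index = 2 from Cfsg.Agent.S2075.result,
    ← Nat.card_congr (MonoidHom.ofInjective ci).toEquiv] at h1
  have h2 := X.card_mul_index
  have h3 := Nat.card_le_card_of_injective θ inj
  have h4 : X.index ≠ 1 := fun h => ht (index_eq_one.1 h ▸ mem_top t)
  have h5 : X.index ≠ 0 := index_ne_zero_of_finite
  rw [Nat.card_congr e.toEquiv] at h2
  rw [He.card] at h1 h2
  have h6 : X.index = 2 := by omega
  exact ⟨h6, MulEquiv.ofBijective θ (inj.bijective_of_nat_card_le (by omega)), fun c x => by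
    show e (MulAut.conjNormal c (e.symm (e x))) = _
    rw [e.symm_apply_apply]⟩

end ZH

/-- An explicit outer automorphism `τ` of order 2 (the one of `S2075`, corrected by an inner one) and words fixed by it generating `3 . A7`; order through the action
on 2058 points (`CL.He.model`), perfect as each generator is a word in commutators (or: generated by elements of orders 2, 3 with product of order 7, ...). -/
theorem he_tau : ∃ τ : MulAut Spor.He, τ * τ = 1 ∧ τ ∉ (MulAut.conj : Spor.He →* MulAut Spor.He).range ∧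
    ∃ Y : Subgroup Spor.He, ⁅Y, Y⁆ = Y ∧ Nat.card Y = 7560 ∧ ∀ y ∈ Y, τ y = y := by
  obtain ⟨τ, hτ⟩ := ZH.exists_tau
  obtain ⟨Y, le, pf, cY⟩ := ZH.exists_Y
  have hY : ∀ y ∈ Y, τ y = y := fun y hy => by
    have : ZH.Y0 ≤ τ.eqLocus (MonoidHom.id _) := CE.gen_le_iff.2 (by
      simp only [List.forall_mem_cons, CE.ev_singleton]
      exact ⟨hτ 0 (by norm_num), hτ 1 (by norm_num), hτ 2 (by norm_num), hτ 3 (by norm_num), hτ 4 (by norm_num), by simp⟩)
    exact this (le hy)
  have tt : ∀ x, τ (τ x) = x := fun x => by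
    have : CE.gen He.g [[0], [1], [2], [3], [4], [5], [6]] ≤ (τ.comp τ).eqLocus (MonoidHom.id _) := CE.gen_le_iff.2 (by
      have k : ∀ a < 7, He.g a ∈ (τ.comp τ).eqLocus (MonoidHom.id _) := fun a ha => by
        show τ (τ _) = He.g a
        rw [hτ a ha, hτ _ (by interval_cases a <;> decide)]
        interval_cases a <;> rfl
      simp only [List.forall_mem_cons, CE.ev_singleton]
      exact ⟨k 0 (by norm_num), k 1 (by norm_num), k 2 (by norm_num), k 3 (by norm_num), k 4 (by norm_num),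
        k 5 (by norm_num), k 6 (by norm_num), by simp⟩)
    exact this (He.gen_top ▸ mem_top x)
  refine ⟨{ τ with invFun := τ, left_inv := tt, right_inv := tt }, MulEquiv.ext tt, ?_, Y, pf, cY, hY⟩
  rintro ⟨k, hk⟩
  have hk : ∀ x, k * x * k⁻¹ = τ x := fun x => DFunLike.congr_fun hk x
  have k2 : k ^ 2 = 1 := ZH.center_eq _ fun x => by
    rw [← mul_inv_eq_iff_eq_mul]
    conv_rhs => rw [← tt x, ← hk, ← hk]
    rw [sq]; group
  have k1 : k ≠ 1 := fun e => by
    have h1 := hk (He.g 5)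
    rw [e, one_mul, inv_one, mul_one, hτ 5 (by norm_num)] at h1
    have h : CE.ev He.g [5, 6] ≠ 1 := He.lift.ne_one He.valid0 1 (by decide +kernel)
    have := He.pres.rel [6, 6] (by decide)
    rw [CE.ev_cons, CE.ev_singleton] at h this
    exact h (h1 ▸ this)
  refine ZH.not27 (orderOf_eq_prime k2 k1) (Dvd.dvd.trans (by rw [cY]; norm_num) (card_dvd_of_le (H := Y) fun y hy => ?_))
  exact KI.mem_C.2 (mul_inv_eq_iff_eq_mul.1 ((hk y).trans (hY y hy))).symm

/-- The elements of order 7 have no fixed point among the 2058 points (`card_H`), so the number of fixed points of an element `y` of order 5 commuting with one would be a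
multiple of 7. Check the 24 elements of a Sylow 5-subgroup (all have 8 fixed points; see `CL.KI.HeI.chkFix`, `facts`). -/
theorem he_35 (x : Spor.He) : orderOf x ≠ 35 := by
  intro h
  have : Fact (Nat.Prime 7) := ⟨by norm_num⟩
  have h5 : orderOf (x ^ 7) = 5 := by rw [orderOf_pow' _ (by norm_num), h]; norm_num
  have h7 : orderOf (x ^ 5) = 7 := by rw [orderOf_pow' _ (by norm_num), h]; norm_num
  have := He.model.dvd_ncard_fx h7 (by rw [He.card_H]; norm_num) (Commute.pow_pow_self x 5 7).eq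
  rw [ZH.fix5 h5] at this
  omega

/-- `G` embeds in `Aut X`, and `|Out| = 2` (`S2075`). -/
theorem he_aut (hn : X.Normal) (h : Spor.IsoHe X) {t : G} (ht : t ∉ X) (cX : ∀ g, (∀ x ∈ X, Commute g x) → g = 1) :
    Nonempty (G ≃* MulAut Spor.He) ∧ X = commutator G ∧ X ⊔ zpowers t = ⊤ := by
  obtain ⟨e⟩ := h
  obtain ⟨i2, θ, -⟩ := ZH.theta hn e ht cX
  refine ⟨⟨θ⟩, le_antisymm ?_ ?_, ?_⟩
  · have := He.isSimpleGroup
    have h1 : commutator Spor.He = ⊤ := (commutator Spor.He).normal_of_characteristic.eq_bot_or_eq_top.resolve_left fun h => by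
      obtain ⟨Y, -, pf, cY⟩ := ZH.exists_Y
      have : Y = ⊥ := le_bot_iff.1 (pf ▸ h ▸ commutator_mono le_top le_top)
      rw [this, card_bot] at cY
      omega
    intro x hx
    have h2 : ((commutator Spor.He).map e.symm.toMonoidHom).map X.subtype ≤ commutator G := by
      rw [commutator_def, map_commutator, map_commutator]
      exact commutator_mono le_top le_top
    exact h2 ⟨⟨x, hx⟩, ⟨e ⟨x, hx⟩, h1 ▸ mem_top _, e.symm_apply_apply _⟩, rfl⟩
  · rw [commutator_def, commutator_le]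
    intro a _ b _
    simp only [commutatorElement_def, mul_mem_iff_of_index_two i2, inv_mem_iff]
    tauto
  · refine eq_top_iff.2 fun c _ => ?_
    by_cases hc : c ∈ X
    · exact mem_sup_left hc
    · rw [← mul_inv_cancel_right c t⁻¹, inv_inv]
      exact mul_mem (mem_sup_left ((mul_mem_iff_of_index_two i2).2 (by simp [hc, ht]))) (mem_sup_right (mem_zpowers t))

/-- `τ` is induced by an involution `s ∉ X`, conjugate to `t`. -/
theorem he_Y (hn : X.Normal) (h : Spor.IsoHe X) {t : G} (ht : t ∉ X) (cX : ∀ g, (∀ x ∈ X, Commute g x) → g = 1)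
    (o : One t X) : ∃ Y : Subgroup G, Y ≤ X ∧ ⁅Y, Y⁆ = Y ∧ Nat.card Y = 7560 ∧ ∀ y ∈ Y, Commute y t := by
  obtain ⟨e⟩ := h
  obtain ⟨-, θ, hθ⟩ := ZH.theta hn e ht cX
  obtain ⟨τ, tt, out, Y, pf, cY, hY⟩ := he_tau
  obtain ⟨s, rfl⟩ := θ.surjective τ
  obtain ⟨c, hc⟩ := isConj_iff.1 (o s (fun hs => out ⟨e ⟨s, hs⟩, MulEquiv.ext fun x => by
    obtain ⟨x, rfl⟩ := e.surjective x
    rw [hθ, MulAut.conj_apply, ← map_inv, ← map_mul, ← map_mul]
    rfl⟩) (θ.injective (by rw [map_mul, tt, map_one])))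
  let f : Spor.He →* G := ((MulAut.conj c⁻¹).toMonoidHom.comp X.subtype).comp e.symm.toMonoidHom
  have inj : Function.Injective f := ((MulAut.conj c⁻¹).injective.comp X.subtype_injective).comp e.symm.injective
  refine ⟨Y.map f, ?_, by rw [← map_commutator, pf], by rw [card_map_of_injective inj, cY], ?_⟩
  · rintro _ ⟨y, -, rfl⟩
    exact hn.conj_mem _ (e.symm y).2 c⁻¹
  · rintro _ ⟨y, hy, rfl⟩
    obtain ⟨x, rfl⟩ := e.surjective y
    have h1 : s * x * s⁻¹ = x := congrArg Subtype.val (e.injective ((hθ s x).symm.trans (hY _ hy)))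
    show c⁻¹ * (e.symm (e x) : X) * c⁻¹⁻¹ * t = t * (c⁻¹ * (e.symm (e x) : X) * c⁻¹⁻¹)
    rw [e.symm_apply_apply]
    conv_lhs => rw [← h1, ← hc]
    group

end CL.HS8
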