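import Cfsg.Agent.INV.HS8.B2d

/-!
Case II: four lemmas on `S = S0 ⟨c⟩`.
-/

set_option autoImplicit false
set_option linter.unusedSectionVars false
set_option synthInstance.maxSize 4000

open Subgroup CL.TwoS CL.MSS

namespace CL.HS8

variable {G : Type*} [Group G] [Finite G] {d : Dat G}

namespace Hy

variable (h : Hy d) {c : G} {p : Bool} (k : C2 d c p)
include h k

theorem swap_notx {g : G} (hg : Commute g d.t) (m m' : M5) (h2 : d.φ5 m' * d.φ5 m' = 1) :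
    g * (d.φ5 m * c) * g⁻¹ ≠ d.φ5 m' := fun e => by
  have := Fact.mk Nat.prime_two
  have r := h.toRl
  have md := r.mod5
  obtain ⟨S, L, hS, s0, nL, mL, sw⟩ := h.ex
  have ct : ∀ m, d.φ5 m ∈ centralizer {d.t} := fun m => mem_centralizer_singleton_iff.2 (r.comm_t m)
  have hD := hS.inf_normal (N := L) (le_normalizer_of_cj_le fun x hx => cj_le_iff_forall.2
    (nL x (mem_centralizer_singleton_iff.1 hx)))
  have n1 : ∀ x ∈ centralizer {d.t} ⊓ L, d.φ5 m' * x * (d.φ5 m')⁻¹ ∈ centralizer {d.t} ⊓ L := fun x hx =>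
    ⟨(centralizer _).mul_mem (mul_mem (ct _) hx.1) (inv_mem (ct _)), nL _ (r.comm_t _) x hx.2⟩
  have n2 : ∀ x ∈ S ⊓ L, d.φ5 m' * x * (d.φ5 m')⁻¹ ∈ S ⊓ L := fun x hx =>
    ⟨S.mul_mem (mul_mem (s0 _) hx.1) (inv_mem (s0 _)), nL _ (r.comm_t _) x hx.2⟩
  have l0 : ext2 _ _ n2 (h2 ▸ one_mem _) ≤ r.S0 := fun x hx => by
    have k0 : ∀ x ∈ S ⊓ L, x ∈ r.S0 := fun x hx =>
      (sw x hx.1).elim (fun ⟨m, e⟩ => r.mem_S0.2 ⟨m, e.symm⟩) fun a => absurd hx.2 a.1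
    exact hx.elim (k0 x) fun a => (mul_mem_cancel_right (inv_mem (r.mem_S0.2 ⟨_, rfl⟩))).1 (k0 _ a)
  have hP : SylIn 2 (ext2 _ _ n2 (h2 ▸ one_mem _)) (ext2 _ _ n1 (h2 ▸ one_mem _)) := by
    refine ⟨fun x hx => hx.imp (fun a => hD.le a) fun a => hD.le a, r.ov_S0.pg.to_le l0, fun Q hQ l1 l2 => ?_⟩
    have e := (hD.max (Q ⊓ (centralizer {d.t} ⊓ L)) hQ.to_inf_left
      (le_inf (fun x hx => l1 (Or.inl hx)) hD.le) inf_le_right).le
    exact le_antisymm (fun x hx => (l2 hx).imp (fun a => e ⟨hx, a⟩)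
      fun a => e ⟨Q.mul_mem hx (inv_mem (l1 self_mem_ext2)), a⟩) l1
  have y2 : d.φ5 m * c * (d.φ5 m * c) = 1 := by
    rw [← e, cj_mul_cj] at h2
    simpa using h2
  have yt : Commute (d.φ5 m * c) d.t := (r.comm_t m).mul_left k.ct
  have q : d.φ5 m * c * d.v * (d.φ5 m * c * d.v) = d.φ5 (m * .of 16 * m⁻¹ * .of 2) := by
    rw [md.mul, md.mul, md.mul, r.φ5_inv, d.φw, d.φv, ← k.cv,
      show d.φ5 m * c * d.v * (d.φ5 m * c * d.v) = d.φ5 m * (c * d.v * c⁻¹) * (d.φ5 m)⁻¹ *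
        (d.φ5 m * c * (d.φ5 m * c)) * d.v by group, y2, mul_one]
  obtain ⟨q1, q2⟩ := (by decide +kernel : ∀ m : M5, ∀ q, q = m * .of 16 * m⁻¹ * .of 2 →
    q * q ≠ 1 ∧ q * q * (q * q) = 1) m _ rfl
  have p4 : ∀ x : G, x ^ 4 = x * x * (x * x) := fun x => by
    simp only [pow_succ, pow_zero, one_mul, mul_assoc]
  obtain ⟨l, -, hl⟩ := hP.exists_conj_le (isPGroup_zpowers (x := g * (d.φ5 m * c * d.v) * g⁻¹) (k := 3) (by
    rw [conj_pow, show 2 ^ 3 = 2 * 4 from rfl, pow_mul, pow_two, q, p4, ← md.mul, ← md.mul, q2, md.one]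
    simp)) (zpowers_le.2 (Or.inr (by
      rw [← e, show g * (d.φ5 m * c * d.v) * g⁻¹ * (g * (d.φ5 m * c) * g⁻¹)⁻¹ =
        g * (d.φ5 m * c) * d.v * (g * (d.φ5 m * c))⁻¹ by group]
      have a := hg.mul_left yt
      exact ⟨mem_centralizer_singleton_iff.2 ((a.mul_left r.c4.tv.symm).mul_left a.inv_left),
        nL _ a _ (d.φv ▸ (mL _).2 rfl)⟩)))
  obtain ⟨n, hn⟩ := r.mem_S0.1 (l0 (hl (conj_mem_cj (mem_zpowers _))))
  have := congrArg (· ^ 4) hn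
  simp only [conj_pow] at this
  rw [p4, p4, q, ← md.mul, ← md.mul, ← md.mul,
    (by decide +kernel : ∀ n : M5, n * n * (n * n) = 1) n, md.one] at this
  exact q1 (md.inj (by simpa [md.one] using this.symm))

omit k in
theorem stab0x {R : Subgroup G} (hR : Ov d R) {g : G} (hg : ∀ x ∈ R, g * x * g⁻¹ ∈ R)
    (ht : Commute g d.t) (hE : Into d.φ4 d.φ4 g) : ∃ m, ∀ x ∈ R, g * x * g⁻¹ = d.φ5 m * x * (d.φ5 m)⁻¹ := by
  have r := h.toRl
  have nt : NT d g := fun m => h.ovE hR (hg _ (hR.s0 m))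
    ((ht.mul_left (r.comm_t m)).mul_left ht.inv_left) ((hE.mul (r.into_φ m)).mul (r.into_inv hE))
  obtain ⟨m, hm⟩ := h.stabS nt hE ht
  have e : ∀ x, (d.φ5 m)⁻¹ * g * x * ((d.φ5 m)⁻¹ * g)⁻¹ = (d.φ5 m)⁻¹ * (g * x * g⁻¹) * d.φ5 m :=
    fun x => by group
  obtain ⟨f, hf⟩ := h.stabE hR.pg (fun e => d.φ5_e e ▸ hR.s0 _) (g := (d.φ5 m)⁻¹ * g)
    (fun x hx => e x ▸ mul_mem (mul_mem (inv_mem (hR.s0 m)) (hg x hx)) (hR.s0 m)) fun f => by
      rw [e, L4.one_app, ← d.φ5_e, hm]; group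
  refine ⟨m * ⟨f, false⟩, fun x hx => ?_⟩
  rw [r.mod5.mul, d.φ5_e]
  calc _ = d.φ5 m * ((d.φ5 m)⁻¹ * g * x * ((d.φ5 m)⁻¹ * g)⁻¹) * (d.φ5 m)⁻¹ := by group
    _ = _ := by rw [hf x hx]; group

theorem fourx {x y : G} (hx : InS d c x) (hy : InS d c y) (x2 : x * x = 1) (y2 : y * y = 1) (x1 : x ≠ 1) (y1 : y ≠ 1) (ne : x ≠ y)
    (n1 : x ≠ d.t) (n2 : y ≠ d.t) (n3 : x * y ≠ d.t)
    (hn : ∀ s, InS d c s → (s * x * s⁻¹ = x ∨ s * x * s⁻¹ = y) ∧ s * (x * y) * s⁻¹ = x * y) :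
    x * y = d.a * d.b ∧ (x = d.a ∨ x = d.b ∨ x = d.t * d.a ∨ x = d.t * d.b) := by
  have r := h.toRl
  have md := r.mod5
  have s0 : ∀ n, InS d c (d.φ5 n) := fun n => ⟨n, false, (mul_one _).symm⟩
  have cj : ∀ n m, d.φ5 n * (d.φ5 m * c) * (d.φ5 n)⁻¹ = d.φ5 (n * m * sw5 n⁻¹) * c := fun n m => by
    rw [md.mul, md.mul, ← k.act r, r.φ5_inv]; group
  have three : ∀ m y, (∀ n, d.φ5 n * (d.φ5 m * c) * (d.φ5 n)⁻¹ = d.φ5 m * c ∨
      d.φ5 n * (d.φ5 m * c) * (d.φ5 n)⁻¹ = y) → False := fun m y a => by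
    obtain ⟨b1, b2, b3⟩ := (by decide +kernel : ∀ m : M5, .of 4 * m * sw5 (.of 4)⁻¹ ≠ m ∧
      .of 2 * m * sw5 (.of 2)⁻¹ ≠ m ∧ .of 4 * m * sw5 (.of 4)⁻¹ ≠ .of 2 * m * sw5 (.of 2)⁻¹) m
    have a1 := a (.of 4)
    have a2 := a (.of 2)
    rw [cj] at a1 a2
    exact b3 (md.inj (mul_right_cancel ((a1.resolve_left fun e => b1 (md.inj (mul_right_cancel e))).trans
      (a2.resolve_left fun e => b2 (md.inj (mul_right_cancel e))).symm)))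
  obtain ⟨m, _ | _, rfl⟩ := hx
  swap
  · exact (three m y fun n => (hn _ (s0 n)).1).elim
  obtain ⟨n, _ | _, rfl⟩ := hy
  swap
  · refine (three (m * n) 1 fun q => Or.inl ?_).elim
    simpa [md.mul, mul_assoc] using (hn _ (s0 q)).2
  simp only [bp_false, mul_one] at *
  have a1 := (hn c ⟨1, true, by simp [md.one]⟩).2
  have a2 := fun q => hn _ (s0 q)
  rw [← md.mul, k.act r] at a1
  simp only [← r.φ5_inv, ← md.mul, md.inj.eq_iff] at a2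
  rw [← md.mul] at n3 ⊢
  rw [← d.φt] at n1 n2 n3
  rw [← md.one] at x1 y1
  obtain ⟨b1, b2⟩ := (by decide +kernel : ∀ m n : M5, m * m = 1 → n * n = 1 → m ≠ 1 → n ≠ 1 → m ≠ n →
    m ≠ .of 1 → n ≠ .of 1 → m * n ≠ .of 1 → sw5 (m * n) = m * n → (sw5 m = m ∨ sw5 m = n) →
    (∀ q, (q * m * q⁻¹ = m ∨ q * m * q⁻¹ = n) ∧ q * (m * n) * q⁻¹ = m * n) →
    m * n = .of 12 ∧ (m = .of 4 ∨ m = .of 8 ∨ m = .of 5 ∨ m = .of 9)) m n (md.sq.1 x2) (md.sq.1 y2)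
    (fun e => x1 (e ▸ rfl)) (fun e => y1 (e ▸ rfl)) (fun e => ne (e ▸ rfl)) (fun e => n1 (e ▸ rfl))
    (fun e => n2 (e ▸ rfl)) (fun e => n3 (e ▸ rfl)) (md.inj a1) (by
      simpa only [k.act r, md.inj.eq_iff] using (hn c ⟨1, true, by simp [md.one]⟩).1) a2
  refine ⟨by rw [b1, Rl.φz], ?_⟩
  rcases b2 with rfl | rfl | rfl | rfl
  exacts [Or.inl d.φa, Or.inr (Or.inl d.φb), Or.inr (Or.inr (Or.inl Rl.φta)), Or.inr (Or.inr (Or.inr Rl.φtb))]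

theorem joinSx {R : Subgroup G} (hR : Ov0 d R) (e : K4 d ∨ ∃ α β, K8 d α β) :
    ∃ c' Q, C2 d c' p ∧ Ov d Q ∧ R ≤ Q ∧ c' ∈ Q ∧ ∀ x ∈ Q, NT d x := by
  have r := h.toRl
  have md := r.mod5
  have nm : ∀ {g}, NT d g → g ∈ normalizer (r.S0 : Set G) := fun hg =>
    mem_normalizer_of_cj_le (cj_le_iff_forall.2 fun x hx => by
      obtain ⟨m, rfl⟩ := r.mem_S0.1 hx
      obtain ⟨n, e⟩ := hg m
      exact r.mem_S0.2 ⟨n, e.symm⟩)
  have nt : ∀ {g}, g ∈ normalizer (r.S0 : Set G) → NT d g := fun hg =>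
    r.nt_of_le (cj_eq_of_mem_normalizer hg).le
  have two : ∀ g ∈ normalizer (r.S0 : Set G), Into d.φ4 d.φ4 g → ∀ x ∈ r.S0, Commute (g ^ 8) x :=
    fun g hg hE => by
    obtain ⟨F, a⟩ := r.act_of_into hE
    have z := md.inj ((d.φ5_e _).trans ((a (.of 12)).symm.trans
      (by rw [Rl.ψz, r.nt_z (nt hg), ← Rl.ψz, ← d.φ5_e])))
    have F4 : F * F * (F * F) = 1 := by
      have k0 : ∀ A, A = A4T ∨ A = A8 false ∨ A = A8 true → ∀ f ∈ A, ∀ s ∈ S3,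
          (f * s).app (.of 12) = .of 12 → f * s * (f * s) * (f * s * (f * s)) = 1 := by
        rintro _ (rfl | rfl | rfl) <;> decide +kernel
      have k1 : ∀ A, A = A4T ∨ A = A8 false ∨ A = A8 true → AE d A → F * F * (F * F) = 1 := fun A hA ae => by
        obtain ⟨f, hf, s, hs, b⟩ := ae.le g hE
        obtain rfl := Act.unique r.mod4.inj a b
        exact k0 A hA f hf s hs (congrArg M5.e z)
      rcases e with e | ⟨_ | _, β, e⟩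
      exacts [k1 _ (Or.inl rfl) e.1, k1 _ (Or.inr (Or.inl rfl)) e.1, k1 _ (Or.inr (Or.inr rfl)) e.1]
    have a4 : Act d.φ4 (g ^ 4) 1 := by
      rw [show g ^ 4 = g * g * (g * g) by simp only [pow_succ, pow_zero, one_mul, mul_assoc], ← F4]
      exact (a.mul a).mul (a.mul a)
    obtain ⟨n, hn⟩ := nt (pow_mem hg 4) (.of 16)
    have c4 := fun e => r.act_comm a4 (L4.one_app e)
    generalize hy : g ^ 4 = y at hn c4
    rw [show g ^ 8 = y * y by rw [← hy, ← pow_add]]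
    have nw : n.w = true := by
      by_contra nw
      rw [Rl.φ5_E n (by simpa using nw), ← cj_of_comm (c4 n.e), TwoS.cj_inj, ← d.φ5_e] at hn
      exact Bool.noConfusion (congrArg M5.w (md.inj hn))
    rw [d.φw, Dat.φ5, nw, bp_true] at hn
    intro x hx
    obtain ⟨m, rfl⟩ := r.mem_S0.1 hx
    refine ((c4 _).mul_left (c4 _)).mul_right (comm_bp (comm_of_cj ?_) _)
    rw [show y * y * d.w * (y * y)⁻¹ = y * (y * d.w * y⁻¹) * y⁻¹ by group, hn, ← cj_mul_cj, hn,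
      cj_of_comm (c4 _), ← mul_assoc, ← r.mod4.mul, V4.mul_self, r.mod4.one, one_mul]
  obtain ⟨o, -, ho, Q, hQ, l1, l2⟩ := join (R := r.S0) (N := normalizer (r.S0 : Set G)) (P1 := R)
    (P2 := zpowers c) le_rfl (fun g hg => ⟨4, by
      rw [show 2 ^ 4 = 2 * 8 from rfl, pow_mul, pow_two]
      refine two _ (mul_mem hg hg) ?_
      rcases r.dich (nt hg) with a | a
      exacts [a.1.mul a.1, a.2.mul a.1]⟩) hR.pg (fun x hx => nm (hR.nt x hx).1)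
    (isPGroup_zpowers (k := 2) (by
      rw [show 2 ^ 2 = 2 * 2 from rfl, pow_mul, pow_two c, k.cc, pow_two, ← bp_xor r.c4.tt]; simp))
    (zpowers_le.2 (nm (k.sw r).1))
  exact ⟨_, Q, k.cj fun m => ho _ (r.mem_S0.2 ⟨m, rfl⟩), ⟨hQ.pgroup, fun m => l1 (hR.s0 m)⟩, l1,
    l2 c (mem_zpowers c), fun x hx => nt (hQ.le hx)⟩

end Hy

end CL.HS8
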