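import Cfsg.Agent.INV.HS8.W4a

/-!
Configuration K4 in case I, `μ = 0`: the group `T2 = ⟨a⟩ × W2 ⟨t⟩` of order 256.
-/

set_option autoImplicit false
set_option linter.unusedSectionVars false
set_option linter.unusedSimpArgs false

open Subgroup CL.TwoS CL.MSS CL.K

namespace CL.HS8

variable {G : Type*} [Group G] [Finite G] {d : Dat G}

/-- `m = n z` and `[β, α] = z ^ e`; `Q` is Sylow in the normaliser of `T1 = ⟨S0, n⟩`. -/
structure W4 (d : Dat G) (P M P' M' T1 Q : Subgroup G) (ρ n α ρ' β : G) (e : Bool) : Prop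
    extends W0 d P M P' M' ρ n α ρ' (n * (d.a * d.b)) β false where
  c0 : β * α * β⁻¹ = α * bp (d.a * d.b) e
  t1 : ∀ x, x ∈ T1 ↔ ∃ m i, x = d.φ5 m * bp n i
  sq : SylIn 2 Q (normalizer (T1 : Set G))
  t1Q : T1 ≤ Q
  αQ : α ∈ Q
  βQ : β ∈ Q

open Kt Ltb W4a

namespace W4b

theorem ac_inv {P : PC} {g : ℕ → G} (h : PC.Md P g) {u : G} {im im' : List ℕ} (a : P.Ac g u im)
    (k : im'.length = P.n ∧ ∀ j < P.n, im'.getD j 0 < 2 ^ P.n ∧ P.ap im (im'.getD j 0) = 2 ^ j) :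
    P.Ac g u⁻¹ im' := ⟨k.1, fun j hj => ⟨(k.2 j hj).1, by
  rw [← P.ev_gen g hj, ← (k.2 j hj).2, ← (h.ap a _).2]; group⟩⟩

def PM0 : PC := ⟨6, 0x1a01b01801901e01f01c01d01301201101001701601501400e00f00c00d00a00b00800900700600500400300200100000f00e00d00c00b00a009008007006005004003002001000007006005004003002001000003002001000001000000000, 0x0, 0x3a03b03803903e03f03c03d03303203103003703603503402e02f02c02d02a02b02802902702602502402302202102001f01e01d01c01b01a01901801701601501401301201101000f00e00d00c00b00a009008007006005004003002001000⟩ -- z b v n al t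

/-- The model of `B_E`. -/
def P5 : PC := PM0.lev 5

variable {P M P' M' : Subgroup G} {ρ n α ρ' m β : G}

theorem md0 (h : Rl d) (l : TN d ρ n α false false) : PC.Md PM0 (gM d n α) := by
  refine ⟨by decide +kernel, PC.rel_of [0, 0, 0, 0, 0, 0] [[], [1], [1, 2], [1, 2, 4], [1, 2, 4, 8],
    [1, 2, 4, 9, 20]] (by decide +kernel) fun k hk => ?_⟩
  have m := h.mod4
  change k < 6 at hk
  change _ = PC.evk _ 6 _ ∧ ∀ j < k, _ = PC.evk _ 6 _ * _
  interval_cases k <;> refine ⟨?_, fun j hj => ?_⟩ <;> (try interval_cases j) <;>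
    simp [gM, PC.gl, PC.evk, Nat.testBit, -mul_left_inj, -mul_right_inj] <;>
    simp only [mul_assoc, comm_l l.na, comm_l' l.na, comm_l l.αa, comm_l' l.αa, mm m, mm' m, l.n_sq h,
      l.α_sq h, l.comm.symm.eq] <;>
    e_fin m

theorem md5 (h : Rl d) (l : TN d ρ n α false false) : PC.Md P5 (gM d n α) :=
  (md0 h l).lev (by decide) (by decide +kernel)

theorem ec0 (h : Rl d) (n α : G) (e : V4) : PM0.ev (gM d n α) (ce e) = d.φ4 e := ev_ce h n α e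

theorem ev5 (n α : G) {x : ℕ} (hx : x < 2 ^ 5) : P5.ev (gM d n α) x = PM0.ev (gM d n α) x :=
  PC.Md.lev_ev (by decide) hx

theorem sub0 (h : Hy d) (lo : Lo d A4T P M ρ) (hn : n ∈ M) (hα : α ∈ M)
    (l : TN d ρ n α false false) : (md0 h.toRl l).sub = M ∧ PM0.Inj (gM d n α) := by
  have md := md0 h.toRl l
  refine ⟨le_antisymm (md.sub_le fun j hj => ?_) (lo.M_le4 h hn hα l.na l.αa
    (fun e => ec0 h.toRl n α e ▸ md.ev_mem ((by decide +kernel : ∀ e, ce e < 2 ^ 6) e))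
    (md.gmem (j := 3) (by decide)) (md.gmem (j := 4) (by decide))),
    md.inj_of (K := [1, 2, 3, 4, 5, 6, 7]) (by decide +kernel) fun x hx e => ?_⟩
  · change j < 6 at hj
    interval_cases j
    exacts [lo.e_mem h gd4T _, lo.e_mem h gd4T _, lo.e_mem h gd4T _, hn, hα, lo.e_mem h gd4T _]
  · obtain ⟨k1, k2⟩ := (by decide +kernel : ∀ x ∈ [1, 2, 3, 4, 5, 6, 7], ce (de x) = x ∧ de x ≠ 1) x hx
    rw [← k1, ec0 h.toRl, ← h.toRl.mod4.one] at e
    exact k2 (h.toRl.mod4.inj e)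

/-- `B_E` contains no conjugate of `t`. -/
theorem notB (h : Hy d) (lo : Lo d A4T P M ρ) (hn : n ∈ M) (hα : α ∈ M)
    (l : TN d ρ n α false false) : ∀ x ∈ (md5 h.toRl l).sub, ¬ IsConj d.t x := fun x hx k => by
  have md := md5 h.toRl l
  have i : P5.Inj (gM d n α) := PC.Md.lev_inj (sub0 h lo hn hα l).2 (by decide)
  have := h.rank4 k (B := md.sub) (by
    rintro _ ⟨y, hy, rfl⟩
    rw [← md.mul hy hy, (by decide +kernel : ∀ y < 2 ^ 5, P5.mul y y = 0) y hy, PC.ev_zero]) (by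
    rintro _ ⟨y, hy, rfl⟩
    obtain ⟨x, hx, rfl⟩ := hx
    exact (md.comm i hy hx).2 ((by decide +kernel : ∀ y < 2 ^ 5, ∀ x < 2 ^ 5,
      P5.mul y x = P5.mul x y) y hy x hx))
  rw [md.card_sub i] at this
  exact absurd this (by decide)

theorem exB (h : Hy d) (lo : Lo d A4T P M ρ) (hn : n ∈ M) (hα : α ∈ M)
    (l : TN d ρ n α false false) : ∃ B : Subgroup G, (∀ x ∈ B, ¬ IsConj d.t x) ∧
      (∀ e : V4, e.t = false → d.φ4 e ∈ B) ∧ n ∈ B ∧ α ∈ B := by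
  have md := md5 h.toRl l
  refine ⟨_, notB h lo hn hα l, fun e he => ?_, md.gmem (j := 3) (by decide), md.gmem (j := 4) (by decide)⟩
  have := (by decide +kernel : ∀ e : V4, e.t = false → ce e < 2 ^ 5) e he
  rw [← ec0 h.toRl n α, ← ev5 n α this]
  exact md.ev_mem this

/-- An element normalising `M` and centralising `E0` acts on `E` in `A4T`. -/
theorem actE (h : Hy d) (ae : AE d A4T) (lo : Lo d A4T P M ρ) (hn : n ∈ M) (hα : α ∈ M)
    (l : TN d ρ n α false false) {g : G} {I : List ℕ} (a : P5.Ac (gM d n α) g I)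
    (hI : ∀ j < 3, I.getD j 0 = 2 ^ j) (hg : ∀ x ∈ M, g * x * g⁻¹ ∈ M) : ∃ f ∈ A4T, Act d.φ4 g f := by
  have r := h.toRl
  have md := md0 r l
  obtain ⟨hM, i⟩ := sub0 h lo hn hα l
  obtain ⟨x, hx, ex⟩ := hM.ge (hg _ (lo.e_mem h gd4T (.of 1)))
  rw [d.ψt] at ex
  have k : IsConj d.t (PM0.ev (gM d n α) x) := isConj_iff.2 ⟨g, ex.symm⟩
  have f : ∀ j < 3, g * gM d n α j * g⁻¹ = gM d n α j := fun j hj => by
    rw [(a.2 j (hj.trans (by decide))).2, hI j hj, PC.ev_gen _ _ (hj.trans (by decide))]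
  have f0 : g * d.φ4 (.of 12) * g⁻¹ = d.φ4 (.of 12) := f 0 (by decide)
  have f1 : g * d.φ4 (.of 8) * g⁻¹ = d.φ4 (.of 8) := f 1 (by decide)
  have f2 : g * d.φ4 (.of 2) * g⁻¹ = d.φ4 (.of 2) := f 2 (by decide)
  rcases (by decide +kernel : ∀ x < 2 ^ 6, PM0.mul x x = 0 → x < 2 ^ 5 ∨ x = ce (de x)) x hx
    ((md.eq_one i (PC.mul_lt md.ok hx hx)).1 (by rw [md.mul hx hx, sq_of_isConj r.c4.tt k])) with e | e
  · exact (notB h lo hn hα l _ ((md5 r l).ev_mem e) (by rwa [ev5 n α e])).elim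
  · have ag : Act d.φ4 g ⟨de x, .of 2, .of 4, .of 8⟩ := Act.of_gen r.c4
      (by rw [← ex, e, ec0 r, ← e]; rfl) ((d.ψv ▸ f2 :).trans d.ψv.symm)
      (by
        have := cjm g (d.φ4 (.of 12)) (d.φ4 (.of 8))
        rw [f0, f1, mm r.mod4] at this
        exact (d.ψa ▸ this :).trans d.ψa.symm)
      ((d.ψb ▸ f1 :).trans d.ψb.symm)
    obtain ⟨f, hf, s, hs, b⟩ := ae.le g ag.into
    have e1 := Act.unique r.mod4.inj ag b
    exact ⟨_, (by decide +kernel : ∀ f ∈ A4T, ∀ s ∈ S3, (f * s).v = .of 2 → (f * s).a = .of 4 →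
      f * s ∈ A4T) f hf s hs (by rw [← e1]) (by rw [← e1]), b⟩

/-- The actions of `M` on `B_E`. -/
def IM : List (List ℕ) := [[1, 2, 4, 8, 16], [1, 2, 4, 9, 20]]

end W4b

open W4b

/-- `B_E = ⟨b, z, v, n, α⟩` is elementary abelian of order 32. If `[β, α] = b` then `ρ, β` normalise `B_E`
(`β : v ↦ v n z, α ↦ α b`) and `y = β ρ β ρ⁻¹ β ρ β ρ β ρ β` acts on `B_E` as `n ↦ n b` fixing `b, z, v, α`, which commutes
with the action of `t`. `M = B_E ⟨t⟩` is Sylow in `K = C(B_E) ⟨t⟩` (`syl_of`: `x ∈ N(M) ∩ C(B_E)` maps `t` to an involution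
of `M - B_E`, i.e. into `t E0`, so normalises `E`, acts in `A4T`; then `cov`, `cV`). `y` normalises `K`; by `frattini` `c y`
normalises `M`, so normalises `E`, acts in `A4T` (`AE.le`) and on `M` as an element of `M` (`stabM`): false on `n`. -/
theorem W0.c0_ne (h : Hy d) {P M P' M' : Subgroup G} {ρ n α ρ' β : G}
    (k : W0 d P M P' M' ρ n α ρ' (n * (d.a * d.b)) β false) : β * α * β⁻¹ ≠ α * d.b := fun hc => by
  have r := h.toRl
  have M4 := r.mod4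
  have l := k.tn
  have md := md0 r l
  have m5 := md5 r l
  obtain ⟨hM, i⟩ := sub0 h k.lo k.nM k.αM l
  have ec : ∀ e : V4, e.t = false → P5.ev (gM d n α) (ce e) = d.φ4 e := fun e he => by
    rw [ev5 n α ((by decide +kernel : ∀ e : V4, e.t = false → ce e < 2 ^ 5) e he), ec0 r]
  have gn : P5.ev (gM d n α) 8 = n := PC.ev_gen _ _ (j := 3) (by decide)
  have gα : P5.ev (gM d n α) 16 = α := PC.ev_gen _ _ (j := 4) (by decide)
  have aρ : P5.Ac (gM d n α) ρ [4, 2, 5, 16, 24] := ⟨rfl, fun j hj => by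
    change j < 5 at hj
    interval_cases j
    exacts [⟨by decide, (l.ρa _).trans (ec _ rfl).symm⟩, ⟨by decide, (l.ρa _).trans (ec _ rfl).symm⟩,
      ⟨by decide, (l.ρa _).trans (ec _ rfl).symm⟩, ⟨by decide, l.ρn.trans gα.symm⟩,
      ⟨by decide, l.ρα.trans (by
        rw [show [4, 2, 5, 16, 24].getD 4 0 = P5.iv (P5.mul 8 16) by decide +kernel,
          m5.iv (by decide +kernel), m5.mul (by decide) (by decide), gn, gα])⟩]⟩
  have βe : ∀ e : V4, e.v = false → e.t = false → β * d.φ4 e * β⁻¹ = d.φ4 e := fun e h1 h2 => by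
    rw [β_e r k.tn'.αa h1, h2, bp_false, mul_one]
  have aβ : P5.Ac (gM d n α) β [1, 2, 13, 8, 18] := ⟨rfl, fun j hj => by
    change j < 5 at hj
    interval_cases j
    · exact ⟨by decide, (βe _ rfl rfl).trans (ec _ rfl).symm⟩
    · exact ⟨by decide, (βe _ rfl rfl).trans (ec _ rfl).symm⟩
    · refine ⟨by decide, ?_⟩
      have := k.tn'.αw r.swap
      rw [bp_false, r.swap.mod4.one, one_mul] at this
      rw [show [1, 2, 13, 8, 18].getD 2 0 = P5.mul (P5.mul 8 (ce (.of 12))) (ce (.of 2)) by decide +kernel,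
        m5.mul (by decide +kernel) (by decide), m5.mul (by decide) (by decide), gn, ec _ rfl, ec _ rfl,
        Rl.ψz]
      change β * d.φ4 (.of 2) * β⁻¹ = _
      rw [d.ψv]
      exact this
    · refine ⟨by decide, Eq.trans ?_ gn.symm⟩
      change β * n * β⁻¹ = n
      exact cj_of_comm (comm_of_mul (x := d.φ4 (.of 12)) (comm_of_cj (βe _ rfl rfl)) (by
        rw [mv l.na (by decide), show nb.app (.of 12) = .of 12 from rfl, Rl.ψz]; exact k.tn'.comm.symm))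
    · refine ⟨by decide, hc.trans ?_⟩
      rw [show [1, 2, 13, 8, 18].getD 4 0 = P5.mul 16 (ce (.of 8)) by decide +kernel,
        m5.mul (by decide) (by decide), gα, ec _ rfl, d.ψb]⟩
  have aρβ := m5.cp aρ aβ
  have ay := m5.cp aβ (m5.cp aρβ (m5.cp aρ (m5.cp aρβ (m5.cp aρβ (m5.cp aρβ aρβ)))))
  generalize β * _ = y at ay
  rw [show P5.cp _ _ = [1, 2, 4, 10, 16] by decide +kernel] at ay
  have ay' := ac_inv m5 ay (im' := [1, 2, 4, 10, 16]) (by decide +kernel)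
  let K : Subgroup G := subOfMul {u | ∃ I ∈ IM, P5.Ac (gM d n α) u I}
    ⟨[1, 2, 4, 8, 16], by decide, rfl, fun j hj => by
      obtain ⟨e1, e2⟩ := (by decide : ∀ j < 5, [1, 2, 4, 8, 16].getD j 0 = 2 ^ j ∧ 2 ^ j < 2 ^ 5) j hj
      rw [e1, PC.ev_gen _ _ hj]
      exact ⟨e2, by group⟩⟩
    fun _ ⟨I, hI, a⟩ _ ⟨J, hJ, b⟩ =>
      ⟨_, (by decide +kernel : ∀ I ∈ IM, ∀ J ∈ IM, P5.cp I J ∈ IM) I hI J hJ, m5.cp a b⟩
  have lK : M ≤ K := fun u hu => by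
    obtain ⟨x, hx, rfl⟩ := hM.ge hu
    obtain ⟨I, hI, e1, e2⟩ := (by decide +kernel : ∀ x < 2 ^ 6, ∃ I ∈ IM, I.length = 5 ∧
      ∀ j < 5, I.getD j 0 < 2 ^ 5 ∧ 2 ^ j < 2 ^ 6 ∧ PM0.cj x (2 ^ j) = I.getD j 0) x hx
    refine ⟨I, hI, e1, fun j hj => ⟨(e2 j hj).1, ?_⟩⟩
    rw [ev5 n α (e2 j hj).1, ← (e2 j hj).2.2, md.cj hx (e2 j hj).2.1,
      PC.ev_gen _ _ (hj.trans (by decide))]
  have pM : IsPGroup 2 M := k.lo.pg.to_le k.lo.le
  have sM : SylIn 2 M K := syl_of pM lK fun Q hQ h1 h2 g hg hn => by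
    obtain ⟨I, hI, a⟩ := h2 hg
    obtain ⟨f, hf, b⟩ := actE h k.ae k.lo k.nM k.αM l a
      ((by decide : ∀ I ∈ IM, ∀ j < 3, I.getD j 0 = 2 ^ j) I hI) hn
    obtain ⟨x, hx, b'⟩ := k.lo.cov f hf
    obtain ⟨e, he⟩ := h.cV1 hQ (fun e => h1 (k.lo.e_mem h gd4T e)) (mul_mem (inv_mem (h1 hx)) hg)
      (LE.div b' b)
    rw [show g = x * d.φ4 e by rw [← he]; group]
    exact mul_mem hx (k.lo.e_mem h gd4T e)
  obtain ⟨c, ⟨I, hI, a⟩, hn⟩ := frattini sM (g := y) fun x ⟨I, hI, a⟩ =>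
    ⟨_, (by decide +kernel : ∀ I ∈ IM, P5.cp (P5.cp [1, 2, 4, 10, 16] I) [1, 2, 4, 10, 16] ∈ IM) I hI,
      m5.cp (m5.cp ay a) ay'⟩
  have b := m5.cp a ay
  obtain ⟨f, hf, b'⟩ := actE h k.ae k.lo k.nM k.αM l b
    ((by decide +kernel : ∀ I ∈ IM, ∀ j < 3, (P5.cp I [1, 2, 4, 10, 16]).getD j 0 = 2 ^ j) I hI) hn
  obtain ⟨u, hu, e⟩ := k.lo.stabM h gd4T hn hf b'
  obtain ⟨x, hx, rfl⟩ := hM.ge hu
  obtain ⟨e1, e2⟩ := b.2 3 (by decide)
  refine (by decide +kernel : ∀ I ∈ IM, ∀ x < 2 ^ 6,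
    PM0.cj x 8 ≠ (P5.cp I [1, 2, 4, 10, 16]).getD 3 0) I hI x hx
    (i _ (PC.cj_lt md.ok hx (by decide)) _ (e1.trans (by decide)) ?_)
  rw [md.cj hx (by decide), ← ev5 n α e1, ← e2, ← ev5 n α (x := 8) (by decide), gn, ← e n k.nM]
  rfl

namespace W4b

/-- Model of `T1 = ⟨S0, n⟩`. -/
@[ext] structure M6 where
  m : M5
  i : Bool
  deriving DecidableEq

namespace M6

def th : M5 → M5 := app5 (.of 13) (.of 2) (.of 4) (.of 16)

instance : Mul M6 := ⟨fun x y => ⟨x.m * cond x.i (th y.m) y.m, xor x.i y.i⟩⟩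
instance : One M6 := ⟨⟨1, false⟩⟩

def of (n : ℕ) : M6 := ⟨.of n, n.testBit 5⟩

instance : Fintype M6 := Fintype.ofList ((List.range 64).map of) fun ⟨m, i⟩ => by
  revert m i; decide +kernel

/-- Coordinates modulo `Z` in the basis `t, t v, t w, t v w n`. -/
def q (x : M6) : V4 :=
  ⟨xor x.m.e.t (xor x.m.e.v (xor x.m.w x.i)), xor x.m.e.v x.i, xor x.m.w x.i, x.i⟩

/-- The commutator form. -/
def cm (e f : V4) : Bool := xor (xor (e.t && f.b) (e.b && f.t)) (xor (e.v && f.a) (e.a && f.v))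

def bs : List V4 := [.of 1, .of 2, .of 4, .of 8]
def Zl : List M6 := [1, .of 4, .of 8, .of 12]

theorem q_mul : ∀ x y : M6, q (x * y) = q x * q y := by decide +kernel

set_option synthInstance.maxSize 2048 in
theorem pure {θ : M6 → M6} (hm : ∀ x y, θ (x * y) = θ x * θ y) (hi : Function.Injective θ)
    (hΩ : ∀ x ∈ [of 1, of 3, of 17, of 51], q (θ x) ∈ bs) (x : M6) : θ^[2 ^ 3] x = x := by
  have h1 : θ 1 = 1 := (by decide +kernel : ∀ y : M6, y * y = y → y = 1) _ (by rw [← hm]; rfl)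
  have F : ∀ x y : M6, x * y = y * x ↔ cm (q x) (q y) = false := by decide +kernel
  have cz : ∀ x y, cm (q (θ x)) (q (θ y)) = cm (q x) (q y) := fun x y => by
    rw [← Bool.not_inj_iff, Bool.eq_iff_iff, Bool.not_eq_true', Bool.not_eq_true', ← F, ← F, ← hm, ← hm,
      hi.eq_iff]
  obtain ⟨hL, hZ⟩ := (by decide +kernel : ∀ a ∈ bs, ∀ b ∈ bs, ∀ c ∈ bs, ∀ e ∈ bs, cm a e = true →
    cm b c = true → cm a b = false → cm a c = false →
      (∀ f, L4.app ⟨a, b, c, e⟩ (L4.app ⟨a, b, c, e⟩ (L4.app ⟨a, b, c, e⟩ (L4.app ⟨a, b, c, e⟩ f))) = f) ∧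
      ∀ f, cm f a = false → cm f b = false → cm f c = false → cm f e = false → f = 1)
    _ (hΩ (of 1) (by decide)) _ (hΩ (of 3) (by decide)) _ (hΩ (of 17) (by decide))
    _ (hΩ (of 51) (by decide)) (cz _ _) (cz _ _) (cz _ _) (cz _ _)
  have zq : ∀ c ∈ Zl, q (θ c) = 1 := fun c hc => by
    have : q c = 1 := (by decide : ∀ c ∈ Zl, q c = 1) c hc
    refine hZ _ ?_ ?_ ?_ ?_ <;> rw [cz, this] <;> rfl
  have hq : ∀ x, q (θ x) = L4.app ⟨q (θ (of 1)), q (θ (of 3)), q (θ (of 17)), q (θ (of 51))⟩ (q x) :=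
    fun x => by
      obtain ⟨c, hc, e⟩ := (by decide +kernel : ∀ x : M6, ∃ c ∈ Zl,
        x = TwoS.W4 (of 1) (of 3) (of 17) (of 51) (q x) * c) x
      conv_lhs => rw [e, hm, q_mul, zq c hc, mul_one, map_W4 h1 hm, map_W4 rfl q_mul]
      rfl
  have z : θ (of 12) = of 12 := ((by decide +kernel : ∀ y : M6, y * y = 1 ∨ y * y = of 12)
    (θ (of 18))).elim (fun e => absurd (hi (((hm _ _).trans e).trans h1.symm)) (by decide))
    fun e => (hm _ _).trans e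
  have c2 : ∀ c ∈ Zl, θ (θ c) = c := by
    have b : θ (of 8) = θ (of 4) * of 12 := by rw [← z, ← hm]; rfl
    have := (by decide +kernel : ∀ y : M6, q y = 1 → y ≠ 1 → y ≠ of 12 → y = of 4 ∨ y = of 8) _
      (zq (of 4) (by decide)) (fun e => absurd (hi (e.trans h1.symm)) (by decide))
      fun e => absurd (hi (e.trans z.symm)) (by decide)
    simp only [Zl, List.mem_cons, List.not_mem_nil, or_false, forall_eq_or_imp, forall_eq, h1, z, true_and,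
      and_true]
    rcases this with e | e <;> rw [e] at b
    · rw [e, e, b]; exact ⟨rfl, b⟩
    · rw [e, b]; exact ⟨rfl, e⟩
  obtain ⟨c, hc, e⟩ := (by decide +kernel : ∀ x y : M6, q y = q x → ∃ c ∈ Zl, y = x * c) x
    (θ (θ (θ (θ x)))) (by rw [hq (θ (θ (θ x))), hq (θ (θ x)), hq (θ x), hq x, hL])
  change θ (θ (θ (θ (θ (θ (θ (θ x))))))) = x
  rw [e, hm, hm, hm, hm, e, c2 c hc, c2 c hc]
  exact (by decide +kernel : ∀ x : M6, ∀ c ∈ Zl, x * c * c = x) x c hc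

end M6

open M6

def φ6 (d : Dat G) (n : G) (x : M6) : G := d.φ5 x.m * bp n x.i

variable {P M P' M' : Subgroup G} {ρ n α ρ' m β : G}

theorem mod6 (r : Rl d) (l : TN d ρ n α false false) : IsMod (φ6 d n) := by
  have nn : n * n = 1 := by rw [l.n_sq r]; exact r.mod4.one
  refine ⟨fun x y => r.mod5.ext_mul0 (l.au r) nn _ _ _ _, by
    change d.φ5 1 * 1 = 1
    rw [r.mod5.one, mul_one], fun x y e => ?_⟩
  have := r.mod5.ext_inj (y := n) (fun a b e => ?_) e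
  · exact M6.ext this.1 this.2
  · have k := cj_of_comm (comm_of_mul (r.comm_t a).symm (e ▸ (r.comm_t b).symm)).symm
    rw [act_t l.na, ← d.ψt] at k
    exact absurd (r.mod4.inj k) (by decide)

theorem s3 (r : Rl d) (l : TN d ρ n α false false) (l' : TN d.swap ρ' m β false false) :
    ∀ x ∈ [of 1, of 3, of 17, of 51], IsConj d.t (φ6 d n x) := by
  have b1 : β * d.t * β⁻¹ = d.t * d.w := by rw [← d.ψt, β_e r l'.αa rfl]; rfl
  have a1 := act_t l.αa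
  have a2 := l.αw r
  rw [bp_false, r.mod4.one, one_mul, l.nw.eq] at a2
  simp only [List.mem_cons, List.not_mem_nil, or_false, forall_eq_or_imp, forall_eq]
  refine ⟨isConj_iff.2 ⟨1, ?_⟩, isConj_iff.2 ⟨α, ?_⟩, isConj_iff.2 ⟨β, ?_⟩, isConj_iff.2 ⟨α * β, ?_⟩⟩
  · simp [φ6, of, Dat.φ5_of, Nat.testBit]
  · rw [a1, ← d.φ5_e]; exact (mul_one _).symm
  · rw [b1]; simp [φ6, of, Dat.φ5_of, Nat.testBit]
  · rw [show α * β * d.t * (α * β)⁻¹ = α * (β * d.t * β⁻¹) * α⁻¹ by group, b1, cjm, a1, a2, ← mul_assoc]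
    rfl

/-- The conjugates of `t` in `T1`. -/
theorem omega (h : Hy d) (k : W0 d P M P' M' ρ n α ρ' m β false) {x : M6}
    (hx : IsConj d.t (φ6 d n x)) : q x ∈ bs := by
  have r := h.toRl
  have bm : ∀ {B : Subgroup G} {u : G} (i : Bool), u ∈ B → bp u i ∈ B := fun i hu => by
    cases i
    exacts [one_mem _, hu]
  rcases (by decide +kernel : ∀ x : M6, x * x = 1 → q x ∈ bs ∨ (x.m.w = false ∧ x.m.e.t = false) ∨
    (x.m.e.v = false ∧ (us x.m).t = false)) x ((mod6 r k.tn).sq.1 (sq_of_isConj r.c4.tt hx)) with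
    e | ⟨e1, e2⟩ | ⟨e1, e2⟩
  · exact e
  · obtain ⟨B, b0, b1, b2, -⟩ := exB h k.lo k.nM k.αM k.tn
    exact (b0 _ (mul_mem (Rl.φ5_E (d := d) _ e1 ▸ b1 _ e2) (bm _ b2)) hx).elim
  · obtain ⟨B, b0, b1, b2, -⟩ := exB h.swap k.lo' k.mM k.βM k.tn'
    obtain ⟨i, j, e⟩ := k.mn
    rw [e, mul_mem_cancel_right (bm _ (show d.b ∈ B from (d.swap.ψa ▸ b1 (.of 4) rfl :))),
      mul_mem_cancel_right (bm _ (show d.a ∈ B from (d.swap.ψb ▸ b1 (.of 8) rfl :)))] at b2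
    exact (b0 _ (mul_mem (r.φ5_F _ e1 ▸ b1 _ e2) (bm _ b2)) hx).elim

/-- The action of `c0 = α⁻¹ β α β⁻¹`. -/
theorem c0 (r : Rl d) (l : TN d ρ n α false false) (l' : TN d.swap ρ' m β false false) {c : V4}
    (h1 : c.v = false) (h2 : c.t = false) (hm : m = n * d.φ4 c) :
    Act d.φ4 (α⁻¹ * (β * α * β⁻¹)) ⟨.of 13 * c, .of 2, .of 4, .of 8⟩ ∧
      Commute (α⁻¹ * (β * α * β⁻¹)) d.w ∧ Commute (α⁻¹ * (β * α * β⁻¹)) n := by
  have M := r.mod4
  have nn : n * n = 1 := by rw [l.n_sq r]; exact M.one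
  have ai : α⁻¹ = α := by rw [l.α_inv r, bp_false, M.one, one_mul]
  have bi : β⁻¹ = β := by rw [l'.α_inv r.swap, bp_false, r.swap.mod4.one, one_mul]
  have cj : ∀ x, α⁻¹ * (β * α * β⁻¹) * x * (α⁻¹ * (β * α * β⁻¹))⁻¹ =
      α * (β * (α * (β * x * β⁻¹) * α⁻¹) * β⁻¹) * α⁻¹ := fun x => by
    conv_lhs => rw [mul_inv_rev, inv_inv, mul_inv_rev, mul_inv_rev, inv_inv, ai, bi]
    conv_rhs => rw [ai, bi]
    simp only [mul_assoc]
  have βe : ∀ e : V4, e.v = false → e.t = false → β * d.φ4 e * β⁻¹ = d.φ4 e := fun e h1 h2 => by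
    rw [β_e r l'.αa h1, h2, bp_false, mul_one]
  have b1 : β * d.φ4 (.of 1) * β⁻¹ = d.φ4 (.of 1) * d.w := β_e r l'.αa rfl
  have b2 : β * d.φ4 (.of 2) * β⁻¹ = n * (d.φ4 c * d.φ4 (.of 2)) := by
    have := l'.αw r.swap
    rw [bp_false, r.swap.mod4.one, one_mul, hm, mul_assoc n] at this
    rw [d.ψv]; exact this
  have b3 : β * n * β⁻¹ = n := by
    rw [show n = m * d.φ4 c by rw [hm, mul_assoc, mm M, V4.mul_self, M.one, mul_one], cjm,
      cj_of_comm l'.comm.symm, βe c h1 h2]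
  have b4 : β * d.w * β⁻¹ = d.w := cj_of_comm (by
    have := r.swap.act_comm l'.αa (e := .of 2) rfl
    rwa [d.swap.ψv] at this)
  have a1 : α * d.φ4 (.of 1) * α⁻¹ = d.φ4 (.of 1) * d.φ4 (.of 2) := by rw [l.αa, mm M]; rfl
  have a2 : ∀ e : V4, e.t = false → α * d.φ4 e * α⁻¹ = d.φ4 e := fun e he => by
    rw [l.αa, (by decide +kernel : ∀ e : V4, e.t = false → al.app e = e) e he]
  have a3 : α * n * α⁻¹ = n := cj_of_comm l.comm.symm
  have a4 : α * d.w * α⁻¹ = n * d.w := by rw [l.αw r, bp_false, M.one, one_mul]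
  have n1 : ∀ x, n * (n * x) = x := fun x => by rw [← mul_assoc, nn, one_mul]
  have fx : ∀ e : V4, e.v = false → e.t = false →
      α⁻¹ * (β * α * β⁻¹) * d.φ4 e * (α⁻¹ * (β * α * β⁻¹))⁻¹ = d.φ4 e := fun e e1 e2 => by
    rw [cj, βe e e1 e2, a2 e e2, βe e e1 e2, a2 e e2]
  refine ⟨Act.of_gen r.c4 ?_ ?_ ((d.ψa ▸ fx (.of 4) rfl rfl :).trans d.ψa.symm)
    ((d.ψb ▸ fx (.of 8) rfl rfl :).trans d.ψb.symm), comm_of_cj ?_, comm_of_cj ?_⟩
  · change _ = d.φ4 _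
    rw [cj, ← d.ψt]
    simp only [b1, b2, b3, b4, a1, a2 (.of 2) rfl, a2 c h2, a3, a4, cjm]
    simp only [n1, mul_assoc, comm_l' l.na, comm_l' r.act_w, mm' M, ← mul_assoc d.w n, ← l.nw.eq, r.ww, mul_one,
      mm M]
    exact fin2 (by clear * - h1 h2; revert c; decide +kernel)
  · change _ = d.φ4 _
    rw [cj, ← d.ψv]
    simp only [b1, b2, b3, b4, a1, a2 (.of 2) rfl, a2 c h2, a3, a4, cjm, βe c h1 h2]
    simp only [n1, mul_assoc, comm_l' l.na, comm_l l.na, mm' M, nn, mul_one, mm M]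
    exact fin2 (by clear * - h1 h2; revert c; decide +kernel)
  · rw [cj]
    simp only [b1, b2, b3, b4, a1, a2 (.of 2) rfl, a2 c h2, a3, a4, cjm, n1]
  · rw [cj, b3, a3, b3, a3]

theorem fin (h : Hy d) (c : C1 d) (k : W0 d P M P' M' ρ n α ρ' (n * (d.a * d.b)) β false)
    {Q : Subgroup G} (hQ : Ov d Q) (hα : α ∈ Q) (hβ : β ∈ Q) :
    ∃ e, β * α * β⁻¹ = α * bp (d.a * d.b) e := by
  have r := h.toRl
  have M4 := r.mod4
  obtain ⟨a, cw, cn⟩ := c0 r k.tn k.tn' (c := .of 12) rfl rfl (by rw [Rl.ψz])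
  obtain ⟨x, hx⟩ := h.cT c hQ (mul_mem (inv_mem hα) (mul_mem (mul_mem hβ hα) (inv_mem hβ)))
    (d.ψt ▸ r.act_comm a (e := .of 1) rfl :)
  have cv := r.act_comm a (e := .of 2) rfl
  have e6 : ∀ x, d.φ5 x = φ6 d n ⟨x, false⟩ := fun x => (mul_one _).symm
  have en : n = φ6 d n ⟨1, true⟩ := by rw [φ6, r.mod5.one, one_mul]; rfl
  have m6 := mod6 r k.tn
  rw [hx, ← d.φ5_e, r.mod5.comm] at cv
  rw [hx, ← d.φw, r.mod5.comm] at cw
  have cn' : Commute (φ6 d n ⟨x, false⟩) (φ6 d n ⟨1, true⟩) := by rwa [← e6, ← en, ← hx]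
  have hx' : β * α * β⁻¹ = α * d.φ5 x := by rw [← hx]; group
  rcases (by decide +kernel : ∀ x : M5, x * ⟨.of 2, false⟩ = ⟨.of 2, false⟩ * x →
    x * .of 16 = .of 16 * x → (⟨x, false⟩ * ⟨1, true⟩ : M6) = ⟨1, true⟩ * ⟨x, false⟩ →
      x = 1 ∨ x = .of 12 ∨ x = .of 8 ∨ x = .of 4) x cv cw (m6.comm.1 cn') with rfl | rfl | rfl | rfl
  · exact ⟨false, by rw [hx', r.mod5.one]; rfl⟩
  · exact ⟨true, by rw [hx', Rl.φz]; rfl⟩
  · exact (k.c0_ne h (by rw [hx', d.φb])).elim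
  · have e2 : n * (d.a * d.b) * (d.b * d.a) = n := by
      rw [mul_assoc, mul_assoc, ← mul_assoc d.b, r.c4.bb, one_mul, r.c4.aa, mul_one]
    have k' : W0 d.swap P' M' P M ρ' (n * (d.a * d.b)) β ρ (n * (d.a * d.b) * (d.b * d.a)) α false := by
      rw [e2]
      exact ⟨k.ae', k.ae, k.lo', k.lo, k.mM, k.βM, k.nM, k.αM, k.tn', k.tn, true, true, by
        rw [bp_true, bp_true, mul_assoc]; exact e2.symm⟩
    refine (k'.c0_ne h.swap ?_).elim
    have ai : α⁻¹ = α := by rw [k.tn.α_inv r, bp_false, M4.one, one_mul]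
    have ca : Commute β d.a := (d.swap.ψb ▸ r.swap.act_comm k.tn'.αa (e := .of 8) rfl :)
    rw [d.φa] at hx'
    change _ = β * d.a
    calc _ = α⁻¹ * (β * α * β⁻¹) * β := by rw [ai]; group
      _ = _ := by rw [hx', ca.eq]; group

end W4b

open W4b.M6

/-- `T1 = ⟨S0, n⟩` (order 64) has index 2 in `P` and `P'` (`card_P`, `norm_of_card`). Involutions of `T1` outside `B_E ∪ B_F`
(those are not conjugate to `t`, `rank4`) lie in `t Z, t v Z, t w Z, t v w n Z`, the images of `t Z` under `1, α, β, α β`.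
`T1`-classes in `t Z`: `{t, t z}`, `{t a, t b}`. For `join1` take `W = {1, α, β, α β}`, and also these times `g` if some
`g ∈ N(T1)` maps `t` to `t a` (such `g` normalises `S0 = C_{T1}(t Z)`, swaps `E, F` by `AE.le`, fixes `z`, and modulo `Z` fixes
`t, n` and swaps `v, w`). All these act on `T1 / Z` and on `Z` as 2-groups. Conjugate the `F`-data by `o` (`Lo.cj`, `TN.cj`).
`c0 = α⁻¹ β α β⁻¹ ∈ Q` centralises `U`, `n` and maps `t` to `t z c` (`m = n c`); an element mapping `t` to `t a` or `t b` swaps `E, F`,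
so `c ∈ ⟨z⟩`; by `TN.shift` `m = n z`, then `c0 ∈ C_Q(t) = S0` (`cT`), `c0 ∈ Z`; `c0 ≠ b` by `c0_ne`, `c0 ≠ a` by `c0_ne` for `d.swap`
(roles: `n' = n z`, `n' z = n`). -/
theorem W0.w4 (h : Hy d) (c : C1 d) {P M P' M' : Subgroup G} {ρ n α ρ' m β : G}
    (k : W0 d P M P' M' ρ n α ρ' m β false) :
    ∃ P' M' T1 Q ρ' β e, W4 d P M P' M' T1 Q ρ n α ρ' β e := by
  have r := h.toRl
  have M4 := r.mod4
  have m6 := mod6 r k.tn
  obtain ⟨i, j, hm⟩ := k.mn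
  have hm' : m = n * d.φ4 ⟨false, false, i, j⟩ := by
    rw [hm, Hyp.φ4_cen _ rfl, Z3, bp_false, one_mul, mul_assoc]
  let T := m6.sub (fun _ => true) rfl fun _ _ _ _ => rfl
  have mT : ∀ x, x ∈ T ↔ ∃ y, φ6 d n y = x := fun x => by simp [T, IsMod.mem_sub]
  have cT : Nat.card T = 64 := m6.card_sub (l := (List.range 64).map of) (by decide +kernel) fun ⟨m, i⟩ => by
    revert m i; decide +kernel
  have sT : ∀ x, d.φ5 x ∈ T := fun x => (mT _).2 ⟨⟨x, false⟩, mul_one _⟩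
  have nT : n ∈ T := (mT _).2 ⟨⟨1, true⟩, by rw [φ6, r.mod5.one, one_mul]; rfl⟩
  have le : ∀ {H : Subgroup G}, (∀ x, d.φ5 x ∈ H) → n ∈ H → T ≤ H := fun h1 h2 x hx => by
    obtain ⟨⟨y, _ | _⟩, rfl⟩ := (mT x).1 hx
    exacts [mul_mem (h1 y) (one_mem _), mul_mem (h1 y) h2]
  have l1 : T ≤ P := le k.lo.s0 (k.lo.le k.nM)
  have s' : ∀ x, d.φ5 x ∈ P' := (k.lo'.toOv.swap r.swap).s0
  have l2 : T ≤ P' := le s' (by
    have := k.lo'.le k.mM
    rwa [hm', mul_mem_cancel_right (d.φ5_e _ ▸ s' _)] at this)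
  have nm : ∀ {g : G}, (∀ x ∈ T, g * x * g⁻¹ ∈ T) → g ∈ normalizer (T : Set G) := fun k =>
    mem_normalizer_of_cj_le (cj_le_iff_forall.2 k)
  obtain ⟨o, -, ho, Q, hQ, q1, q2⟩ := join (R := T) (N := normalizer (T : Set G)) le_rfl (fun g hg => by
      choose θ hθ using fun y => (mT _).1 ((mem_normalizer_iff.1 hg _).1 ((mT _).2 ⟨y, rfl⟩))
      have pw : ∀ (k : ℕ) y, g ^ k * φ6 d n y * (g ^ k)⁻¹ = φ6 d n (θ^[k] y) := fun k y => by
        induction k with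
        | zero => simp
        | succ k ih => rw [Function.iterate_succ_apply', hθ, ← ih, pow_succ']; group
      refine ⟨3, fun x hx => comm_of_cj ?_⟩
      obtain ⟨y, rfl⟩ := (mT x).1 hx
      rw [pw, M6.pure (fun x y => m6.inj (by rw [m6.mul, hθ, hθ, hθ, m6.mul, cjm]))
        (fun x y e => m6.inj (cj_inj.1 (by rw [← hθ, e, hθ])))
        fun x hx => omega h k (by rw [hθ, isConj_cj]; exact s3 r k.tn k.tn' x hx)])
    k.lo.pg (fun g hg => nm (norm_of_card l1 (by rw [cT, k.lo.card_P h gd4T]; rfl) g hg))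
    k.lo'.pg (fun g hg => nm (norm_of_card l2 (by rw [cT, k.lo'.card_P h.swap gd4T]; rfl) g hg))
  have o1 : ∀ x, Commute o (d.swap.φ5 x) := fun x => r.φ5_swap x ▸ ho _ (sT _)
  have lo' := k.lo'.cj o1
  have tn' := k.tn'.cj o1
  have mM := conj_mem_cj (g := o) k.mM
  have βM := conj_mem_cj (g := o) k.βM
  have βQ := q2 β (k.lo'.le k.βM)
  rw [cj_of_comm (ho m (hm' ▸ mul_mem nT (d.φ5_e _ ▸ sT _)))] at tn' mM
  generalize o * β * o⁻¹ = β' at tn' βM βQ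
  have oQ : Ov d Q := ⟨hQ.pgroup, fun x => q1 (k.lo.s0 x)⟩
  have αQ := q1 (k.lo.le k.αM)
  have fin' : ∀ β, β ∈ o •ᶜ M' → β ∈ Q → n * (d.a * d.b) ∈ o •ᶜ M' →
      TN d.swap (o * ρ' * o⁻¹) (n * (d.a * d.b)) β false false →
      ∃ P' M' T1 Q ρ' β e, W4 d P M P' M' T1 Q ρ n α ρ' β e := fun β b1 b2 b3 b4 => by
    have w : W0 d P M _ _ ρ n α _ _ β false := ⟨k.ae, k.ae', k.lo, lo', k.nM, k.αM, b3, b1, k.tn, b4,
      true, true, (mul_assoc _ _ _).symm⟩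
    obtain ⟨e, he⟩ := W4b.fin h c w oQ αQ b2
    exact ⟨_, _, T, Q, _, β, e, w, he, fun x => (mT x).trans
      ⟨fun ⟨y, e⟩ => ⟨y.m, y.i, e.symm⟩, fun ⟨y, i, e⟩ => ⟨⟨y, i⟩, e.symm⟩⟩, hQ, l1.trans q1, αQ, b2⟩
  obtain ⟨a, -⟩ := c0 r k.tn tn' rfl rfl hm'
  obtain ⟨f, hf, s, hs, b⟩ := k.ae.le _ a.into
  obtain rfl : i = j := (by decide +kernel : ∀ f ∈ A4T, ∀ s ∈ S3, ∀ i j : Bool,
    (f * s).t = .of 13 * ⟨false, false, i, j⟩ → i = j) f hf s hs i j (by rw [← Act.unique M4.inj a b])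
  cases i
  · obtain rfl : m = n := by simpa using hm
    have l := tn'.shift r.swap
    change TN _ _ (m * (d.b * d.a)) _ _ _ at l
    rw [← r.c4.ab.eq] at l
    refine fin' _ (mul_mem βM (d.swap.ψv ▸ lo'.e_mem h.swap gd4T (.of 2) :))
      (mul_mem βQ (d.φw ▸ oQ.s0 (.of 16) :)) (mul_mem mM ?_) l
    rw [r.c4.ab.eq]
    exact (Rl.ψz (d := d.swap) ▸ lo'.e_mem h.swap gd4T (.of 12) :)
  · rw [hm, bp_true, bp_true, mul_assoc n] at tn' mM
    exact fin' _ βM βQ mM tn'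

end CL.HS8
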