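import Cfsg.Agent.INV.HS8.BaseA

/-!
Basic consequences of `Hy`. The `Rl` part is in HS8/BaseA.
-/

set_option autoImplicit false
set_option linter.unusedSectionVars false
set_option synthInstance.maxSize 4000
set_option synthInstance.maxHeartbeats 200000

open Subgroup CL.TwoS CL.MSS

namespace CL.HS8

variable {G : Type*} [Group G] {d : Dat G}

theorem L4_mul_one (f : L4) : f * 1 = f := L4.eq_of_app fun e => by rw [L4.mul_app, L4.one_app]
theorem L4_one_mul (f : L4) : 1 * f = f := L4.eq_of_app fun e => by rw [L4.mul_app, L4.one_app]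
theorem L4_mul_assoc (f g k : L4) : f * g * k = f * (g * k) :=
  L4.eq_of_app fun e => by simp only [L4.mul_app]

theorem act_one_pow {φ : V4 → G} {g : G} (h : Act φ g 1) (n : ℕ) : Act φ (g ^ n) 1 := by
  induction n with
  | zero => rw [pow_zero]; exact Act.one
  | succ n ih => rw [pow_succ]; exact L4_mul_one 1 ▸ ih.mul h

theorem le_two [Finite G] {P K : Subgroup G} (Q : G → Prop) (h1 : ∀ x ∈ P, x ∈ K ∨ Q x)
    (h2 : ∀ x ∈ P, ∀ y ∈ P, Q x → Q y → x * y ∈ K) : Nat.card P ≤ 2 * Nat.card K := by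
  by_cases e : ∃ y ∈ P, Q y
  · obtain ⟨y, hy, q⟩ := e
    have : (P : Set G) ⊆ K ∪ (fun x => x * y⁻¹) '' K := fun x hx =>
      (h1 x hx).imp id fun k => ⟨x * y, h2 x hx y hy k q, by simp⟩
    have k := (Set.ncard_le_ncard this).trans (Set.ncard_union_le _ _)
    rw [Set.ncard_image_of_injective _ (mul_left_injective _)] at k
    rw [two_mul]
    exact k
  · have : P ≤ K := fun x hx => (h1 x hx).resolve_right fun q => e ⟨x, hx, q⟩
    have := card_le_of_le this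
    omega

namespace Rl

variable (h : Rl d)
include h

theorem sw_FE {x : G} (hx : Sw d x) : Into d.swap.φ4 d.φ4 x := (h.sw_swap.2 hx).2

theorem sw_fix {x : G} (hx : Sw d x) {n : M5} (e : x * d.φ5 n * x⁻¹ = d.φ5 n) :
    n.cen = true ∨ (n.w = true ∧ n.e.v = true) := by
  have k1 : n.w = false → n.e.v = false := fun hw => by
    have s1 : ∀ e : V4, (sw5 ⟨e, false⟩).e.v = false := by decide +kernel
    obtain ⟨f, hf⟩ := hx.2 n.e
    rw [← φ5_E n hw, e, h.φ4_swap] at hf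
    rw [h.inj hf, s1]
  have k2 : n.e.v = false → n.w = false := fun hv => by
    obtain ⟨f, hf⟩ := h.sw_FE hx (us n)
    rw [← h.φ5_F n hv, e, ← d.φ5_e] at hf
    rw [h.inj hf]
  unfold M5.cen
  revert k1 k2
  cases n.w <;> cases n.e.v <;> simp

theorem real_S3 {s : L4} (hs : s ∈ S3) : ∃ k, Commute k d.t ∧ Act d.φ4 k s := by
  simp only [S3, List.mem_cons, List.not_mem_nil, or_false] at hs
  rcases hs with rfl | rfl | rfl | rfl | rfl | rfl
  · exact ⟨1, Commute.one_left _, Act.one⟩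
  · exact ⟨_, h.ρt, h.act_ρ⟩
  · exact ⟨_, h.ρt.inv_left, h.act_ρi⟩
  · exact ⟨_, h.tw.symm, h.act_w⟩
  · exact ⟨_, h.ρt.mul_left h.tw.symm, h.act_ρ.mul h.act_w⟩
  · exact ⟨_, h.ρt.inv_left.mul_left h.tw.symm, h.act_ρi.mul h.act_w⟩

theorem act_comm {g : G} {f : L4} (hg : Act d.φ4 g f) {e : V4} (k : f.app e = e) :
    Commute g (d.φ4 e) := comm_of_cj (by rw [hg, k])

theorem act_fix {g : G} {f : L4} (hg : Act d.φ4 g f) {e : V4} (k : Commute g (d.φ4 e)) :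
    f.app e = e := h.mod4.inj (by rw [← hg, cj_of_comm k])

theorem act_inj {g : G} {f : L4} (hg : Act d.φ4 g f) {e : V4} (k : f.app e = 1) : e = 1 :=
  h.mod4.inj (by
    have := hg e
    rw [k, h.mod4.one] at this
    rw [h.mod4.one]
    simpa using this)

theorem no3 {R : Subgroup G} (hR : IsPGroup 2 R) {x : G} (hx : x ∈ R)
    (k : Act d.φ4 x rr ∨ Act d.φ4 x ri) : False := by
  obtain ⟨n, hn⟩ := hR ⟨x, hx⟩
  have e : x ^ 2 ^ n = 1 := congrArg Subtype.val hn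
  have : ∀ n, Act d.φ4 (x ^ 2 ^ n) rr ∨ Act d.φ4 (x ^ 2 ^ n) ri := fun n => by
    induction n with
    | zero => simpa using k
    | succ n ih =>
      rw [pow_succ, pow_mul, pow_two]
      rcases ih with k | k
      · exact Or.inr (show rr * rr = ri by decide ▸ k.mul k)
      · exact Or.inl (show ri * ri = rr by decide ▸ k.mul k)
  rcases this n with k | k <;> rw [e] at k <;>
    exact absurd (Act.unique h.mod4.inj k Act.one) (by decide)

theorem S0_swap [Finite G] : h.swap.S0 = h.S0 := by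
  have k : ∀ n, ∃ n', sw5 n' = n := by decide +kernel
  ext g
  rw [h.swap.mem_S0, h.mem_S0]
  refine ⟨fun ⟨m, e⟩ => ⟨_, (h.φ5_swap m).symm.trans e⟩, fun ⟨m, e⟩ => ?_⟩
  obtain ⟨n, rfl⟩ := k m
  exact ⟨n, (h.φ5_swap n).trans e⟩

theorem nt_of_le [Finite G] {g : G} (e : g •ᶜ h.S0 ≤ h.S0) : NT d g := fun m => by
  obtain ⟨n, hn⟩ := h.mem_S0.1 (e (conj_mem_cj (h.mem_S0.2 ⟨m, rfl⟩)))
  exact ⟨n, hn.symm⟩

end Rl

namespace Hy

variable (h : Hy d)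
include h

theorem swap : Hy d.swap := by
  obtain ⟨S, L, h1, h2, h3, h4, h5⟩ := h.ex
  have k : ∀ n, ∃ n', sw5 n' = n := by decide +kernel
  have k' : ∀ n, inD (sw5 n) = inD n := by decide +kernel
  refine ⟨h.toRl.swap, S, L, h1, fun m => h.toRl.φ5_swap m ▸ h2 _, h3,
    fun m => by rw [h.toRl.φ5_swap, h4, k'], fun x hx => (h5 x hx).imp ?_ ?_⟩
  · rintro ⟨m, rfl⟩
    obtain ⟨n, rfl⟩ := k m
    exact ⟨n, (h.toRl.φ5_swap n).symm⟩
  · exact fun e => ⟨e.1, h.toRl.sw_swap.2 e.2⟩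

theorem twist : Hy d.twist := by
  obtain ⟨S, L, h1, h2, h3, h4, h5⟩ := h.ex
  have k : ∀ n, ∃ n', tw5 n' = n := by decide +kernel
  have k' : ∀ n, inD (tw5 n) = inD n := by decide +kernel
  refine ⟨h.toRl.twist, S, L, h1, fun m => h.toRl.φ5_twist m ▸ h2 _, h3,
    fun m => by rw [h.toRl.φ5_twist, h4, k'], fun x hx => (h5 x hx).imp ?_ ?_⟩
  · rintro ⟨m, rfl⟩
    obtain ⟨n, rfl⟩ := k m
    exact ⟨n, (h.toRl.φ5_twist n).symm⟩
  · exact fun e => ⟨e.1, h.toRl.sw_twist.2 e.2⟩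

theorem cj (g : G) : Hy (cjd g d) := by
  obtain ⟨S, L, h1, h2, h3, h4, h5⟩ := h.ex
  refine ⟨h.toRl.cj g, g •ᶜ S, g •ᶜ L, ?_, fun m => cjd_φ5 g d m ▸ conj_mem_cj (h2 m),
    fun c hc x hx => ?_, fun m => by rw [cjd_φ5, conj_mem_cj_iff, h4], fun x hx => ?_⟩
  · have := h1.cj g
    rwa [cj_centralizer_singleton] at this
  · obtain ⟨c, rfl⟩ := exists_cj g c
    obtain ⟨y, hy, rfl⟩ := mem_cj'.1 hx
    rw [cjd_rel rfl]
    exact conj_mem_cj (h3 c (comm_cj.1 hc) y hy)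
  · obtain ⟨y, hy, rfl⟩ := mem_cj'.1 hx
    refine (h5 y hy).imp (fun ⟨m, e⟩ => ⟨m, by rw [cjd_φ5, e]⟩) fun e => ⟨?_, sw_cjd.2 e.2⟩
    rw [conj_mem_cj_iff]
    exact e.1

variable [Finite G]

/-- `E` is Sylow in `C(t) ∩ C(v, z)`: conjugate `R ⊔ E`-overgroups into `S` inside `C(t)`; the image
of `⟨v, z⟩` lies in `S ∩ L = D`, so it is `⟨v, z⟩` or `⟨w, z⟩`, whose centraliser in `S` has order 16
(an element with `Sw` moves `v` into `F` and `w` into `E`). -/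
theorem cV {R : Subgroup G} (hR : IsPGroup 2 R) (hE : ∀ e, d.φ4 e ∈ R) {g : G} (hg : g ∈ R)
    (h1 : Commute g d.t) (h2 : Commute g d.v) (h3 : Commute g (d.a * d.b)) : ∃ e, g = d.φ4 e := by
  have := Fact.mk Nat.prime_two
  have r := h.toRl
  obtain ⟨S, L, hS, -, hL, hD, hx⟩ := h.ex
  let R' := R ⊓ centralizer {d.t} ⊓ centralizer {d.φ4 (.of 2)} ⊓ centralizer {d.φ4 (.of 12)}
  have ER : r.E ≤ R' := fun x hx => by
    obtain ⟨e, rfl⟩ := r.mem_E.1 hx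
    have c : ∀ f, d.φ4 e ∈ centralizer {d.φ4 f} := fun f =>
      mem_centralizer_singleton_iff.2 (r.mod4.comm.2 (mul_comm _ _))
    exact ⟨⟨⟨hE e, d.ψt ▸ c _⟩, c _⟩, c _⟩
  have gR : g ∈ R' := ⟨⟨⟨hg, mem_centralizer_singleton_iff.2 h1⟩,
    mem_centralizer_singleton_iff.2 (d.ψv ▸ h2)⟩, mem_centralizer_singleton_iff.2 (Rl.ψz (d := d) ▸ h3)⟩
  obtain ⟨c, hc, le⟩ := hS.exists_conj_le (R := R') hR.to_inf_left.to_inf_left.to_inf_left
    (inf_le_left.trans (inf_le_left.trans inf_le_right))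
  have hc' : Commute c d.t := mem_centralizer_singleton_iff.1 hc
  have im : ∀ e : V4, inD ⟨e, false⟩ = true → ∃ m, inD m = true ∧ c * d.φ4 e * c⁻¹ = d.φ5 m :=
    fun e he => by
      have k := hL c hc' _ ((hD _).2 he)
      rw [d.φ5_e] at k
      obtain ⟨m, hm⟩ := (hx _ (le (conj_mem_cj (ER (r.mem_E.2 ⟨e, rfl⟩))))).resolve_right
        fun e => e.1 k
      exact ⟨m, (hD m).1 (hm ▸ k), hm⟩
  obtain ⟨m1, i1, e1⟩ := im (.of 2) rfl
  obtain ⟨m2, i2, e2⟩ := im (.of 12) rfl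
  have key : ∀ m1 m2 : M5, inD m1 = true → inD m2 = true → m1 * m1 = 1 → m2 * m2 = 1 →
      m1 * m2 = m2 * m1 → m1 ≠ 1 → m2 ≠ 1 → m1 ≠ m2 →
      (M5.all.filter fun m => decide (m * m1 = m1 * m ∧ m * m2 = m2 * m)).length = 16 ∧
        ¬ ((m1.cen = true ∨ (m1.w = true ∧ m1.e.v = true)) ∧
          (m2.cen = true ∨ (m2.w = true ∧ m2.e.v = true))) := by decide +kernel
  have sq : ∀ e m, c * d.φ4 e * c⁻¹ = d.φ5 m → m * m = 1 := fun e m k => by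
    rw [← r.mod5.sq, ← k, cj_mul_cj, r.mod4.sq.2 (V4.mul_self _)]; group
  have ne : ∀ e m, c * d.φ4 e * c⁻¹ = d.φ5 m → e ≠ 1 → m ≠ 1 := fun e m k he hm => by
    rw [hm, r.mod5.one] at k
    exact he (r.mod4.inj (by rw [r.mod4.one]; simpa using k))
  obtain ⟨k1, k2⟩ := key m1 m2 i1 i2 (sq _ _ e1) (sq _ _ e2)
    (by rw [← r.mod5.comm, ← e1, ← e2, comm_cj, r.mod4.comm]; rfl) (ne _ _ e1 (by decide))
    (ne _ _ e2 (by decide)) (fun e => by
      rw [e, ← e2, TwoS.cj_inj] at e1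
      exact absurd (r.mod4.inj e1) (by decide))
  let K := r.mod5.sub (fun m => decide (m * m1 = m1 * m ∧ m * m2 = m2 * m)) (by simp)
    (fun m hm n hn => by
      rw [decide_eq_true_eq] at hm hn ⊢
      exact ⟨Commute.mul_left hm.1 hn.1, Commute.mul_left hm.2 hn.2⟩)
  have cK : Nat.card K = 16 := (r.mod5.card_sub M5.nodup_all M5.mem_all).trans k1
  have lK : c •ᶜ R' ≤ K := fun y hy => by
    have yS := le hy
    obtain ⟨x, hx', rfl⟩ := mem_cj'.1 hy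
    have c1 : Commute (c * x * c⁻¹) (d.φ5 m1) :=
      e1 ▸ comm_cj.2 (mem_centralizer_singleton_iff.1 hx'.1.2)
    have c2 : Commute (c * x * c⁻¹) (d.φ5 m2) :=
      e2 ▸ comm_cj.2 (mem_centralizer_singleton_iff.1 hx'.2)
    rcases hx _ yS with ⟨m, hm⟩ | e
    · rw [hm] at c1 c2 ⊢
      exact ⟨m, decide_eq_true ⟨r.mod5.comm.1 c1, r.mod5.comm.1 c2⟩, rfl⟩
    · exact absurd ⟨r.sw_fix e.2 (cj_of_comm c1), r.sw_fix e.2 (cj_of_comm c2)⟩ k2
  have : c •ᶜ r.E = K := eq_of_le_of_card_ge ((cj_mono c ER).trans lK)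
    (by rw [cK, card_cj, r.card_E]; rfl)
  obtain ⟨e, he⟩ := r.mem_E.1 (conj_mem_cj_iff.1 (this.ge (lK (conj_mem_cj gR))))
  exact ⟨e, he.symm⟩

theorem cV1 {R : Subgroup G} (hR : IsPGroup 2 R) (hE : ∀ e, d.φ4 e ∈ R) {g : G} (hg : g ∈ R)
    (h1 : Act d.φ4 g 1) : ∃ e, g = d.φ4 e :=
  h.cV hR hE hg (d.ψt ▸ h.toRl.act_comm h1 (L4.one_app _)) (d.ψv ▸ h.toRl.act_comm h1 (L4.one_app _))
    (Rl.ψz (d := d) ▸ h.toRl.act_comm h1 (L4.one_app _))

theorem sylE : SylIn 2 h.toRl.E (centralizer (h.toRl.E : Set G)) := by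
  have r := h.toRl
  refine ⟨fun x hx y hy => ?_, isPGroup_of_card r.card_E, fun Q hQ h1 h2 => le_antisymm
    (fun g hg => ?_) h1⟩
  · obtain ⟨e, rfl⟩ := r.mem_E.1 hx
    obtain ⟨f, rfl⟩ := r.mem_E.1 hy
    exact r.mod4.comm.2 (mul_comm _ _)
  · obtain ⟨e, he⟩ := h.cV1 hQ (fun e => h1 (r.mem_E.2 ⟨e, rfl⟩)) hg fun e => by
      rw [L4.one_app]
      exact cj_of_comm (h2 hg _ (r.mem_E.2 ⟨e, rfl⟩)).symm
    exact r.mem_E.2 ⟨e, he.symm⟩

/-- `C(t) ∩ N(E)` induces `S3`: `g` normalises `E ∩ L = ⟨v, z⟩`; after multiplying by a word in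
`ρ, w` it centralises `t, v, z`, its square acts trivially, and its 2-part (`two_part`) acts in the
same way and lies in `E` by `cV`. -/
theorem st {g : G} {f : L4} (hg : Act d.φ4 g f) (ht : Commute g d.t) : f ∈ S3 := by
  have r := h.toRl
  obtain ⟨S, L, -, -, hL, hD, -⟩ := h.ex
  have im : ∀ e : V4, inD ⟨e, false⟩ = true → inD ⟨f.app e, false⟩ = true := fun e he => by
    have k := hL g ht _ ((hD _).2 he)
    rwa [d.φ5_e, hg, ← d.φ5_e, hD] at k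
  have key : ∀ x : V4, inD ⟨x, false⟩ = true → ∀ y z : V4,
      inD ⟨(L4.mk (.of 1) x y z).app (.of 12), false⟩ = true →
      (∀ e, (L4.mk (.of 1) x y z).app e = 1 → e = 1) → ∃ s ∈ S3,
        (s * L4.mk (.of 1) x y z).app (.of 2) = .of 2 ∧
        (s * L4.mk (.of 1) x y z).app (.of 12) = .of 12 ∧
        (s * L4.mk (.of 1) x y z) * (s * L4.mk (.of 1) x y z) = 1 ∧
        (s * L4.mk (.of 1) x y z = 1 → L4.mk (.of 1) x y z ∈ S3) := by decide +kernel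
  have e0 : f.app (.of 1) = .of 1 := r.act_fix hg (d.ψt ▸ ht)
  obtain ⟨u, x, y, z⟩ := f
  obtain rfl : u = .of 1 := by
    rw [← e0]; change u = u * 1 * 1 * 1; simp
  obtain ⟨s, hs, k1, k2, k3, k4⟩ := key x (by
    have := im (.of 2) rfl
    rwa [show (L4.mk (.of 1) x y z).app (.of 2) = x by change 1 * x * 1 * 1 = x; simp] at this) y z
    (im _ rfl) fun e => r.act_inj hg
  obtain ⟨k, kt, ks⟩ := r.real_S3 hs
  refine k4 ?_
  have a1 := ks.mul hg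
  have c1 := kt.mul_left ht
  generalize k * g = p at a1 c1
  generalize s * L4.mk (.of 1) x y z = f at *
  obtain ⟨i, j, n, e, h2, ho⟩ := two_part p
  have a2 : Act d.φ4 (p ^ j) 1 := by
    obtain ⟨m, hm⟩ := exists_pow_eq_self_of_coprime (x := p ^ j) (n := 2)
      (Nat.coprime_two_left.2 ho)
    rw [← hm, pow_right_comm p j 2, ← pow_mul]
    exact act_one_pow (by rw [pow_two, ← k3]; exact a1.mul a1) _
  have a3 : Act d.φ4 (p ^ i) f := by
    rw [show p ^ i = p * (p ^ j)⁻¹ from eq_mul_inv_of_mul_eq e.symm, ← L4_mul_one f]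
    exact a1.mul (a2.inv (L4_mul_one 1))
  obtain ⟨e, he⟩ := h.cV (R := r.E ⊔ zpowers (p ^ i)) (isPGroup_sup_of_normalizes'
    (isPGroup_of_card r.card_E) (isPGroup_zpowers h2) (zpowers_le.2 (r.mem_NE.2 a3.into)))
    (fun e => mem_sup_left (r.mem_E.2 ⟨e, rfl⟩)) (mem_sup_right (mem_zpowers _)) (c1.pow_left _)
    (d.ψv ▸ r.act_comm a3 k1) (Rl.ψz (d := d) ▸ r.act_comm a3 k2)
  exact Act.unique r.mod4.inj a3 (he ▸ r.act_φ4 e)

/-- `stab` for `E`. -/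
theorem stabE {R : Subgroup G} (hR : IsPGroup 2 R) (hE : ∀ e, d.φ4 e ∈ R) {g : G}
    (hg : ∀ x ∈ R, g * x * g⁻¹ ∈ R) (hc : Act d.φ4 g 1) :
    ∃ e, ∀ x ∈ R, g * x * g⁻¹ = d.φ4 e * x * (d.φ4 e)⁻¹ := by
  have r := h.toRl
  obtain ⟨_, he, k⟩ := stab h.sylE hR (fun x hx => by
    obtain ⟨e, rfl⟩ := r.mem_E.1 hx; exact hE e) hg fun x hx => by
      obtain ⟨e, rfl⟩ := r.mem_E.1 hx; exact r.act_comm hc (L4.one_app _)
  obtain ⟨e, rfl⟩ := r.mem_E.1 he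
  exact ⟨e, k⟩

/-- `S0` is Sylow in `C(t) ∩ N(E)` (use `st`: an element of `R` acts as an element of `S3`; order 3
is impossible in a 2-group containing `w`; then `cV`). -/
theorem ovE {R : Subgroup G} (hR : Ov d R) {x : G} (hx : x ∈ R) (ht : Commute x d.t)
    (hE : Into d.φ4 d.φ4 x) : ∃ m, x = d.φ5 m := by
  have r := h.toRl
  obtain ⟨f, hf⟩ := r.act_of_into hE
  have hs := h.st hf ht
  have E : ∀ e, d.φ4 e ∈ R := fun e => d.φ5_e e ▸ hR.s0 _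
  have xw : x * d.w ∈ R := mul_mem hx (d.φw ▸ hR.s0 _)
  have aw := hf.mul r.act_w
  simp only [S3, List.mem_cons, List.not_mem_nil, or_false] at hs
  rcases hs with rfl | rfl | rfl | rfl | rfl | rfl
  · obtain ⟨e, he⟩ := h.cV1 hR.pg E hx hf
    exact ⟨⟨e, false⟩, he.trans (d.φ5_e e).symm⟩
  · exact (r.no3 hR.pg hx (Or.inl hf)).elim
  · exact (r.no3 hR.pg hx (Or.inr hf)).elim
  · obtain ⟨e, he⟩ := h.cV1 hR.pg E xw (show sg * sg = 1 by decide ▸ aw)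
    refine ⟨⟨e, true⟩, ?_⟩
    change x = d.φ4 e * d.w
    rw [← he, mul_assoc, r.ww, mul_one]
  · exact (r.no3 hR.pg xw (Or.inl (show rr * sg * sg = rr by decide ▸ aw))).elim
  · exact (r.no3 hR.pg xw (Or.inr (show ri * sg * sg = ri by decide ▸ aw))).elim

theorem sylNE : SylIn 2 h.toRl.S0 (centralizer {d.t} ⊓ normalizer (h.toRl.E : Set G)) := by
  have r := h.toRl
  refine ⟨le_inf r.S0_le fun x hx => r.mem_NE.2 (r.ov_S0.nt x hx).2, r.ov_S0.pg,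
    fun Q hQ h1 h2 => le_antisymm (fun g hg => ?_) h1⟩
  obtain ⟨m, hm⟩ := h.ovE ⟨hQ, fun m => h1 (r.ov_S0.s0 m)⟩ hg
    (mem_centralizer_singleton_iff.1 (h2 hg).1) (r.mem_NE.1 (h2 hg).2)
  exact r.mem_S0.2 ⟨m, hm.symm⟩

theorem stz {g : G} (hg : NT d g) (hE : Into d.φ4 d.φ4 g) (ht : Commute g d.t) :
    Act d.φ4 g 1 ∨ Act d.φ4 g sg := by
  have r := h.toRl
  obtain ⟨f, hf⟩ := r.act_of_into hE
  have k : ∀ f ∈ S3, f.app (.of 12) = .of 12 → f = 1 ∨ f = sg := by decide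
  rcases k f (h.st hf ht) (r.act_fix hf (Rl.ψz (d := d) ▸ comm_of_cj (r.nt_z hg))) with rfl | rfl
  · exact Or.inl hf
  · exact Or.inr hf

/-- An element of `C(t) ∩ N(S0) ∩ N(E)` acts on `S0` as an element of `S0`. -/
theorem stabS {g : G} (hg : NT d g) (hE : Into d.φ4 d.φ4 g) (ht : Commute g d.t) :
    ∃ m, ∀ n, g * d.φ5 n * g⁻¹ = d.φ5 m * d.φ5 n * (d.φ5 m)⁻¹ := by
  have r := h.toRl
  have hF := ((r.dich hg).resolve_right fun k => r.not_EF hE k.1).2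
  have fin : ∀ m f f', Act d.φ4 g f → Act d.swap.φ4 g f' → Act d.φ4 (d.φ5 m) f →
      Act d.swap.φ4 (d.φ5 m) f' →
      ∃ m, ∀ n, g * d.φ5 n * g⁻¹ = d.φ5 m * d.φ5 n * (d.φ5 m)⁻¹ := fun m f f' a1 a2 a3 a4 =>
    ⟨m, fun n => by
      have e : g * d.w * g⁻¹ = d.φ5 m * d.w * (d.φ5 m)⁻¹ := by
        have := (a2 (.of 2)).trans (a4 _).symm
        rwa [d.swap.ψv] at this
      rw [Dat.φ5.eq_1 d n, ← cj_mul_cj, ← cj_mul_cj (d.φ5 m), a1, a3]
      cases n.w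
      · simp
      · rw [bp_true, e]⟩
  have v1 : Act d.φ4 d.v 1 := d.ψv ▸ r.act_φ4 _
  have w1 : Act d.swap.φ4 d.w 1 := by
    have := r.swap.act_φ4 (.of 2)
    rwa [d.swap.ψv] at this
  have v2 : Act d.swap.φ4 d.v sg := r.swap.act_w
  rcases h.stz hg hE ht with a | a <;> rcases h.swap.stz (r.nt_swap.2 hg) hF ht with b | b
  · exact fin 1 _ _ a b (r.mod5.one ▸ Act.one) (r.mod5.one ▸ Act.one)
  · exact fin (.of 2) _ _ a b (d.φv ▸ v1) (d.φv ▸ v2)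
  · exact fin (.of 16) _ _ a b (d.φw ▸ r.act_w) (d.φw ▸ w1)
  · refine fin (.of 2 * .of 16) _ _ a b ?_ ?_ <;> rw [r.mod5.mul, d.φv, d.φw]
    · exact L4_one_mul sg ▸ v1.mul r.act_w
    · exact L4_mul_one sg ▸ v2.mul w1

/-- Fusion of `t` into `Z0` under `N(E)` takes place in `N(S0) ∩ N(E)`: `S0` and `g S0 g⁻¹` are Sylow
in `C(u) ∩ N(E)` by `ovE`. -/
theorem toN0 {g : G} (hg : Into d.φ4 d.φ4 g) {m : M5} (hm : m.cen = true)
    (e : g * d.t * g⁻¹ = d.φ5 m) : ∃ k, NT d k ∧ Into d.φ4 d.φ4 k ∧ k * d.t * k⁻¹ = d.φ5 m := by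
  have := Fact.mk Nat.prime_two
  have r := h.toRl
  have key : ∀ m n : M5, m.cen = true → n * m = m * n := by decide +kernel
  have s1 := h.sylNE.cj g
  rw [cj_inf, cj_centralizer_singleton, e, cj_eq_of_mem (r.mem_NE.2 hg)] at s1
  have s2 := s1.of_card_le r.ov_S0.pg (le_inf (fun x hx => by
    obtain ⟨n, rfl⟩ := r.mem_S0.1 hx
    exact mem_centralizer_singleton_iff.2 (r.mod5.comm.2 (key m n hm)))
    (h.sylNE.le.trans inf_le_right)) (card_cj _ _).le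
  obtain ⟨x, hx, le⟩ := s2.exists_conj_le s1.pgroup s1.le
  refine ⟨x * g, r.nt_of_le (by rwa [cj_mul]), (r.mem_NE.1 hx.2).mul hg, ?_⟩
  rw [← cj_of_comm (mem_centralizer_singleton_iff.1 hx.1), ← e]; group

/-- Transport of `C_R(u)` into `S`. -/
theorem tr {u : G} (hu : IsConj d.t u) {R : Subgroup G} (hR : IsPGroup 2 R) :
    ∃ γ, γ * u * γ⁻¹ = d.t ∧ ∃ S : Subgroup G, Ov d S ∧ (∀ x ∈ S, Commute x d.t) ∧
      (∀ x ∈ S, (∃ m, x = d.φ5 m) ∨ Sw d x) ∧ ∀ p ∈ R, Commute p u → γ * p * γ⁻¹ ∈ S := by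
  have := Fact.mk Nat.prime_two
  obtain ⟨S, L, hS, s0, -, -, hs⟩ := h.ex
  obtain ⟨c, hc⟩ := isConj_iff.1 hu.symm
  obtain ⟨x, hx, hle⟩ := hS.exists_conj_le (R := c •ᶜ (R ⊓ centralizer {u}))
    ((hR.to_inf_left).map _) (by
      rw [← hc, ← cj_centralizer_singleton]; exact cj_mono _ inf_le_right)
  have hx' : Commute x d.t := mem_centralizer_singleton_iff.1 hx
  refine ⟨x * c, ?_, S, ⟨hS.pgroup, s0⟩, fun y hy => mem_centralizer_singleton_iff.1 (hS.le hy),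
    fun y hy => (hs y hy).imp id And.right, fun p hp hpu => ?_⟩
  · rw [← cj_of_comm hx', ← hc]; group
  · rw [← cj_mul] at hle
    exact hle (conj_mem_cj ⟨hp, mem_centralizer_singleton_iff.2 hpu⟩)

theorem card_le {u : G} (hu : IsConj d.t u) {R : Subgroup G} (hR : IsPGroup 2 R)
    (hc : ∀ x ∈ R, Commute x u) : ∃ P : Subgroup G, (∃ γ, P = γ •ᶜ R) ∧
      (∀ x ∈ P, (∃ m, x = d.φ5 m) ∨ Sw d x) ∧ ∀ K : Subgroup G,
        (∀ m, d.φ5 m ∈ P → d.φ5 m ∈ K) → Nat.card R ≤ 2 * Nat.card K := by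
  have r := h.toRl
  obtain ⟨γ, -, S, -, -, hs, le⟩ := h.tr hu hR
  have le' : γ •ᶜ R ≤ S := cj_le_iff_forall.2 fun p hp => le p hp (hc p hp)
  refine ⟨_, ⟨γ, rfl⟩, fun x hx => hs x (le' hx), fun K hK => ?_⟩
  rw [← card_cj γ]
  refine le_two (Sw d) (fun x hx => (hs x (le' hx)).imp (fun ⟨m, e⟩ => e ▸ hK m (e ▸ hx)) id)
    fun x hx y hy qx qy => ?_
  obtain ⟨m, e⟩ := (hs _ (le' (mul_mem hx hy))).resolve_right fun k =>
    r.not_EF ((r.sw_FE qx).mul qy.2) k.2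
  exact e ▸ hK m (e ▸ mul_mem hx hy)

/-- An involution of `S` outside `S0` swaps `E` and `F`, so it centralises at most `Z0` and elements
of order four: elementary abelian subgroups of `C(t)` have order at most 16. -/
theorem rank4 {u : G} (hu : IsConj d.t u) {B : Subgroup G} (hB : ∀ x ∈ B, x * x = 1)
    (hc : ∀ x ∈ B, Commute x u) : Nat.card B ≤ 16 := by
  have r := h.toRl
  obtain ⟨P, ⟨γ, rfl⟩, hs, hK⟩ := h.card_le hu (R := B)
    (fun x => ⟨1, Subtype.ext (by rw [pow_one, pow_two]; exact hB x x.2)⟩) hc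
  have sq : ∀ x ∈ γ •ᶜ B, x * x = 1 := fun x hx => by
    obtain ⟨y, hy, rfl⟩ := mem_cj'.1 hx
    rw [cj_mul_cj, hB y hy]; group
  by_cases e : ∃ x ∈ γ •ᶜ B, Sw d x
  · obtain ⟨x, hx, q⟩ := e
    have := hK (r.mod5.sub M5.cen rfl (by decide +kernel)) fun m hm => by
      have key : ∀ m : M5, m * m = 1 → m.cen = true ∨ (m.w = true ∧ m.e.v = true) →
        m.cen = true := by decide +kernel
      refine ⟨m, key m (r.mod5.sq.1 (sq _ hm)) (r.sw_fix q (cj_of_comm ?_)), rfl⟩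
      have := sq _ (mul_mem hx hm)
      rw [commute_iff_eq]
      calc x * d.φ5 m = (x * d.φ5 m)⁻¹ := eq_inv_of_mul_eq_one_left this
        _ = _ := by
          rw [mul_inv_rev, inv_eq_of_mul_eq_one_left (sq _ hx), inv_eq_of_mul_eq_one_left (sq _ hm)]
    exact this.trans (Nat.mul_le_mul_left 2 (r.mod5.card_sub M5.nodup_all M5.mem_all).le)
  · have le : γ •ᶜ B ≤ r.S0 := fun x hx => by
      obtain ⟨m, hm⟩ := (hs x hx).resolve_right fun q => e ⟨x, hx, q⟩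
      exact r.mem_S0.2 ⟨m, hm.symm⟩
    have d1 := card_dvd_of_le le
    have ne : Nat.card (γ •ᶜ B : Subgroup G) ≠ 2 ^ 5 := fun k => by
      have := eq_of_le_of_card_ge le (by rw [k, r.card_S0])
      exact absurd (r.mod5.sq.1 (sq _ (this.ge (r.ov_S0.s0 (.of 18))))) (by decide)
    rw [r.card_S0, card_cj] at *
    obtain ⟨k, hk, e⟩ := (Nat.dvd_prime_pow Nat.prime_two).1 d1
    rw [e] at ne ⊢
    have : k ≤ 4 := by
      by_contra hh
      exact ne (by rw [show k = 5 by omega])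
    exact Nat.pow_le_pow_right two_pos this

theorem card64 {u : G} (hu : IsConj d.t u) {R : Subgroup G} (hR : IsPGroup 2 R)
    (hc : ∀ x ∈ R, Commute x u) : Nat.card R ≤ 64 := by
  obtain ⟨P, -, -, hK⟩ := h.card_le hu hR hc
  have := hK h.toRl.S0 fun m _ => h.toRl.ov_S0.s0 m
  rwa [h.toRl.card_S0] at this

/-- `t` is not conjugate to `z` by an element of `N(E)`: else `toN0`, but `N(S0)` fixes `z`. -/
theorem not_z {g : G} (hg : Into d.φ4 d.φ4 g) : g * d.t * g⁻¹ ≠ d.a * d.b := fun e => by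
  obtain ⟨k, hk, -, e⟩ := h.toN0 hg (m := .of 12) rfl (e.trans Rl.φz.symm)
  rw [Rl.φz, ← h.toRl.nt_z hk, TwoS.cj_inj, ← d.φt, ← Rl.φz] at e
  exact absurd (h.inj e) (by decide)

section
variable (c : C1 d)
include c

theorem sylS0 : SylIn 2 h.toRl.S0 (centralizer {d.t}) := by
  obtain ⟨S, L, hS, s0, -, -, hs⟩ := h.ex
  rwa [show h.toRl.S0 = S from le_antisymm (fun x hx => by
    obtain ⟨m, rfl⟩ := h.toRl.mem_S0.1 hx; exact s0 m) fun x hx => by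
      obtain ⟨m, hm⟩ := (hs x hx).resolve_right fun e =>
        c x (mem_centralizer_singleton_iff.1 (hS.le hx)) e.2
      exact h.toRl.mem_S0.2 ⟨m, hm.symm⟩]

theorem cT {R : Subgroup G} (hR : Ov d R) {x : G} (hx : x ∈ R) (ht : Commute x d.t) :
    ∃ m, x = d.φ5 m := by
  have := (h.sylS0 c).max (R ⊓ centralizer {d.t}) hR.pg.to_inf_left (le_inf (fun y hy => by
    obtain ⟨m, rfl⟩ := h.toRl.mem_S0.1 hy; exact hR.s0 m) h.toRl.S0_le) inf_le_right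
  obtain ⟨m, hm⟩ := h.toRl.mem_S0.1 (this.le ⟨hx, mem_centralizer_singleton_iff.2 ht⟩)
  exact ⟨m, hm.symm⟩

theorem tr1 {u : G} (hu : IsConj d.t u) {R : Subgroup G} (hR : IsPGroup 2 R) :
    ∃ γ, γ * u * γ⁻¹ = d.t ∧ ∀ p ∈ R, Commute p u → ∃ m, γ * p * γ⁻¹ = d.φ5 m := by
  obtain ⟨γ, e, S, hS, ht, -, le⟩ := h.tr hu hR
  exact ⟨γ, e, fun p hp hc => h.cT c hS (le p hp hc) (ht _ (le p hp hc))⟩

theorem card32 {u : G} (hu : IsConj d.t u) {R : Subgroup G} (hR : IsPGroup 2 R)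
    (hc : ∀ x ∈ R, Commute x u) : Nat.card R ≤ 32 := by
  obtain ⟨γ, -, k⟩ := h.tr1 c hu hR
  have := card_le_of_le (show γ •ᶜ R ≤ h.toRl.S0 from cj_le_iff_forall.2 fun p hp => by
    obtain ⟨m, hm⟩ := k p hp (hc p hp)
    exact h.toRl.mem_S0.2 ⟨m, hm.symm⟩)
  rwa [card_cj, h.toRl.card_S0] at this

/-- A conjugate of `t` is not the square of a 2-element. -/
theorem nsq {u x : G} (hu : IsConj d.t u) : x * x ≠ u := fun e => by
  obtain ⟨γ, hγ, k⟩ := h.tr1 c hu (isPGroup_zpowers (x := x) (k := 2) (by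
    rw [pow_two 2, pow_mul, pow_two, pow_two, e, sq_of_isConj h.c4.tt hu]))
  obtain ⟨m, hm⟩ := k x (mem_zpowers x) (e ▸ (Commute.refl x).mul_right (Commute.refl x))
  have key : ∀ m : M5, m * m ≠ .of 1 := by decide +kernel
  exact key m (h.inj (by rw [h.toRl.mod5.mul, ← hm, cj_mul_cj, e, hγ, d.φt]))

theorem lsq {u : G} (hu : IsConj d.t u) {R : Subgroup G} (hR : IsPGroup 2 R) {x y : G}
    (hx : x ∈ R) (hy : y ∈ R) (hxu : Commute x u) (hyu : Commute y u) (h1 : x * x ≠ 1)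
    (h2 : y * y ≠ 1) : x * x = y * y := by
  have r := h.toRl
  obtain ⟨γ, -, k⟩ := h.tr1 c hu hR
  obtain ⟨m, hm⟩ := k x hx hxu
  obtain ⟨n, hn⟩ := k y hy hyu
  have key : ∀ m n : M5, m * m ≠ 1 → n * n ≠ 1 → m * m = n * n := by decide +kernel
  have := key m n (fun e => h1 (by
    rw [← r.mod5.sq, ← hm, cj_mul_cj] at e; simpa using e)) (fun e => h2 (by
    rw [← r.mod5.sq, ← hn, cj_mul_cj] at e; simpa using e))
  rwa [← r.mod5.sq_eq, ← hm, ← hn, cj_mul_cj, cj_mul_cj, TwoS.cj_inj] at this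

theorem z_not : ¬ IsConj d.t (d.a * d.b) := fun hu =>
  h.nsq c (x := d.φ5 (.of 18)) hu (by rw [← h.toRl.mod5.mul, ← Rl.φz]; rfl)

theorem exists_nt {m : M5} (hm : m.cen = true) (hu : IsConj d.t (d.φ5 m)) :
    ∃ g, NT d g ∧ g * d.t * g⁻¹ = d.φ5 m := by
  have r := h.toRl
  obtain ⟨γ, hγ, k⟩ := h.tr1 c hu r.ov_S0.pg
  have key : ∀ m n : M5, m.cen = true → n * m = m * n := by decide +kernel
  refine ⟨γ⁻¹, r.nt_inv fun n => k _ (r.ov_S0.s0 _) (r.mod5.comm.2 (key m n hm)), ?_⟩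
  rw [← hγ]; group

/-- No element of `C(t)` carries `E` to `F` (`S0` and `g S0 g⁻¹` are Sylow in `C(t) ∩ N(F)`). -/
theorem no_EF {g : G} (ht : Commute g d.t) : ¬ Into d.φ4 d.swap.φ4 g := fun hg => by
  have := Fact.mk Nat.prime_two
  have r := h.toRl
  have s := h.swap.sylNE
  rw [r.S0_swap] at s
  obtain ⟨x, hx, le⟩ := s.exists_conj_le (isPGroup_cj g r.ov_S0.pg) (le_inf
    (cj_le_of_mem r.S0_le (mem_centralizer_singleton_iff.2 ht)) (cj_le_iff_forall.2 fun y hy =>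
      r.swap.mem_NE.2 ((hg.mul (r.ov_S0.nt y hy).2).mul
        (inv_of_inj r.mod4.inj r.swap.mod4.inj hg))))
  exact c (x * g) ((show Commute x d.t from mem_centralizer_singleton_iff.1 hx.1).mul_left ht)
    ⟨r.nt_of_le (by rwa [cj_mul]), (r.swap.mem_NE.1 hx.2).mul hg⟩

/-- STAB: `g` normalises `C_R(t) = S0`, `E` and `F`; use `stabS`, then `stabE`. -/
theorem stab1 {R : Subgroup G} (hR : Ov d R) {g : G} (hg : ∀ x ∈ R, g * x * g⁻¹ ∈ R)
    (ht : Commute g d.t) : ∃ m, ∀ x ∈ R, g * x * g⁻¹ = d.φ5 m * x * (d.φ5 m)⁻¹ := by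
  have r := h.toRl
  have nt : NT d g := fun m => h.cT c hR (hg _ (hR.s0 m))
    ((ht.mul_left (r.comm_t m)).mul_left ht.inv_left)
  obtain ⟨m, hm⟩ := h.stabS nt ((r.dich nt).resolve_right fun k => h.no_EF c ht k.1).1 ht
  have e : ∀ x, (d.φ5 m)⁻¹ * g * x * ((d.φ5 m)⁻¹ * g)⁻¹ = (d.φ5 m)⁻¹ * (g * x * g⁻¹) * d.φ5 m :=
    fun x => by group
  obtain ⟨f, hf⟩ := h.stabE hR.pg (fun e => d.φ5_e e ▸ hR.s0 _) (g := (d.φ5 m)⁻¹ * g)
    (fun x hx => e x ▸ mul_mem (mul_mem (inv_mem (hR.s0 m)) (hg x hx)) (hR.s0 m)) fun f => by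
      rw [e, L4.one_app, ← d.φ5_e, hm]; group
  refine ⟨m * ⟨f, false⟩, fun x hx => ?_⟩
  rw [r.mod5.mul, d.φ5_e]
  calc _ = d.φ5 m * ((d.φ5 m)⁻¹ * g * x * ((d.φ5 m)⁻¹ * g)⁻¹) * (d.φ5 m)⁻¹ := by group
    _ = _ := by rw [hf x hx]; group

/-- `T` is Sylow in `G` if `N(T)` keeps the `T`-class of `t` (`syl_of`, `cT`). -/
theorem syl1 {T : Subgroup G} (hT : Ov d T) (k : ∀ g, (∀ x ∈ T, g * x * g⁻¹ ∈ T) →
    ∃ s ∈ T, g * d.t * g⁻¹ = s * d.t * s⁻¹) : SylIn 2 T ⊤ := by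
  refine syl_of hT.pg le_top fun Q hQ le _ g hg hn => ?_
  obtain ⟨s, hs, e⟩ := k g hn
  obtain ⟨m, hm⟩ := h.cT c ⟨hQ, fun m => le (hT.s0 m)⟩ (mul_mem (inv_mem (le hs)) hg)
    (comm_of_cj (by
      calc _ = s⁻¹ * (g * d.t * g⁻¹) * s := by group
        _ = _ := by rw [e]; group))
  rw [inv_mul_eq_iff_eq_mul.1 hm]
  exact mul_mem hs (hT.s0 m)

/-- Thompson transfer (`tr_ext` with `R = S0`, `A = T / T0`): only conjugates `u` of `t` with
`|C_T(u)| ≥ 32` matter. -/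
theorem t_not {X T T0 : Subgroup G} (hX : Gl d X) (hT : SylIn 2 T ⊤) (hle : T0 ≤ T)
    (h0 : ∀ x ∈ T, x ∈ T0 ∨ x * d.t ∈ T0)
    (k : ∀ g, (∀ m, g * d.φ5 m * g⁻¹ ∈ T) → g * d.t * g⁻¹ ∉ T0) : d.t ∉ X := fun tX => by
  classical
  have r := h.toRl
  let ψ : T →* ℤˣ := MonoidHom.mk' (fun x => if (x : G) ∈ T0 then 1 else -1) fun x y => by
    by_cases hx : (x : G) ∈ T0 <;> by_cases hy : (y : G) ∈ T0
    · simp [hx, hy, mul_mem]
    · simp [hx, hy, T0.mul_mem_cancel_left hx]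
    · simp [hx, hy, T0.mul_mem_cancel_right hy]
    · have := mul_mem ((h0 _ x.2).resolve_left hx)
        (inv_mem ((h0 _ (inv_mem y.2)).resolve_left (by simpa using hy)))
      rw [show (x : G) * d.t * ((y : G)⁻¹ * d.t)⁻¹ = x * y by group] at this
      simp [hx, hy, this]
  obtain ⟨V, hV⟩ := tr_ext hT ψ
  have := hV d.t trivial h.c4.tt r.S0 r.ov_S0.pg le_top
    (fun x hx => mem_centralizer_singleton_iff.1 (r.S0_le hx)) (-1) fun g _ hg e =>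
      if_neg (k g fun m => e _ (r.ov_S0.s0 m))
  rw [hX.hom V tX] at this
  exact absurd this (by decide)

end

end Hy

end CL.HS8
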