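import Cfsg.Agent.INV.HS8.Def
import Cfsg.Agent.INV.HS8.Tl

/-!
Basic consequences of `Rl` (first half of HS8/Base).
-/

set_option autoImplicit false
set_option linter.unusedSectionVars false
set_option synthInstance.maxSize 4000
set_option synthInstance.maxHeartbeats 200000

open Subgroup CL.TwoS CL.MSS

namespace CL.HS8

variable {G : Type*} [Group G] {d : Dat G}

theorem cjd_φ4 (g : G) (d : Dat G) (e : V4) : (cjd g d).φ4 e = g * d.φ4 e * g⁻¹ :=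
  (cj_W4 g _ _ _ _ e).symm
theorem cjd_φ5 (g : G) (d : Dat G) (m : M5) : (cjd g d).φ5 m = g * d.φ5 m * g⁻¹ := by
  rw [Dat.φ5, Dat.φ5, ← cj_mul_cj, cjd_φ4]
  congr 1
  exact (map_bp (ψ := fun x => g * x * g⁻¹) (by simp) _ _).symm

theorem cjd_rel {g x y z : G} (e : x * y * x⁻¹ = z) :
    g * x * g⁻¹ * (g * y * g⁻¹) * (g * x * g⁻¹)⁻¹ = g * z * g⁻¹ := by rw [← e]; group

namespace Rl

variable (h : Rl d)
include h

theorem mod4 : IsMod d.φ4 := ⟨h.c4.mul, W4_one _ _ _ _, fun e f k => by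
  have := h.inj ((d.φ5_e e).trans (k.trans (d.φ5_e f).symm))
  exact congrArg M5.e this⟩

theorem act_w : Act d.φ4 d.w sg :=
  Act.of_gen h.c4 ((cj_of_comm h.tw.symm).trans d.ψt.symm)
    (h.wv.trans (by change _ = d.φ4 (.of 14); simp [Dat.φ4_of, Nat.testBit]))
    ((cj_of_comm h.aw.symm).trans d.ψa.symm) ((cj_of_comm h.bw.symm).trans d.ψb.symm)

theorem mod5 : IsMod d.φ5 := by
  refine ⟨fun m n => by rw [M5.mul_eq]; exact h.mod4.ext_mul0 h.act_w h.ww _ _ _ _, ?_, h.inj⟩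
  change d.φ4 1 * 1 = 1
  rw [h.mod4.one, mul_one]

theorem act_ρ : Act d.φ4 d.ρ rr :=
  Act.of_gen h.c4 ((cj_of_comm h.ρt).trans d.ψt.symm)
    (h.ρv.trans (by change _ = d.φ4 (.of 14); simp [Dat.φ4_of, Nat.testBit]))
    (h.ρa.trans (by change _ = d.φ4 (.of 10); simp [Dat.φ4_of, Nat.testBit]))
    ((cj_of_comm h.ρb).trans d.ψb.symm)

theorem act_ρi : Act d.φ4 d.ρ⁻¹ ri := h.act_ρ.inv rr_ri

theorem φ5_swap (m : M5) : d.swap.φ5 m = d.φ5 (sw5 m) := by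
  rw [sw5, h.mod5.mul, map_W4 h.mod5.one h.mod5.mul, map_bp h.mod5.one, d.φt, d.φw, d.φb, d.φa,
    d.φv]
  rfl

theorem φ4_swap (e : V4) : d.swap.φ4 e = d.φ5 (sw5 ⟨e, false⟩) := by
  rw [← h.φ5_swap, Dat.φ5_e]

omit h in
theorem φta : d.φ5 (.of 5) = d.t * d.a := by simp [Dat.φ5_of, Nat.testBit]
omit h in
theorem φtb : d.φ5 (.of 9) = d.t * d.b := by simp [Dat.φ5_of, Nat.testBit]
omit h in
theorem φz : d.φ5 (.of 12) = d.a * d.b := by simp [Dat.φ5_of, Nat.testBit]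
omit h in
theorem ψz : d.φ4 (.of 12) = d.a * d.b := by simp [Dat.φ4_of, Nat.testBit]

theorem φ5_twist (m : M5) : d.twist.φ5 m = d.φ5 (tw5 m) := by
  rw [tw5, h.mod5.mul, map_W4 h.mod5.one h.mod5.mul, map_bp h.mod5.one, d.φt, d.φw, φta,
    φtb, d.φv]
  rfl

theorem swap : Rl d.swap where
  c4 := ⟨h.c4.tt, h.ww, h.c4.bb, h.c4.aa, h.tw, h.c4.tb, h.c4.ta, h.bw.symm, h.aw.symm,
    h.c4.ab.symm⟩
  ww := h.c4.vv
  tw := h.c4.tv
  aw := h.c4.vb.symm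
  bw := h.c4.va.symm
  wv := by
    change d.v * d.w * d.v⁻¹ = d.w * d.b * d.a
    have e1 : d.v⁻¹ = d.v := inv_eq_of_mul_eq_one_left h.c4.vv
    have e2 : d.w⁻¹ = d.w := inv_eq_of_mul_eq_one_left h.ww
    have e3 := h.wv
    rw [e2] at e3
    calc d.v * d.w * d.v⁻¹ = d.v * (d.w * d.v * d.w) * d.w := by
          rw [e1, mul_assoc d.v, mul_assoc d.v, mul_assoc (d.w * d.v), h.ww, mul_one]
      _ = d.a * d.b * d.w := by rw [e3, ← mul_assoc, ← mul_assoc, h.c4.vv, one_mul]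
      _ = d.w * d.b * d.a := by rw [(h.aw.mul_left h.bw).eq, h.c4.ab.eq, mul_assoc]
  ρt := h.ρ't
  ρb := h.ρ'a
  ρa := h.ρ'b
  ρv := h.ρ'w
  ρ't := h.ρt
  ρ'a := h.ρb
  ρ'b := h.ρa
  ρ'w := h.ρv
  inj := fun m n e => by
    have k : ∀ m n, sw5 m = sw5 n → m = n := by decide +kernel
    rw [h.φ5_swap, h.φ5_swap] at e
    exact k _ _ (h.inj e)

theorem twist : Rl d.twist where
  c4 := ⟨h.c4.tt, h.c4.vv,
    by change d.t * d.a * (d.t * d.a) = 1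
       rw [h.c4.ta.symm.mul_mul_mul_comm, h.c4.tt, h.c4.aa, mul_one],
    by change d.t * d.b * (d.t * d.b) = 1
       rw [h.c4.tb.symm.mul_mul_mul_comm, h.c4.tt, h.c4.bb, mul_one],
    h.c4.tv, (Commute.refl _).mul_right h.c4.ta, (Commute.refl _).mul_right h.c4.tb,
    h.c4.tv.symm.mul_right h.c4.va, h.c4.tv.symm.mul_right h.c4.vb,
    ((Commute.refl _).mul_right h.c4.tb).mul_left (h.c4.ta.symm.mul_right h.c4.ab)⟩
  ww := h.ww
  tw := h.tw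
  aw := h.tw.mul_left h.aw
  bw := h.tw.mul_left h.bw
  wv := by
    change d.w * d.v * d.w⁻¹ = d.v * (d.t * d.a) * (d.t * d.b)
    rw [h.wv, mul_assoc d.v (d.t * d.a), h.c4.ta.symm.mul_mul_mul_comm, h.c4.tt, one_mul,
      mul_assoc]
  ρt := h.ρt
  ρb := h.ρt.mul_right h.ρb
  ρa := by
    change d.ρ * (d.t * d.a) * d.ρ⁻¹ = d.v * (d.t * d.b)
    rw [← cj_mul_cj, cj_of_comm h.ρt, h.ρa, ← mul_assoc, ← mul_assoc, h.c4.tv.eq]
  ρv := by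
    change d.ρ * d.v * d.ρ⁻¹ = d.v * (d.t * d.a) * (d.t * d.b)
    rw [h.ρv, mul_assoc d.v (d.t * d.a), h.c4.ta.symm.mul_mul_mul_comm, h.c4.tt, one_mul,
      mul_assoc]
  ρ't := h.ρ't
  ρ'a := h.ρ't.mul_right h.ρ'a
  ρ'b := by
    change d.ρ' * (d.t * d.b) * d.ρ'⁻¹ = d.w * (d.t * d.a)
    rw [← cj_mul_cj, cj_of_comm h.ρ't, h.ρ'b, ← mul_assoc, ← mul_assoc, h.tw.eq]
  ρ'w := by
    change d.ρ' * d.w * d.ρ'⁻¹ = d.w * (d.t * d.b) * (d.t * d.a)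
    rw [h.ρ'w, mul_assoc d.w (d.t * d.b), h.c4.tb.symm.mul_mul_mul_comm, h.c4.tt, one_mul,
      mul_assoc]
  inj := fun m n e => by
    have k : ∀ m n, tw5 m = tw5 n → m = n := by decide +kernel
    rw [h.φ5_twist, h.φ5_twist] at e
    exact k _ _ (h.inj e)

theorem cj (g : G) : Rl (cjd g d) := by
  have s : ∀ {x : G}, x * x = 1 → g * x * g⁻¹ * (g * x * g⁻¹) = 1 := fun e => by
    rw [cj_mul_cj, e]; group
  exact
  { c4 := ⟨s h.c4.tt, s h.c4.vv, s h.c4.aa, s h.c4.bb, comm_cj.2 h.c4.tv, comm_cj.2 h.c4.ta,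
      comm_cj.2 h.c4.tb, comm_cj.2 h.c4.va, comm_cj.2 h.c4.vb, comm_cj.2 h.c4.ab⟩
    ww := s h.ww
    tw := comm_cj.2 h.tw
    aw := comm_cj.2 h.aw
    bw := comm_cj.2 h.bw
    wv := (cjd_rel h.wv).trans (by rw [← cj_mul_cj, ← cj_mul_cj]; rfl)
    ρt := comm_cj.2 h.ρt
    ρb := comm_cj.2 h.ρb
    ρa := (cjd_rel h.ρa).trans (by rw [← cj_mul_cj]; rfl)
    ρv := (cjd_rel h.ρv).trans (by rw [← cj_mul_cj, ← cj_mul_cj]; rfl)
    ρ't := comm_cj.2 h.ρ't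
    ρ'a := comm_cj.2 h.ρ'a
    ρ'b := (cjd_rel h.ρ'b).trans (by rw [← cj_mul_cj]; rfl)
    ρ'w := (cjd_rel h.ρ'w).trans (by rw [← cj_mul_cj, ← cj_mul_cj]; rfl)
    inj := fun m n e => by
      rw [cjd_φ5, cjd_φ5, TwoS.cj_inj] at e
      exact h.inj e }

theorem φ5_inv (m : M5) : d.φ5 m⁻¹ = (d.φ5 m)⁻¹ :=
  eq_inv_of_mul_eq_one_left (by rw [← h.mod5.mul, inv_mul_cancel, h.mod5.one])

theorem comm_t (m : M5) : Commute (d.φ5 m) d.t := by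
  rw [← d.φt, h.mod5.comm]; revert m; decide +kernel

theorem act_of_into {n : G} (hn : Into d.φ4 d.φ4 n) : ∃ f, Act d.φ4 n f := by
  obtain ⟨e1, h1⟩ := hn (.of 1)
  obtain ⟨e2, h2⟩ := hn (.of 2)
  obtain ⟨e3, h3⟩ := hn (.of 4)
  obtain ⟨e4, h4⟩ := hn (.of 8)
  rw [d.ψt] at h1; rw [d.ψv] at h2; rw [d.ψa] at h3; rw [d.ψb] at h4
  exact ⟨⟨e1, e2, e3, e4⟩, Act.of_gen h.c4 h1 h2 h3 h4⟩

theorem nt_inv {g : G} (hg : NT d g) : NT d g⁻¹ := inv_of_inj h.mod5.inj h.mod5.inj hg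

theorem into_inv {g : G} (hg : Into d.φ4 d.φ4 g) : Into d.φ4 d.φ4 g⁻¹ :=
  inv_of_inj h.mod4.inj h.mod4.inj hg

theorem nt_φ (m : M5) : NT d (d.φ5 m) := fun n =>
  ⟨m * n * m⁻¹, by rw [h.mod5.mul, h.mod5.mul, h.φ5_inv]⟩

theorem nt_swap {g : G} : NT d.swap g ↔ NT d g := by
  have k : ∀ n, ∃ n', sw5 n' = n := by decide +kernel
  refine ⟨fun hg m => ?_, fun hg m => ?_⟩
  · obtain ⟨m', rfl⟩ := k m
    obtain ⟨n, hn⟩ := hg m'
    exact ⟨sw5 n, by rw [← h.φ5_swap, ← h.φ5_swap, hn]⟩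
  · obtain ⟨n, hn⟩ := hg (sw5 m)
    obtain ⟨n', rfl⟩ := k n
    exact ⟨n', by rw [h.φ5_swap, h.φ5_swap, hn]⟩

theorem nt_twist {g : G} : NT d.twist g ↔ NT d g := by
  have k : ∀ n, ∃ n', tw5 n' = n := by decide +kernel
  refine ⟨fun hg m => ?_, fun hg m => ?_⟩
  · obtain ⟨m', rfl⟩ := k m
    obtain ⟨n, hn⟩ := hg m'
    exact ⟨tw5 n, by rw [← h.φ5_twist, ← h.φ5_twist, hn]⟩
  · obtain ⟨n, hn⟩ := hg (tw5 m)
    obtain ⟨n', rfl⟩ := k n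
    exact ⟨n', by rw [h.φ5_twist, h.φ5_twist, hn]⟩

theorem exists_A {g : G} (hg : NT d g) : ∃ mv mw, prb mv mw = true ∧ ∃ ma : M5, ma.cen = true ∧
    ma ≠ 1 ∧ ma ≠ .of 12 ∧ ∃ mt : M5, mt.cen = true ∧
      ∀ m, g * d.φ5 m * g⁻¹ = d.φ5 (app5 mt mv ma mw m) := by
  choose θ hθ using hg
  have hm : ∀ m n, θ (m * n) = θ m * θ n := fun m n => h.mod5.inj (by
    rw [← hθ, h.mod5.mul, h.mod5.mul, ← hθ, ← hθ]; group)
  have h1 : θ 1 = 1 := h.mod5.inj (by rw [← hθ, h.mod5.one]; group)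
  have hi : Function.Injective θ := fun x y k => h.mod5.inj (by
    have := (hθ x).trans (k ▸ (hθ y).symm)
    simpa using this)
  have c : ∀ m n, m * n = n * m → θ m * θ n = θ n * θ m := fun m n k => by
    rw [← hm, k, hm]
  have k1 : ∀ mv mw : M5, mv * mv = 1 → mw * mw = 1 → mv * mw ≠ mw * mv →
      prb mv mw = true ∧ mw * mv * (mw * mv) = .of 12 ∧
        ∀ x : M5, x * mv = mv * x → x * mw = mw * x → x.cen = true := by decide +kernel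
  obtain ⟨k2, k3, k4⟩ := k1 (θ (.of 2)) (θ (.of 16)) (by rw [← hm, ← h1]; rfl)
    (by rw [← hm, ← h1]; rfl) (fun e => absurd (hi (by rw [hm, hm, e])
      : M5.of 2 * .of 16 = .of 16 * .of 2) (by decide))
  have k5 : θ (.of 12) = .of 12 := by rw [← hm, ← hm] at k3; exact k3
  have k6 : θ (.of 8) = θ (.of 4) * .of 12 := by rw [← k5, ← hm]; rfl
  refine ⟨_, _, k2, θ (.of 4), k4 _ (c _ _ rfl) (c _ _ rfl),
    fun e => absurd (hi (e.trans h1.symm)) (by decide),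
    fun e => absurd (hi (e.trans k5.symm)) (by decide), θ (.of 1), k4 _ (c _ _ rfl) (c _ _ rfl),
    fun m => ?_⟩
  rw [hθ, app5, ← k6, ← map_W4 h1 hm, ← map_bp h1, ← hm]
  congr 2
  revert m
  decide +kernel

omit h in
theorem φ5_E (m : M5) (hm : m.w = false) : d.φ5 m = d.φ4 m.e := by
  rw [Dat.φ5, hm, bp_false, mul_one]

theorem φ5_F (m : M5) (hm : m.e.v = false) : d.φ5 m = d.swap.φ4 (us m) := by
  rw [h.φ4_swap]
  congr 1
  revert m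
  decide +kernel

theorem dich {g : G} (hg : NT d g) : (Into d.φ4 d.φ4 g ∧ Into d.swap.φ4 d.swap.φ4 g) ∨
    (Into d.φ4 d.swap.φ4 g ∧ Into d.swap.φ4 d.φ4 g) := by
  obtain ⟨mv, mw, k1, ma, k2, -, -, mt, k3, hA⟩ := h.exists_A hg
  have key : (∀ e : V4, (app5 mt mv ma mw ⟨e, false⟩).w = false ∧
        (app5 mt mv ma mw (sw5 ⟨e, false⟩)).e.v = false) ∨
      (∀ e : V4, (app5 mt mv ma mw ⟨e, false⟩).e.v = false ∧
        (app5 mt mv ma mw (sw5 ⟨e, false⟩)).w = false) := by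
    have s1 : ∀ e : V4, (sw5 ⟨e, false⟩).e.v = false := by decide +kernel
    simp only [M5.cen, Bool.and_eq_true, Bool.not_eq_eq_eq_not, Bool.not_true] at k2 k3
    simp only [app5_w _ _ _ _ _ k3.1 k2.1, app5_v _ _ _ _ _ k3.2 k2.2, s1]
    simp only [prb, Bool.or_eq_true, Bool.and_eq_true, Bool.not_eq_eq_eq_not, Bool.not_true] at k1
    rcases k1 with k | k
    · left; simp [k]
    · right; simp [k]
  rcases key with k | k
  · exact Or.inl ⟨fun e => ⟨_, by rw [← φ5_E _ (k e).1, ← hA, d.φ5_e]⟩,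
      fun e => ⟨_, by rw [← h.φ5_F _ (k e).2, ← hA, h.φ4_swap e]⟩⟩
  · exact Or.inr ⟨fun e => ⟨_, by rw [← h.φ5_F _ (k e).1, ← hA, d.φ5_e]⟩,
      fun e => ⟨_, by rw [← φ5_E _ (k e).2, ← hA, h.φ4_swap e]⟩⟩

/-- `E` and `F` are not carried to the same subgroup. -/
theorem not_EF {g : G} (h1 : Into d.φ4 d.φ4 g) (h2 : Into d.φ4 d.swap.φ4 g) : False := by
  obtain ⟨e, he⟩ := h.into_inv h1 (.of 2)
  obtain ⟨f, hf⟩ := h2 e
  rw [← he, h.φ4_swap, ← d.φ5_e] at hf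
  have k : ∀ f, sw5 ⟨f, false⟩ ≠ ⟨.of 2, false⟩ := by decide +kernel
  exact k f (h.inj (by rw [← hf]; group))

theorem cc_E (e : V4) : CC d.t (d.φ4 e) (d.φ4 (rpE e)) := by
  have k : ∀ e, CC d.t (d.φ4 e) (d.φ4 (rr.app e)) := fun e => ⟨d.ρ, h.ρt, h.act_ρ e⟩
  unfold rpE
  split_ifs
  · exact CC.refl _ _
  · exact k e
  · exact (k e).trans (k _)

/-- Every involution of `S0` is conjugate in `C(t)` into `Z0`. -/
theorem cc_rp {m : M5} (hm : m * m = 1) : CC d.t (d.φ5 m) (d.φ5 (rp m)) := by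
  unfold rp
  split_ifs with hw
  · obtain ⟨e, w⟩ := m
    obtain rfl : w = false := hw
    rw [d.φ5_e, d.φ5_e]
    exact h.cc_E e
  · have k : ∀ m : M5, m * m = 1 → ¬ m.w = false → sw5 ⟨us m, false⟩ = m := by decide +kernel
    rw [← h.φ4_swap]
    conv => lhs; rw [← k m hm hw, ← h.φ4_swap]
    exact h.swap.cc_E _

/-- An element with prescribed action on the generators. -/
theorem au_of {g : G} {mt mv ma mw : ℕ} (h1 : g * d.t * g⁻¹ = d.φ5 (.of mt))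
    (h2 : g * d.v * g⁻¹ = d.φ5 (.of mv)) (h3 : g * d.a * g⁻¹ = d.φ5 (.of ma))
    (h4 : g * d.b * g⁻¹ = d.φ5 (.of ma * .of 12)) (h5 : g * d.w * g⁻¹ = d.φ5 (.of mw)) :
    Au d g mt mv ma mw := fun m => by
  rw [app5, h.mod5.mul, map_W4 h.mod5.one h.mod5.mul, map_bp h.mod5.one, ← h1, ← h2, ← h3, ← h4,
    ← h5]
  exact (cjd_φ5 g d m).symm

theorem into_φ (m : M5) : Into d.φ4 d.φ4 (d.φ5 m) := fun e => by
  have k : ∀ (m : M5) (e : V4), (m * ⟨e, false⟩ * m⁻¹).w = false := by decide +kernel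
  exact ⟨_, by rw [← φ5_E _ (k m e), h.mod5.mul, h.mod5.mul, h.φ5_inv, d.φ5_e]⟩

theorem act_φ4 (e : V4) : Act d.φ4 (d.φ4 e) 1 := fun x => by
  rw [L4.one_app]; exact h.mod4.cj (mul_comm _ _)

/-- Elements of `N(S0)` fix `z`. -/
theorem nt_z {g : G} (hg : NT d g) : g * (d.a * d.b) * g⁻¹ = d.a * d.b := by
  obtain ⟨mv, mw, -, ma, k2, -, -, mt, -, hA⟩ := h.exists_A hg
  have k : ∀ ma : M5, ma.cen = true → ma * (ma * .of 12) = .of 12 := by decide +kernel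
  have := hA (.of 12)
  rw [show app5 mt mv ma mw (.of 12) = ma * (ma * .of 12) by
    change 1 * 1 * ma * (ma * .of 12) * 1 = _; simp, k ma k2, φz] at this
  exact this

variable [Finite G]

/-- `S0`. -/
def S0 : Subgroup G := h.mod5.sub (fun _ => true) rfl (fun _ _ _ _ => rfl)
/-- `E`. -/
def E : Subgroup G := h.mod4.sub (fun _ => true) rfl (fun _ _ _ _ => rfl)

theorem mem_S0 {g : G} : g ∈ h.S0 ↔ ∃ m, d.φ5 m = g := by rw [S0, IsMod.mem_sub]; simp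
theorem mem_E {g : G} : g ∈ h.E ↔ ∃ e, d.φ4 e = g := by rw [E, IsMod.mem_sub]; simp
theorem card_S0 : Nat.card h.S0 = 2 ^ 5 := h.mod5.card_sub M5.nodup_all M5.mem_all
theorem card_E : Nat.card h.E = 2 ^ 4 := h.mod4.card_sub V4.nodup_all V4.mem_all
theorem ov_S0 : Ov0 d h.S0 :=
  ⟨⟨isPGroup_of_card h.card_S0, fun m => h.mem_S0.2 ⟨m, rfl⟩⟩, fun x hx => by
    obtain ⟨m, rfl⟩ := h.mem_S0.1 hx
    exact ⟨h.nt_φ m, h.into_φ m⟩⟩

theorem S0_le : h.S0 ≤ centralizer {d.t} := fun g hg => by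
  obtain ⟨m, rfl⟩ := h.mem_S0.1 hg
  exact mem_centralizer_singleton_iff.2 (h.comm_t m)

/-- The normaliser of `E`. -/
theorem mem_NE {g : G} : g ∈ normalizer (h.E : Set G) ↔ Into d.φ4 d.φ4 g := by
  refine ⟨fun hg e => ?_, fun hg => mem_normalizer_of_cj_le (cj_le_iff_forall.2 fun x hx => ?_)⟩
  · obtain ⟨f, hf⟩ := h.mem_E.1 (conj_mem_of_normalizes le_rfl hg (h.mem_E.2 ⟨e, rfl⟩))
    exact ⟨f, hf.symm⟩
  · obtain ⟨e, rfl⟩ := h.mem_E.1 hx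
    obtain ⟨f, hf⟩ := hg e
    exact h.mem_E.2 ⟨f, hf.symm⟩

end Rl

theorem cjd_swap (g : G) (d : Dat G) : (cjd g d).swap = cjd g d.swap := rfl
theorem act_cjd {g x : G} {f : L4} : Act (cjd g d).φ4 (g * x * g⁻¹) f ↔ Act d.φ4 x f :=
  forall_congr' fun e => by
    rw [cjd_φ4, cjd_φ4, show g * x * g⁻¹ * (g * d.φ4 e * g⁻¹) * (g * x * g⁻¹)⁻¹ =
      g * (x * d.φ4 e * x⁻¹) * g⁻¹ by group, TwoS.cj_inj]
theorem into_cjd {d' : Dat G} {g x : G} :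
    Into (cjd g d).φ4 (cjd g d').φ4 (g * x * g⁻¹) ↔ Into d.φ4 d'.φ4 x :=
  forall_congr' fun e => exists_congr fun f => by
    rw [cjd_φ4, cjd_φ4, show g * x * g⁻¹ * (g * d.φ4 e * g⁻¹) * (g * x * g⁻¹)⁻¹ =
      g * (x * d.φ4 e * x⁻¹) * g⁻¹ by group, TwoS.cj_inj]
theorem nt_cjd {g x : G} : NT (cjd g d) (g * x * g⁻¹) ↔ NT d x :=
  forall_congr' fun e => exists_congr fun f => by
    rw [cjd_φ5, cjd_φ5, show g * x * g⁻¹ * (g * d.φ5 e * g⁻¹) * (g * x * g⁻¹)⁻¹ =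
      g * (x * d.φ5 e * x⁻¹) * g⁻¹ by group, TwoS.cj_inj]
theorem sw_cjd {g x : G} : Sw (cjd g d) (g * x * g⁻¹) ↔ Sw d x :=
  and_congr nt_cjd (into_cjd (d' := d.swap))
theorem exists_cj (g x : G) : ∃ y, x = g * y * g⁻¹ := ⟨g⁻¹ * x * g, by group⟩
theorem AE.cj {A : List L4} (h : AE d A) (g : G) : AE (cjd g d) A := by
  refine ⟨fun x hx => ?_, fun f hf => ?_⟩
  · obtain ⟨y, rfl⟩ := exists_cj g x
    simpa only [act_cjd] using h.le y (into_cjd.1 hx)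
  · obtain ⟨y, hy⟩ := h.ge f hf
    exact ⟨_, act_cjd.2 hy⟩

theorem Rl.sw_swap (r : Rl d) {x : G} : Sw d.swap x ↔ Sw d x := by
  have k : ∀ {d : Dat G}, Rl d → Sw d x → Sw d.swap x := fun r h =>
    ⟨r.nt_swap.2 h.1, ((r.dich h.1).resolve_left fun k => r.not_EF k.1 h.2).2⟩
  exact ⟨k r.swap, k r⟩

theorem Rl.range_twist (r : Rl d) (e : V4) :
    (∃ f, d.twist.φ4 e = d.φ4 f) ∧ ∃ f, d.φ4 e = d.twist.φ4 f := by
  have k : ∀ e : V4, (∃ f : V4, tw5 ⟨e, false⟩ = ⟨f, false⟩) ∧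
      ∃ f : V4, tw5 ⟨f, false⟩ = ⟨e, false⟩ := by decide +kernel
  obtain ⟨⟨f, hf⟩, f', hf'⟩ := k e
  exact ⟨⟨f, by rw [← Dat.φ5_e, r.φ5_twist, hf, Dat.φ5_e]⟩,
    f', by rw [← Dat.φ5_e d.twist, r.φ5_twist, hf', Dat.φ5_e]⟩

theorem into_twist {d' : Dat G} (r : Rl d) (r' : Rl d') {x : G} :
    Into d.twist.φ4 d'.twist.φ4 x ↔ Into d.φ4 d'.φ4 x := by
  refine ⟨fun h e => ?_, fun h e => ?_⟩
  · obtain ⟨e', he⟩ := (r.range_twist e).2
    obtain ⟨f, hf⟩ := h e'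
    obtain ⟨f', hf'⟩ := (r'.range_twist f).1
    exact ⟨f', by rw [he, hf, hf']⟩
  · obtain ⟨e', he⟩ := (r.range_twist e).1
    obtain ⟨f, hf⟩ := h e'
    obtain ⟨f', hf'⟩ := (r'.range_twist f).2
    exact ⟨f', by rw [he, hf, hf']⟩

theorem Rl.sw_twist (r : Rl d) {x : G} : Sw d.twist x ↔ Sw d x :=
  and_congr r.nt_twist (into_twist r r.swap)

theorem C1.swap (r : Rl d) (h : C1 d) : C1 d.swap := fun g hg k => h g hg (r.sw_swap.1 k)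
theorem C1.twist (r : Rl d) (h : C1 d) : C1 d.twist := fun g hg k => h g hg (r.sw_twist.1 k)
theorem C1.cj (h : C1 d) (g : G) : C1 (cjd g d) := fun x hx k => by
  obtain ⟨y, rfl⟩ := exists_cj g x
  exact h y (comm_cj.1 hx) (sw_cjd.1 k)
theorem Gl.swap {X : Subgroup G} (h : Gl d X) : Gl d.swap X := ⟨h.nm, h.ix, h.pf, h.w, h.v⟩
theorem Gl.twist {X : Subgroup G} (h : Gl d X) : Gl d.twist X := ⟨h.nm, h.ix, h.pf, h.v, h.w⟩
theorem Ov.swap {R : Subgroup G} (r : Rl d) (h : Ov d R) : Ov d.swap R :=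
  ⟨h.pg, fun m => r.φ5_swap m ▸ h.s0 _⟩
theorem Ov0.swap {R : Subgroup G} (r : Rl d) (h : Ov0 d R) : Ov0 d.swap R :=
  ⟨h.toOv.swap r, fun x hx => ⟨r.nt_swap.2 (h.nt x hx).1,
    ((r.dich (h.nt x hx).1).resolve_right fun k => r.not_EF (h.nt x hx).2 k.1).2⟩⟩
/-- Commutators lie in `X`, and so do products of two conjugates of `t`. -/
theorem Gl.comm {X : Subgroup G} (h : Gl d X) (g k : G) : g * k * g⁻¹ * k⁻¹ ∈ X := by
  have := h.nm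
  have q : ∀ g : G, (g : G ⧸ X) = 1 ∨ (g : G ⧸ X) = (d.t : G ⧸ X)⁻¹ := fun g =>
    (h.ix g).imp (QuotientGroup.eq_one_iff _).2 fun e =>
      eq_inv_of_mul_eq_one_left ((QuotientGroup.eq_one_iff _).2 e)
  rw [← QuotientGroup.eq_one_iff]
  change (g : G ⧸ X) * k * (g : G ⧸ X)⁻¹ * (k : G ⧸ X)⁻¹ = 1
  rcases q g with e | e <;> rcases q k with e' | e' <;> rw [e, e'] <;> group
/-- A homomorphism to an abelian group is trivial on `X`. -/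
theorem Gl.hom [Finite G] {X : Subgroup G} (h : Gl d X) {A : Type*} [CommGroup A]
    (V : (⊤ : Subgroup G) →* A) {x : G} (hx : x ∈ X) : V ⟨x, trivial⟩ = 1 :=
  hom_perfect V h.pf le_top hx

end CL.HS8
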