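import Cfsg.Agent.INV.TwoS6.Loc

/-!
An involution `t` whose centraliser has a normal subgroup `L` with dihedral Sylow subgroup
`D = ⟨v, w⟩` of order 8 and contains `S0 = ⟨t, a, b, w, v⟩ ≅ 2 × 2 × D8` (notation of `CL.TwoS`:
`E = ⟨t, v, a, b⟩`, `F = ⟨t, w, b, a⟩`, `z = a b`; bits `t = 1, v = 2, a = 4, b = 8, w = 16`).
`E0 = ⟨v, a, b⟩`, `Z = ⟨a, b⟩`, `U = ⟨v, w, a, b⟩`, `Z0 = ⟨t, a, b⟩`.
-/

set_option autoImplicit false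

open Subgroup CL.TwoS CL.MSS

namespace CL.HS8

variable {G : Type*} [Group G]

/-- The relations, and `φ5` is injective. -/
structure Rl (d : Dat G) : Prop where
  c4 : C4 d.t d.v d.a d.b
  ww : d.w * d.w = 1
  tw : Commute d.t d.w
  aw : Commute d.a d.w
  bw : Commute d.b d.w
  wv : d.w * d.v * d.w⁻¹ = d.v * d.a * d.b
  ρt : Commute d.ρ d.t
  ρb : Commute d.ρ d.b
  ρa : d.ρ * d.a * d.ρ⁻¹ = d.v * d.b
  ρv : d.ρ * d.v * d.ρ⁻¹ = d.v * d.a * d.b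
  ρ't : Commute d.ρ' d.t
  ρ'a : Commute d.ρ' d.a
  ρ'b : d.ρ' * d.b * d.ρ'⁻¹ = d.w * d.a
  ρ'w : d.ρ' * d.w * d.ρ'⁻¹ = d.w * d.b * d.a
  inj : Function.Injective d.φ5

/-- Membership of `D = ⟨v, w⟩`. -/
def inD (m : M5) : Bool := !m.e.t && (m.e.a == m.e.b)

/-- `x` normalises `S0` and carries `E` to `F`. -/
def Sw (d : Dat G) (x : G) : Prop := NT d x ∧ Into d.φ4 d.swap.φ4 x

/-- The hypothesis: `S` is a Sylow 2-subgroup of `C(t)`. -/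
structure Hy (d : Dat G) : Prop extends Rl d where
  ex : ∃ S L : Subgroup G, SylIn 2 S (centralizer {d.t}) ∧ (∀ m, d.φ5 m ∈ S) ∧
    (∀ g, Commute g d.t → ∀ x ∈ L, g * x * g⁻¹ ∈ L) ∧ (∀ m, d.φ5 m ∈ L ↔ inD m = true) ∧
    ∀ x ∈ S, (∃ m, x = d.φ5 m) ∨ (x ∉ L ∧ Sw d x)

/-- Case I: `S = S0`. -/
def C1 (d : Dat G) : Prop := ∀ g, Commute g d.t → ¬ Sw d g

/-- `G = X ⟨t⟩` with `X` perfect. -/
structure Gl (d : Dat G) (X : Subgroup G) : Prop where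
  nm : X.Normal
  ix : ∀ g, g ∈ X ∨ g * d.t ∈ X
  pf : ⁅X, X⁆ = X
  v : d.v ∈ X
  w : d.w ∈ X

/-- The conjugate data. -/
def cjd (g : G) (d : Dat G) : Dat G :=
  ⟨g * d.t * g⁻¹, g * d.a * g⁻¹, g * d.b * g⁻¹, g * d.w * g⁻¹, g * d.v * g⁻¹, g * d.ρ * g⁻¹,
    g * d.ρ' * g⁻¹⟩

/-- `g` acts on `S0` with the given images (as numbers) of `t, v, a, w`, fixing `z`. -/
def Au (d : Dat G) (g : G) (mt mv ma mw : ℕ) : Prop :=
  ∀ m, g * d.φ5 m * g⁻¹ = d.φ5 (app5 (.of mt) (.of mv) (.of ma) (.of mw) m)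

/-- `t ↦ t z`. -/
def nb : L4 := .of 13 2 4 8
/-- `t ↦ t v`. -/
def al : L4 := .of 3 2 4 8
/-- `t ↦ t b`. -/
def kb : L4 := .of 9 2 4 8
/-- `t ↦ t a`, `v ↦ v b`. -/
def ph : L4 := .of 5 10 4 8
/-- `t ↦ t v b`, `a ↦ z`. -/
def ab : L4 := .of 11 2 12 8

/-- The group `⟨rr, sg⟩ ≅ S3`. -/
def S3 : List L4 := [1, rr, ri, sg, rr * sg, ri * sg]
def A1 : List L4 := [1]
def A2 : List L4 := [1, kb]
def A4T : List L4 := [1, nb, al, nb * al]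
def A4B : List L4 := [1, ph, ab, ph * ab]
def A8T : List L4 := A4T ++ A4T.map (kb * ·)
def A8B : List L4 := A4B ++ A4B.map (kb * ·)
/-- `A8 true` is type B. -/
def A8 (β : Bool) : List L4 := cond β A8B A8T

/-- `N(E)` induces on `E` exactly the group `A . S3`. -/
structure AE (d : Dat G) (A : List L4) : Prop where
  le : ∀ g, Into d.φ4 d.φ4 g → ∃ f ∈ A, ∃ s ∈ S3, Act d.φ4 g (f * s)
  ge : ∀ f ∈ A, ∃ g, Act d.φ4 g f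

/-- A 2-subgroup containing `S0`. -/
structure Ov (d : Dat G) (R : Subgroup G) : Prop where
  pg : IsPGroup 2 R
  s0 : ∀ m, d.φ5 m ∈ R

/-- A 2-subgroup of `N(S0) ∩ N(E)` containing `S0`. -/
structure Ov0 (d : Dat G) (R : Subgroup G) : Prop extends Ov d R where
  nt : ∀ x ∈ R, NT d x ∧ Into d.φ4 d.φ4 x

/-- `P` is a Sylow 2-subgroup of `N(E)`, `M` the part acting in `A`, `ρ` an adapted element. -/
structure Lo (d : Dat G) (A : List L4) (P M : Subgroup G) (ρ : G) : Prop extends Ov d P where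
  act : ∀ x ∈ P, ∃ f ∈ A, Act d.φ4 x f ∨ Act d.φ4 x (f * sg)
  memM : ∀ x, x ∈ M ↔ x ∈ P ∧ ∃ f ∈ A, Act d.φ4 x f
  cov : ∀ f ∈ A, ∃ x ∈ M, Act d.φ4 x f
  ker : ∀ x ∈ P, Act d.φ4 x 1 → ∃ e, x = d.φ4 e
  ρa : Act d.φ4 ρ rr
  ρn : ∀ x ∈ M, ρ * x * ρ⁻¹ ∈ M
  ρ3 : ∀ x ∈ M, Commute (ρ * ρ * ρ) x
  ρw : ∀ x ∈ M, Commute (d.w * ρ * d.w * ρ) x

/-- Type T generators `n`, `α = ρ n ρ⁻¹`. -/
structure TN (d : Dat G) (ρ n α : G) (μ δ : Bool) : Prop where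
  ρa : Act d.φ4 ρ rr
  na : Act d.φ4 n nb
  αa : Act d.φ4 α al
  ρn : ρ * n * ρ⁻¹ = α
  ρα : ρ * α * ρ⁻¹ = (n * α)⁻¹
  nn : n * n = bp d.b δ * bp (d.a * d.b) μ
  αα : α * α = bp d.b δ * bp d.v μ
  nα : n * α = α * n * bp d.b δ
  wn : d.w * n * d.w⁻¹ = n * bp d.b δ
  wα : d.w * α * d.w⁻¹ = (n * α)⁻¹ * bp d.b δ

/-- Type B generators `φ`, `α = ρ φ ρ⁻¹`. -/
structure BN (d : Dat G) (ρ φ α : G) : Prop where
  ρa : Act d.φ4 ρ rr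
  φa : Act d.φ4 φ ph
  αa : Act d.φ4 α ab
  ρφ : ρ * φ * ρ⁻¹ = α
  ρα : ρ * α * ρ⁻¹ = φ * α
  φφ : φ * φ = 1
  αα : α * α = 1
  φα : Commute φ α
  φw : Commute φ d.w
  wα : d.w * α * d.w⁻¹ = φ * α

/-- The element `k` with `[t, k] = b` commuting with `ρ` and the generators `x`, `y`. -/
structure KN (d : Dat G) (ρ k x y : G) (β η : Bool) : Prop where
  ka : Act d.φ4 k kb
  kρ : Commute k ρ
  kx : Commute k x
  ky : Commute k y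
  wk : d.w * k * d.w⁻¹ = k * bp d.b β
  kk : k * k = bp d.b η

/-- Elements of `Z0`. -/
def InZ (d : Dat G) (c : G) : Prop := ∃ i j k, c = Z3 d.t d.a d.b i j k

/-- The four configurations. `R` is a Sylow 2-subgroup of `N(S0) ∩ N(E)`. -/
def K1 (d : Dat G) : Prop := AE d A1 ∧ AE d.swap A1
def K2 (d : Dat G) : Prop := AE d A4B ∧ AE d.swap A2 ∧
  ∃ R y', Ov0 d R ∧ y' ∈ R ∧ Au d y' 5 6 4 16
def K4 (d : Dat G) : Prop := AE d A4T ∧ AE d.swap A4T ∧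
  ∃ R y, Ov0 d R ∧ y ∈ R ∧ Au d y 13 2 4 16
/-- `E` has type `α`, `F` has type `β`. -/
def K8 (d : Dat G) (α β : Bool) : Prop := AE d (A8 α) ∧ AE d.swap (A8 β) ∧
  ∃ R y y', Ov0 d R ∧ y ∈ R ∧ y' ∈ R ∧
    Au d y 9 2 4 (cond β 24 16) ∧ Au d y' 5 (cond α 6 2) 4 16

/-- The model `W` is a Sylow 2-subgroup of `X`. -/
def SyX (W : Type) [Group W] (X : Subgroup G) : Prop :=
  ∃ f : W →* G, Function.Injective f ∧ SylIn 2 f.range X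

/-- A Sylow 2-subgroup of `X` has order `n` and class two. -/
def Cl2 (n : ℕ) (X : Subgroup G) : Prop :=
  ∃ T : Subgroup G, SylIn 2 T X ∧ Nat.card T = n ∧ (∃ x ∈ T, ∃ y ∈ T, ¬ Commute x y) ∧
    ∀ x ∈ T, ∀ y ∈ T, ∀ u ∈ T, Commute (x * y * x⁻¹ * y⁻¹) u

end CL.HS8
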