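import Cfsg.Agent.INV.HS8.Def
import Cfsg.Agent.INV.SecRk16

/-!
Normal subgroups `L` with dihedral Sylow subgroups of order 8: definitions.
-/

set_option autoImplicit false

open Subgroup CL.TwoS CL.MSS

namespace CL.HS8

variable {G : Type*} [Group G]

/-- The centre of `⟨v, w⟩`. -/
def zz (v w : G) : G := v * w * v * w

/-- `D = ⟨v, w⟩`. -/
def DD (v w : G) : Subgroup G := closure {v, w}

/-- `L` is normal in `H`, perfect with Sylow subgroup `D8`; `K` is the centraliser of `L / O(L)` in `H`. -/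
structure Pr (H L K : Subgroup G) : Prop where
  LH : L ≤ H
  KH : K ≤ H
  Ln : ∀ g ∈ H, ∀ x ∈ L, g * x * g⁻¹ ∈ L
  Kn : ∀ g ∈ H, ∀ x ∈ K, g * x * g⁻¹ ∈ K
  pf : ⁅L, L⁆ = L
  d8 : ∃ D : Subgroup G, SylIn 2 D L ∧ Nonempty (D ≃* DihedralGroup 4)
  odd : Odd (Nat.card ↥(K ⊓ L))
  cen : ∀ x ∈ H, ∀ O : Subgroup G, O ≤ L → Odd (Nat.card O) → (∀ y ∈ L, ∀ o ∈ O, y * o * y⁻¹ ∈ O) →
    (∀ y ∈ L, x * y * x⁻¹ * y⁻¹ ∈ O) → x ∈ K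

/-- `⟨v, w⟩ ≅ D8`; `ρ`, `ρ'` rotate `V1 = ⟨v, z⟩`, `V2 = ⟨w, z⟩`. -/
structure D8 (v w ρ ρ' : G) : Prop where
  vv : v * v = 1
  ww : w * w = 1
  z1 : zz v w ≠ 1
  z2 : zz v w * zz v w = 1
  ρz : ρ * zz v w * ρ⁻¹ = v
  ρv : ρ * v * ρ⁻¹ = v * zz v w
  ρ'z : ρ' * zz v w * ρ'⁻¹ = w
  ρ'w : ρ' * w * ρ'⁻¹ = w * zz v w

/-- `c` interchanges `V1` and `V2`. -/
def Sp (v w c : G) : Prop := (c * v * c⁻¹ = w ∨ c * v * c⁻¹ = w * zz v w) ∧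
  (c * w * c⁻¹ = v ∨ c * w * c⁻¹ = v * zz v w)

/-- The Sylow subgroup `S` of `H`: `C_S(D) = B1 × ⟨z⟩ = B2 × ⟨z⟩`, `B1 ∩ B2 = S ∩ K`. -/
structure Lc (H L K S B1 B2 : Subgroup G) (v w ρ ρ' : G) : Prop extends D8 v w ρ ρ' where
  syl : SylIn 2 S H
  vL : v ∈ L
  wL : w ∈ L
  ρL : ρ ∈ L
  ρ'L : ρ' ∈ L
  vS : v ∈ S
  wS : w ∈ S
  D : ∀ x ∈ S, x ∈ L → x ∈ DD v w
  B1S : B1 ≤ S
  B2S : B2 ≤ S
  c1 : ∀ x ∈ B1, Commute x v ∧ Commute x w ∧ Commute x ρ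
  c2 : ∀ x ∈ B2, Commute x v ∧ Commute x w ∧ Commute x ρ'
  m1 : ∀ x ∈ S, Commute x v → Commute x w → x ∈ B1 ∨ x * zz v w ∈ B1
  m2 : ∀ x ∈ S, Commute x v → Commute x w → x ∈ B2 ∨ x * zz v w ∈ B2
  int : ∀ x, (x ∈ B1 ∧ x ∈ B2) ↔ (x ∈ S ∧ x ∈ K)
  sw : ∀ c ∈ S, (∃ b ∈ B1, ∃ e ∈ DD v w, c = b * e) ∨
    (Sp v w c ∧ (∀ x ∈ B1, c * x * c⁻¹ ∈ B2) ∧ ∀ x ∈ B2, c * x * c⁻¹ ∈ B1)

/-- `G = X ⟨t⟩`, `X` simple, `L ≤ X` normal in `C(t)`, and `⟨t⟩` is a Sylow subgroup of `K`. -/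
structure Su (X L K : Subgroup G) (t : G) : Prop extends Pr (centralizer {t}) L K where
  tt : t * t = 1
  t1 : t ≠ 1
  tK : t ∈ K
  K2 : ∀ x ∈ K, ∀ k : ℕ, x ^ 2 ^ k = 1 → x = 1 ∨ x = t
  nm : X.Normal
  sim : IsSimpleGroup X
  ix : ∀ g, g ∈ X ∨ g * t ∈ X
  LX : L ≤ X
  cX : ∀ g, (∀ x ∈ X, Commute g x) → g = 1

/-- `⟨t⟩ × D` is a Sylow subgroup of `C(t)`. -/
structure H0 (X : Subgroup G) (t v w ρ ρ' : G) : Prop extends D8 v w ρ ρ' where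
  tt : t * t = 1
  tD : t ∉ DD v w
  tv : Commute t v
  tw : Commute t w
  tρ : Commute t ρ
  tρ' : Commute t ρ'
  syl : SylIn 2 (closure {t, v, w}) (centralizer {t})
  nm : X.Normal
  pf : ⁅X, X⁆ = X
  ix : ∀ g, g ∈ X ∨ g * t ∈ X
  vX : v ∈ X
  wX : w ∈ X

/-- The data `d` come from `L`. -/
structure Lk (d : Dat G) (L K : Subgroup G) : Prop where
  mem : ∀ m, d.φ5 m ∈ L ↔ inD m = true
  syl : SylIn 2 (DD d.v d.w) L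
  ρ : d.ρ ∈ L
  ρ' : d.ρ' ∈ L
  aK : d.a ∉ K
  bK : d.b ∉ K

/-- Some element of `H` interchanges the two four-groups of a Sylow subgroup of `L`. -/
def Swp (H L : Subgroup G) : Prop := ∃ v w ρ ρ', D8 v w ρ ρ' ∧ SylIn 2 (DD v w) L ∧ ∃ c ∈ H, Sp v w c

/-- Sectional 2-rank at most 4. -/
abbrev R4 (G : Type*) [Group G] : Prop := SR16.R 16 G

end CL.HS8
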