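import Cfsg.Agent.INV.HS8.Def2
import Cfsg.Agent.INV.HS8.Jn

/-!
A model of `D = ⟨v, w⟩ ≅ D8`.
-/

set_option autoImplicit false
set_option linter.unusedSectionVars false

open Subgroup CL.TwoS CL.MSS

namespace CL.HS8.M1

variable {G : Type*} [Group G] {v w ρ ρ' : G}

/-- Model of `D8`. -/
@[ext] structure D3 where
  v : Bool
  w : Bool
  z : Bool
  deriving DecidableEq, Fintype

instance : Mul D3 := ⟨fun x y => ⟨xor x.v y.v, xor x.w y.w, xor x.z (xor y.z (x.w && y.v))⟩⟩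
instance : One D3 := ⟨⟨false, false, false⟩⟩

def dv : D3 := ⟨true, false, false⟩
def dw : D3 := ⟨false, true, false⟩
def dz : D3 := ⟨false, false, true⟩

/-- Evaluation. -/
def ψ (v w : G) (x : D3) : G := bp v x.v * bp w x.w * bp (zz v w) x.z

theorem ψv : ψ v w dv = v := by simp [ψ, dv]
theorem ψw : ψ v w dw = w := by simp [ψ, dw]
theorem ψz : ψ v w dz = zz v w := by simp [ψ, dz]

/-- The endomorphism with the images `p`, `q` of `v`, `w`. -/
def en (p q x : D3) : D3 := bp p x.v * bp q x.w * bp (p * q * p * q) x.z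

theorem zz_cj (g : G) : zz (g * v * g⁻¹) (g * w * g⁻¹) = g * zz v w * g⁻¹ := by unfold zz; group

theorem ψ_cj (g : G) (x : D3) : ψ (g * v * g⁻¹) (g * w * g⁻¹) x = g * ψ v w x * g⁻¹ := by
  rw [ψ, ψ, zz_cj, Jn.cjb, Jn.cjb, Jn.cjb]; group

theorem vD : v ∈ DD v w := subset_closure (by simp)
theorem wD : w ∈ DD v w := subset_closure (by simp)
theorem zD : zz v w ∈ DD v w := mul_mem (mul_mem (mul_mem vD wD) vD) wD

theorem DD_le {K : Subgroup G} (h1 : v ∈ K) (h2 : w ∈ K) : DD v w ≤ K :=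
  (closure_le K).2 (by rintro _ (rfl | rfl); exacts [h1, h2])

theorem bp_mem {H : Subgroup G} {x : G} (h : x ∈ H) (i : Bool) : bp x i ∈ H := by
  cases i
  exacts [H.one_mem, h]

theorem ψD (x : D3) : ψ v w x ∈ DD v w := mul_mem (mul_mem (bp_mem vD _) (bp_mem wD _)) (bp_mem zD _)

theorem comm_D {x e : G} (h1 : Commute x v) (h2 : Commute x w) (he : e ∈ DD v w) : Commute x e :=
  (mem_centralizer_singleton_iff.1 (DD_le (K := centralizer {x}) (mem_centralizer_singleton_iff.2 h1.symm)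
    (mem_centralizer_singleton_iff.2 h2.symm) he) : Commute e x).symm

variable (h : D8 v w ρ ρ')
include h

theorem d8cj (g : G) : D8 (g * v * g⁻¹) (g * w * g⁻¹) (g * ρ * g⁻¹) (g * ρ' * g⁻¹) := by
  refine ⟨by rw [cj_mul_cj, h.vv]; simp, by rw [cj_mul_cj, h.ww]; simp, ?_, ?_, ?_, ?_, ?_, ?_⟩ <;>
    rw [zz_cj]
  · simpa using h.z1
  · rw [cj_mul_cj, h.z2]; simp
  · exact cjd_rel h.ρz
  · rw [cj_mul_cj g v]; exact cjd_rel h.ρv
  · exact cjd_rel h.ρ'z
  · rw [cj_mul_cj g w]; exact cjd_rel h.ρ'w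

theorem wv : w * v = v * w * zz v w := by
  rw [← inv_eq_of_mul_eq_one_left h.vv, ← inv_eq_of_mul_eq_one_left h.ww, ← mul_inv_rev,
    inv_eq_of_mul_eq_one_left h.vv, inv_eq_of_mul_eq_one_left h.ww, inv_eq_iff_mul_eq_one, ← h.z2]
  unfold zz; group

theorem zw : Commute (zz v w) w := by
  change _ = _
  calc zz v w * w = v * w * v := by rw [zz, mul_assoc, h.ww, mul_one]
    _ = w * zz v w := by
      rw [mul_assoc, wv h, ← mul_assoc, ← mul_assoc, h.vv, one_mul]

theorem zv : Commute (zz v w) v := by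
  change _ = _
  calc zz v w * v = v * (w * v * (w * v)) := by unfold zz; group
    _ = v * zz v w := by
      rw [wv h, mul_assoc (v * w), ← mul_assoc (zz v w), show v * w * (zz v w * (v * w) * zz v w) =
        zz v w * zz v w * zz v w by unfold zz; group, h.z2, one_mul]

theorem mod : IsMod (ψ v w) := by
  have mul : ∀ x y, ψ v w (x * y) = ψ v w x * ψ v w y := fun x y => by
    have e1 : ∀ y, v * (v * y) = y := fun y => by rw [← mul_assoc, h.vv, one_mul]
    have e2 : ∀ y, w * (w * y) = y := fun y => by rw [← mul_assoc, h.ww, one_mul]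
    have e3 : ∀ y, zz v w * (v * y) = v * (zz v w * y) := fun y => by
      rw [← mul_assoc, (zv h).eq, mul_assoc]
    have e4 : ∀ y, zz v w * (w * y) = w * (zz v w * y) := fun y => by
      rw [← mul_assoc, (zw h).eq, mul_assoc]
    have e5 : ∀ y, w * (v * y) = v * (w * (zz v w * y)) := fun y => by
      rw [← mul_assoc, wv h, mul_assoc, mul_assoc]
    have e6 : ∀ y, zz v w * (zz v w * y) = y := fun y => by rw [← mul_assoc, h.z2, one_mul]
    change bp v (xor _ _) * bp w (xor _ _) * bp _ (xor _ (xor _ _)) = _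
    obtain ⟨_ | _, _ | _, _ | _⟩ := x <;> obtain ⟨_ | _, _ | _, _ | _⟩ := y <;>
      simp [ψ, mul_assoc, e1, e2, e3, e4, e5, e6, h.vv, h.ww, h.z2, (zv h).eq, (zw h).eq, wv h]
  have one : ψ v w 1 = 1 := by change bp v false * bp w false * bp _ false = 1; simp
  have k1 : ∀ x, ψ v w x = 1 → x = 1 := fun x hx => by
    rcases (by decide : ∀ x : D3, x = 1 ∨ x = dz ∨ ∃ y, x * y = y * x * dz) x with e | rfl | ⟨y, e⟩
    · exact e
    · exact absurd (ψz.symm.trans hx) h.z1
    · have := congrArg (ψ v w) e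
      rw [mul, mul, mul, hx, ψz, one_mul, mul_one, left_eq_mul] at this
      exact absurd this h.z1
  refine ⟨mul, one, fun x y e => (by decide : ∀ x y : D3, x * (y * y * y) = 1 → x = y) x y (k1 _ ?_)⟩
  rw [mul, e, ← mul, (by decide : ∀ y : D3, y * (y * y * y) = 1) y, one]

theorem ψ_inv (x : D3) : (ψ v w x)⁻¹ = ψ v w (x * x * x) :=
  inv_eq_of_mul_eq_one_left (by
    rw [← (mod h).mul, (by decide : ∀ y : D3, y * y * y * y = 1) x, (mod h).one])

theorem memD {e : G} (he : e ∈ DD v w) : ∃ x, ψ v w x = e := by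
  induction he using closure_induction with
  | mem x hx => rcases hx with rfl | rfl; exacts [⟨_, ψv⟩, ⟨_, ψw⟩]
  | one => exact ⟨1, (mod h).one⟩
  | mul _ _ _ _ a b =>
    obtain ⟨x, rfl⟩ := a
    obtain ⟨y, rfl⟩ := b
    exact ⟨_, (mod h).mul x y⟩
  | inv _ _ a =>
    obtain ⟨x, rfl⟩ := a
    exact ⟨_, (ψ_inv h x).symm⟩

theorem zD_comm {e : G} (he : e ∈ DD v w) : Commute (zz v w) e := comm_D (zv h) (zw h) he

theorem act_en {g : G} {p q : D3} (h1 : g * v * g⁻¹ = ψ v w p) (h2 : g * w * g⁻¹ = ψ v w q) (x : D3) :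
    g * ψ v w x * g⁻¹ = ψ v w (en p q x) := by
  have m := mod h
  rw [← ψ_cj, h1, h2, en, m.mul, m.mul, map_bp m.one, map_bp m.one, map_bp m.one, m.mul, m.mul, m.mul]
  rfl

theorem sp_act {c : G} (sp : Sp v w c) :
    ∃ i j, ∀ x, c * ψ v w x * c⁻¹ = ψ v w (en ⟨false, true, i⟩ ⟨true, false, j⟩ x) := by
  obtain ⟨a | a, b | b⟩ := sp
  exacts [⟨false, false, act_en h (by simp [ψ, a]) (by simp [ψ, b])⟩,
    ⟨false, true, act_en h (by simp [ψ, a]) (by simp [ψ, b])⟩,
    ⟨true, false, act_en h (by simp [ψ, a]) (by simp [ψ, b])⟩,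
    ⟨true, true, act_en h (by simp [ψ, a]) (by simp [ψ, b])⟩]

theorem sp_ne {c : G} (sp : Sp v w c) (x : D3) (e : c * v * c⁻¹ = ψ v w x) : x.w = true := by
  obtain ⟨i, j, a⟩ := sp_act h sp
  have := a dv
  rw [ψv, e] at this
  rw [(mod h).inj this]; cases i <;> cases j <;> rfl

/-- The product of two swapping elements does not swap. -/
theorem sp_mul {c c' : G} (sp : Sp v w c) (sp' : Sp v w c') : ¬ Sp v w (c * c') := fun s => by
  obtain ⟨i, j, a⟩ := sp_act h sp
  obtain ⟨i', j', a'⟩ := sp_act h sp'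
  have b := a' dv
  rw [ψv] at b
  have := sp_ne h s _ (by
    rw [show c * c' * v * (c * c')⁻¹ = c * (c' * v * c'⁻¹) * c⁻¹ by group, b, a])
  revert this; cases i <;> cases j <;> cases i' <;> cases j' <;> decide

/-- An element normalising `D` fixes `z`. -/
theorem fix_z {g : G} (h1 : g * v * g⁻¹ ∈ DD v w) (h2 : g * w * g⁻¹ ∈ DD v w) : Commute g (zz v w) := by
  obtain ⟨p, hp⟩ := memD h h1
  obtain ⟨q, hq⟩ := memD h h2
  have := act_en h hp.symm hq.symm dz
  rcases (by decide : ∀ p q, en p q dz = 1 ∨ en p q dz = dz) p q with e | e <;> rw [e, ψz] at this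
  · rw [(mod h).one] at this
    exact absurd (by simpa using this) h.z1
  · exact comm_of_cj this

theorem cenD {e : G} (he : e ∈ DD v w) (h1 : Commute e v) (h2 : Commute e w) : e = 1 ∨ e = zz v w := by
  obtain ⟨x, rfl⟩ := memD h he
  rcases (by decide : ∀ x, x * dv = dv * x → x * dw = dw * x → x = 1 ∨ x = dz) x
    ((mod h).comm.1 (by rwa [ψv])) ((mod h).comm.1 (by rwa [ψw])) with rfl | rfl
  exacts [Or.inl (mod h).one, Or.inr ψz]

theorem sqD {e : G} (he : e ∈ DD v w) : e * e = 1 ∨ e * e = zz v w := by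
  obtain ⟨x, rfl⟩ := memD h he
  rw [← (mod h).mul]
  rcases (by decide : ∀ x : D3, x * x = 1 ∨ x * x = dz) x with e | e <;> rw [e]
  exacts [Or.inl (mod h).one, Or.inr ψz]

theorem card_D [Finite G] : Nat.card (DD v w) = 8 := by
  rw [← Nat.card_eq_of_bijective (fun x : D3 => (⟨_, ψD x⟩ : DD v w))
    ⟨fun x y e => (mod h).inj (congrArg Subtype.val e),
      fun ⟨_, he⟩ => (memD h he).imp fun _ e => Subtype.ext e⟩, Nat.card_eq_fintype_card]
  rfl

end CL.HS8.M1
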