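import Cfsg.Agent.INV.HS8.K0x

/-!
The case `C(t)` has Sylow subgroup `S = ⟨t⟩ × D`: local analysis. `E = ⟨t, v, z⟩`, `F = ⟨t, w, z⟩`.
-/

set_option autoImplicit false
set_option linter.unusedSectionVars false
set_option linter.unusedSimpArgs false
set_option synthInstance.maxSize 16384

open Subgroup CL.TwoS CL.MSS CL.K

namespace CL.HS8

variable {G : Type*} [Group G] [Finite G] {X : Subgroup G} {t v w ρ ρ' : G}

/-- Generators of the part of a Sylow subgroup `P` of `N(E)` centralising `V1`. -/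
structure Z0 (P : Subgroup G) (t v w ρ n α : G) (μ : Bool) : Prop where
  pg : IsPGroup 2 P
  card : Nat.card P = 64
  gen : P = closure {t, v, w, n, α}
  ρt : Commute ρ t
  ρz : ρ * zz v w * ρ⁻¹ = v
  ρv : ρ * v * ρ⁻¹ = v * zz v w
  ρn : ρ * n * ρ⁻¹ = α
  ρα : ρ * α * ρ⁻¹ = (n * α)⁻¹
  nt : n * t * n⁻¹ = t * zz v w
  αt : α * t * α⁻¹ = t * v
  nv : Commute n v
  nw : Commute n w
  αv : Commute α v
  αz : Commute α (zz v w)
  nα : Commute n α
  nn : n * n = bp (zz v w) μ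
  αα : α * α = bp v μ
  wα : w * α * w⁻¹ = (n * α)⁻¹

open K0 Ltb

theorem K0.nm {R : Subgroup G} {g : G} (k : ∀ x ∈ R, g * x * g⁻¹ ∈ R) : g ∈ normalizer (R : Set G) :=
  mem_normalizer_of_cj_le (cj_le_iff_forall.2 k)

omit [Finite G] in
theorem K0.mp {H : Subgroup G} {g a b c : G} (h1 : g * a * g⁻¹ ∈ H) (h2 : g * b * g⁻¹ ∈ H)
    (h3 : g * c * g⁻¹ ∈ H) : ∀ x ∈ closure ({a, b, c} : Set G), g * x * g⁻¹ ∈ H := fun _ hx =>
  (closure_le (H.comap (MulAut.conj g).toMonoidHom)).2 (by rintro x (rfl | rfl | rfl) <;> assumption) hx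

omit [Finite G] in
theorem K0.m3 (a b c : G) : a ∈ closure ({a, b, c} : Set G) ∧ b ∈ closure ({a, b, c} : Set G) ∧
    c ∈ closure ({a, b, c} : Set G) :=
  ⟨subset_closure (by simp), subset_closure (by simp), subset_closure (by simp)⟩

omit [Finite G] in
theorem K0.m5 (a b c d e : G) : a ∈ closure ({a, b, c, d, e} : Set G) ∧ b ∈ closure ({a, b, c, d, e} : Set G) ∧
    c ∈ closure ({a, b, c, d, e} : Set G) ∧ d ∈ closure ({a, b, c, d, e} : Set G) ∧
    e ∈ closure ({a, b, c, d, e} : Set G) :=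
  ⟨subset_closure (by simp), subset_closure (by simp), subset_closure (by simp), subset_closure (by simp),
    subset_closure (by simp)⟩

omit [Finite G] in
theorem K0.le5 {H : Subgroup G} {a b c d e : G} (h1 : a ∈ H) (h2 : b ∈ H) (h3 : c ∈ H) (h4 : d ∈ H)
    (h5 : e ∈ H) : closure ({a, b, c, d, e} : Set G) ≤ H :=
  (closure_le _).2 (by rintro x (rfl | rfl | rfl | rfl | rfl) <;> assumption)

omit [Finite G] in
theorem K0.le3 {H : Subgroup G} {a b c : G} (h1 : a ∈ H) (h2 : b ∈ H) (h3 : c ∈ H) :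
    closure ({a, b, c} : Set G) ≤ H :=
  (closure_le _).2 (by rintro x (rfl | rfl | rfl) <;> assumption)

/-- The action of an element of `N(S)`. -/
theorem K0.ac (h : H0 X t v w ρ ρ') {u : G}
    (hu : ∀ x ∈ closure ({t, v, w} : Set G), u * x * u⁻¹ ∈ closure ({t, v, w} : Set G)) :
    ∃ x < 2 ^ 4, ∃ y < 2 ^ 4, ∃ T < 2 ^ 4, PS.Ac (gS t v w) u [1, x, y, T] ∧ PS.mul x x = 0 ∧
      PS.mul y y = 0 ∧ PS.mul (PS.mul x y) (PS.mul x y) = 1 := by
  have m := md h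
  obtain ⟨x, hx, ex⟩ := (memS h).1 (hu v (m3 t v w).2.1)
  obtain ⟨y, hy, ey⟩ := (memS h).1 (hu w (m3 t v w).2.2)
  obtain ⟨T, hT, eT⟩ := (memS h).1 (hu t (m3 t v w).1)
  have l := PC.mul_lt m.ok hx hy
  have e1 : PS.ev (gS t v w) (PS.mul (PS.mul x y) (PS.mul x y)) = u * zz v w * u⁻¹ := by
    rw [m.mul l l, m.mul hx hy, ex, ey, zz]; group
  have e2 := ((by decide +kernel : ∀ x < 2 ^ 4, PS.mul x x = 0 ∨ PS.mul x x = 1) _ l).resolve_left fun e => by
    rw [e, PC.ev_zero] at e1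
    exact h.z1 (by simpa using e1.symm)
  refine ⟨x, hx, y, hy, T, hT, ⟨rfl, fun j hj => ?_⟩, (m.eq_one (inj h) (PC.mul_lt m.ok hx hx)).1 ?_,
    (m.eq_one (inj h) (PC.mul_lt m.ok hy hy)).1 ?_, e2⟩
  · change j < 4 at hj
    interval_cases j
    exacts [⟨show 1 < 2 ^ 4 by decide, (e2 ▸ e1 :).symm⟩, ⟨hx, ex.symm⟩, ⟨hy, ey.symm⟩, ⟨hT, eT.symm⟩]
  · rw [m.mul hx hx, ex, ← cjm, h.vv]; group
  · rw [m.mul hy hy, ey, ← cjm, h.ww]; group

namespace H0

variable (h : H0 X t v w ρ ρ')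
include h

theorem swap : H0 X t w v ρ' ρ :=
  ⟨dsw h.toD8, h.tt, by rw [DD, Set.pair_comm]; exact h.tD, h.tw, h.tv, h.tρ', h.tρ,
    by rw [Set.pair_comm]; exact h.syl, h.nm, h.pf, h.ix, h.wX, h.vX⟩

theorem card_S : Nat.card ↥(closure ({t, v, w} : Set G)) = 16 := by
  rw [← subS h, (md h).card_sub (inj h)]; rfl

/-- A 2-group centralising a conjugate `u` of `t` is conjugate into `S`, with `u ↦ t`. -/
theorem tr {u : G} (hu : IsConj t u) {R : Subgroup G} (hR : IsPGroup 2 R) (hc : ∀ x ∈ R, Commute x u) :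
    ∃ γ, γ * u * γ⁻¹ = t ∧ ∀ x ∈ R, γ * x * γ⁻¹ ∈ closure ({t, v, w} : Set G) := by
  have := Fact.mk Nat.prime_two
  obtain ⟨c, rfl⟩ := isConj_iff.1 hu.symm
  obtain ⟨x, hx, hle⟩ := h.syl.exists_conj_le (R := c •ᶜ R) (hR.map _) (cj_le_iff_forall.2 fun y hy =>
    mem_centralizer_singleton_iff.2 (comm_cj.2 (hc y hy)))
  refine ⟨x * c, ?_, fun p hp => ?_⟩
  · rw [← cj_of_comm (mem_centralizer_singleton_iff.1 hx)]; group
  · rw [← cj_mul] at hle
    exact hle (conj_mem_cj hp)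

/-- `tr` with `R = S` gives an element of `N(S)`; `S' = ⟨z⟩`. -/
theorem z_not : ¬ IsConj t (zz v w) := fun c => by
  have m := md h
  obtain ⟨γ, e, k⟩ := h.tr c h.syl.pgroup fun x hx => by
    obtain ⟨y, hy, rfl⟩ := (memS h).1 hx
    rw [← ez (t := t)]
    exact (m.comm (inj h) hy (by decide)).2 ((by decide +kernel : ∀ y < 2 ^ 4, PS.mul y 1 = PS.mul 1 y) y hy)
  obtain ⟨x, -, y, -, T, -, a, -⟩ := ac h k
  have := ((a.2 0 (by decide)).2.trans ez).symm.trans e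
  exact h.tD (this ▸ zD v w)

/-- An element of `C(t)` normalising the 2-group `R ≥ S` acts on it as an element of `S`: its 2-part lies in `S` (it normalises
`S = C_R(t)`), its odd part centralises `S` and then `R` (`two_part`, `stab`). -/
theorem stab0 {R : Subgroup G} (hR : IsPGroup 2 R) (hS : closure ({t, v, w} : Set G) ≤ R) {g : G}
    (hg : ∀ x ∈ R, g * x * g⁻¹ ∈ R) (ht : Commute g t) :
    ∃ s ∈ closure ({t, v, w} : Set G), ∀ x ∈ R, g * x * g⁻¹ = s * x * s⁻¹ := by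
  have m := md h
  obtain ⟨i, j, k, e, h2, ho⟩ := two_part g
  have nR : ∀ n : ℕ, ∀ x ∈ R, g ^ n * x * (g ^ n)⁻¹ ∈ R := fun n x =>
    (mem_normalizer_iff.1 (pow_mem (K0.nm hg) n) x).1
  have nS : ∀ n : ℕ, ∀ x ∈ closure ({t, v, w} : Set G),
      g ^ n * x * (g ^ n)⁻¹ ∈ closure ({t, v, w} : Set G) := fun n x hx => cT h hR hS (nR n x (hS hx)) (by
    rw [← cj_of_comm (ht.pow_left n)]
    exact comm_cj.2 (mem_centralizer_singleton_iff.1 (h.syl.le hx)))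
  have g2 := h.syl.le_of_normalizes (isPGroup_zpowers h2) (zpowers_le.2
    (mem_centralizer_singleton_iff.2 (ht.pow_left i))) (zpowers_le.2 (K0.nm (nS i))) (mem_zpowers _)
  obtain ⟨x, hx, y, hy, T, hT, a, k1, k2, k3⟩ := ac h (nS j)
  obtain rfl : T = 8 := inj h _ hT _ (by decide) (by
    rw [et]; exact (a.2 3 (by decide)).2.symm.trans (cj_of_comm (ht.pow_left j)))
  have a2 := m.cp a a
  have a8 := m.cp (m.cp a2 a2) (m.cp a2 a2)
  have a1 : Act (ψ t v w) (g ^ j) 1 := by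
    obtain ⟨n, hn⟩ := exists_pow_eq_self_of_coprime (x := g ^ j) (n := 2 ^ 3)
      (Nat.Coprime.pow_left 3 (Nat.coprime_two_left.2 ho))
    rw [← hn]
    refine act_one_pow (fun e => ?_) _
    rw [L4.one_app, ← ec h, show (g ^ j) ^ 2 ^ 3 = g ^ j * g ^ j * (g ^ j * g ^ j) *
      (g ^ j * g ^ j * (g ^ j * g ^ j)) by group, (m.ap a8 _).2]
    exact congrArg _ ((by decide +kernel : ∀ x < 2 ^ 4, PS.mul x x = 0 → ∀ y < 2 ^ 4, PS.mul y y = 0 →
      PS.mul (PS.mul x y) (PS.mul x y) = 1 → ∀ e, PS.ap (PS.cp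
        (PS.cp (PS.cp [1, x, y, 8] [1, x, y, 8]) (PS.cp [1, x, y, 8] [1, x, y, 8]))
        (PS.cp (PS.cp [1, x, y, 8] [1, x, y, 8]) (PS.cp [1, x, y, 8] [1, x, y, 8]))) (ce e) = ce e)
      x hx k1 y hy k2 k3 e)
  obtain ⟨e', he⟩ := stabE h hR (fun e => hS (ψS h e)) (nR j) a1
  refine ⟨g ^ i * ψ t v w e', mul_mem g2 (ψS h _), fun x hx => ?_⟩
  calc _ = g ^ i * g ^ j * x * (g ^ i * g ^ j)⁻¹ := by rw [← e]
    _ = g ^ i * (g ^ j * x * (g ^ j)⁻¹) * (g ^ i)⁻¹ := by simp only [mul_inv_rev, mul_assoc]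
    _ = _ := by rw [he x hx]; simp only [mul_inv_rev, mul_assoc]

theorem nE : closure ({t, v, w} : Set G) ≤ normalizer (closure ({t, v, zz v w} : Set G) : Set G) := by
  have k : ∀ {g f}, Act (ψ t v w) g f → g ∈ normalizer (closure ({t, v, zz v w} : Set G) : Set G) :=
    fun a => K0.nm fun x hx => by
      obtain ⟨e, rfl⟩ := (memE h).1 hx
      exact (memE h).2 ⟨_, a e⟩
  refine (closure_le _).2 ?_
  rintro x (rfl | rfl | rfl)
  exacts [k (ψt (v := v) (w := w) ▸ act_ψ h _ :), k (ψv (t := t) (w := w) ▸ act_ψ h _ :), k (act_w h)]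

/-- If `g ∈ C(t)` maps `E` to `F` then `S`, `g S g⁻¹` are Sylow in `C(t) ∩ N(F)`; so we may take `g ∈ N(S)`, against `stab0`. -/
theorem no_EF {g : G} (ht : Commute g t) :
    ¬ ∀ x ∈ closure ({t, v, zz v w} : Set G), g * x * g⁻¹ ∈ closure ({t, w, zz v w} : Set G) := by
  have := Fact.mk Nat.prime_two
  have m := md h
  have h' := h.swap
  rw [show ({t, w, zz v w} : Set G) = {t, w, zz w v} by rw [zsw h.toD8]]
  intro k
  have cF : ∀ x ∈ closure ({t, w, zz w v} : Set G), ∀ y ∈ closure ({t, w, zz w v} : Set G), Commute x y :=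
    fun x hx y hy => by
      obtain ⟨e, rfl⟩ := (memE h').1 hx
      obtain ⟨f, rfl⟩ := (memE h').1 hy
      rw [commute_iff_eq, mul h', mul h', mul_comm]
  have e : g •ᶜ closure ({t, v, zz v w} : Set G) = closure ({t, w, zz w v} : Set G) :=
    le_antisymm (cj_le_iff_forall.2 k) fun x hx => mem_cj.2 ((memE h).2 (cV h
      (R := g⁻¹ •ᶜ closure ({t, w, zz w v} : Set G)) ((h'.syl.pgroup.to_le fun x hx => by
        obtain ⟨e, rfl⟩ := (memE h').1 hx; exact ψS h' e).map _)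
      (fun e => mem_cj.2 (by simpa using k _ ((memE h).2 ⟨e, rfl⟩)))
      (mem_cj.2 (by simpa [mul_assoc] using hx)) fun e => by
        rw [L4.one_app]
        refine cj_of_comm ((comm_cj (g := g)).1 ?_)
        rw [show g * (g⁻¹ * x * g) * g⁻¹ = x by group]
        exact cF _ hx _ (k _ ((memE h).2 ⟨e, rfl⟩))))
  have n' := h'.nE
  rw [Set.pair_comm w v] at n'
  obtain ⟨x, hx, le⟩ := (h.syl.of_le (le_inf h.syl.le n') inf_le_left).exists_conj_le
    (R := g •ᶜ closure ({t, v, w} : Set G)) (h.syl.pgroup.map _) (le_inf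
      (cj_le_of_mem h.syl.le (mem_centralizer_singleton_iff.2 ht))
      (by rw [← e, ← cj_normalizer]; exact cj_mono _ h.nE))
  rw [← cj_mul] at le
  obtain ⟨s, hs, k1⟩ := h.stab0 h.syl.pgroup le_rfl (cj_le_iff_forall.1 le)
    (Commute.mul_left (mem_centralizer_singleton_iff.1 hx.1) ht)
  obtain ⟨y, hy, rfl⟩ := (memS h).1 hs
  have k2 := cF _ ((mem_normalizer_iff.1 hx.2 _).1 (k v (m3 _ _ _).2.1)) w (m3 _ _ _).2.1
  rw [show x * (g * v * g⁻¹) * x⁻¹ = x * g * v * (x * g)⁻¹ by group, k1 v (m3 _ _ _).2.1] at k2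
  refine (by decide +kernel : ∀ y < 2 ^ 4, PS.mul (PS.cj y 2) 4 ≠ PS.mul 4 (PS.cj y 2)) y hy
    ((m.comm (inj h) (PC.cj_lt m.ok hy (by decide)) (by decide)).1 ?_)
  rwa [m.cj hy (by decide), ev, ew]

/-- `y ∈ N(S)` with `t ↦ t z` (`tr`). If `y` maps `E` to `F`, then `y ρ y⁻¹` normalises `F`, fixes `t z`, rotates `V2` (the elements of `F`
conjugate to `z`), so with `ρ'` some `k ∈ N(F)` maps `t` to `t z`; adjust by `C(t z) ∩ N(F)` so that `k ∈ N(S)`; `k⁻¹ y` contradicts `no_EF`. -/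
theorem exists_y (c : IsConj t (t * zz v w)) : ∃ y, y * t * y⁻¹ = t * zz v w ∧ Commute y v ∧ Commute y w := by
  have m := md h
  have cz : ∀ x ∈ closure ({t, v, w} : Set G), Commute x (t * zz v w) := fun x hx => by
    obtain ⟨y, hy, rfl⟩ := (memS h).1 hx
    rw [show t * zz v w = PS.ev (gS t v w) (PS.mul 8 1) by rw [m.mul (by decide) (by decide), ez, et]]
    exact (m.comm (inj h) hy (by decide +kernel)).2
      ((by decide +kernel : ∀ y < 2 ^ 4, PS.mul y (PS.mul 8 1) = PS.mul (PS.mul 8 1) y) y hy)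
  obtain ⟨γ, e, k⟩ := h.tr c h.syl.pgroup cz
  obtain ⟨x, hx, y, hy, T, -, a, k1, k2, k3⟩ := ac h k
  have γz : γ * zz v w * γ⁻¹ = zz v w := (a.2 0 (by decide)).2.trans ez
  have γv : γ * v * γ⁻¹ = PS.ev (gS t v w) x := (a.2 1 (by decide)).2
  have γw : γ * w * γ⁻¹ = PS.ev (gS t v w) y := (a.2 2 (by decide)).2
  have γt : γ * t * γ⁻¹ = t * zz v w := by
    rw [cjm, γz] at e
    rw [eq_mul_inv_of_mul_eq e, inv_eq_of_mul_eq_one_right h.z2]
  have r1 : ρ * (t * zz v w) * ρ⁻¹ = t * v := by rw [cjm, cj_of_comm h.tρ.symm, h.ρz]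
  have r2 : ρ' * (t * zz v w) * ρ'⁻¹ = t * w := by rw [cjm, cj_of_comm h.tρ'.symm, h.ρ'z]
  have nt : ∀ x < 2 ^ 4, IsConj (zz v w) (PS.ev (gS t v w) x) →
      ∀ s < 2 ^ 4, x ≠ PS.cj s (PS.mul 8 2) ∧ x ≠ PS.cj s (PS.mul 8 4) := fun x hx k s hs => by
    refine ⟨fun e => h.z_not (IsConj.trans ?_ k.symm), fun e => h.z_not (IsConj.trans ?_ k.symm)⟩ <;>
      rw [e, m.cj hs (by decide +kernel), isConj_cj, m.mul (by decide) (by decide), et]
    · rwa [ev, ← r1, isConj_cj]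
    · rwa [ew, ← r2, isConj_cj]
  rcases (by decide +kernel : ∀ x < 2 ^ 4, PS.mul x x = 0 →
    (∀ s < 2 ^ 4, x ≠ PS.cj s (PS.mul 8 2) ∧ x ≠ PS.cj s (PS.mul 8 4)) → ∀ y < 2 ^ 4, PS.mul y y = 0 →
    (∀ s < 2 ^ 4, y ≠ PS.cj s (PS.mul 8 2) ∧ y ≠ PS.cj s (PS.mul 8 4)) →
    PS.mul (PS.mul x y) (PS.mul x y) = 1 → (∃ s < 2 ^ 4, PS.cj s x = 2 ∧ PS.cj s y = 4) ∨
      ((x = 4 ∨ x = PS.mul 4 1) ∧ (y = 2 ∨ y = PS.mul 1 2))) x hx k1
    (nt x hx (by rw [← γv, isConj_cj]; exact isConj_iff.2 ⟨_, h.ρz⟩)) y hy k2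
    (nt y hy (by rw [← γw, isConj_cj]; exact isConj_iff.2 ⟨_, h.ρ'z⟩)) k3 with ⟨s, hs, e1, e2⟩ | ⟨e1, e2⟩
  · have cj : ∀ u, PS.ev (gS t v w) s * γ * u * (PS.ev (gS t v w) s * γ)⁻¹ =
        PS.ev (gS t v w) s * (γ * u * γ⁻¹) * (PS.ev (gS t v w) s)⁻¹ := fun u => by group
    refine ⟨PS.ev (gS t v w) s * γ, ?_, comm_of_cj ?_, comm_of_cj ?_⟩ <;> rw [cj]
    · rw [γt, cj_of_comm (cz _ ((memS h).2 ⟨s, hs, rfl⟩))]
    · rw [γv, ← m.cj hs hx, e1, ev]
    · rw [γw, ← m.cj hs hy, e2, ew]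
  · exfalso
    obtain ⟨E1, E2, E3⟩ := m3 t v (zz v w)
    obtain ⟨F1, F2, F3⟩ := m3 t w (zz v w)
    have p1 := mp (H := closure {t, w, zz v w}) (g := γ) (a := t) (b := v) (c := zz v w)
      (by rw [γt]; exact mul_mem F1 F3) (by
      rcases e1 with rfl | rfl <;> rw [γv]
      · rwa [ew]
      · rw [m.mul (by decide) (by decide), ew, ez]; exact mul_mem F2 F3) (by rwa [γz])
    have p2 := mp (H := closure {t, w, zz v w}) (g := ρ') (a := t) (b := w) (c := zz v w)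
      (by rwa [cj_of_comm h.tρ'.symm]) (by rw [h.ρ'w]; exact mul_mem F2 F3) (by rwa [h.ρ'z])
    have p3 := mp (H := closure {t, v, zz v w}) (g := γ) (a := t) (b := w) (c := zz v w)
      (by rw [γt]; exact mul_mem E1 E3) (by
      rcases e2 with rfl | rfl <;> rw [γw]
      · rwa [ev]
      · rw [m.mul (by decide) (by decide), ev, ez]; exact mul_mem E3 E2) (by rwa [γz])
    have p4 := mp (H := closure {t, v, zz v w}) (g := ρ) (a := t) (b := v) (c := zz v w)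
      (by rwa [cj_of_comm h.tρ.symm]) (by rw [h.ρv]; exact mul_mem E2 E3) (by rwa [h.ρz])
    have r3 : ρ * (t * zz v w * v) * ρ⁻¹ = t * zz v w := by
      rw [cjm, r1, h.ρv, mul_assoc, ← mul_assoc v, h.vv, one_mul]
    obtain ⟨r, q1, q2⟩ : ∃ r, (∀ x ∈ closure ({t, v, zz v w} : Set G), r * x * r⁻¹ ∈
        closure ({t, v, zz v w} : Set G)) ∧ r * (t * zz v w * PS.ev (gS t v w) y) * r⁻¹ = t * zz v w := by
      rcases e2 with rfl | rfl
      · exact ⟨ρ, p4, by rw [ev, r3]⟩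
      · refine ⟨ρ * ρ, fun x hx => by simpa [mul_assoc] using p4 _ (p4 x hx), ?_⟩
        rw [m.mul (by decide) (by decide), ev, ez, mul_assoc t, ← mul_assoc (zz v w), h.z2, one_mul, ← r3,
          show ρ * ρ * (t * v) * (ρ * ρ)⁻¹ = ρ * (ρ * (t * v) * ρ⁻¹) * ρ⁻¹ by group, cjm ρ t,
          cj_of_comm h.tρ.symm, h.ρv, mul_assoc t, (zv h.toD8).eq]
    have cj : ∀ u, γ * r * γ * ρ' * γ * u * (γ * r * γ * ρ' * γ)⁻¹ =
        γ * (r * (γ * (ρ' * (γ * u * γ⁻¹) * ρ'⁻¹) * γ⁻¹) * r⁻¹) * γ⁻¹ := fun u => by group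
    refine h.no_EF (g := γ * r * γ * ρ' * γ) (comm_of_cj ?_) fun u hu => ?_ <;> rw [cj]
    · rw [γt, r2, cjm γ t w, γt, γw, q2, e]
    · exact p1 _ (q1 _ (p3 _ (p2 _ (p1 _ hu))))

end H0

/-- The relations of `Z0`. -/
structure ZR (t v w ρ n α : G) (μ : Bool) : Prop where
  ρt : Commute ρ t
  ρz : ρ * zz v w * ρ⁻¹ = v
  ρv : ρ * v * ρ⁻¹ = v * zz v w
  ρn : ρ * n * ρ⁻¹ = α
  ρα : ρ * α * ρ⁻¹ = (n * α)⁻¹
  nt : n * t * n⁻¹ = t * zz v w
  αt : α * t * α⁻¹ = t * v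
  nv : Commute n v
  nw : Commute n w
  αv : Commute α v
  αz : Commute α (zz v w)
  nα : Commute n α
  nn : n * n = bp (zz v w) μ
  αα : α * α = bp v μ
  wα : w * α * w⁻¹ = (n * α)⁻¹

theorem Z0.zr {P : Subgroup G} {σ n α : G} {μ : Bool} (l : Z0 P t v w σ n α μ) : ZR t v w σ n α μ :=
  ⟨l.ρt, l.ρz, l.ρv, l.ρn, l.ρα, l.nt, l.αt, l.nv, l.nw, l.αv, l.αz, l.nα, l.nn, l.αα, l.wα⟩

namespace K0

def PP0 : PC := ⟨6, 0x1a01b01901801e01f01d01c01601701501401201301101000a00b00900800e00f00d00c00600700500400200300100000c00d00e00f00900800b00a006007004005003002001000007006005004003002001000003002001000001000000000, 0x0, 0x3803903b03a03d03c03e03f03703603403503203303103002a02b02902802e02f02d02c02602702502402202302102001c01d01e01f01901801b01a01601701401501301201101000f00e00d00c00b00a009008007006005004003002001000⟩ -- z v n al t w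

def PP1 : PC := ⟨6, 0x1801901b01a01d01c01e01f01601701501401201301101000800900b00a00d00c00e00f00600700500400200300100000c00d00e00f00900800b00a006007004005003002001000007006005004003002001000003002001000001000000000, 0x2001000000, 0x3803903b03a03d03c03e03f03603703503403203303103002a02b02902802e02f02d02c02702602402502202302102001f01e01d01c01b01a01901801701601501401301201101000c00d00e00f00900800b00a006007004005003002001000⟩ -- z v n al t w

def PP (μ : Bool) : PC := cond μ PP1 PP0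

/-- The generators of `P`. -/
def gP (t v w n α : G) : ℕ → G :=
  PC.gl [ψ t v w (.of 4), ψ t v w (.of 2), n, α, ψ t v w (.of 1), w]

omit [Finite G] in
theorem cl {φ : V4 → G} {x : G} {f : L4} (a : Act φ x f) (e : V4) : x * φ e = φ (f.app e) * x := by
  rw [← a]; group
omit [Finite G] in
theorem cl' {φ : V4 → G} {x : G} {f : L4} (a : Act φ x f) (e : V4) (y : G) :
    x * (φ e * y) = φ (f.app e) * (x * y) := by
  rw [← a]; group
theorem f3 {e : V4} {x : G} (k : e = 1) : ψ t v w e * x = x := by rw [k, ψ1, one_mul]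
theorem f4 {e : V4} (k : e = 1) : ψ t v w e = 1 := by rw [k, ψ1]

def A0 : List L4 := [1, n0, al, n0 * al]

end K0

namespace ZR

variable {σ n α : G} {μ : Bool} (h : H0 X t v w ρ ρ') (l : ZR t v w σ n α μ)
include h l

theorem an : Act (ψ t v w) n n0 := act_of h (l.nt.trans ψ5.symm) ((cj_of_comm l.nv).trans ψv.symm)
  ((cj_of_comm (comm_z l.nv l.nw)).trans ψz.symm) rfl

theorem aα : Act (ψ t v w) α al := act_of h (l.αt.trans ψ3.symm) ((cj_of_comm l.αv).trans ψv.symm)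
  ((cj_of_comm l.αz).trans ψz.symm) rfl

theorem aσ : Act (ψ t v w) σ r0 := act_r h l.ρt l.ρz l.ρv

theorem n_sq : n * n = ψ t v w (bp (.of 4) μ) := by rw [map_bp ψ1, ψz, l.nn]
theorem α_sq : α * α = ψ t v w (bp (.of 2) μ) := by rw [map_bp ψ1, ψv, l.αα]

theorem nα_inv : (n * α)⁻¹ = ψ t v w (bp (.of 6) μ) * (n * α) := inv_eq_of_mul_eq_one_left (by
  rw [mul_assoc, mul_assoc n, l.nα.symm.left_comm, ← mul_assoc n n, l.n_sq h, l.α_sq h, mul h, mul h]
  cases μ <;> exact ψ1)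

theorem md : PC.Md (PP μ) (gP t v w n α) := by
  have an := l.an h
  have aα := l.aα h
  have aw := act_w h
  have wα : w * α = ψ t v w (bp (.of 6) μ) * (n * (α * w)) := by
    rw [← mul_assoc n, ← mul_assoc, ← l.nα_inv h, ← l.wα]; group
  have nn := l.n_sq h
  have αα := l.α_sq h
  cases μ
  on_goal 1 => refine ⟨by decide +kernel, PC.rel_of [0, 0, 0, 0, 0, 0] [[], [1], [1, 2], [1, 2, 4],
    [1, 2, 5, 10], [1, 3, 4, 12, 16]] (by decide +kernel) fun k hk => ?_⟩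
  on_goal 2 => refine ⟨by decide +kernel, PC.rel_of [0, 0, 1, 2, 0, 0] [[], [1], [1, 2], [1, 2, 4],
    [1, 2, 5, 10], [1, 3, 4, 15, 16]] (by decide +kernel) fun k hk => ?_⟩
  all_goals
    change k < 6 at hk
    change _ = PC.evk _ 6 _ ∧ ∀ j < k, _ = PC.evk _ 6 _ * _
    interval_cases k <;> refine ⟨?_, fun j hj => ?_⟩ <;> (try interval_cases j) <;>
      simp [gP, PC.gl, PC.evk, Nat.testBit, -mul_left_inj, -mul_right_inj] <;>
      simp only [mul_assoc, cl an, cl' an, cl aα, cl' aα, cl aw, cl' aw, mul h, mul' h, nn, αα, h.ww, wα,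
        l.nα.symm.eq, l.nw.symm.eq] <;>
      first
        | rfl | exact Kt.fin1 (by decide) | exact Kt.fin2 (by decide) | exact f3 (by decide)
        | exact f4 (by decide)

theorem inj : (PP μ).Inj (gP t v w n α) := (l.md h).inj_of (K := [1]) (by cases μ <;> decide +kernel) (by
  simp only [List.mem_singleton, forall_eq]
  rw [show 1 = 2 ^ 0 from rfl, PC.ev_gen _ _ (by cases μ <;> decide)]
  exact (ψz (t := t) ▸ h.z1 :))

theorem sub : (l.md h).sub = closure {t, v, w, n, α} := by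
  have k : ∀ j < 6, gP t v w n α j ∈ (l.md h).sub := fun j hj => (l.md h).gmem (by cases μ <;> exact hj)
  have a : ∀ x ∈ ({t, v, w, n, α} : Set G), x ∈ closure ({t, v, w, n, α} : Set G) := fun _ k => Subgroup.subset_closure k
  have e0 : gP t v w n α 0 = zz v w := ψz
  have e1 : gP t v w n α 1 = v := ψv
  have e4 : gP t v w n α 4 = t := ψt
  refine le_antisymm ((l.md h).sub_le fun j hj => ?_) ((closure_le _).2 ?_)
  · replace hj : j < 6 := by cases μ <;> exact hj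
    interval_cases j
    exacts [by rw [e0]; exact mem_z (a v (by simp)) (a w (by simp)), by rw [e1]; exact a v (by simp),
      a n (by simp), a α (by simp), by rw [e4]; exact a t (by simp), a w (by simp)]
  · have k1 := k 1 (by decide)
    have k4 := k 4 (by decide)
    rw [e1] at k1
    rw [e4] at k4
    rintro x (rfl | rfl | rfl | rfl | rfl)
    exacts [k4, k1, k 5 (by decide), k 2 (by decide), k 3 (by decide)]

theorem z0 : Z0 (closure {t, v, w, n, α}) t v w σ n α μ :=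
  ⟨l.sub h ▸ (l.md h).pg_sub (l.inj h), by
    rw [← l.sub h, (l.md h).card_sub (l.inj h)]; cases μ <;> rfl, rfl,
    l.ρt, l.ρz, l.ρv, l.ρn, l.ρα, l.nt, l.αt, l.nv, l.nw, l.αv, l.αz, l.nα, l.nn, l.αα, l.wα⟩

end ZR

namespace K0

variable (h : H0 X t v w ρ ρ')
include h

/-- The adapted element (as `LE.adapt`). -/
theorem adapt {M : Subgroup G} (hM : IsPGroup 2 M) (hE : ∀ e, ψ t v w e ∈ M)
    (hw : w ∈ normalizer (M : Set G)) {σ : G} (hσ : σ ∈ normalizer (M : Set G))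
    (a : Act (ψ t v w) σ r0) : ∃ σ ∈ normalizer (M : Set G), Act (ψ t v w) σ r0 ∧
      σ * σ * σ ∈ centralizer (M : Set G) ∧ w * σ * w * σ ∈ centralizer (M : Set G) := by
  let θ := M.normalizerMonoidHom
  let ι : V4 → normalizer (M : Set G) := fun e => ⟨ψ t v w e, le_normalizer (hE e)⟩
  have hθ : ∀ g, θ g = 1 ↔ (g : G) ∈ centralizer (M : Set G) := fun g => by
    rw [← MonoidHom.mem_ker, normalizerMonoidHom_ker, mem_subgroupOf]
  have st : ∀ g : normalizer (M : Set G), Act (ψ t v w) g 1 → ∃ e, θ g = θ (ι e) := fun g a => by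
    obtain ⟨e, he⟩ := stabE h hM hE (fun x hx => conj_mem_of_normalizes le_rfl g.2 hx) a
    exact ⟨e, MulEquiv.ext fun x => Subtype.ext (he x x.2)⟩
  have ac : ∀ (g : normalizer (M : Set G)) f, Act (ψ t v w) g f → Act (fun e => θ (ι e)) (θ g) f :=
    fun g f a e => by rw [← map_inv, ← map_mul, ← map_mul]; exact congrArg θ (Subtype.ext (a e))
  have hε : ∀ e f, θ (ι (e * f)) = θ (ι e) * θ (ι f) := fun e f => by
    rw [← map_mul]; exact congrArg θ (Subtype.ext (mul h e f).symm)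
  obtain ⟨r, rfl⟩ : ∃ r : normalizer (M : Set G), r = σ := ⟨⟨σ, hσ⟩, rfl⟩
  obtain ⟨W, hw⟩ : ∃ W : normalizer (M : Set G), W = w := ⟨⟨_, hw⟩, rfl⟩
  have aw : Act (ψ t v w) W s0 := by rw [hw]; exact act_w h
  have a3 : Act (ψ t v w) (r * r * r : normalizer (M : Set G)) 1 :=
    (show r0 * r0 * r0 = 1 by decide) ▸ (a.mul a).mul a
  obtain ⟨e, he⟩ := st _ a3
  have a4 : Act (ψ t v w) (r * r * r * r : normalizer (M : Set G)) r0 := L4_one_mul r0 ▸ a3.mul a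
  have r3 : θ (r * r * r * r) * θ (r * r * r * r) * θ (r * r * r * r) = 1 := by
    have : θ (r * r * r) * θ (r * r * r) = 1 := by
      rw [he, ← hε, V4.mul_self]
      exact (congrArg θ (Subtype.ext ψ1)).trans (map_one θ)
    rw [← mul_one 1, ← this]
    simp only [map_mul, mul_assoc]
  generalize r * r * r * r = q at a4 r3
  obtain ⟨e', he'⟩ := st (W * q * W * q)
    ((show s0 * r0 * s0 * r0 = 1 by decide) ▸ ((aw.mul a4).mul aw).mul a4)
  obtain ⟨c, hc⟩ := LE.fix hε (ac _ _ fun e => (aw e).trans (ψ_cut (by revert e; decide +kernel)))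
    (ac _ _ fun e => (a4 e).trans (ψ_cut (by revert e; decide +kernel))) (by
    rw [← map_mul, ← map_one θ]; exact congrArg θ (Subtype.ext (by simp [hw, h.ww]))) r3
    (by simpa only [map_mul] using he')
  refine ⟨_, (ι c * q * (ι c)⁻¹).2, ?_, (hθ (ι c * q * (ι c)⁻¹ * (ι c * q * (ι c)⁻¹) *
    (ι c * q * (ι c)⁻¹))).1 ?_, ?_⟩
  · exact (show 1 * r0 * 1 = r0 by decide) ▸
      ((act_ψ h c).mul a4).mul ((act_ψ h c).inv (L4_mul_one 1))
  · simp only [map_mul, map_inv, conj_mul] at r3 ⊢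
    rw [r3]; group
  · have := (hθ (W * (ι c * q * (ι c)⁻¹) * W * (ι c * q * (ι c)⁻¹))).1
      (by simpa only [map_mul, map_inv] using hc)
    rwa [coe_mul, coe_mul, coe_mul, hw] at this

omit h in
/-- The group `M` with the adapted element. -/
structure L0 (t v w σ : G) (M : Subgroup G) : Prop where
  pg : IsPGroup 2 M
  hE : ∀ e, ψ t v w e ∈ M
  wn : ∀ x ∈ M, w * x * w⁻¹ ∈ M
  σa : Act (ψ t v w) σ r0
  σn : ∀ x ∈ M, σ * x * σ⁻¹ ∈ M
  σ3 : ∀ x ∈ M, σ * (σ * (σ * x * σ⁻¹) * σ⁻¹) * σ⁻¹ = x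
  wσ : ∀ x ∈ M, w * (σ * x * σ⁻¹) * w⁻¹ = σ * (σ * (w * x * w⁻¹) * σ⁻¹) * σ⁻¹
  ex : ∃ x ∈ M, Act (ψ t v w) x n0

theorem exists_l0 (c : IsConj t (t * zz v w)) : ∃ σ M, L0 t v w σ M := by
  have := Fact.mk Nat.prime_two
  obtain ⟨y, y1, y2, y3⟩ := h.exists_y c
  have ay : Act (ψ t v w) y n0 := act_of h (y1.trans ψ5.symm) ((cj_of_comm y2).trans ψv.symm)
    ((cj_of_comm (comm_z y2 y3)).trans ψz.symm) rfl
  have aρ := act_r h h.tρ.symm h.ρz h.ρv
  have aw := act_w h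
  have A2 : ∀ f ∈ A0, f * f = 1 := by decide
  let K : Subgroup G := subOfMul {g | ∃ f ∈ A0, Act (ψ t v w) g f} ⟨1, by decide, Act.one⟩
    fun _ ⟨f, hf, a⟩ _ ⟨f', hf', b⟩ =>
      ⟨_, (by decide +kernel : ∀ f ∈ A0, ∀ f' ∈ A0, f * f' ∈ A0) f hf f' hf', a.mul b⟩
  have wK : w ∈ normalizer (K : Set G) := nm fun _ ⟨f, hf, a⟩ =>
    ⟨_, (by decide +kernel : ∀ f ∈ A0, s0 * f * s0 ∈ A0) f hf, (aw.mul a).mul (aw.inv (by decide))⟩
  have ρK : ∀ x ∈ K, ρ * x * ρ⁻¹ ∈ K := fun _ ⟨f, hf, a⟩ =>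
    ⟨_, (by decide +kernel : ∀ f ∈ A0, r0 * f * i0 ∈ A0) f hf, (aρ.mul a).mul (aρ.inv (by decide))⟩
  have eK : ∀ e, ψ t v w e ∈ K := fun e => ⟨1, by decide, act_ψ h e⟩
  obtain ⟨P, hP, le⟩ := exists_sylIn_ge (H := normalizer (K : Set G)) h.syl.pgroup ((closure_le _).2 (by
    rintro x (rfl | rfl | rfl)
    exacts [le_normalizer (ψt (v := v) (w := w) ▸ eK _ :), le_normalizer (ψv (t := t) (w := w) ▸ eK _ :), wK]))
  have hM := hP.inf_normal_of_le le_rfl le_normalizer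
  have cov : ∀ f ∈ A0, ∃ x ∈ P ⊓ K, Act (ψ t v w) x f := fun f hf => by
    obtain ⟨g, a⟩ : ∃ g, Act (ψ t v w) g f := by
      have aα : Act (ψ t v w) _ al := (by decide : r0 * n0 * i0 = al) ▸ (aρ.mul ay).mul (aρ.inv (by decide))
      simp only [A0, List.mem_cons, List.not_mem_nil, or_false] at hf
      rcases hf with rfl | rfl | rfl | rfl
      exacts [⟨_, Act.one⟩, ⟨_, ay⟩, ⟨_, aα⟩, ⟨_, ay.mul aα⟩]
    obtain ⟨p, hp, c, b, rfl⟩ := cover hM (C := subOfMul {g | Act (ψ t v w) g 1} Act.one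
        fun _ a _ b => L4_mul_one 1 ▸ Act.mul a b) (fun _ a => ⟨1, by decide, a⟩)
      (le_normalizer_of_cj_le fun k ⟨f, hf, a⟩ => cj_le_iff_forall.2 fun x b => by
        have := (a.mul b).mul (a.inv (A2 f hf))
        rwa [L4_mul_one, A2 f hf] at this)
      (fun k ⟨f, hf, a⟩ => ⟨1, by
        change Act _ _ _
        rw [pow_one, pow_two, ← A2 f hf]; exact a.mul a⟩) (g := g) ⟨f, hf, a⟩
    have := a.mul (Act.inv b (L4_mul_one 1))
    rw [mul_inv_cancel_right, L4_mul_one] at this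
    exact ⟨p, hp, this⟩
  obtain ⟨c, ⟨f, hf, a⟩, hc⟩ := frattini hM ρK
  obtain ⟨m, hm, b⟩ := cov f hf
  have wM : w ∈ normalizer ((P ⊓ K : Subgroup G) : Set G) := le_normalizer_inf
    (zpowers_le.2 (le_normalizer (le (m3 t v w).2.2))) (zpowers_le.2 wK) (mem_zpowers _)
  obtain ⟨σ, n, a1, a2, a3⟩ := adapt h hM.pgroup (fun e => ⟨le (ψS h e), eK e⟩) wM
    (mul_mem (le_normalizer hm) (nm hc)) (by
      have := b.mul (a.mul aρ)
      rwa [← L4_mul_assoc, A2 f hf, L4_one_mul] at this)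
  have σn : ∀ x ∈ P ⊓ K, σ * x * σ⁻¹ ∈ P ⊓ K := fun x hx => conj_mem_of_normalizes le_rfl n hx
  have wn : ∀ x ∈ P ⊓ K, w * x * w⁻¹ ∈ P ⊓ K := fun x hx => conj_mem_of_normalizes le_rfl wM hx
  have σ3 : ∀ x ∈ P ⊓ K, σ * (σ * (σ * x * σ⁻¹) * σ⁻¹) * σ⁻¹ = x := fun x hx => by
    conv_rhs => rw [← cj_of_comm (a2 x hx).symm]
    group
  refine ⟨σ, _, hM.pgroup, fun e => ⟨le (ψS h e), eK e⟩, wn, a1, σn, σ3, fun x hx => ?_, cov _ (by decide)⟩
  have k3 : σ * (w * (σ * x * σ⁻¹) * w⁻¹) * σ⁻¹ = w * x * w⁻¹ := by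
    conv_rhs => rw [← cj_of_comm (a3 x hx).symm]
    calc _ = (w * w) * (σ * (w * (σ * x * σ⁻¹) * w⁻¹) * σ⁻¹) * (w * w)⁻¹ := by rw [h.ww]; group
      _ = _ := by group
  rw [← σ3 _ (wn _ (σn x hx)), k3]

variable {σ x α γ : G} {M : Subgroup G} (l : L0 t v w σ M)
include l

theorem L0.acts (ax : Act (ψ t v w) x n0) (eα : σ * x * σ⁻¹ = α) (eγ : σ * α * σ⁻¹ = γ) :
    Act (ψ t v w) α al ∧ Act (ψ t v w) γ (n0 * al) := by
  have i := l.σa.inv (f' := i0) (by decide)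
  have aα : Act (ψ t v w) α al := eα ▸ (by decide : r0 * n0 * i0 = al) ▸ (l.σa.mul ax).mul i
  exact ⟨aα, eγ ▸ (by decide : r0 * al * i0 = n0 * al) ▸ (l.σa.mul aα).mul i⟩

/-- The norm lies in `E` and is fixed by `σ`. -/
theorem L0.nrm (hx : x ∈ M) (ax : Act (ψ t v w) x n0) : ∃ e, x * (σ * x * σ⁻¹ *
    (σ * (σ * x * σ⁻¹) * σ⁻¹)) = ψ t v w e ∧ (e.t = false → ψ t v w e = 1) := by
  obtain ⟨aα, aγ⟩ := l.acts h ax rfl rfl
  obtain ⟨e, he⟩ := cV h l.pg l.hE (mul_mem hx (mul_mem (l.σn _ hx) (l.σn _ (l.σn _ hx))))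
    ((by decide : n0 * (al * (n0 * al)) = 1) ▸ ax.mul (aα.mul aγ))
  refine ⟨e, he, fun k => (ψ_cut ((by decide +kernel : ∀ e : V4, e.t = false →
    cut (r0.app e) = cut (n0.app e) → cut e = cut 1) e k (ψ_inj h (mul_left_cancel (a := x) ?_)))).trans ψ1⟩
  rw [← mv ax (by decide), ← l.σa, ← he, cjm, cjm, l.σ3 x hx]
  simp only [mul_assoc]

theorem L0.shift (ax : Act (ψ t v w) x n0) (u : V4) : x * ψ t v w u * (σ * (x * ψ t v w u) * σ⁻¹ *
    (σ * (σ * (x * ψ t v w u) * σ⁻¹) * σ⁻¹)) = x * (σ * x * σ⁻¹ * (σ * (σ * x * σ⁻¹) * σ⁻¹)) *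
      ψ t v w ((n0 * al).app (al.app u) * ((n0 * al).app (r0.app u) * r0.app (r0.app u))) := by
  obtain ⟨aα, aγ⟩ := l.acts h ax rfl rfl
  rw [cjm σ x, cjm σ (σ * x * σ⁻¹), l.σa, l.σa]
  generalize σ * (σ * x * σ⁻¹) * σ⁻¹ = γ at aγ ⊢
  generalize σ * x * σ⁻¹ = α at aα ⊢
  simp only [mul_assoc, mv' aγ (by decide), mv' aα (by decide), mul h]

theorem L0.act_mul {f : L4} (ax : Act (ψ t v w) x f) (u : V4) : Act (ψ t v w) (x * ψ t v w u) f :=
  L4_mul_one f ▸ ax.mul (act_ψ h u)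

theorem L0.rel (hx : x ∈ M) (ax : Act (ψ t v w) x n0) (eα : σ * x * σ⁻¹ = α) (eγ : σ * α * σ⁻¹ = γ)
    (hN : x * (α * γ) = 1) : Commute x α ∧ (∃ s : V4, s.t = false ∧ x * x = ψ t v w s) ∧
      ∃ i, w * x * w⁻¹ = x * ψ t v w (bp (.of 4) i) := by
  obtain ⟨aα, aγ⟩ := l.acts h ax eα eγ
  have hα : α ∈ M := eα ▸ l.σn x hx
  have aw := act_w h
  have mx := mv' ax (by decide)
  have mα := mv' aα (by decide)
  have mγ := mv' aγ (by decide)
  have dv : ∀ {y z f}, y ∈ M → z ∈ M → Act (ψ t v w) y f → Act (ψ t v w) z f → ∃ e, z = y * ψ t v w e :=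
    fun {y z f} hy hz a b => by
      obtain ⟨e, he⟩ := cV h l.pg l.hE (mul_mem (inv_mem hy) hz) fun e => by
        rw [L4.one_app]
        calc _ = y⁻¹ * (z * ψ t v w e * z⁻¹) * y := by group
          _ = _ := by rw [b, ← a]; group
      exact ⟨e, by rw [← he, mul_inv_cancel_left]⟩
  obtain ⟨s, hs⟩ := cV h l.pg l.hE (mul_mem hx hx) ((by decide : n0 * n0 = 1) ▸ ax.mul ax)
  have st : s.t = false := (by decide +kernel : ∀ s : V4, cut (n0.app s) = cut s → s.t = false) s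
    (ψ_inj h (by rw [← ax, ← hs]; group))
  obtain ⟨c, hc⟩ := dv (mul_mem hx hα) (mul_mem hα hx) (ax.mul aα)
    ((by decide : al * n0 = n0 * al) ▸ aα.mul ax)
  have c1 : α * x * α⁻¹ = x * ψ t v w (al.app c) := by rw [hc, ← aα]; group
  have ct : c.t = false := (by decide +kernel : ∀ s c : V4, s.t = false →
    cut (al.app s) = cut (s * (n0.app (al.app c) * al.app c)) → c.t = false) s c st (ψ_inj h (by
      rw [← aα, ← hs, cjm, c1, mul_assoc, mx, ← mul_assoc, hs, mul h, mul h]))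
  have eg : γ = (x * α)⁻¹ := eq_inv_of_mul_eq_one_right (by rw [mul_assoc, hN])
  have c2 : ψ t v w c = 1 := by
    refine (ψ_cut ((by decide +kernel : ∀ c : V4, c.t = false → cut (r0.app c) = cut (n0.app c) →
      cut c = cut 1) c ct (ψ_inj h ?_))).trans ψ1
    have k := congrArg (fun y => σ * y * σ⁻¹) hc
    simp only [cjm, eα, eγ, l.σa c] at k
    calc _ = (α * γ)⁻¹ * (γ * α) := by rw [k]; group
      _ = x * ((x * α)⁻¹ * (α * x)) * x⁻¹ := by rw [eg]; group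
      _ = _ := by rw [hc, ← ax]; group
  have cm : Commute x α := by rw [c2, mul_one] at hc; exact hc.symm
  obtain ⟨e, he⟩ := dv hx (l.wn x hx) ax ((by decide : s0 * n0 * s0 = n0) ▸ (aw.mul ax).mul (aw.inv (by decide)))
  have wα : w * α * w⁻¹ = γ * ψ t v w (r0.app (r0.app e)) := by
    rw [← eα, l.wσ x hx, he, cjm σ x, eα, cjm σ α, eγ, l.σa, l.σa]
  have wγ : w * γ * w⁻¹ = α * ψ t v w (r0.app e) := by
    rw [← eγ, l.wσ α hα, wα, cjm σ γ, ← eγ, ← eα, l.σ3 x hx, cjm σ x, l.σa, l.σa,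
      (by decide +kernel : ∀ e : V4, r0.app (r0.app (r0.app (r0.app e))) = r0.app e)]
  have cγ : γ * α = α * γ := by
    rw [eg]; exact (((cm.mul_left (Commute.refl α))).inv_left).eq
  obtain ⟨i, hi⟩ := (by decide +kernel : ∀ e : V4, cut (e * s0.app e) = cut 1 →
    cut (al.app ((n0 * al).app e) * (al.app (r0.app (r0.app e)) * r0.app e)) = cut 1 →
      ∃ i, cut e = cut (bp (.of 4) i)) e (ψ_inj h (mul_left_cancel (a := x) (by
      rw [← mul h, ← mul_assoc, ← aw, ← he, ← cjm, ← he, ψ1]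
      calc _ = (w * w) * x * (w * w)⁻¹ := by group
        _ = _ := by rw [h.ww]; group))) (ψ_inj h (by
      have k := congrArg (fun y => w * y * w⁻¹) hN
      simp only [cjm w x, cjm w α, he, wα, wγ] at k
      simp only [mul_assoc, mγ, mα, mul h] at k
      rwa [← mul_assoc γ, cγ, ← mul_assoc, hN, one_mul, one_mul, mul_inv_cancel,
        ← ψ1 (t := t) (v := v) (w := w)] at k))
  exact ⟨cm, ⟨s, st, hs⟩, i, he.trans (by rw [ψ_cut hi])⟩

end K0

namespace H0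

variable (h : H0 X t v w ρ ρ')
include h

/-- `N(E)` preserves `V1` (`z_not`) and is transitive on `t V1`; the stabiliser of `t` acts as `⟨ρ, w⟩ ≅ S3` (its Sylow subgroup is `S`).
`P` Sylow in `N(E)` containing `S`, `|P| = 64`, `M = C_P(V1)` of order 32 is Sylow in `C(V1) ∩ N(E)`; Frattini gives `σ ∈ C(t)` of odd order
acting on `E` as `ρ` and normalising `M`; elements of `N(M)` centralising `E` act on `M` as elements of `E` (`stab`), so `σ³` and
`(w σ)²` centralise `M` after a good choice (as in `HS8/LE`, `HS8/LT`). `M / V1` is elementary (`n² = t u` is impossible as `n` moves `t u`),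
`M0 = [M, σ]` has order 16 and is abelian (`[n, α] ∈ V1` is fixed by `σ`). For `x ∈ M0` with `t ↦ t v` put `n = x (w x w⁻¹)`, up to
inversion and the choice of `x` modulo `V1`: it maps `t` to `t z` and commutes with `w`. -/
theorem exists_z0 (c : IsConj t (t * zz v w)) : ∃ P σ n α μ, Z0 P t v w σ n α μ := by
  obtain ⟨σ, M, l⟩ := exists_l0 h c
  obtain ⟨x, hx, ax, hN⟩ : ∃ x ∈ M, Act (ψ t v w) x n0 ∧
      x * (σ * x * σ⁻¹ * (σ * (σ * x * σ⁻¹) * σ⁻¹)) = 1 := by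
    obtain ⟨x, hx, ax⟩ := l.ex
    obtain ⟨e, e1, e2⟩ := l.nrm h hx ax
    cases k : e.t
    · exact ⟨x, hx, ax, e1.trans (e2 k)⟩
    · have hx' := mul_mem hx (l.hE (.of 1))
      have ax' := l.act_mul h ax (.of 1)
      obtain ⟨e', e3, e4⟩ := l.nrm h hx' ax'
      refine ⟨_, hx', ax', e3.trans (e4 ?_)⟩
      rw [l.shift h ax, e1, mul h] at e3
      have := congrArg V4.t (ψ_inj h e3)
      change xor e.t true = e'.t at this
      rw [← this, k]; rfl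
  obtain ⟨x, hx, ax, hN, hw⟩ : ∃ x ∈ M, Act (ψ t v w) x n0 ∧
      x * (σ * x * σ⁻¹ * (σ * (σ * x * σ⁻¹) * σ⁻¹)) = 1 ∧ w * x * w⁻¹ = x := by
    obtain ⟨-, -, _ | _, e⟩ := l.rel h hx ax rfl rfl hN
    · exact ⟨x, hx, ax, hN, by rw [e, bp_false, ψ1, mul_one]⟩
    · refine ⟨_, mul_mem hx (l.hE (.of 2)), l.act_mul h ax (.of 2), ?_, ?_⟩
      · rw [l.shift h ax, hN, one_mul]; exact ψ1
      · rw [cjm, e, act_w h, mul_assoc, mul h]; rfl
  obtain ⟨cm, ⟨s, st, hs⟩, -⟩ := l.rel h hx ax rfl rfl hN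
  obtain ⟨aα, -⟩ := l.acts h ax rfl rfl
  obtain ⟨μ, hμ⟩ := (by decide +kernel : ∀ s : V4, s.t = false → cut (s0.app s) = cut s →
    ∃ μ, cut s = cut (bp (.of 4) μ)) s st (ψ_inj h (by rw [← act_w h, ← hs, cjm, hw]))
  rw [ψ_cut hμ] at hs
  have eg := eq_inv_of_mul_eq_one_right ((mul_assoc _ _ _).trans hN)
  have fx : ∀ {g f} (_ : Act (ψ t v w) g f) (e : V4), f.app e = e → Commute g (ψ t v w e) :=
    fun a e k => comm_of_cj (by rw [a, k])
  refine ⟨_, σ, x, _, μ, ZR.z0 h ⟨(ψt (v := v) (w := w) ▸ fx l.σa (.of 1) rfl :), ?_, ?_, rfl, eg, ?_, ?_,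
    (ψv (t := t) (w := w) ▸ fx ax (.of 2) rfl :), (comm_of_cj hw).symm,
    (ψv (t := t) (w := w) ▸ fx aα (.of 2) rfl :), (ψz (t := t) ▸ fx aα (.of 4) rfl :), cm,
    by rw [hs, map_bp ψ1, ψz], ?_, by rw [l.wσ x hx, hw, eg]⟩⟩
  · rw [← ψz (t := t), l.σa]; exact ψv
  · exact (ψv (t := t) (w := w) ▸ l.σa (.of 2) :).trans ψ6
  · exact (ψt (v := v) (w := w) ▸ ax (.of 1) :).trans ψ5
  · exact (ψt (v := v) (w := w) ▸ aα (.of 1) :).trans ψ3
  · rw [← cjm, hs, l.σa]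
    cases μ
    exacts [ψ1, ψv]

end H0

theorem Z0.shift {P : Subgroup G} {n α : G} {μ : Bool} (h : H0 X t v w ρ ρ') {σ : G}
    (l : Z0 P t v w σ n α μ) : Z0 P t v w σ (n * zz v w) (α * v) μ := by
  have an := l.zr.an h
  have aα := l.zr.aα h
  have aσ := l.zr.aσ h
  have ez : zz v w = ψ t v w (.of 4) := ψz.symm
  have k : (n * zz v w * (α * v))⁻¹ = (n * α)⁻¹ * ψ t v w (.of 6) := by
    rw [ψ6, mul_assoc, l.αz.symm.left_comm, ← mul_assoc, mul_inv_rev, mul_inv_rev (zz v w), vi h.toD8,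
      inv_eq_of_mul_eq_one_right h.z2]
    exact (((l.nv.mul_right (comm_z l.nv l.nw)).mul_left (l.αv.mul_right l.αz)).inv_left.eq).symm
  have zv := zv h.toD8
  have zw := zw h.toD8
  have nz := comm_z l.nv l.nw
  refine ⟨l.pg, l.card, ?_, l.ρt, l.ρz, l.ρv, by rw [cjm, l.ρn, l.ρz], by rw [k, cjm, l.ρα, l.ρv, ψ6], ?_, ?_,
    l.nv.mul_left zv, l.nw.mul_left zw, l.αv.mul_left (Commute.refl v), l.αz.mul_left zv.symm,
    (l.nα.mul_right l.nv).mul_left (l.αz.symm.mul_right zv), ?_, ?_,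
    by rw [k, cjm, l.wα, wvw h.toD8, ψ6]⟩
  · obtain ⟨a1, a2, a3, a4, a5⟩ := m5 t v w n α
    obtain ⟨b1, b2, b3, b4, b5⟩ := m5 t v w (n * zz v w) (α * v)
    rw [l.gen]
    exact le_antisymm (le5 b1 b2 b3 ((mul_mem_cancel_right (mem_z b2 b3)).1 b4)
      ((mul_mem_cancel_right b2).1 b5)) (le5 a1 a2 a3 (mul_mem a4 (mem_z a2 a3)) (mul_mem a5 a2))
  · rw [← l.nt, ← cj_of_comm (tz h).symm, cj_of_comm (tz h).symm]
    conv_rhs => rw [← cj_of_comm (tz h).symm]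
    group
  · rw [← l.αt]
    conv_rhs => rw [← cj_of_comm h.tv.symm]
    group
  · rw [← l.nn, mul_assoc, nz.symm.left_comm, h.z2, mul_one]
  · rw [← l.αα, mul_assoc, l.αv.symm.left_comm, h.vv, mul_one]

theorem Z0.cj {P : Subgroup G} {n α σ c : G} {μ : Bool} (l : Z0 P t v w σ n α μ) (h1 : Commute c t)
    (h2 : Commute c v) (h3 : Commute c w) :
    Z0 (c •ᶜ P) t v w (c * σ * c⁻¹) (c * n * c⁻¹) (c * α * c⁻¹) μ := by
  have e1 := cj_of_comm h1
  have e2 := cj_of_comm h2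
  have e3 := cj_of_comm h3
  have e4 := cj_of_comm (comm_z h2 h3)
  have k : ∀ {x y z : G}, x * y * x⁻¹ = z → ∀ {y' z'}, c * y * c⁻¹ = y' → c * z * c⁻¹ = z' →
      c * x * c⁻¹ * y' * (c * x * c⁻¹)⁻¹ = z' := by
    rintro x y z rfl _ _ rfl rfl; group
  have q : ∀ {x y : G}, Commute x y → c * y * c⁻¹ = y → Commute (c * x * c⁻¹) y := fun a b =>
    b ▸ comm_cj.2 a
  refine ⟨l.pg.map _, (card_cj _ _).trans l.card, ?_, q l.ρt e1, k l.ρz e4 e2, k l.ρv e2 (by rw [cjm, e2, e4]),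
    k l.ρn rfl rfl, k l.ρα rfl (by group), k l.nt e1 (by rw [cjm, e1, e4]), k l.αt e1 (by rw [cjm, e1, e2]),
    q l.nv e2, q l.nw e3, q l.αv e2, q l.αz e4, comm_cj.2 l.nα, by rw [← cjm, l.nn, ← Jn.cjb, e4],
    by rw [← cjm, l.αα, ← Jn.cjb, e2], ?_⟩
  · rw [l.gen, cj_closure]
    simp only [Set.image_insert_eq, Set.image_singleton, e1, e2, e3]
  · have := k l.wα rfl rfl
    rw [e3] at this
    rw [this]; group

end CL.HS8
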