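import Cfsg.Agent.INV.HS8.K0a

/-!
The case `C(t)` has Sylow subgroup `S = ⟨t⟩ × D`: `μ = 1` does not occur.
-/

set_option autoImplicit false
set_option linter.unusedSectionVars false
set_option linter.unusedSimpArgs false
set_option synthInstance.maxSize 16384

open Subgroup CL.TwoS CL.MSS CL.K

namespace CL.HS8

variable {G : Type*} [Group G] [Finite G] {X : Subgroup G} {t v w ρ ρ' : G}

open K0 Ltb

namespace K0

/-- Frattini argument for a 2-group covering `A0`. -/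
theorem theta (h : H0 X t v w ρ ρ') {M : Subgroup G} (pg : IsPGroup 2 M) (hE : ∀ e, ψ t v w e ∈ M)
    (hK : ∀ x ∈ M, ∃ f ∈ A0, Act (ψ t v w) x f) (cov : ∀ f ∈ A0, ∃ x ∈ M, Act (ψ t v w) x f) :
    ∃ θ, (∀ x ∈ M, θ * x * θ⁻¹ ∈ M) ∧ Act (ψ t v w) θ r0 := by
  have aρ := act_r h h.tρ.symm h.ρz h.ρv
  have A2 : ∀ f ∈ A0, f * f = 1 := by decide
  let K : Subgroup G := subOfMul {g | ∃ f ∈ A0, Act (ψ t v w) g f} ⟨1, by decide, Act.one⟩
    fun _ ⟨f, hf, a⟩ _ ⟨f', hf', b⟩ =>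
      ⟨_, (by decide +kernel : ∀ f ∈ A0, ∀ f' ∈ A0, f * f' ∈ A0) f hf f' hf', a.mul b⟩
  have hM : SylIn 2 M K := syl_of pg hK fun Q hQ h1 h2 g hg _ => by
    obtain ⟨f, hf, a⟩ := h2 hg
    obtain ⟨x, hx, b⟩ := cov f hf
    obtain ⟨e, he⟩ := cV h hQ (fun e => h1 (hE e)) (mul_mem (h1 hx) hg) (A2 f hf ▸ b.mul a)
    exact (mul_mem_cancel_left hx).1 (he ▸ hE e)
  obtain ⟨c, ⟨f, hf, a⟩, hc⟩ := frattini hM (g := ρ) fun _ ⟨f, hf, a⟩ =>
    ⟨_, (by decide +kernel : ∀ f ∈ A0, r0 * f * i0 ∈ A0) f hf, (aρ.mul a).mul (aρ.inv (by decide))⟩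
  obtain ⟨m, hm, b⟩ := cov f hf
  refine ⟨m * (c * ρ), fun x hx => ?_, ?_⟩
  · have := mul_mem (mul_mem hm (hc x hx)) (inv_mem hm)
    rwa [show m * (c * ρ * x * (c * ρ)⁻¹) * m⁻¹ = m * (c * ρ) * x * (m * (c * ρ))⁻¹ by group] at this
  · have := b.mul (a.mul aρ)
    rwa [← L4_mul_assoc, A2 f hf, L4_one_mul] at this

/-- The model of `M = C_P(V1)`. -/
def Q5 : PC := (PP true).lev 5

/-- Codes of the elements of `E` and `E''`. -/
noncomputable def c2 (u : ℕ) (e : V4) : ℕ := Q5.mul (Q5.mul (cond e.t u 0) (cond e.v 2 0)) (cond e.a 1 0)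

def RR : List (List ℕ) := [[1, 2, 4, 8, 16], [2, 3, 8, 15, 16], [3, 1, 15, 4, 16]]

theorem αw (h : H0 X t v w ρ ρ') {σ n α : G} (l : ZR t v w σ n α true) :
    α * w * α⁻¹ = w * (n⁻¹ * v) := by
  calc _ = w * (w * w)⁻¹ * (w * α * w⁻¹) * (w * w) * α⁻¹ := by group
    _ = w * (n⁻¹ * (α * α)⁻¹) := by rw [l.wα, h.ww, l.nα.eq]; group
    _ = _ := by rw [l.αα, bp_true, vi h.toD8]

end K0

theorem H0.mu0 (h : H0 X t v w ρ ρ') {P P' : Subgroup G} {σ σ' n α β : G}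
    (l : Z0 P t v w σ n α true) (l' : Z0 P' t w v σ' (n * zz v w) β true) : False := by
  have h' := h.swap
  have zs := zsw h.toD8
  replace l := l.zr
  replace l' := (l'.shift h').zr
  rw [zs, mul_assoc, h.z2, mul_one] at l'
  generalize β * w = β at l'
  have m : PC.Md Q5 (gP t v w n α) := (l.md h).lev (by decide) (by decide +kernel)
  have i : Q5.Inj (gP t v w n α) := PC.Md.lev_inj (l.inj h) (by decide)
  set g := gP t v w n α with hg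
  have ez : Q5.ev g 1 = zz v w := (PC.ev_gen _ g (j := 0) (by decide)).trans ψz
  have ev : Q5.ev g 2 = v := (PC.ev_gen _ g (j := 1) (by decide)).trans ψv
  have en : Q5.ev g 4 = n := PC.ev_gen _ g (j := 2) (by decide)
  have eα : Q5.ev g 8 = α := PC.ev_gen _ g (j := 3) (by decide)
  have et : Q5.ev g 16 = t := (PC.ev_gen _ g (j := 4) (by decide)).trans ψt
  have lt : ∀ u ∈ [16, 23], ∀ e, c2 u e < 2 ^ 5 := by decide +kernel
  have ec : ∀ u < 2 ^ 5, ∀ e, Q5.ev g (c2 u e) = W4 (Q5.ev g u) v (zz v w) 1 e := fun u hu e => by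
    have k : ∀ (i : Bool) {a : ℕ}, a < 2 ^ 5 → cond i a 0 < 2 ^ 5 := fun i a ha => by
      cases i; exacts [Nat.two_pow_pos 5, ha]
    have k' : ∀ (i : Bool) (a : ℕ), Q5.ev g (cond i a 0) = bp (Q5.ev g a) i := fun i a => by
      cases i; exacts [PC.ev_zero _ _, rfl]
    rw [c2, m.mul (PC.mul_lt m.ok (k _ hu) (k _ (by decide))) (k _ (by decide)),
      m.mul (k _ hu) (k _ (by decide)), k', k', k', ev, ez, W4]
    cases e.b <;> simp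
  have e1 : ∀ e, Q5.ev g (c2 16 e) = ψ t v w e := fun e => by rw [ec 16 (by decide), et]; rfl
  have cj : ∀ x, β * α * x * (β * α)⁻¹ = β * (α * x * α⁻¹) * β⁻¹ := fun x => by group
  have βv := αw h' l'
  have nn : n⁻¹ * n⁻¹ = zz v w := by
    rw [← mul_inv_rev, l.nn, bp_true, inv_eq_of_mul_eq_one_right h.z2]
  have wv : w * (v * w) = v * zz v w := by rw [← wvw h.toD8, wi h.toD8, mul_assoc]
  have κw : β * α * w * (β * α)⁻¹ = v := by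
    rw [cj, αw h l, cjm, cjm, cj_of_comm l'.αv, cj_of_comm l'.nα.symm.inv_right, βv,
      l.nv.inv_left.left_comm, ← mul_assoc n⁻¹, nn, (zw h.toD8).eq, ← mul_assoc v, ← mul_assoc, wv, mul_assoc,
      h.z2, mul_one]
  have κt : β * α * t * (β * α)⁻¹ = Q5.ev g 23 := by
    rw [cj, l.αt, cjm, l'.αt, βv, show 23 = Q5.mul 16 (Q5.mul (Q5.mul 2 1) (Q5.iv 4)) by decide +kernel,
      m.mul (by decide) (by decide +kernel), m.mul (by decide +kernel) (by decide +kernel),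
      m.mul (by decide) (by decide), m.iv (by decide), et, ev, ez, en, ← wv, l.nw.inv_left.eq]
    simp only [mul_assoc]
  have κz : β * α * zz w v * (β * α)⁻¹ = zz v w := by
    rw [cj, zs, cj_of_comm l.αz, ← zs, cj_of_comm l'.αz]
  have e2 : ∀ e, Q5.ev g (c2 23 e) = β * α * ψ t w v e * (β * α)⁻¹ := fun e => by
    rw [ec 23 (by decide), ψ, cj_W4, κt, κw, κz, mul_one, mul_inv_cancel]
  generalize β * α = κ at e2
  have ac : ∀ x < 2 ^ 5, ∀ f : L4, (∀ e, Q5.cj x (c2 23 e) = c2 23 (f.app e)) →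
      Act (ψ t w v) (κ⁻¹ * Q5.ev g x * κ) f := fun x hx f k e => TwoS.cj_inj.1 (by
    rw [← e2, ← k, m.cj hx (lt 23 (by decide) e), e2]; group)
  have mk : ∀ {x}, x ∈ m.sub → κ⁻¹ * x * κ ∈ κ⁻¹ •ᶜ m.sub := fun hx => by
    simpa using conj_mem_cj (g := κ⁻¹) hx
  obtain ⟨θ, t1, t2⟩ := theta h' (M := κ⁻¹ •ᶜ m.sub) ((m.pg_sub i).map _)
    (fun e => mem_cj.2 (by rw [inv_inv, ← e2]; exact m.ev_mem (lt 23 (by decide) e)))
    (fun x hx => by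
      obtain ⟨_, ⟨y, hy, rfl⟩, rfl⟩ := mem_cj'.1 hx
      obtain ⟨f, hf, k⟩ := (by decide +kernel : ∀ y < 2 ^ 5, ∃ f ∈ A0, ∀ e,
        Q5.cj y (c2 23 e) = c2 23 (f.app e)) y hy
      exact ⟨f, hf, by simpa using ac y hy f k⟩)
    fun f hf => by
      obtain ⟨y, hy, k⟩ := (by decide +kernel : ∀ f ∈ A0, ∃ y < 2 ^ 5, ∀ e,
        Q5.cj y (c2 23 e) = c2 23 (f.app e)) f hf
      exact ⟨_, mk (m.ev_mem hy), ac y hy f k⟩
  have t3 : ∀ x ∈ m.sub, κ * θ * κ⁻¹ * x * (κ * θ * κ⁻¹)⁻¹ ∈ m.sub := fun x hx => by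
    have := mem_cj.1 (t1 _ (mk hx))
    rwa [show κ⁻¹⁻¹ * (θ * (κ⁻¹ * x * κ) * θ⁻¹) * κ⁻¹ = κ * θ * κ⁻¹ * x * (κ * θ * κ⁻¹)⁻¹ by group] at this
  have t4 : ∀ e, κ * θ * κ⁻¹ * Q5.ev g (c2 23 e) * (κ * θ * κ⁻¹)⁻¹ = Q5.ev g (c2 23 (r0.app e)) := fun e => by
    rw [e2, e2, ← t2]; group
  generalize κ * θ * κ⁻¹ = η at t3 t4
  obtain ⟨x, hx, ex⟩ := t3 _ (m.ev_mem (x := 4) (by decide))
  obtain ⟨y, hy, ey⟩ := t3 _ (m.ev_mem (x := 8) (by decide))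
  obtain ⟨T, hT, eT⟩ := t3 _ (m.ev_mem (x := 16) (by decide))
  have gen : ∀ j < 5, g j = Q5.ev g (2 ^ j) := fun j hj => (PC.ev_gen _ g hj).symm
  have t5 : η * Q5.ev g 1 * η⁻¹ = Q5.ev g 2 := by
    have := t4 (.of 4)
    rwa [show c2 23 (.of 4) = 1 by decide +kernel, show c2 23 (r0.app (.of 4)) = 2 by decide +kernel] at this
  have t6 : η * Q5.ev g 2 * η⁻¹ = Q5.ev g 3 := by
    have := t4 (.of 2)
    rwa [show c2 23 (.of 2) = 2 by decide +kernel, show c2 23 (r0.app (.of 2)) = 3 by decide +kernel] at this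
  have t7 : η * Q5.ev g 23 * η⁻¹ = Q5.ev g 23 := by
    have := t4 (.of 1)
    rwa [show r0.app (.of 1) = .of 1 from rfl, show c2 23 (.of 1) = 23 by decide +kernel] at this
  have aη : Q5.Ac g η [2, 3, x, y, T] := ⟨rfl, fun j hj => by
    rw [gen j hj]
    change j < 5 at hj
    interval_cases j
    exacts [⟨show 2 < 2 ^ 5 by decide, t5⟩, ⟨show 3 < 2 ^ 5 by decide, t6⟩, ⟨hx, ex.symm⟩, ⟨hy, ey.symm⟩,
      ⟨hT, eT.symm⟩]⟩
  have aσ : Q5.Ac g σ [2, 3, 8, 15, 16] := ⟨rfl, fun j hj => by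
    rw [gen j hj]
    change j < 5 at hj
    interval_cases j <;> refine ⟨by decide, ?_⟩
    · change σ * Q5.ev g 1 * σ⁻¹ = Q5.ev g 2
      rw [ez, ev, l.ρz]
    · change σ * Q5.ev g 2 * σ⁻¹ = Q5.ev g 3
      rw [show 3 = Q5.mul 2 1 by decide +kernel, m.mul (by decide) (by decide), ez, ev, l.ρv]
    · change σ * Q5.ev g 4 * σ⁻¹ = Q5.ev g 8
      rw [en, eα, l.ρn]
    · change σ * Q5.ev g 8 * σ⁻¹ = Q5.ev g 15
      rw [show 15 = Q5.iv (Q5.mul 4 8) by decide +kernel, m.iv (by decide +kernel),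
        m.mul (by decide) (by decide), en, eα, l.ρα]
    · change σ * Q5.ev g 16 * σ⁻¹ = Q5.ev g 16
      rw [et, cj_of_comm l.ρt]⟩
  obtain ⟨R, hR, k1, e0, k2, k3⟩ := (by decide +kernel : ∀ x < 2 ^ 5, Q5.mul x x = 2 → ∀ y < 2 ^ 5,
    Q5.mul y y = 3 → ∀ T < 2 ^ 5, Q5.ap [2, 3, x, y, T] 23 = 23 → ∃ R ∈ RR,
      (∀ e, ∃ e', Q5.ap R (Q5.ap [2, 3, x, y, T] (c2 16 e)) = c2 23 e') ∧
      ∃ e0 : V4, e0.t = true ∧ Q5.ap R T = c2 23 e0) x hx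
    (i _ (PC.mul_lt m.ok hx hx) _ (by decide) (by rw [m.mul hx hx, ex, ← cjm, en, l.nn, ← t5, ez]; rfl)) y hy
    (i _ (PC.mul_lt m.ok hy hy) _ (by decide) (by rw [m.mul hy hy, ey, ← cjm, eα, l.αα, ← t6, ev]; rfl)) T hT
    (i _ (m.ap aη _).1 _ (by decide) (by rw [← (m.ap aη _).2, t7]))
  obtain ⟨r, ar⟩ : ∃ r, Q5.Ac g r R := by
    simp only [RR, List.mem_cons, List.not_mem_nil, or_false] at hR
    have a2 := m.cp aσ aσ
    rw [show Q5.cp _ _ = [3, 1, 15, 4, 16] by decide +kernel] at a2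
    have a3 := m.cp aσ a2
    rw [show Q5.cp _ _ = [1, 2, 4, 8, 16] by decide +kernel] at a3
    rcases hR with rfl | rfl | rfl
    exacts [⟨_, a3⟩, ⟨_, aσ⟩, ⟨_, a2⟩]
  obtain ⟨f, hf, k4⟩ := (by decide +kernel : ∀ e0 : V4, e0.t = true → ∃ f ∈ A0,
    cut (f.app e0) = cut (.of 1)) e0 k2
  obtain ⟨s, as⟩ : ∃ s, Act (ψ t w v) s f := by
    simp only [A0, List.mem_cons, List.not_mem_nil, or_false] at hf
    rcases hf with rfl | rfl | rfl | rfl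
    exacts [⟨_, Act.one⟩, ⟨_, l'.an h'⟩, ⟨_, l'.aα h'⟩, ⟨_, (l'.an h').mul (l'.aα h')⟩]
  have cj : ∀ u e', r * (η * u * η⁻¹) * r⁻¹ = Q5.ev g (c2 23 e') →
      s * κ⁻¹ * r * η * u * (s * κ⁻¹ * r * η)⁻¹ = ψ t w v (f.app e') := fun u e' k => by
    rw [← as, show s * κ⁻¹ * r * η * u * (s * κ⁻¹ * r * η)⁻¹ =
      s * (κ⁻¹ * (r * (η * u * η⁻¹) * r⁻¹) * κ) * s⁻¹ by group, k, e2]
    group
  refine h.no_EF (g := s * κ⁻¹ * r * η) (comm_of_cj ?_) fun u hu => ?_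
  · rw [cj t e0 (by rw [← k3, ← (m.ap ar _).2, eT, et]), ψ_cut k4, ψt]
  · obtain ⟨e, rfl⟩ := (memE h).1 hu
    obtain ⟨e', k⟩ := k1 e
    rw [cj _ e' (by rw [← k, ← (m.ap ar _).2, ← (m.ap aη _).2, e1]), ← zs]
    exact (memE h').2 ⟨_, rfl⟩

end CL.HS8
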