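import Cfsg.Agent.INV.HS8.K0a
import Cfsg.Agent.INV.HS8.L5x
import Cfsg.Agent.INV.HS8.SPc

/-!
The case `C(t)` has Sylow subgroup `S = ⟨t⟩ × D`: `μ = 0`.
-/

set_option autoImplicit false
set_option linter.unusedSectionVars false
set_option linter.unusedSimpArgs false
set_option synthInstance.maxSize 16384

open Subgroup CL.TwoS CL.MSS CL.K

namespace CL.HS8

variable {G : Type*} [Group G] [Finite G] {X : Subgroup G} {t v w ρ ρ' : G}

open K0 Ltb

namespace K0

/-- Thompson transfer. -/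
theorem t_not {T T0 : Subgroup G} (pf : ⁅X, X⁆ = X) (tt : t * t = 1) (hT : SylIn 2 T ⊤)
    (h0 : ∀ x ∈ T, x ∈ T0 ∨ x * t ∈ T0) (k : ∀ g, g * t * g⁻¹ ∈ T → g * t * g⁻¹ ∉ T0) : t ∉ X := fun tX => by
  classical
  let ψ : T →* ℤˣ := MonoidHom.mk' (fun x => if (x : G) ∈ T0 then 1 else -1) fun x y => by
    by_cases hx : (x : G) ∈ T0 <;> by_cases hy : (y : G) ∈ T0
    · simp [hx, hy, mul_mem]
    · simp [hx, hy, T0.mul_mem_cancel_left hx]
    · simp [hx, hy, T0.mul_mem_cancel_right hy]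
    · have := mul_mem ((h0 _ x.2).resolve_left hx)
        (inv_mem ((h0 _ (inv_mem y.2)).resolve_left (by simpa using hy)))
      rw [show (x : G) * t * ((y : G)⁻¹ * t)⁻¹ = x * y by group] at this
      simp [hx, hy, this]
  obtain ⟨V, hV⟩ := tr_ext hT ψ
  have := hV t trivial tt ⊥ IsPGroup.of_bot le_top (fun x hx => mem_bot.1 hx ▸ Commute.one_left _) (-1)
    fun g _ hg _ => if_neg (k g hg)
  rw [hom_perfect V pf le_top tX] at this
  exact absurd this (by decide)

/-- Elements with a large centraliser in a model are not conjugate to `t`. -/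
theorem big (h : H0 X t v w ρ ρ') {P : PC} {g : ℕ → G} (m : PC.Md P g) (i : P.Inj g) {x : ℕ}
    (hx : x < 2 ^ P.n) (hb : 16 ≤ P.cenN x)
    (he : P.cenN x = 16 → ∀ y < 2 ^ P.n, P.mul x y = P.mul y x → P.mul y y = 0) :
    ¬ IsConj t (P.ev g x) := fun k => by
  obtain ⟨γ, -, l⟩ := h.tr k ((m.pg_sub i).to_inf_left (K := centralizer {P.ev g x})) fun y hy =>
    mem_centralizer_singleton_iff.1 hy.2
  have l' := cj_le_iff_forall.2 l
  have c : Nat.card ↥(γ •ᶜ (m.sub ⊓ centralizer {P.ev g x})) = P.cenN x :=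
    (card_cj _ _).trans (m.card_cen i hx)
  have e := eq_of_le_of_card_ge l' (by rw [c, h.card_S]; exact hb)
  obtain ⟨_, ⟨⟨y, hy, rfl⟩, hc⟩, e1⟩ := mem_cj'.1 (e.ge (mul_mem (m3 t v w).2.1 (m3 t v w).2.2))
  refine h.z1 ?_
  rw [zz, mul_assoc (v * w), ← e1, ← cjm, ← m.mul hy hy, he (by rw [← c, e, h.card_S]) y hy
    ((m.comm i hx hy).1 (mem_centralizer_singleton_iff.1 hc).symm), PC.ev_zero]
  group

theorem αw0 (h : H0 X t v w ρ ρ') {σ n α : G} (l : ZR t v w σ n α false) : α * w * α⁻¹ = n * w := by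
  calc _ = w * (w * w)⁻¹ * (w * α * w⁻¹) * (w * w) * α⁻¹ := by group
    _ = w * (n * n)⁻¹ * n * (α * α)⁻¹ := by rw [l.wα, h.ww, l.nα.eq]; group
    _ = _ := by rw [l.αα, l.nn, l.nw.eq]; simp

/-- `(α β)²` centralises `T1`. -/
theorem sq0 (h : H0 X t v w ρ ρ') {σ σ' n α β : G} (l : ZR t v w σ n α false)
    (l' : ZR t w v σ' (n * zz v w) β false) : (β * v * β⁻¹ = n * zz v w * v ∧ Commute β (zz v w) ∧
      Commute β n) ∧ ∀ x ∈ [t, v, w, n], Commute (α * β * (α * β)) x := by
  have a1 := αw0 h l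
  have b1 := αw0 h.swap l'
  have b2 : Commute β (zz v w) := zsw h.toD8 ▸ l'.αz
  have nz := comm_z l.nv l.nw
  have b3 : Commute β n := comm_of_mul b2 (nz.eq ▸ l'.nα.symm)
  have cj : ∀ x, α * β * (α * β) * x * (α * β * (α * β))⁻¹ =
      α * (β * (α * (β * x * β⁻¹) * α⁻¹) * β⁻¹) * α⁻¹ := fun x => by group
  have n1 : ∀ x, n * (n * x) = x := fun x => by rw [← mul_assoc, l.nn]; simp
  have z1 : ∀ x, zz v w * (zz v w * x) = x := fun x => by rw [← mul_assoc, h.z2, one_mul]
  have e1 := cj_of_comm b2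
  have e2 := cj_of_comm b3
  have e3 := cj_of_comm l'.αv
  have e4 := cj_of_comm l.αz
  have e5 := cj_of_comm l.nα.symm
  have e6 := cj_of_comm l.αv
  refine ⟨⟨b1, b2, b3⟩, ?_⟩
  simp only [List.mem_cons, List.not_mem_nil, or_false, forall_eq_or_imp, forall_eq]
  refine ⟨comm_of_cj ?_, comm_of_cj ?_, comm_of_cj ?_, comm_of_cj ?_⟩ <;> rw [cj]
  · have : t * w * (n * zz v w * v) * (n * w) = t * v := by
      have k : w * (v * w) = v * zz v w := by rw [← wvw h.toD8, wi h.toD8, mul_assoc]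
      simp only [mul_assoc, l.nv.symm.left_comm, nz.symm.left_comm, n1]
      rw [(zw h.toD8).symm.left_comm, k, (zv h.toD8).left_comm, h.z2, mul_one]
    rw [l'.αt, cjm α t, l.αt, a1, cjm β (t * v), cjm β t, cjm β n, l'.αt, b1, e2, e3, this, cjm α t, l.αt, e6,
      mul_assoc, h.vv, mul_one]
  · simp only [b1, cjm, e1, e2, e4, e5, e6]
    simp only [mul_assoc, nz.symm.left_comm, n1, z1]
  · simp only [a1, cjm, e2, e3, e5, n1]
  · rw [e2, e5, e2, e5]

/-- `PC('z n v w al be t')`, `β α β = α z ^ e`. -/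
def PY (e : Bool) : PC := ⟨7, cond e 0x3103003203303503403603703803903b03a03c03d03f03e02602702502402202302102002e02f02d02c02a02b02902801b01a01801901f01e01c01d01201301101001601701501400e00f00d00c00a00b00900800600700500400200300100001d01c01f01e01a01b01801901501401701601201301001100c00d00e00f00b00a00900800400500600700300200100000d00c00f00e00900800b00a007006005004003002001000006007004005003002001000003002001000001000000000 0x3103003203303503403603703803903b03a03c03d03f03e02602702502402202302102002e02f02d02c02a02b02902801b01a01801901f01e01c01d01201301101001601701501400e00f00d00c00a00b00900800600700500400200300100001c01d01e01f01b01a01901801401501601701301201101000c00d00e00f00b00a00900800400500600700300200100000d00c00f00e00900800b00a007006005004003002001000006007004005003002001000003002001000001000000000, 0, cond e 0x7007107307207707607407507b07a07807907d07c07e07f06506406606706206306106006c06d06f06e06a06b06906805905805a05b05c05d05f05e05205305105005605705505404f04e04c04d04a04b04904804604704504404204304104003e03f03c03d03803903a03b03503403703603203303003102d02c02f02e02b02a02902802402502602702302202102001c01d01e01f01901801b01a01701601501401301201101000e00f00c00d00b00a009008007006005004003002001000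 0x7107007207307607707507407a07b07907807c07d07f07e06506406606706206306106006c06d06f06e06a06b06906805905805a05b05c05d05f05e05205305105005605705505404f04e04c04d04a04b04904804604704504404204304104003f03e03d03c03903803b03a03403503603703303203103002d02c02f02e02b02a02902802402502602702302202102001c01d01e01f01901801b01a01701601501401301201101000e00f00c00d00b00a009008007006005004003002001000⟩

def RY (e : Bool) : List ℕ := cond e [1, 2, 4, 8, 16, 32] [1, 2, 4, 8, 16, 17, 32, 33, 48]

theorem mdY (h : H0 X t v w ρ ρ') {σ σ' n α β : G} {e : Bool} (l : ZR t v w σ n α false)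
    (l' : ZR t w v σ' (n * zz v w) β false) (k : β * α = bp (zz v w) e * α * β) :
    PC.Md (PY e) (PC.gl [zz v w, n, v, w, α, β, t]) := by
  obtain ⟨⟨b1, b2, b3⟩, -⟩ := sq0 h l l'
  have nz := comm_z l.nv l.nw
  have r1 : w * v = zz v w * v * w := by
    rw [(zv h.toD8).eq, ← wvw h.toD8, inv_mul_cancel_right]
  have r2 : α * w = n * w * α := by rw [← αw0 h l, inv_mul_cancel_right]
  have r3 : β * v = zz v w * n * v * β := by rw [← nz.eq, ← b1, inv_mul_cancel_right]
  have r4 : t * n = zz v w * n * t := by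
    rw [← nz.eq, mul_assoc, ← (tz h).eq, ← l.nt, inv_eq_of_mul_eq_one_right l.nn, ← mul_assoc, ← mul_assoc,
      l.nn, bp_false, one_mul]
  have r5 : t * α = v * α * t := by
    rw [← l.αv.eq, mul_assoc, ← h.tv.eq, ← l.αt, inv_eq_of_mul_eq_one_right l.αα, ← mul_assoc, ← mul_assoc,
      l.αα, bp_false, one_mul]
  have r6 : t * β = w * β * t := by
    rw [← l'.αv.eq, mul_assoc, ← h.tw.eq, ← l'.αt, inv_eq_of_mul_eq_one_right l'.αα, ← mul_assoc, ← mul_assoc,
      l'.αα, bp_false, one_mul]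
  refine ⟨by cases e <;> decide +kernel, PC.rel_of [0, 0, 0, 0, 0, 0, 0] [[], [1], [1, 2], [1, 2, 5],
    [1, 2, 4, 10], [1, 2, 7, 8, cond e 17 16], [1, 3, 4, 8, 20, 40]] (by cases e <;> decide +kernel)
    fun j hj => ?_⟩
  change j < 7 at hj
  change _ = PC.evk _ 7 _ ∧ ∀ i < j, _ = PC.evk _ 7 _ * _
  cases e <;> interval_cases j <;> refine ⟨?_, fun i hi => ?_⟩ <;> (try interval_cases i) <;>
    simp [PC.gl, PC.evk, Nat.testBit, -mul_left_inj, -mul_right_inj] <;>
    first
      | exact h.z2 | exact l.nn | exact h.vv | exact h.ww | exact l.αα | exact l'.αα | exact h.tt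
      | exact nz | exact (zv h.toD8).symm | exact l.nv.symm | exact (zw h.toD8).symm | exact l.nw.symm
      | exact r1 | exact l.αz | exact l.nα.symm | exact l.αv | exact r2 | exact b2 | exact b3 | exact r3
      | exact l'.αv | exact k | exact tz h | exact r4 | exact h.tv | exact h.tw | exact r5 | exact r6
      | simpa using k

end K0

theorem H0.zero0 (h : H0 X t v w ρ ρ') {P P' : Subgroup G} {σ σ' n α β : G}
    (l : Z0 P t v w σ n α false) (l' : Z0 P' t w v σ' (n * zz v w) β false) : t ∉ X ∧ Cl2 64 X := by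
  obtain ⟨o, ho, j, hj⟩ := Spc.dih l.αα l'.αα
  have c4 : ∀ x ∈ [t, v, w, n], Commute o x := fun x hx => ho x (by
    rw [show (α * β) ^ 4 = α * β * (α * β) * (α * β * (α * β)) by
      simp only [pow_succ, pow_zero, one_mul, mul_assoc]]
    exact ((sq0 h l.zr l'.zr).2 x hx).mul_left ((sq0 h l.zr l'.zr).2 x hx))
  replace l' := (l'.cj (c4 t (by simp)) (c4 w (by simp)) (c4 v (by simp))).zr
  rw [cj_of_comm ((c4 n (by simp)).mul_right (comm_z (c4 v (by simp)) (c4 w (by simp))))] at l'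
  generalize o * β * o⁻¹ = β at l' hj
  replace l := l.zr
  obtain ⟨⟨b1, b2, b3⟩, c0⟩ := sq0 h l l'
  obtain ⟨e, he⟩ : ∃ e, β * α = bp (zz v w) e * α * β := by
    have m := md h
    obtain ⟨x, hx, ex⟩ := (memS h).1 (h.syl.le_of_normalizes (isPGroup_zpowers (k := j)
      (x := α * β * (α * β)) (by rw [← pow_two, ← pow_mul, mul_comm, pow_mul, hj, one_pow]))
      (zpowers_le.2 (mem_centralizer_singleton_iff.2 (c0 t (by simp)))) (zpowers_le.2 (K0.nm (mp
        (by rw [cj_of_comm (c0 t (by simp))]; exact (m3 _ _ _).1)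
        (by rw [cj_of_comm (c0 v (by simp))]; exact (m3 _ _ _).2.1)
        (by rw [cj_of_comm (c0 w (by simp))]; exact (m3 _ _ _).2.2)))) (mem_zpowers _))
    obtain ⟨c, rfl, k⟩ := (by decide +kernel : ∀ x < 2 ^ 4, PS.mul x 2 = PS.mul 2 x → PS.mul x 4 = PS.mul 4 x →
      ∃ c : V4, x = ce c ∧ (cut (n0.app c) = cut c → cut c = cut (bp (.of 4) c.a))) x hx
      ((m.comm (inj h) hx (by decide)).1 (by rw [ex, ev]; exact c0 v (by simp)))
      ((m.comm (inj h) hx (by decide)).1 (by rw [ex, ew]; exact c0 w (by simp)))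
    rw [ec h] at ex
    rw [ψ_cut (k (ψ_inj h (by rw [← l.an h, ex, cj_of_comm (c0 n (by simp)).symm]))), map_bp ψ1, ψz] at ex
    refine ⟨c.a, ?_⟩
    have z2 : bp (zz v w) c.a * bp (zz v w) c.a = 1 := by
      cases c.a; exacts [one_mul 1, h.z2]
    calc _ = (α * β)⁻¹ := by
          rw [mul_inv_rev, inv_eq_of_mul_eq_one_right l.αα, inv_eq_of_mul_eq_one_right l'.αα]
      _ = (α * β * (α * β))⁻¹ * (α * β) := by group
      _ = _ := by rw [← ex, inv_eq_of_mul_eq_one_right z2, mul_assoc]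
  have m := mdY h l l' he
  set g := PC.gl [zz v w, n, v, w, α, β, t] with hg
  have i : (PY e).Inj g := m.inj_of (K := [1]) (by cases e <;> decide +kernel) (by
    simp only [List.mem_singleton, forall_eq]
    rw [show 1 = 2 ^ 0 from rfl, PC.ev_gen _ _ (show 0 < 7 by decide)]
    exact h.z1)
  have et : (PY e).ev g 64 = t := PC.ev_gen _ g (j := 6) (show 6 < 7 by decide)
  have gm : ∀ j < 7, g j ∈ m.sub := fun j hj => m.gmem hj
  have lS : closure ({t, v, w} : Set G) ≤ m.sub := le3 (gm 6 (by decide)) (gm 2 (by decide)) (gm 3 (by decide))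
  have cl : ∀ u ∈ m.sub, IsConj t u → ∃ s ∈ m.sub, u = s * t * s⁻¹ := by
    intro u hu c
    obtain ⟨x, hx, y, hy, rfl⟩ := m.kcl i (R := 0 :: 64 :: RY e) (by cases e <;> decide +kernel)
      (by cases e <;> decide) hu (sq_of_isConj h.tt c)
    rw [isConj_cj] at c
    rcases List.mem_cons.1 hx with rfl | hx
    · rw [PC.ev_zero] at c
      exact (h.tD (isConj_one_left.1 c ▸ one_mem _)).elim
    rcases List.mem_cons.1 hx with rfl | hx
    · exact ⟨y, hy, by rw [et]⟩
    · obtain ⟨k1, k2, k3⟩ := (by decide +kernel : ∀ e, ∀ x ∈ RY e, x < 2 ^ 7 ∧ 16 ≤ (PY e).cenN x ∧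
        ((PY e).cenN x = 16 → ∀ y < 2 ^ 7, (PY e).mul x y = (PY e).mul y x → (PY e).mul y y = 0)) e x hx
      exact (big h m i k1 k2 k3 c).elim
  have hS : SylIn 2 m.sub ⊤ := syl_of (m.pg_sub i) le_top fun Q hQ le _ x hx hn => by
    obtain ⟨s, hs, e⟩ := cl _ (hn t (gm 6 (by decide))) (isConj_iff.2 ⟨x, rfl⟩)
    exact (mul_mem_cancel_left (inv_mem hs)).1 (lS (cT h hQ (lS.trans le) (mul_mem (inv_mem (le hs)) hx)
      (comm_of_cj (by
        calc _ = s⁻¹ * (x * t * x⁻¹) * s := by group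
          _ = _ := by rw [e]; group))))
  have m6 := m.lev (k := 6) (show 6 ≤ 7 by decide) (by cases e <;> decide +kernel)
  have i6 := PC.Md.lev_inj i (k := 6) (show 6 ≤ 7 by decide)
  have le6 : m6.sub ≤ m.sub := m6.sub_le fun j hj => gm j (lt_trans hj (show 6 < 7 by decide))
  have or6 := m.lev_or (k := 6) rfl m6 h.tt
  have tn : t ∉ X := t_not h.pf h.tt hS or6 fun x hx hx' => by
    obtain ⟨_, ⟨y, hy, rfl⟩, e1⟩ := cl _ hx (isConj_iff.2 ⟨x, rfl⟩)
    obtain ⟨z, hz, e'⟩ := hx'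
    have hz' : z < 2 ^ 6 := hz
    rw [PC.Md.lev_ev (show 6 ≤ 7 by decide) hz', e1, ← et, ← m.cj hy (show 64 < 2 ^ 7 by decide)] at e'
    have := i _ (hz'.trans (show 2 ^ 6 < 2 ^ 7 by decide)) _ (PC.cj_lt m.ok hy (show 64 < 2 ^ 7 by decide)) e'
    have := (by decide +kernel : ∀ e, ∀ y < 2 ^ 7, 64 ≤ (PY e).cj y 64) e y hy
    omega
  have := h.nm
  have gl : Gl ⟨t, 1, 1, w, v, 1, 1⟩ X := ⟨h.nm, h.ix, h.pf, h.vX, h.wX⟩
  have xn : n ∈ X := by
    have := gl.comm α w
    rwa [αw0 h l, mul_inv_cancel_right] at this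
  have xz := mem_z h.vX h.wX
  have X6 : m6.sub ≤ X := m6.sub_le fun j hj => by
    change j < 6 at hj
    interval_cases j
    exacts [xz, xn, h.vX, h.wX, (l.ρn ▸ h.nm.conj_mem _ xn _ :), (l'.ρn ▸ h.nm.conj_mem _ (mul_mem xn xz) _ :)]
  refine ⟨tn, _, syl_X hS X6 le6 tn or6, m6.card_sub i6, ⟨v, m6.gmem (j := 2) (show 2 < 6 by decide), w,
    m6.gmem (j := 3) (show 3 < 6 by decide), fun c => h.z1 ?_⟩, ?_⟩
  · rw [zz, mul_assoc v w v, ← c.eq, ← mul_assoc, h.vv, one_mul, h.ww]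
  · rintro _ ⟨x, hx, rfl⟩ _ ⟨y, hy, rfl⟩ _ ⟨u, hu, rfl⟩
    rw [← m6.cm hx hy]
    exact (m6.comm i6 (PC.cm_lt m6.ok hx hy) hu).2 ((by decide +kernel : ∀ e, ∀ c < 4, ∀ u < 2 ^ 6,
      ((PY e).lev 6).mul c u = ((PY e).lev 6).mul u c) e _ ((by decide +kernel : ∀ e, ∀ x < 2 ^ 6, ∀ y < 2 ^ 6,
        ((PY e).lev 6).cm x y < 4) e x hx y hy) u hu)

end CL.HS8
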