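import Cfsg.Agent.INV.HS8.K0m
import Cfsg.Agent.INV.HS8.K0z

/-!
The case `C(t)` has Sylow subgroup `S = ⟨t⟩ × D`: the data on both sides.
-/

set_option autoImplicit false
set_option linter.unusedSectionVars false
set_option linter.unusedSimpArgs false
set_option synthInstance.maxSize 16384

open Subgroup CL.TwoS CL.MSS CL.K

namespace CL.HS8

variable {G : Type*} [Group G] [Finite G] {X : Subgroup G} {t v w ρ ρ' : G}

open K0 Ltb

namespace K0

theorem ψ_sw (h : D8 v w ρ ρ') {e : V4} (he : e.v = false) : ψ t w v e = ψ t v w e := by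
  rw [ψ, ψ, W4, W4, he, zsw h]; rfl

/-- A 2-element centralising `S` lies in `⟨t, z⟩`. -/
theorem cenS (h : H0 X t v w ρ ρ') {u : G} {j : ℕ} (hj : u ^ 2 ^ j = 1) (c1 : Commute u t) (c2 : Commute u v)
    (c3 : Commute u w) : ∃ e : V4, e.v = false ∧ u = ψ t v w e := by
  have m := md h
  obtain ⟨x, hx, ex⟩ := (memS h).1 (h.syl.le_of_normalizes (isPGroup_zpowers hj)
    (zpowers_le.2 (mem_centralizer_singleton_iff.2 c1)) (zpowers_le.2 (K0.nm (mp
      (by rw [cj_of_comm c1]; exact (m3 _ _ _).1) (by rw [cj_of_comm c2]; exact (m3 _ _ _).2.1)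
      (by rw [cj_of_comm c3]; exact (m3 _ _ _).2.2)))) (mem_zpowers _))
  obtain ⟨c, k, rfl⟩ := (by decide +kernel : ∀ x < 2 ^ 4, PS.mul x 2 = PS.mul 2 x → PS.mul x 4 = PS.mul 4 x →
    ∃ c : V4, c.v = false ∧ x = ce c) x hx
    ((m.comm (inj h) hx (by decide)).1 (by rw [ex, ev]; exact c2))
    ((m.comm (inj h) hx (by decide)).1 (by rw [ex, ew]; exact c3))
  exact ⟨c, k, ex.symm.trans (ec h c)⟩

theorem aux (h : H0 X t v w ρ ρ') {σ σ' n α m β : G} (l : ZR t v w σ n α false) (l' : ZR t w v σ' m β true)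
    {e : V4} (h1 : e.v = false) (h2 : e.t = true) (hm : m = n * ψ t v w e) : False := by
  have h' := h.swap
  have b1 := αw h' l'
  have b2 : β * n * β⁻¹ = m * (ψ t v w e * w) := by
    rw [show n = m * ψ t v w e by rw [hm, mul_assoc, mul h, V4.mul_self, ψ1, mul_one], cjm,
      cj_of_comm l'.nα.symm, ← ψ_sw h.toD8 h1, l'.aα h',
      (by decide +kernel : ∀ e : V4, e.t = true → al.app e = e * .of 2) e h2, ← mul h', ψv]
  have k : β * α * β * t * (β * α * β)⁻¹ = ψ t v w (.of 1 * (.of 6 * e)) := by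
    rw [show β * α * β * t * (β * α * β)⁻¹ = β * (α * (β * t * β⁻¹) * α⁻¹) * β⁻¹ by group, l'.αt, cjm α t, l.αt,
      αw0 h l, cjm β (t * v), cjm β t, cjm β n, l'.αt, b1, b2, cj_of_comm l'.αv, ← mul h, ← mul h, ψt, ψ6,
      ← wvw h.toD8, wi h.toD8]
    calc _ = t * w * v * (m⁻¹ * w * m⁻¹⁻¹) * ψ t v w e * (w * w) := by group
      _ = _ := by rw [cj_of_comm l'.nv.inv_left, h.ww]; group
  refine h.z_not ((isConj_iff.2 ⟨_, k⟩).trans (IsConj.symm ?_))
  rcases (by decide +kernel : ∀ e : V4, e.v = false → e.t = true → cut (.of 1 * (.of 6 * e)) = cut (.of 2) ∨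
    cut (.of 1 * (.of 6 * e)) = cut (.of 6)) e h1 h2 with e | e <;> rw [ψ_cut e]
  · exact isConj_iff.2 ⟨ρ, h.ρz.trans ψv.symm⟩
  · exact (isConj_iff.2 ⟨ρ, h.ρz⟩).trans (isConj_iff.2 ⟨ρ, h.ρv.trans ψ6.symm⟩)

end K0

theorem H0.both0 (h : H0 X t v w ρ ρ') (c : IsConj t (t * zz v w)) : ∃ P P' σ σ' n α β μ,
    Z0 P t v w σ n α μ ∧ Z0 P' t w v σ' (n * zz v w) β μ := by
  have h' := h.swap
  have zs := zsw h.toD8
  obtain ⟨P, σ, n, α, μ, l⟩ := h.exists_z0 c
  obtain ⟨P', σ', m, β, μ', l'⟩ := h'.exists_z0 (zs ▸ c)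
  have tz2 : ∀ {g}, Commute g v → Commute g w → g * t * g⁻¹ = t * zz v w → g * (t * zz v w) * g⁻¹ = t :=
    fun a b e => by rw [cjm, e, cj_of_comm (comm_z a b), mul_assoc, h.z2, mul_one]
  have cj : ∀ g k : G, g * k * t * (g * k)⁻¹ = g * (k * t * k⁻¹) * g⁻¹ := fun g k => by group
  let N : Subgroup G := subOfMul {g | Commute g v ∧ Commute g w ∧ (g * t * g⁻¹ = t ∨ g * t * g⁻¹ = t * zz v w)}
    ⟨Commute.one_left _, Commute.one_left _, .inl (by group)⟩ fun x ⟨a1, a2, a3⟩ y ⟨b1, b2, b3⟩ =>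
      ⟨a1.mul_left b1, a2.mul_left b2, by
        rw [cj]
        rcases b3 with e | e <;> rw [e]
        · exact a3
        · rcases a3 with e' | e'
          · right; rw [cjm, e', cj_of_comm (comm_z a1 a2)]
          · exact .inl (tz2 a1 a2 e')⟩
  obtain ⟨s1, s2, s3⟩ := m3 t v w
  have p4 : ∀ {x y : G} {μ : Bool}, x * x = bp y μ → y * y = 1 → IsPGroup 2 (zpowers x) := fun {x y μ} a b =>
    isPGroup_zpowers (k := 2) (by
      rw [show x ^ 2 ^ 2 = x * x * (x * x) by norm_num [pow_succ, mul_assoc], a]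
      cases μ; exacts [one_mul 1, b])
  obtain ⟨o, -, ho, Q, hQ, q1, q2⟩ := join (R := closure {t, v, w}) (N := N)
    (fun g ⟨a1, a2, a3⟩ => K0.nm (mp (by
      rcases a3 with e | e <;> rw [e]
      exacts [s1, mul_mem s1 (mem_z s2 s3)]) (by rwa [cj_of_comm a1]) (by rwa [cj_of_comm a2])))
    (fun g ⟨a1, a2, a3⟩ => ⟨1, fun x hx => (mem_centralizer_singleton_iff.1 (le3 (H := centralizer {g ^ 2 ^ 1})
      (mem_centralizer_singleton_iff.2 (Commute.symm (comm_of_cj (by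
        rw [pow_one, pow_two, cj]
        rcases a3 with e | e
        · rw [e, e]
        · rw [e, tz2 a1 a2 e]))))
      (mem_centralizer_singleton_iff.2 (a1.pow_left _).symm)
      (mem_centralizer_singleton_iff.2 (a2.pow_left _).symm) hx)).symm⟩)
    (p4 l.nn h.z2) (zpowers_le.2 ⟨l.nv, l.nw, .inr l.nt⟩)
    (p4 l'.nn h'.z2) (zpowers_le.2 ⟨l'.nw, l'.nv, .inr (zs ▸ l'.nt)⟩)
  replace l' := l'.cj (ho t s1) (ho w s3) (ho v s2)
  replace q2 := q2 m (mem_zpowers m)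
  generalize o * m * o⁻¹ = m at l' q2
  obtain ⟨j, hj⟩ := isPGroup_iff_forall_mem.1 hQ.pgroup _ (mul_mem (inv_mem (q1 (mem_zpowers n))) q2)
  obtain ⟨e, he, hm⟩ := cenS h hj (comm_of_cj (by rw [cj, l'.nt, zs, ← l.nt]; group))
    (l.nv.inv_left.mul_left l'.nw) (l.nw.inv_left.mul_left l'.nv)
  replace hm := inv_mul_eq_iff_eq_mul.1 hm
  have sq : cut (bp (.of 4) μ') = cut (bp (.of 4) μ * (n0.app e * e)) := ψ_inj h (by
    rw [← ψ_sw h.toD8 (e := bp _ μ') (by cases μ' <;> rfl), ← l'.zr.n_sq h', hm, mul_assoc,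
      mv' (l.zr.an h) (by decide), ← mul_assoc, l.zr.n_sq h, mul h, mul h])
  cases ht : e.t
  · obtain rfl : μ' = μ := (by decide +kernel : ∀ (e : V4) (μ μ' : Bool), e.t = false →
      cut (bp (.of 4) μ') = cut (bp (.of 4) μ * (n0.app e * e)) → μ' = μ) e μ μ' ht sq
    rw [ψ_cut ((by decide +kernel : ∀ e : V4, e.t = false → e.v = false → cut e = cut (bp (.of 4) e.a))
      e ht he), map_bp ψ1, ψz] at hm
    subst hm
    cases ha : e.a <;> rw [ha] at l'
    · have := l'.shift h'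
      rw [bp_false, mul_one, zs] at this
      exact ⟨_, _, _, _, _, _, _, _, l, this⟩
    · exact ⟨_, _, _, _, _, _, _, _, l, l'⟩
  · exfalso
    obtain rfl : μ' = !μ := (by decide +kernel : ∀ (e : V4) (μ μ' : Bool), e.t = true →
      cut (bp (.of 4) μ') = cut (bp (.of 4) μ * (n0.app e * e)) → μ' = !μ) e μ μ' ht sq
    cases μ
    · exact aux h l.zr l'.zr he ht hm
    · exact aux h' l'.zr l.zr he ht (by
        rw [ψ_sw h.toD8 he, hm, mul_assoc, mul h, V4.mul_self, ψ1, mul_one])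

end CL.HS8
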