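import Cfsg.Agent.INV.HS8.Def2
import Cfsg.Agent.INV.HS8.KU

/-!
The case `C(t)` has Sylow subgroup `S = ⟨t⟩ × D`: models of `S` and `E = ⟨t, v, z⟩`.
-/

set_option autoImplicit false
set_option linter.unusedSectionVars false
set_option linter.unusedSimpArgs false
set_option synthInstance.maxSize 16384

open Subgroup CL.TwoS CL.MSS CL.K

namespace CL.HS8

variable {G : Type*} [Group G] [Finite G] {X : Subgroup G} {t v w ρ ρ' : G}

namespace K0

open Ltb

section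
variable (h : D8 v w ρ ρ')
include h

theorem vi : v⁻¹ = v := inv_eq_of_mul_eq_one_right h.vv
theorem wi : w⁻¹ = w := inv_eq_of_mul_eq_one_right h.ww

theorem zsw : zz w v = zz v w := by
  rw [← inv_eq_of_mul_eq_one_right h.z2, zz, zz]
  simp only [mul_inv_rev, vi h, wi h, mul_assoc]

theorem wvw : w * v * w⁻¹ = v * zz v w := by
  rw [wi h, zz, ← mul_assoc, ← mul_assoc, ← mul_assoc, h.vv, one_mul]

theorem zv : Commute (zz v w) v := by
  rw [commute_iff_eq]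
  conv_lhs => rw [zz]
  rw [← zsw h, zz]; group

theorem zw : Commute (zz v w) w := by
  rw [commute_iff_eq]
  conv_rhs => rw [zz]
  rw [← zsw h, zz]; group

theorem dsw : D8 w v ρ' ρ := by
  refine ⟨h.ww, h.vv, ?_, ?_, ?_, ?_, ?_, ?_⟩ <;> rw [zsw h]
  exacts [h.z1, h.z2, h.ρ'z, h.ρ'w, h.ρz, h.ρv]

end

theorem zD (v w : G) : zz v w ∈ DD v w := by
  have a : v ∈ DD v w := subset_closure (by simp)
  have b : w ∈ DD v w := subset_closure (by simp)
  exact mul_mem (mul_mem (mul_mem a b) a) b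

theorem mem_z {H : Subgroup G} (a : v ∈ H) (b : w ∈ H) : zz v w ∈ H :=
  mul_mem (mul_mem (mul_mem a b) a) b

theorem comm_z {g : G} (a : Commute g v) (b : Commute g w) : Commute g (zz v w) :=
  ((a.mul_right b).mul_right a).mul_right b

theorem cj_z (g v w : G) : g * zz v w * g⁻¹ = zz (g * v * g⁻¹) (g * w * g⁻¹) := by
  unfold zz; group

def PS : PC := ⟨4, 0x7006005004003002001000002003001000001000000000, 0x0, 0xe00f00d00c00b00a009008006007005004003002001000⟩ -- z v w t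

/-- The generators of `S`. -/
def gS (t v w : G) : ℕ → G := PC.gl [zz v w, v, w, t]

/-- The model of `E`; the bit `a` stands for `z`, the bit `b` is not used. -/
def ψ (t v w : G) : V4 → G := W4 t v (zz v w) 1

def cut (e : V4) : V4 := ⟨e.t, e.v, e.a, false⟩
def ce (e : V4) : ℕ := cond e.a 1 0 + cond e.v 2 0 + cond e.t 8 0

/-- `v ↦ v z`, `z ↦ v`. -/
def r0 : L4 := .of 1 6 2 8
def i0 : L4 := .of 1 4 6 8
/-- `v ↦ v z`. -/
def s0 : L4 := .of 1 6 4 8
/-- `t ↦ t z`. -/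
def n0 : L4 := .of 5 2 4 8

theorem ψt : ψ t v w (.of 1) = t := by simp [ψ, W4, V4.of, Nat.testBit]
theorem ψv : ψ t v w (.of 2) = v := by simp [ψ, W4, V4.of, Nat.testBit]
theorem ψz : ψ t v w (.of 4) = zz v w := by simp [ψ, W4, V4.of, Nat.testBit]
theorem ψ6 : ψ t v w (.of 6) = v * zz v w := by simp [ψ, W4, V4.of, Nat.testBit]
theorem ψ5 : ψ t v w (.of 5) = t * zz v w := by simp [ψ, W4, V4.of, Nat.testBit]
theorem ψ3 : ψ t v w (.of 3) = t * v := by simp [ψ, W4, V4.of, Nat.testBit]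
theorem ψ1 : ψ t v w 1 = 1 := W4_one _ _ _ _
theorem ψ_cut {e f : V4} (k : cut e = cut f) : ψ t v w e = ψ t v w f := by
  obtain ⟨_, _, _, _ | _⟩ := e <;> obtain ⟨_, _, _, _ | _⟩ := f <;> cases k <;> simp [ψ, W4]
theorem ce_lt : ∀ e, ce e < 2 ^ 4 := by decide

variable (h : H0 X t v w ρ ρ')
include h

theorem tz : Commute t (zz v w) := comm_z h.tv h.tw

theorem c4 : C4 t v (zz v w) 1 := ⟨h.tt, h.vv, h.z2, one_mul 1, h.tv, tz h, Commute.one_right _,
  (zv h.toD8).symm, Commute.one_right _, Commute.one_right _⟩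

theorem mul (e f : V4) : ψ t v w e * ψ t v w f = ψ t v w (e * f) := ((c4 h).mul e f).symm

theorem mul' (e f : V4) (y : G) : ψ t v w e * (ψ t v w f * y) = ψ t v w (e * f) * y := by
  rw [← mul_assoc, mul h]

theorem ψi (e : V4) : (ψ t v w e)⁻¹ = ψ t v w e :=
  inv_eq_of_mul_eq_one_right (by rw [mul h, V4.mul_self, ψ1])

theorem act_of {g : G} {f : L4} (h1 : g * t * g⁻¹ = ψ t v w f.t) (h2 : g * v * g⁻¹ = ψ t v w f.v)
    (h3 : g * zz v w * g⁻¹ = ψ t v w f.a) (h4 : f.b = .of 8) : Act (ψ t v w) g f :=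
  Act.of_gen (c4 h) h1 h2 h3 (by rw [h4]; simp [W4, V4.of, Nat.testBit])

theorem act_ψ (e : V4) : Act (ψ t v w) (ψ t v w e) 1 := fun f => by
  rw [L4.one_app, mul h, mul_comm, ← mul h, mul_inv_cancel_right]

theorem act_w : Act (ψ t v w) w s0 := act_of h (by rw [cj_of_comm h.tw.symm]; exact ψt.symm)
  ((wvw h.toD8).trans ψ6.symm)
  (by rw [cj_of_comm (zw h.toD8).symm]; exact ψz.symm) rfl

theorem act_r {σ : G} (h1 : Commute σ t) (h2 : σ * zz v w * σ⁻¹ = v) (h3 : σ * v * σ⁻¹ = v * zz v w) :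
    Act (ψ t v w) σ r0 := act_of h (by rw [cj_of_comm h1]; exact ψt.symm)
  (h3.trans ψ6.symm) (h2.trans ψv.symm) rfl

theorem md : PC.Md PS (gS t v w) := by
  refine ⟨by decide +kernel, PC.rel_of [0, 0, 0, 0] [[], [1], [1, 3], [1, 2, 4]] (by decide +kernel)
    fun k hk => ?_⟩
  have := wvw h.toD8
  change k < 4 at hk
  change _ = PC.evk _ 4 _ ∧ ∀ j < k, _ = PC.evk _ 4 _ * _
  interval_cases k <;> refine ⟨?_, fun j hj => ?_⟩ <;> (try interval_cases j) <;>
    simp [gS, PC.gl, PC.evk, Nat.testBit, -mul_left_inj, -mul_right_inj]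
  exacts [h.z2, h.vv, (zv h.toD8).symm, h.ww, (zw h.toD8).symm, by
    rw [(zv h.toD8).eq, ← this, inv_mul_cancel_right], h.tt, tz h, h.tv, h.tw]

omit h in
theorem ez : PS.ev (gS t v w) 1 = zz v w := PC.ev_gen _ _ (j := 0) (by decide)
omit h in
theorem ev : PS.ev (gS t v w) 2 = v := PC.ev_gen _ _ (j := 1) (by decide)
omit h in
theorem ew : PS.ev (gS t v w) 4 = w := PC.ev_gen _ _ (j := 2) (by decide)
omit h in
theorem et : PS.ev (gS t v w) 8 = t := PC.ev_gen _ _ (j := 3) (by decide)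

theorem inj : PS.Inj (gS t v w) := (md h).inj_of (K := [1, 8, 9]) (by decide +kernel) (by
  simp only [List.mem_cons, List.not_mem_nil, or_false, forall_eq_or_imp, forall_eq]
  refine ⟨ez (t := t) ▸ h.z1, fun e => h.tD ?_, fun e => h.tD ?_⟩
  · rw [et] at e; exact e ▸ one_mem _
  · rw [show 9 = PS.mul 1 8 by decide +kernel, (md h).mul (by decide) (by decide), ez, et] at e
    exact eq_inv_of_mul_eq_one_right e ▸ inv_mem (zD v w))

theorem subS : (md h).sub = closure {t, v, w} := by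
  have a : t ∈ closure ({t, v, w} : Set G) := subset_closure (by simp)
  have b : v ∈ closure ({t, v, w} : Set G) := subset_closure (by simp)
  have c : w ∈ closure ({t, v, w} : Set G) := subset_closure (by simp)
  refine le_antisymm ((md h).sub_le fun j hj => ?_) ((closure_le _).2 ?_)
  · change j < 4 at hj
    interval_cases j
    exacts [mem_z b c, b, c, a]
  · rintro x (rfl | rfl | rfl)
    exacts [(md h).gmem (j := 3) (by decide), (md h).gmem (j := 1) (by decide),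
      (md h).gmem (j := 2) (by decide)]

theorem memS {x : G} : x ∈ closure ({t, v, w} : Set G) ↔ ∃ y < 2 ^ 4, PS.ev (gS t v w) y = x := by
  rw [← subS h]; rfl

theorem ec (e : V4) : PS.ev (gS t v w) (ce e) = ψ t v w e := by
  have a := (zv h.toD8).eq
  have b := (tz h).eq
  have c := h.tv.eq
  change PC.evk _ 4 _ = _
  obtain ⟨_ | _, _ | _, _ | _, _ | _⟩ := e <;>
    simp [ce, gS, ψ, W4, PC.gl, PC.evk, Nat.testBit, a, b, c, ← mul_assoc] <;>
    rw [mul_assoc, ← b, ← mul_assoc]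

theorem ψ_inj {e f : V4} (k : ψ t v w e = ψ t v w f) : cut e = cut f :=
  (by decide +kernel : ∀ e f, ce e = ce f → cut e = cut f) e f
    (inj h _ (ce_lt e) _ (ce_lt f) (by rw [ec h, ec h, k]))

theorem ψS (e : V4) : ψ t v w e ∈ closure ({t, v, w} : Set G) := (memS h).2 ⟨_, ce_lt e, ec h e⟩

theorem memE {x : G} : x ∈ closure ({t, v, zz v w} : Set G) ↔ ∃ e, x = ψ t v w e := by
  refine ⟨fun hx => ?_, ?_⟩
  · refine (closure_le (subOfMul {x | ∃ e, x = ψ t v w e} ⟨1, ψ1.symm⟩ ?_)).2 ?_ hx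
    · rintro _ ⟨e, rfl⟩ _ ⟨f, rfl⟩
      exact ⟨_, mul h e f⟩
    · rintro x (rfl | rfl | rfl)
      exacts [⟨_, ψt.symm⟩, ⟨_, ψv.symm⟩, ⟨_, ψz.symm⟩]
  · rintro ⟨e, rfl⟩
    have b : ∀ x ∈ ({t, v, zz v w} : Set G), ∀ i, bp x i ∈ closure ({t, v, zz v w} : Set G) := by
      rintro x hx (_ | _)
      exacts [one_mem _, subset_closure hx]
    refine mul_mem (mul_mem (mul_mem (b _ (by simp) _) (b _ (by simp) _)) (b _ (by simp) _)) ?_
    cases e.b <;> exact one_mem _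

/-- `C_R(t) = S`. -/
theorem cT {R : Subgroup G} (hR : IsPGroup 2 R) (hS : closure ({t, v, w} : Set G) ≤ R) {x : G}
    (hx : x ∈ R) (ht : Commute x t) : x ∈ closure ({t, v, w} : Set G) :=
  (h.syl.max (R ⊓ centralizer {t}) hR.to_inf_left (le_inf hS h.syl.le) inf_le_right).le
    ⟨hx, mem_centralizer_singleton_iff.2 ht⟩

omit h in
noncomputable def sp (a b : ℕ) (e : V4) : ℕ := PS.mul (PS.mul (cond e.t 8 0) (cond e.v a 0)) (cond e.a b 0)

/-- `E` is Sylow in its centraliser. -/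
theorem cV {R : Subgroup G} (hR : IsPGroup 2 R) (hE : ∀ e, ψ t v w e ∈ R) {g : G} (hg : g ∈ R)
    (a : Act (ψ t v w) g 1) : ∃ e, g = ψ t v w e := by
  have := Fact.mk Nat.prime_two
  have m := md h
  have cm : ∀ e, Commute g (ψ t v w e) := fun e => comm_of_cj (by rw [a, L4.one_app])
  obtain ⟨x, hx, le⟩ := h.syl.exists_conj_le (R := R ⊓ centralizer {t}) hR.to_inf_left inf_le_right
  have hx' : Commute x t := mem_centralizer_singleton_iff.1 hx
  have k : ∀ e, ∃ y < 2 ^ 4, PS.ev (gS t v w) y = x * ψ t v w e * x⁻¹ := fun e =>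
    (memS h).1 (le (conj_mem_cj ⟨hE e, h.syl.le (ψS h e)⟩))
  obtain ⟨a, ha, ea⟩ := k (.of 2)
  obtain ⟨b, hb, eb⟩ := k (.of 4)
  obtain ⟨c, hc, ec'⟩ := (memS h).1 (le (conj_mem_cj (x := g)
    ⟨hg, mem_centralizer_singleton_iff.2 (ψt (t := t) (v := v) (w := w) ▸ cm (.of 1) :)⟩))
  have l : ∀ (i : Bool) {a : ℕ}, a < 2 ^ 4 → cond i a 0 < 2 ^ 4 := fun i a ha => by
    cases i; exacts [Nat.two_pow_pos 4, ha]
  have eb' : ∀ (i : Bool) (a : ℕ), PS.ev (gS t v w) (cond i a 0) = bp (PS.ev (gS t v w) a) i := fun i a => by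
    cases i; exacts [PC.ev_zero _ _, rfl]
  have es : ∀ e, PS.ev (gS t v w) (sp a b e) = x * ψ t v w e * x⁻¹ := fun e => by
    rw [sp, m.mul (PC.mul_lt m.ok (l _ (by decide)) (l _ ha)) (l _ hb), m.mul (l _ (by decide)) (l _ ha), eb',
      eb', eb', et, ea, eb, ψv, ψz, ψ, cj_W4, cj_of_comm hx', W4]
    cases e.b <;> simp
  have sq : ∀ {a : ℕ} {e : V4}, a < 2 ^ 4 → PS.ev (gS t v w) a = x * ψ t v w e * x⁻¹ → PS.mul a a = 0 :=
    fun ha e => (m.eq_one (inj h) (PC.mul_lt m.ok ha ha)).1 (by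
      rw [m.mul ha ha, e, ← cjm, mul h, V4.mul_self, ψ1]; group)
  obtain ⟨e, rfl⟩ := (by decide +kernel : ∀ a < 2 ^ 4, PS.mul a a = 0 → ∀ b < 2 ^ 4, PS.mul b b = 0 →
    PS.mul a b = PS.mul b a → (∀ e, sp a b e = 0 → ce e = 0) → ∀ c < 2 ^ 4, PS.mul c a = PS.mul a c →
    PS.mul c b = PS.mul b c → ∃ e, c = sp a b e) a ha (sq ha ea) b hb (sq hb eb)
    ((m.comm (inj h) ha hb).1 (by rw [ea, eb, comm_cj, commute_iff_eq, mul h, mul h]; rfl))
    (fun e he => (m.eq_one (inj h) (ce_lt e)).1 (by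
      have := es e
      rw [he, PC.ev_zero] at this
      rw [ec h]; simpa using this.symm)) c hc
    ((m.comm (inj h) hc ha).1 (by rw [ea, ec', comm_cj]; exact cm _))
    ((m.comm (inj h) hc hb).1 (by rw [eb, ec', comm_cj]; exact cm _))
  exact ⟨e, TwoS.cj_inj.1 (ec'.symm.trans (es e))⟩

theorem stabE {R : Subgroup G} (hR : IsPGroup 2 R) (hE : ∀ e, ψ t v w e ∈ R) {g : G}
    (hg : ∀ x ∈ R, g * x * g⁻¹ ∈ R) (hc : Act (ψ t v w) g 1) :
    ∃ e, ∀ x ∈ R, g * x * g⁻¹ = ψ t v w e * x * (ψ t v w e)⁻¹ := by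
  have le : ∀ {R : Subgroup G}, (∀ e, ψ t v w e ∈ R) → closure ({t, v, zz v w} : Set G) ≤ R :=
    fun k x hx => by obtain ⟨e, rfl⟩ := (memE h).1 hx; exact k e
  obtain ⟨_, he, k⟩ := stab (E := closure {t, v, zz v w}) ⟨fun x hx y hy => by
      obtain ⟨e, rfl⟩ := (memE h).1 hx
      obtain ⟨f, rfl⟩ := (memE h).1 hy
      rw [mul h, mul h, mul_comm], h.syl.pgroup.to_le fun x hx => by
      obtain ⟨e, rfl⟩ := (memE h).1 hx; exact ψS h e, fun Q hQ h1 h2 => le_antisymm (fun g hg =>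
      (memE h).2 (cV h hQ (fun e => h1 ((memE h).2 ⟨e, rfl⟩)) hg fun e => by
        rw [L4.one_app]; exact cj_of_comm (h2 hg _ ((memE h).2 ⟨e, rfl⟩)).symm)) h1⟩ hR (le hE) hg
    fun x hx => by
      obtain ⟨e, rfl⟩ := (memE h).1 hx
      exact comm_of_cj (by rw [hc, L4.one_app])
  obtain ⟨e, rfl⟩ := (memE h).1 he
  exact ⟨e, k⟩

end K0

end CL.HS8
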