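import Cfsg.Agent.INV.HS8.L5e

/-!
Configuration K8 with types B, T: joining the two sides over the group of order 128.
-/

set_option autoImplicit false

open Subgroup CL.TwoS CL.MSS CL.K

namespace CL.HS8

variable {G : Type*} [Group G] {d : Dat G}

theorem pow_mul_mem {D : Subgroup G} {A s : G} (hA : A ∈ normalizer (D : Set G)) (hs : s ∈ D) (n : ℕ) :
    (A ^ n)⁻¹ * (A * s) ^ n ∈ D := by
  induction n with
  | zero => simpa using one_mem D
  | succ n ih =>
    have := mul_mem ((mem_normalizer_iff.1 (inv_mem hA) _).1 ih) hs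
    rwa [show A⁻¹ * ((A ^ n)⁻¹ * (A * s) ^ n) * A⁻¹⁻¹ * s = (A ^ (n + 1))⁻¹ * (A * s) ^ (n + 1) by
      rw [pow_succ, pow_succ]; group] at this

namespace L5h

open PC PC.E L5d

def T1 : PC := ⟨7, 0x3f03e03d03c03a03b03803903403503603703103003303202d02c02f02e02802902a02b02602702402502302202102001f01e01d01c01a01b01801901401501601701101001301200d00c00f00e00800900a00b00600700400500300200100001e01f01c01d01801901a01b01601701401501001101201300d00c00f00e00b00a00900800500400700600300200100000f00e00d00c00b00a009008007006005004003002001000007006005004003002001000003002001000001000000000, 0x1000000000000, 0x7f07e07d07c07807907a07b07407507607707307207107006f06e06d06c06806906a06b06406506606706306206106005e05f05c05d05b05a05905805505405705605005105205304d04c04f04e04804904a04b04604704404504304204104003f03e03d03c03903803b03a03703603503403103003303202d02c02f02e02b02a02902802502402702602302202102001e01f01c01d01a01b01801901601701401501201301001100f00e00d00c00b00a009008007006005004003002001000⟩ -- b a f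 w x1 t v
def SA : ℕ := 0x4014010000000000000000000000000000004040010000020004000010000000000000000000000000014004000010000000000000004000008010000000000000000000000000000000000000000000000000000000000000008010004000004010000020000000000000004010000020000000000000000000000000010004014000000000000000010004014000000000000000000000000000000000000000000000000000020020000000040040000000060020040000000000000000
def RA : ℕ := 0x7c07c07c07c00000000000000000000000007007007007006d06d06d06d00000000000000000000000006106106106100000000000005a05a05a05a00000000000000000000000000000000000000000000000000000000000004004004004003d03d03d03d00000000000003503503503500000000000000000000000002802802802800000000000002002002002000000000000000000000000000000000000000000000000000d00c00d00c008009009008004004004004003002001000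

/-- the generators -/
def g1 (d : Dat G) (φ x1 : G) (i : ℕ) : G := [d.b, d.a, φ, d.w, x1, d.t, d.v].getD i 1
/-- their codes in the group of order 256 -/
def cs : List ℕ := [1, 2, 4, 8, 16, 64, 128]
/-- the actions of `α` and `x2` -/
def cA (b : Bool) : List ℕ := cond b [1, 3, 4, 12, 20, 97, 64] [1, 2, 4, 8, 18, 40, 90]
/-- words -/
def wd (α y : G) : List Bool → G
  | [] => 1
  | b :: l => cond b α y * wd α y l
/-- the action of a word -/
noncomputable def θw : List Bool → ℕ → ℕ
  | [], y => y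
  | b :: l, y => T1.app (cA b) (θw l y)
/-- the dihedral group -/
def Ws : List (List Bool) := [[], [false], [true, false, true], [true, false, true, false], [true], [true, false],
  [false, true], [false, true, false]]
/-- classes with a large centraliser -/
def BA : List ℕ := [1, 2, 3, 4, 8, 9, 12, 13]

theorem ck : T1.ok = true ∧ T1.relb ((QQ false).lev 8) cs = true ∧ T1.injb [1, 2, 3] = true ∧
    T1.clsb SA RA (fun _ r => BA.elem r || Nat.beq r 64 || Nat.beq r 90 || Ws.any fun l => Nat.beq (θw l 32) r) = true ∧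
    (∀ r ∈ BA, 32 < ((QQ false).lev 8).cenN (((QQ false).lev 8).appk cs r 7)) ∧ T1.app (cA false) 64 = 90 ∧
    (∀ l ∈ Ws, ∀ k < 7, θw l (θw l (θw l (θw l (2 ^ k)))) = 2 ^ k) ∧
    ∀ k < 7, cs.getD k 0 < 2 ^ 8 ∧ cs.getD k 0 &&& 32 = 0 ∧ (cA true).getD k 0 < 2 ^ 7 ∧ (cA false).getD k 0 < 2 ^ 7 ∧
      ((QQ false).lev 8).app ca (cs.getD k 0) = ((QQ false).lev 8).appk cs ((cA true).getD k 0) 7 ∧
      ((QQ false).lev 8).cj 32 (cs.getD k 0) = ((QQ false).lev 8).appk cs ((cA false).getD k 0) 7 := by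
  decide +kernel

theorem n7 : T1.n = 7 := rfl

attribute [local irreducible] PC.app PC.appk PC.cj PC.mul PC.iv PC.ce PC.lk PC.evk QQ T1

theorem join [Finite G] {ρ φ α ρ' x1 x2 : G} {e : Bool} (k : D5 d ρ φ α ρ' x1 x2 e) (h : Hy d) (c : C1 d)
    {P' M' : Subgroup G} (lo' : Lo d.swap A8T P' M' ρ') (φM : φ ∈ M') (x1M : x1 ∈ M') :
    ∃ o, (∀ m, Commute o (d.φ5 m)) ∧ Commute o φ ∧ Commute o x1 ∧ ∃ Q : Subgroup G, IsPGroup 2 Q ∧ α ∈ Q ∧
      ∀ y ∈ P', o * y * o⁻¹ ∈ Q := by
  obtain ⟨c1, c2, c3, c4, c5, c6, c7, c8⟩ := ck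
  have m8 := (k.md8 h.toRl false 1 1 1).2.2
  have i8 := k.inj8 h.toRl false 1 1 1
  have eg := fun j (hj : j < 8) => (((QQ false).lev 8).ev_gen (gQ d φ x1 x2 1 1 1) (j := j) hj).symm
  have hg : ∀ j < 7, g1 d φ x1 j = ((QQ false).lev 8).ev (gQ d φ x1 x2 1 1 1) (cs.getD j 0) := fun j hj => by
    interval_cases j
    exacts [eg 0 (by decide), eg 1 (by decide), eg 2 (by decide), eg 3 (by decide), eg 4 (by decide),
      eg 6 (by decide), eg 7 (by decide)]
  have m : Md T1 (g1 d φ x1) := ⟨c1, m8.rel_of c2 fun j hj => hg j (n7 ▸ hj)⟩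
  have i := inj_of h.toRl m c3 (by rw [n7]; decide) rfl rfl
  have em := fun y => m8.appk (c := cs) (x := y) (g' := g1 d φ x1) 7 fun j hj _ => ⟨(c8 j hj).1, hg j hj⟩
  have em' : ∀ y, T1.ev (g1 d φ x1) y = ((QQ false).lev 8).ev (gQ d φ x1 x2 1 1 1) (((QQ false).lev 8).appk cs y 7) :=
    fun y => by rw [PC.ev, n7]; exact (em y).2
  have a1 : ∀ b, AM T1 (g1 d φ x1) (cond b α x2) (T1.app (cA b)) := fun b => m.am fun j hj => by
    rw [n7] at hj ⊢
    obtain ⟨b1, b2, b3, b4, b5, b6⟩ := c8 j hj
    rw [em', hg j hj]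
    cases b
    · exact ⟨b4, by rw [← b6, m8.cj (by decide : 32 < 2 ^ 8) b1]; exact congrArg (fun y => y * _ * y⁻¹) (eg 5 (by decide))⟩
    · exact ⟨b3, b5 ▸ (k.α8 h.toRl false 1 1 1 b2).2⟩
  have aw : ∀ l, AM T1 (g1 d φ x1) (wd α x2 l) (θw l) := fun l => by
    induction l with
    | nil => exact fun y hy => ⟨hy, by simp [wd, θw]⟩
    | cons b l ih => exact (a1 b).mul ih
  have gm := fun l (hl : l < 7) => m.gen_mem (j := l) (n7 ▸ hl)
  have ov : Ov d m.sub := ⟨m.pg_sub i, s0_of (gm 5 (by decide)) (gm 6 (by decide)) (gm 1 (by decide))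
    (gm 0 (by decide)) (gm 3 (by decide))⟩
  have nv : ¬ IsConj d.t d.v := fun a => h.z_not c (by
    have := h.toRl.act_ρ (.of 12)
    rw [Rl.ψz, show rr.app (.of 12) = .of 2 from rfl, d.ψv] at this
    exact (isConj_cj _).1 (this ▸ a))
  have s0 := (lo'.toOv.swap h.swap.toRl).s0
  obtain ⟨o, ho, Q, hQ, -, l2, l3⟩ := h.join1 c (P1 := zpowers α) (P2 := P') ov (Ws.map (wd α x2))
    (fun σ hσ => by obtain ⟨l, -, rfl⟩ := List.mem_map.1 hσ; exact m.nm (aw l)) (fun g hg => by
      obtain ⟨y, hy, e1⟩ := hg _ (gm 5 (by decide))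
      obtain ⟨s, hs, u, hu, q, k1, k2⟩ := m.cls i c4 h.c4.tt h.toRl.t_ne hy (e1 ▸ isConj_iff.2 ⟨g, rfl⟩)
      simp only [Bool.or_eq_true, List.elem_eq_mem, decide_eq_true_eq, Nat.beq_eq, List.any_eq_true] at q
      rcases q with ((q | rfl) | rfl) | ⟨l, hl, rfl⟩
      · exact absurd (em' u ▸ k1) (h.big c m8 i8 (em u).1 (c5 u q))
      · exact absurd ((show T1.ev _ 64 = d.v from T1.ev_gen (g1 d φ x1) (j := 6) (by rw [n7]; decide)) ▸ k1) nv
      · rw [← c6, show T1.ev _ (T1.app (cA false) 64) = _ from ((a1 false).gen (j := 6) (by rw [n7]; decide)).symm] at k1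
        exact absurd ((isConj_cj _).1 k1) nv
      refine ⟨_, List.mem_map_of_mem hl, _, (mem_normalizer_iff.1 (inv_mem (m.nmz (aw l))) _).1 (m.ev_mem hs),
        e1.symm.trans (k2.trans ?_)⟩
      rw [show T1.ev _ (θw l 32) = wd α x2 l * d.t * _ from ((aw l).gen (j := 5) (by rw [n7]; decide)).symm]
      group)
    (fun σ hσ s hs => by
      obtain ⟨l, hl, rfl⟩ := List.mem_map.1 hσ
      have a : wd α x2 l ^ 4 ∈ centralizer (m.sub : Set G) := m.cen_of fun j hj => comm_of_cj (by
        have := ((aw l).mul ((aw l).mul ((aw l).mul (aw l)))).gen hj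
        rw [c7 l hl j (n7 ▸ hj), T1.ev_gen _ hj] at this
        simpa only [pow_succ', pow_zero, mul_one] using this)
      obtain ⟨j, hj⟩ := inn_two ov.pg (g := (wd α x2 l * s) ^ 2) (by
        have := mul_mem (mem_sup_right a : _ ∈ Inn m.sub) (mem_sup_left (pow_mul_mem (m.nmz (aw l)) hs 4))
        rwa [mul_inv_cancel_left, show 4 = 2 + 2 from rfl, pow_add] at this)
      exact ⟨j + 1, by rwa [pow_succ', pow_mul]⟩)
    (isPGroup_zpowers (k := 1) (by rw [pow_one, pow_two, k.bn.αα]))
    (fun g hg y hy => (mem_normalizer_iff.1 (zpowers_le.2 (m.nmz (a1 true)) hg) y).1 hy) lo'.pg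
    (norm_of_card (m.sub_le fun j hj => by
      rw [n7] at hj
      interval_cases j
      exacts [show d.b ∈ P' from d.φb ▸ s0 _, show d.a ∈ P' from d.φa ▸ s0 _, lo'.le φM,
        show d.w ∈ P' from d.φw ▸ s0 _, lo'.le x1M, show d.t ∈ P' from d.φt ▸ s0 _, show d.v ∈ P' from d.φv ▸ s0 _])
      (by rw [lo'.card_P h.swap (gd8 false), m.card_sub i, n7]; decide))
  exact ⟨o, fun s => ho _ (ov.s0 s), ho _ (gm 2 (by decide)), ho _ (gm 4 (by decide)), Q, hQ.pgroup,
    l2 (mem_zpowers _), l3⟩

end L5h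

end CL.HS8
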