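import Cfsg.Agent.INV.HS8.LTB

/-!
Type B. For `x ∈ M` acting as `ph`, `ab` or `ph * ab`, `x ^ 2 ∈ C_E(x) ≤ E0`. Take `x` acting as `ph`,
`α = ρ x ρ⁻¹`, `γ = ρ α ρ⁻¹`, `N(x) = x α γ ∈ E`; `x ↦ x t` gives `N ∈ E0`; `ρ N ρ⁻¹ = x⁻¹ N x ∈ N ⟨b⟩` gives
`N ∈ ⟨b⟩`; `x ↦ x b` gives `N = 1`. `w x w = x e` with `e ∈ E0` (`N(w x w) = w (x γ α) w ∈ E0` by `ρw`),
`w ^ 2 = 1` gives `e ∈ ⟨a, b⟩`; `x ↦ x v` (and again `x b`) gives `e ∈ ⟨b⟩`. Now `y' w ∈ P` acts as `ph` and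
centralises `w`, so `y' w = x e'`, `e = e' (w e' w) ∈ ⟨z⟩`, so `e = 1` and `e' ∈ Z0`. Then `w α w = γ`,
`w γ w = α`, and `w` applied to `x α γ = 1` gives `[α, γ] = 1`, so `[x, α] = 1`, `x ^ 2 ∈ ⟨b⟩`, and
`(x α) ^ 2 = γ⁻²` gives `x ^ 2 = 1`.
-/

set_option autoImplicit false

open Subgroup CL.TwoS CL.MSS

namespace CL.HS8

variable {G : Type*} [Group G] [Finite G] {d : Dat G} {P M : Subgroup G} {ρ : G}

open Ltb

theorem Ltb.okB : Ok ph ab (ph * ab) := by decide +kernel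

theorem Lo.bn (h : Hy d) {A : List L4} (hA : A = A4B ∨ A = A8B) (l : Lo d A P M ρ) {y' : G}
    (hy' : y' ∈ P) (a' : Au d y' 5 6 4 16) :
    ∃ φ ∈ M, ∃ α ∈ M, BN d ρ φ α ∧ ∃ c, InZ d c ∧ y' = φ * d.w * c := by
  obtain ⟨gA, hf⟩ : Gd A ∧ ph ∈ A := by
    rcases hA with rfl | rfl
    exacts [⟨gd4B, by decide⟩, ⟨gd8 true, by decide⟩]
  have m := h.toRl.mod4
  have aw := h.toRl.act_w
  obtain ⟨n, hn, α, hα, γ, an, aα, aγ, eα, eγ, hN, s, c, δ, hs, hc, hw, k1, k2⟩ :=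
    l.gen h gA okB hf (by decide +kernel)
  have ay : Act d.φ4 y' (ph * sg) := act_au a' (by decide +kernel)
  obtain ⟨e, he⟩ := l.eq_mul h (l.le hn) (mul_mem hy' l.w_mem) an
    ((by decide : ph * sg * sg = ph) ▸ ay.mul aw)
  have k3 := w_au h.toRl (β := false) a'
  have k4 : d.w * (y' * d.w) * d.w⁻¹ = y' * d.w := by
    rw [cjm, k3, φb, bp_false]; group
  rw [he, cjm, hw, aw, mul_assoc, mm m] at k4
  obtain ⟨rfl, k5⟩ := (by decide +kernel : ∀ (e : V4) (δ : Bool), bp (.of 8) δ * sg.app e = e →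
    δ = false ∧ e.v = false ∧ sg.app e = e) e δ (m.inj (mul_left_cancel k4))
  obtain ⟨rfl, rfl⟩ := (by decide +kernel : ∀ s c : V4,
    Con1 ph ab (ph * ab) 1 c (bp (.of 8) false) → Con2 ph ab s 1 c (bp (.of 8) false) →
      c = 1 ∧ s = 1) s c k1 k2
  rw [bp_false, m.one, mul_one] at hw
  rw [m.one] at hs
  rw [m.one, mul_one] at hc
  have sα : α * α = 1 := by rw [← eα, ← cjm, hs]; group
  have eg : γ = n * α := by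
    rw [(eq_inv_of_mul_eq_one_right (by rw [mul_assoc, hN]) : γ = (n * α)⁻¹), mul_inv_rev,
      inv_eq_of_mul_eq_one_right sα, inv_eq_of_mul_eq_one_right hs, hc]
  refine ⟨n, hn, α, hα, ⟨l.ρa, an, aα, eα, eγ.trans eg, hs, sα, hc.symm, (comm_of_cj hw).symm, ?_⟩,
    _, inZ k5.1, ?_⟩
  · rw [← eg, ← eα, l.w_ρ h gA hn, hw, eα, eγ]
  · rw [mul_assoc, ← k5.2, ← mv aw sg_sg, ← mul_assoc, ← he, mul_assoc, h.ww, mul_one]

theorem Lo.b8 (h : Hy d) (l : Lo d A8B P M ρ) {y y' : G} (hy : y ∈ P) (hy' : y' ∈ P) {β : Bool}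
    (a : Au d y 9 2 4 (cond β 24 16)) (a' : Au d y' 5 6 4 16) :
    ∃ φ ∈ M, ∃ α ∈ M, ∃ k ∈ M, ∃ η, BN d ρ φ α ∧ KN d ρ k φ α β η ∧
      (∃ c, InZ d c ∧ y = k * c) ∧ ∃ c, InZ d c ∧ y' = φ * d.w * c := by
  obtain ⟨n, hn, α, hα, t, hc'⟩ := l.bn h (Or.inr rfl) hy' a'
  obtain ⟨k, hk, η, kn, hc⟩ := l.kn h (gd8 true) okB (by decide) (by decide) (by decide) hn t.φa
    t.αa (t.φa.mul t.αa) t.ρφ t.ρα (δ := false)
    (by rw [← mul_assoc α, ← t.φα.eq, mul_assoc, t.αα, mul_one, t.φφ])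
    (by rw [φb, bp_false, mul_one, cj_of_comm t.φw.symm]) hy a rfl (by decide +kernel)
  exact ⟨n, hn, α, hα, k, hk, η, t, kn, hc, hc'⟩

end CL.HS8
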