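import Cfsg.Agent.INV.HS8.LT
import Cfsg.Agent.INV.HS8.Jn

/-!
Configuration K8 with both types T: the local data.
-/

set_option autoImplicit false
set_option linter.unusedSectionVars false

open Subgroup CL.TwoS CL.MSS

namespace CL.HS8

variable {G : Type*} [Group G] [Finite G] {d : Dat G} {X : Subgroup G}

/-- Local data on both sides. -/
structure SP (d : Dat G) (P M P' M' : Subgroup G) (ρ n α k ρ' m β k' : G) (μ : Bool) : Prop where
  ae : AE d A8T
  ae' : AE d.swap A8T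
  lo : Lo d A8T P M ρ
  lo' : Lo d.swap A8T P' M' ρ'
  nM : n ∈ M
  αM : α ∈ M
  kM : k ∈ M
  mM : m ∈ M'
  βM : β ∈ M'
  kM' : k' ∈ M'
  tn : TN d ρ n α μ false
  kn : KN d ρ k n α false μ
  tn' : TN d.swap ρ' m β μ false
  kn' : KN d.swap ρ' k' m β false μ
  mn : ∃ i j, m = n * bp d.a i * bp d.b j
  kk : ∃ i j, k' = k * n * bp d.a i * bp d.b j

namespace Spa

theorem au_swap (r : Rl d) {y : G} {p q s u p' q' s' u' : ℕ} (a : Au d y p q s u)
    (k : ∀ m, app5 (.of p) (.of q) (.of s) (.of u) (sw5 m) =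
      sw5 (app5 (.of p') (.of q') (.of s') (.of u') m)) : Au d.swap y p' q' s' u' := fun m => by
  rw [r.φ5_swap, r.φ5_swap, a, k]

theorem inZ {c : G} (h : InZ d c) : ∃ e : V4, e.v = false ∧ c = d.φ4 e := by
  obtain ⟨i, j, k, rfl⟩ := h
  exact ⟨⟨i, false, j, k⟩, rfl, (Hyp.φ4_cen (d := d) ⟨i, false, j, k⟩ rfl).symm⟩

theorem inZ' (r : Rl d) {c : G} (h : InZ d.swap c) : ∃ e : V4, e.v = false ∧ c = d.φ4 e := by
  obtain ⟨i, j, k, rfl⟩ := h
  refine inZ ⟨i, k, j, ?_⟩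
  change bp d.t i * bp d.b j * bp d.a k = bp d.t i * bp d.a k * bp d.b j
  rw [mul_assoc, mul_assoc, (bp_comm r.c4.ab k j).eq]

theorem φab (i j : Bool) : bp d.a i * bp d.b j = d.φ4 ⟨false, false, i, j⟩ := by
  rw [Dat.φ4, W4]; simp

theorem φa (i : Bool) : bp d.a i = d.φ4 ⟨false, false, i, false⟩ := by rw [← φab]; simp
theorem φb (i : Bool) : bp d.b i = d.φ4 ⟨false, false, false, i⟩ := by rw [← φab]; simp
theorem φz (i : Bool) : bp (d.a * d.b) i = d.φ4 ⟨false, false, i, i⟩ := by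
  rw [← φab]; cases i <;> simp

end Spa

open Spa Ltb

/-- `Hy.le`, `Lo.t8` on both sides (`K8.swap` exchanges `y`, `y'`; reprove with the same `R`): `y = k c = k' m c'`,
`y' = k n c = k' c'`. So `k' = k n c t^r`, `m = n c t^s`; `[k', m] = 1` gives `a^s z^r = 1`; `k'² = b^η z^μ = a^η'`. -/
theorem K8.sp (h : Hy d) (k : K8 d false false) :
    ∃ P M P' M' ρ n α k ρ' m β k' μ, SP d P M P' M' ρ n α k ρ' m β k' μ := by
  have r := h.toRl
  have md := r.mod4
  obtain ⟨ae, ae', R, y, y', hR, hy, hy', a, a'⟩ := k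
  obtain ⟨P, M, ρ, le, lo⟩ := h.le (gd8 false) ae hR.toOv fun x hx => (hR.nt x hx).2
  obtain ⟨P', M', ρ', le', lo'⟩ := h.swap.le (gd8 false) ae' (hR.swap r).toOv
    fun x hx => ((hR.swap r).nt x hx).2
  obtain ⟨n, nM, α, αM, k, kM, μ, η, tn, kn, ⟨c1, z1, e1⟩, c2, z2, e2⟩ :=
    Lo.t8 h lo (le hy) (le hy') (β := false) a a'
  obtain ⟨m, mM, β, βM, k', kM', μ', η', tn', kn', ⟨c3, z3, e3⟩, c4, z4, e4⟩ :=
    Lo.t8 h.swap lo' (le' hy') (le' hy) (β := false) (au_swap r a' (by decide +kernel))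
      (au_swap r a (by decide +kernel))
  obtain ⟨f1, v1, rfl⟩ := inZ z1
  obtain ⟨f2, v2, rfl⟩ := inZ z2
  obtain ⟨f3, v3, rfl⟩ := inZ' r z3
  obtain ⟨f4, v4, rfl⟩ := inZ' r z4
  have nn : n * n = d.φ4 ⟨false, false, μ, μ⟩ := by rw [tn.nn, bp_false, one_mul, φz]
  have kk : k * k = d.φ4 ⟨false, false, false, η⟩ := by rw [kn.kk, Spa.φb]
  have mn := mv' tn.na (by decide)
  have mk := mv' kn.ka (by decide)
  have mn0 := mv tn.na (by decide)
  have nk : ∀ y, n * (k * y) = k * (n * y) := fun y => by rw [← mul_assoc, ← kn.kx.eq, mul_assoc]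
  have nn' : ∀ y, n * (n * y) = d.φ4 ⟨false, false, μ, μ⟩ * y := fun y => by rw [← mul_assoc, nn]
  have kk' : ∀ y, k * (k * y) = d.φ4 ⟨false, false, false, η⟩ * y := fun y => by rw [← mul_assoc, kk]
  obtain ⟨e, ve, rfl⟩ : ∃ e : V4, e.v = false ∧ k' = k * (n * d.φ4 e) :=
    ⟨f2 * f3, by change xor _ _ = _; rw [v2, v3]; rfl, by
      rw [md.mul, ← mul_assoc, ← mul_assoc, ← e2, e3, mul_assoc, mm md, V4.mul_self, md.one, mul_one]⟩
  obtain ⟨f, vf, rfl⟩ : ∃ f : V4, f.v = false ∧ m = n * d.φ4 f := by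
    refine ⟨nb.app e * (⟨false, false, μ, μ⟩ * (f1 * f4)), ?_, ?_⟩
    · exact (by decide +kernel : ∀ e f1 f4 : V4, ∀ μ : Bool, e.v = false → f1.v = false →
        f4.v = false → (nb.app e * (⟨false, false, μ, μ⟩ * (f1 * f4))).v = false) e f1 f4 μ ve v1 v4
    · have k1 : n * (d.φ4 e * (m * d.φ4 f4)) = d.φ4 f1 := by
        have := e1.symm.trans e4
        rw [mul_assoc, mul_assoc, mul_assoc, mul_right_inj] at this
        exact this.symm
      have k2 : n * (d.φ4 e * (n * d.φ4 (nb.app e * (⟨false, false, μ, μ⟩ * (f1 * f4))) * d.φ4 f4)) =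
          d.φ4 f1 := by
        rw [mul_assoc, mn, nn', mm' md, mm' md, mm md]
        congr 1
        generalize nb.app e = x
        generalize (⟨false, false, μ, μ⟩ : V4) = y
        generalize f1 = u
        generalize f4 = w
        revert x y u w
        decide +kernel
      simpa using k1.trans k2.symm
  have c1 := kn'.kx.eq
  simp only [mul_assoc, mn, mk, nk, mm md, mul_right_inj] at c1
  have c2 : (k * (n * d.φ4 e)) * (k * (n * d.φ4 e)) = d.φ4 ⟨false, false, η', false⟩ :=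
    kn'.kk.trans (φa η')
  simp only [mul_assoc, mn, mk, nk, nn', kk', mm md] at c2
  have c3 : n * d.φ4 f * (n * d.φ4 f) = d.φ4 ⟨false, false, μ', μ'⟩ := by
    rw [tn'.nn, bp_false, one_mul, ← φz]
    exact congrArg (bp · μ') r.c4.ab.eq.symm
  simp only [mul_assoc, mn, nn', mm md] at c3
  have key : ∀ e f : V4, e.v = false → f.v = false →
      nb.app e * f = nb.app (kb.app f) * e → e.t = false ∧ f.t = false ∧ ∀ μ η μ' η' : Bool,
        (⟨false, false, false, η⟩ * (⟨false, false, μ, μ⟩ * (nb.app (kb.app e) * e)) : V4) =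
          ⟨false, false, η', false⟩ →
        (⟨false, false, μ, μ⟩ * (nb.app f * f) : V4) = ⟨false, false, μ', μ'⟩ →
        η = μ ∧ μ' = μ ∧ η' = μ := by decide +kernel
  obtain ⟨te, tf, k3⟩ := key e f ve vf (md.inj c1)
  obtain ⟨rfl, rfl, rfl⟩ := k3 μ η μ' η' (md.inj c2) (md.inj c3)
  refine ⟨P, M, P', M', ρ, n, α, k, ρ', _, β, _, _, ae, ae', lo, lo', nM, αM, kM, mM, βM, kM', tn, kn,
    tn', kn', ⟨f.a, f.b, ?_⟩, e.a, e.b, ?_⟩
  · rw [mul_assoc, φab]
    congr 2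
    exact V4.ext tf vf rfl rfl
  · rw [mul_assoc, mul_assoc, φab]
    congr 3
    exact V4.ext te ve rfl rfl

end CL.HS8
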