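import Cfsg.Agent.INV.HS8.LT
import Cfsg.Agent.INV.HS8.LB
import Cfsg.Agent.INV.HS8.Cls
import Cfsg.Agent.INV.HS8.Jn
import Cfsg.Agent.INV.HS8.SPa
import Cfsg.Agent.INV.HS8.L5h

/-!
Configuration K8 with `E` of type B and `F` of type T, first part. `N0 = ⟨b, a, φ, w⟩` is elementary abelian,
`Y = ⟨N0, x1, x2⟩`, `M' = Y ⟨t⟩`.
-/

set_option autoImplicit false

open Subgroup CL.TwoS CL.MSS

namespace CL.HS8

variable {G : Type*} [Group G] [Finite G] {d : Dat G}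

/-- Local data on both sides, inside one 2-group `Q`. -/
structure L5 (d : Dat G) (P' M' Q : Subgroup G) (ρ φ α ρ' x1 x2 : G) (c : Bool) : Prop where
  ae' : AE d.swap A8T
  lo' : Lo d.swap A8T P' M' ρ'
  bn : BN d ρ φ α
  tn' : TN d.swap ρ' x1 x2 true true
  kn' : KN d.swap ρ' (φ * d.w * bp d.b c) x1 x2 true false
  φM : φ ∈ M'
  x1M : x1 ∈ M'
  x2M : x2 ∈ M'
  αx : α * x1 * α⁻¹ = x1 * φ
  pg : IsPGroup 2 Q
  le : P' ≤ Q
  αQ : α ∈ Q

open Ltb in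
theorem L5a.fin (h : Hy d) (c : C1 d) {P' M' : Subgroup G} {ρ φ α k ρ' n β : G} {i j : Bool} (ae' : AE d.swap A8T)
    (lo' : Lo d.swap A8T P' M' ρ') (bn : BN d ρ φ α) (ka : Act d.φ4 k kb) (kφ : Commute k φ) (kα : Commute k α)
    (tn : TN d.swap ρ' n β true true) (kn : KN d.swap ρ' (φ * d.w * bp d.b i) n β true false)
    (kM : φ * d.w * bp d.b i ∈ M') (nM : n ∈ M') (βM : β ∈ M') (kw : Commute k d.w)
    (e : n = φ * d.w * k * bp d.b j) : ∃ P' M' Q ρ φ α ρ' x1 x2 c, L5 d P' M' Q ρ φ α ρ' x1 x2 c := by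
  have r := h.toRl
  have eM := lo'.e_mem h.swap (gd8 false)
  have wM : d.w ∈ M' := (d.swap.ψv ▸ eM (.of 2) :)
  have bM : bp d.b i ∈ M' := by cases i; exacts [one_mem _, (d.swap.ψa ▸ eM (.of 4) :)]
  have φM : φ ∈ M' := (mul_mem_cancel_right wM).1 ((mul_mem_cancel_right bM).1 kM)
  have αx : α * n * α⁻¹ = n * φ := by
    have a1 : Commute α d.b := d.ψb ▸ r.act_comm bn.αa rfl
    have a2 : Commute φ d.b := d.ψb ▸ r.act_comm bn.φa rfl
    have a3 : φ * (α * d.w * α⁻¹) = d.w := by rw [← mul_assoc, ← mul_assoc, ← bn.wα]; group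
    rw [e, cjm, cjm, cjm, cj_of_comm bn.φα.symm, a3, cj_of_comm kα.symm, cj_of_comm (comm_bp a1 j),
      ← (((Commute.refl φ).mul_right bn.φw).mul_right kφ.symm |>.mul_right (comm_bp a2 j)).eq, ← mul_assoc, ← mul_assoc,
      ← mul_assoc, bn.φφ, one_mul]
  have D : L5d.D5 d ρ φ α ρ' n β i := ⟨bn, tn, kn, αx⟩
  obtain ⟨o, o1, o2, o3, Q, pg, αQ, le⟩ := L5h.join D h c lo' φM nM
  have o' : ∀ m, Commute o (d.swap.φ5 m) := fun m => r.φ5_swap m ▸ o1 _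
  have tn' := tn.cj o'
  have kn' := kn.cj o'
  rw [cj_of_comm o3] at tn' kn'
  rw [cj_of_comm ((o2.mul_right (d.φw ▸ o1 _)).mul_right (comm_bp (d.φb ▸ o1 _) i))] at kn'
  exact ⟨_, _, Q, ρ, φ, α, _, n, _, i, ae', lo'.cj o', bn, tn', kn', cj_of_comm o2 ▸ conj_mem_cj φM,
    cj_of_comm o3 ▸ conj_mem_cj nM, conj_mem_cj βM, αx, pg, cj_le_iff_forall.2 le, αQ⟩

open Ltb in
theorem L5a.fin' (h : Hy d) (c : C1 d) {P' M' : Subgroup G} {ρ φ α k ρ' n β : G} {i j l : Bool} (ae' : AE d.swap A8T)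
    (lo' : Lo d.swap A8T P' M' ρ') (bn : BN d ρ φ α) (ka : Act d.φ4 k kb) (kφ : Commute k φ) (kα : Commute k α)
    (tn : TN d.swap ρ' n β true true) (kn : KN d.swap ρ' (φ * d.w * bp d.b i) n β true false)
    (kM : φ * d.w * bp d.b i ∈ M') (nM : n ∈ M') (βM : β ∈ M') (kw : Commute k d.w)
    (e : n = φ * d.w * k * d.φ4 ⟨false, false, l, j⟩) : ∃ P' M' Q ρ φ α ρ' x1 x2 c, L5 d P' M' Q ρ φ α ρ' x1 x2 c := by
  have r := h.toRl
  cases l
  · exact L5a.fin h c ae' lo' bn ka kφ kα tn kn kM nM βM kw (e.trans (congrArg _ (Spa.φb j).symm))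
  have eM := lo'.e_mem h.swap (gd8 false)
  refine L5a.fin h c (j := !j) ae' lo' bn ka kφ kα (tn.shift r.swap) ⟨kn.ka, kn.kρ,
    kn.kx.mul_right (Rl.ψz (d := d.swap) ▸ r.swap.act_comm kn.ka rfl),
    kn.ky.mul_right (d.swap.ψv ▸ r.swap.act_comm kn.ka rfl), kn.wk, kn.kk⟩ kM
    (mul_mem nM (Rl.ψz (d := d.swap) ▸ eM _)) (mul_mem βM (d.swap.ψv ▸ eM _)) kw ?_
  change n * (d.b * d.a) = _
  rw [e, mul_assoc, ← r.c4.ab.eq, ← Rl.ψz, mm r.mod4, Spa.φb]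
  cases j <;> rfl

/-- `Hy.le` with `Lo.b8` (`β = 0`) for `E` and `Lo.t8` (`β = 1`) for `F`: `k' = φ w c t^s`, `k' x1 = k e t^r` (`c, e ∈ Z`); `[k', x1] = 1` gives
`b^s a^r = 1`, so `k'² = 1`, `x1 = φ w k c4` (`c4 ∈ Z`), `x1² = k²` gives `μ = 1`, `k² = b`. `BN.shift` (`φ ↦ φ a`) gives `c ∈ ⟨b⟩`; `α x1 α⁻¹ = x1 φ c4 (α c4 α⁻¹)`
and `TN.shift` on `F` (`x1 ↦ x1 z`) gives `αx`. `T1 = ⟨S0, φ, k⟩` (order 128, model `PC('b a f w k v t')`) has index 2 in `P` and `P'`. Modulo `Z`: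
`α : t ↦ t v, w ↦ w φ`; `x2 : t ↦ t w, v ↦ v x1 ⋯`; they generate a dihedral group of order 8, regular on the eight cosets
`t {1, v, w, v w φ} k^i Z` of involutions of `T1 - ⟨U, φ, k⟩` (each a `T1`-class). The involutions of `⟨U, φ, k⟩` (`N0`, `v Z`, `v φ k Z`) are not
conjugate to `t`: `N0` centralises `Y` of order 64 (`card32`), `v Z` lies in the `T1`-class of `v ~ z`, and `v φ k Z` is
the class of `x2 v x2⁻¹`. Python: the classes of `t, w t, φ x1 t, φ w x1 t, v t, φ w v t, x1 v t, φ w x1 v t` are the images of the class of `t` under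
`1, x2, α x2 α, α x2 α x2, α, α x2, x2 α, x2 α x2`. `join1` with the eight words `W`;
conjugate the `F`-data by `o`. -/
theorem K8.l5 (h : Hy d) (c : C1 d) (k : K8 d true false) :
    ∃ P' M' Q ρ φ α ρ' x1 x2 c, L5 d P' M' Q ρ φ α ρ' x1 x2 c := by
  have r := h.toRl
  have md := r.mod4
  obtain ⟨ae, ae', R, y, y', hR, hy, hy', a, a'⟩ := k
  obtain ⟨P, M, ρ, le, lo⟩ := h.le (gd8 true) ae hR.toOv fun x hx => (hR.nt x hx).2
  obtain ⟨P', M', ρ', le', lo'⟩ := h.swap.le (gd8 false) ae' (hR.swap r).toOv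
    fun x hx => ((hR.swap r).nt x hx).2
  obtain ⟨φ, -, α, -, k, -, η, bn, kn, ⟨c1, z1, e1⟩, c2, z2, e2⟩ :=
    Lo.b8 h lo (le hy) (le hy') (β := false) a a'
  obtain ⟨n, nM, β, βM, k', kM', μ, η', tn', kn', ⟨c3, z3, e3⟩, c4, z4, e4⟩ :=
    Lo.t8 h.swap lo' (le' hy') (le' hy) (β := true) (Spa.au_swap r a' (by decide +kernel))
      (Spa.au_swap r a (by decide +kernel))
  obtain ⟨f1, v1, rfl⟩ := Spa.inZ z1
  obtain ⟨f2, v2, rfl⟩ := Spa.inZ z2
  obtain ⟨f3, v3, rfl⟩ := Spa.inZ' r z3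
  obtain ⟨f4, v4, rfl⟩ := Spa.inZ' r z4
  have kw : Commute k d.w := (comm_of_cj (kn.wk.trans (mul_one _))).symm
  have mφ := Ltb.mv' bn.φa (by decide)
  have mk := Ltb.mv' kn.ka (by decide)
  have mw := Ltb.mv' r.act_w (by decide)
  have mw0 := Ltb.mv r.act_w (by decide)
  have φk : ∀ y, φ * (k * y) = k * (φ * y) := fun y => by rw [← mul_assoc, ← kn.kx.eq, mul_assoc]
  have wk : ∀ y, d.w * (k * y) = k * (d.w * y) := fun y => by rw [← mul_assoc, ← kw.eq, mul_assoc]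
  have wφ : ∀ y, d.w * (φ * y) = φ * (d.w * y) := fun y => by rw [← mul_assoc, ← bn.φw.eq, mul_assoc]
  have φφ : ∀ y, φ * (φ * y) = y := fun y => by rw [← mul_assoc, bn.φφ, one_mul]
  have ww : ∀ y, d.w * (d.w * y) = y := fun y => by rw [← mul_assoc, r.ww, one_mul]
  have kk : ∀ y, k * (k * y) = d.φ4 ⟨false, false, false, η⟩ * y := fun y => by rw [← mul_assoc, kn.kk, Spa.φb]
  obtain ⟨e, ve, rfl⟩ : ∃ e : V4, e.v = false ∧ k' = φ * (d.w * d.φ4 e) :=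
    ⟨f2 * f3, by change xor _ _ = _; rw [v2, v3]; rfl, by
      rw [md.mul, ← mul_assoc, ← mul_assoc, ← e2, e3, mul_assoc, Ltb.mm md, V4.mul_self, md.one, mul_one]⟩
  obtain ⟨f, vf, e5⟩ : ∃ f : V4, f.v = false ∧ φ * (d.w * d.φ4 e) * n = k * d.φ4 f :=
    ⟨f1 * f4, by change xor _ _ = _; rw [v1, v4]; rfl, by
      rw [md.mul, ← mul_assoc k, ← e1, e4, mul_assoc _ (d.φ4 f4), Ltb.mm md, V4.mul_self, md.one, mul_one]⟩
  have b1 := (e5 ▸ (Commute.refl _).mul_right kn'.kx).eq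
  simp only [mul_assoc, mφ, mk, mw, φk, wk, Ltb.mm md, mul_right_inj] at b1
  obtain ⟨te, tf⟩ := (by decide +kernel : ∀ e f : V4, e.v = false → f.v = false →
    kb.app e * f = sg.app (ph.app f) * e → e.t = false ∧ f.t = false) e f ve vf (md.inj b1)
  obtain ⟨et, ev, ea, eb⟩ := e
  obtain ⟨ft, fv, fa, fb⟩ := f
  subst ve vf te tf
  have b2 : φ * (d.w * d.φ4 ⟨false, false, ea, eb⟩) * (φ * (d.w * d.φ4 ⟨false, false, ea, eb⟩)) = 1 := by
    simp only [mul_assoc, mφ, mw, wφ, φφ, ww, Ltb.mm md]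
    exact (congrArg _ (by cases ea <;> cases eb <;> rfl)).trans md.one
  have e6 : n = φ * d.w * k * d.φ4 ⟨false, false, xor ea fa, xor eb fb⟩ := by
    rw [← one_mul n, ← b2, mul_assoc, e5]
    simp only [mul_assoc, mk, Ltb.mm md]
    congr 4
    cases ea <;> cases eb <;> cases fa <;> cases fb <;> rfl
  obtain rfl : η' = false := by
    have : d.φ4 ⟨false, false, η', false⟩ = d.φ4 1 := by rw [← Spa.φa, md.one, ← b2]; exact kn'.kk.symm
    exact congrArg V4.a (md.inj this)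
  obtain rfl : μ = true := by
    have b3 : n * n = d.φ4 (.of 4 * ⟨false, false, μ, μ⟩) := by
      rw [md.mul, d.ψa, ← Spa.φz, r.c4.ab.eq]; exact tn'.nn
    rw [e6] at b3
    simp only [mul_assoc, mφ, mk, mw, φk, wk, wφ, φφ, ww, kk, Ltb.mm md] at b3
    have := md.inj b3
    revert this; generalize xor ea fa = p; generalize xor eb fb = q; generalize μ = s; generalize η = u
    revert p q s u; decide
  cases ea
  · rw [← Spa.φb, ← mul_assoc] at kn' kM'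
    exact L5a.fin' h c ae' lo' bn kn.ka kn.kx kn.ky tn' kn' kM' nM βM kw e6
  have ca : Commute k d.a := d.ψa ▸ r.act_comm kn.ka rfl
  rw [show φ * (d.w * d.φ4 ⟨false, false, true, eb⟩) = φ * d.a * d.w * bp d.b eb by
    rw [← Spa.φab, bp_true, mul_assoc φ, r.aw.eq]; group] at kn' kM'
  refine L5a.fin' h c (l := fa) (j := xor eb fb) ae' lo' (bn.shift r) kn.ka (kn.kx.mul_right ca)
    (kn.ky.mul_right ((d.ψv ▸ r.act_comm kn.ka rfl : Commute k d.v).mul_right (d.ψb ▸ r.act_comm kn.ka rfl)))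
    tn' kn' kM' nM βM kw (e6.trans ?_)
  rw [← d.ψa]
  simp only [mul_assoc, mk, mw, Ltb.mm md]
  congr 4
  cases eb <;> cases fa <;> cases fb <;> rfl

end CL.HS8
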