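import Cfsg.Agent.INV.HS8.L5d

/-!
Configuration K8 with types B, T: the elements `r` and `r1`.
-/

set_option autoImplicit false

open Subgroup CL.TwoS CL.MSS CL.K

namespace CL.HS8

variable {G : Type*} [Group G] {d : Dat G}

namespace PC

variable {P : PC} {g : ℕ → G} {u : G} {θ : ℕ → ℕ}

theorem AM.lev {K k : ℕ} (h : AM (P.lev K) g u θ) (hk : k ≤ K) (c : ∀ x < 2 ^ k, θ x < 2 ^ k) :
    AM (P.lev k) g u θ := fun x hx => ⟨c x hx, by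
  have hx' : x < 2 ^ k := hx
  rw [P.lev_ev' g hx' hk, P.lev_ev' g (c x hx') hk]
  exact (h x (hx'.trans_le (Nat.pow_le_pow_right two_pos hk))).2⟩

theorem Md.nmz [Finite G] (m : Md P g) (h : AM P g u θ) : u ∈ normalizer (m.sub : Set G) :=
  mem_normalizer_of_cj_le (cj_le_iff_forall.2 (m.nm h))

theorem Md.cen_of (m : Md P g) (h : ∀ j < P.n, Commute u (g j)) : u ∈ centralizer (m.sub : Set G) := fun _ hx =>
  mem_centralizer_singleton_iff.1 (m.sub_le (H := centralizer {u})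
    (fun j hj => mem_centralizer_singleton_iff.2 (h j hj).symm) hx)

theorem ev4 (P : PC) (g : ℕ → G) (hn : 4 ≤ P.n) {z : ℕ} (hz : z < 2 ^ 4) : P.ev g z =
    bp (g 0) (z.testBit 0) * bp (g 1) (z.testBit 1) * bp (g 2) (z.testBit 2) * bp (g 3) (z.testBit 3) := by
  rw [P.ev_lt g hz hn]; simp only [evk, one_mul]

theorem ev6 (P : PC) (g : ℕ → G) (hn : 6 ≤ P.n) {z : ℕ} (hz : z < 2 ^ 6) : P.ev g z =
    bp (g 0) (z.testBit 0) * bp (g 1) (z.testBit 1) * bp (g 2) (z.testBit 2) * bp (g 3) (z.testBit 3) *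
      bp (g 4) (z.testBit 4) * bp (g 5) (z.testBit 5) := by
  rw [P.ev_lt g hz hn]; simp only [evk, one_mul]

end PC

theorem pow_cj {u y t : G} (c : Commute u y) (e : u * t * u⁻¹ = y * t) (n : ℕ) :
    u ^ n * t * (u ^ n)⁻¹ = y ^ n * t := by
  induction n with
  | zero => simp
  | succ n ih =>
    calc _ = u * (u ^ n * t * (u ^ n)⁻¹) * u⁻¹ := by rw [pow_succ']; group
      _ = u * y ^ n * u⁻¹ * (u * t * u⁻¹) := by rw [ih]; group
      _ = _ := by rw [cj_of_comm (c.pow_right n), e, pow_succ, mul_assoc]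

namespace L5d

open PC PC.E

/-- the action of `r x2 r⁻¹` -/
def Lu : List (ℕ × ℕ × ℕ) := [(1, 1, 1), (2, 2, 2), (4, 4, 4), (8, 8, 8), (16, 19, 18), (64, 87, 74)]

set_option synthInstance.maxSize 100000 in
set_option synthInstance.maxHeartbeats 400000 in
theorem cku : (∀ p ∈ Lu, p.1 < 2 ^ 8 ∧ p.2.1 < 2 ^ 8 ∧ p.2.2 < 2 ^ 8 ∧ p.2.1 &&& 32 = 0 ∧
      ((QQ false).lev 8).cj 32 p.2.1 &&& 32 = 0 ∧ ((QQ false).lev 8).app cr p.2.1 = p.1 ∧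
      ((QQ false).lev 8).app cr (((QQ false).lev 8).cj 32 p.2.1) = p.2.2) ∧
    (∀ y < 2 ^ 8, (∀ p ∈ Lu, ((QQ false).lev 8).cj y p.1 = p.2.2) → ∃ n < 2 ^ 8, n &&& 32 = 0 ∧
      y = ((QQ false).lev 8).mul 32 n ∧ ((QQ false).lev 8).mul n n = 0 ∧ ((QQ false).lev 8).app cr n = n ∧
      ((QQ false).lev 8).cj 32 n = n ∧ (((QQ false).lev 8).app ca n = n → ∃ j,
        ((x 2 * .bp (x 0) (!j)).wf 8 && Nat.beq (((QQ false).lev 8).ce (x 2 * .bp (x 0) (!j))) n) = true)) ∧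
    ((x 6 * x 3 * x 1).wf 8 && Nat.beq (((QQ false).lev 8).ce (x 6 * x 3 * x 1)) 74) = true := by
  decide +kernel

theorem ckH (e c : Bool) : (∀ l < 9, (∀ y < 2 ^ 7, ((QQ e).lev 9).cj (2 ^ l) y < 2 ^ 7) ∧
      ∀ y < 2 ^ 4, ((QQ e).lev 9).cj (2 ^ l) y < 2 ^ 4) ∧ ∀ y < 2 ^ 4, ((QQ e).lev 7).app (cρ c) y < 2 ^ 4 := by
  cases e <;> cases c <;> decide +kernel

set_option synthInstance.maxSize 100000 in
set_option synthInstance.maxHeartbeats 400000 in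
theorem ckΓ (e : Bool) : ∀ y < 2 ^ 7, (((QQ e).lev 7).mul y 4 = ((QQ e).lev 7).mul 4 y →
      (((QQ e).lev 7).mul y y = 1 → ∃ n < 2 ^ 4, ((QQ e).lev 7).mul n n = 0 ∧ y = ((QQ e).lev 7).mul n 16) ∧
      (((QQ e).lev 7).mul y y = 10 → ∃ n < 2 ^ 4, ((QQ e).lev 7).mul n n = 0 ∧ y = ((QQ e).lev 7).mul n 32) ∧
      y < 2 ^ 6) ∧ (((QQ e).lev 7).mul y 4 ≠ ((QQ e).lev 7).mul 4 y → ∃ n < 2 ^ 6, y = ((QQ e).lev 7).mul n 64) ∧
      (y < 2 ^ 6 → ((QQ e).lev 7).mul y 4 = ((QQ e).lev 7).mul 4 y ∧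
        ((QQ e).lev 7).mul (((QQ e).lev 7).mul y y) (((QQ e).lev 7).mul y y) = 0) := by
  cases e <;> decide +kernel

theorem ckΓ2 (e : Bool) : ((QQ e).lev 7).mul 16 16 = 1 ∧ ((QQ e).lev 7).mul 32 32 = 10 ∧
    ((QQ e).lev 7).mul 16 4 = ((QQ e).lev 7).mul 4 16 ∧ ((QQ e).lev 7).mul 32 4 = ((QQ e).lev 7).mul 4 32 ∧
    ((QQ e).lev 7).mul 64 4 ≠ ((QQ e).lev 7).mul 4 64 ∧ ((QQ e).lev 6).ok = true := by
  cases e <;> decide +kernel

/-- an element of `S0` -/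
def eS (m : M5) : E := .bp (x 6) m.e.t * .bp (x 7) m.e.v * .bp (x 1) m.e.a * .bp (x 0) m.e.b * .bp (x 3) m.w

theorem ckS (e : Bool) : ∀ m : M5, (eS m).wf 8 = true ∧
    (((QQ e).lev 8).mul (((QQ e).lev 8).ce (eS m)) 4 = ((QQ e).lev 8).mul 4 (((QQ e).lev 8).ce (eS m)) →
    ((QQ e).lev 8).mul (((QQ e).lev 8).ce (eS m)) 8 = ((QQ e).lev 8).mul 8 (((QQ e).lev 8).ce (eS m)) →
    ((QQ e).lev 8).ce (eS m) < 2 ^ 4) := by
  cases e <;> decide +kernel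

/-- `v` on `M'` -/
def cv7 : List ℕ := [1, 2, 5, 11, 18, 59, 64]
/-- the element correcting `v r1 v` -/
def yv (j c : Bool) : ℕ := cond j (cond c 52 32) (cond c 36 48)

set_option synthInstance.maxSize 100000 in
set_option synthInstance.maxHeartbeats 400000 in
theorem ckv (j c : Bool) : (∀ k < 7, cv7.getD k 0 < 2 ^ 7 ∧ (QQ j).th 7 (2 ^ k) = cv7.getD k 0) ∧ yv j c < 2 ^ 6 ∧
    ((QQ j).lev 7).app cv7 (((QQ j).lev 7).app (c1 j c) (((QQ j).lev 7).app cv7 64)) = ((QQ j).lev 7).cj (yv j c)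
      (((QQ j).lev 7).app (cr7 j) (((QQ j).lev 7).app (c1 j c) 64)) ∧
    (∀ n < 2 ^ 4, ((QQ j).lev 7).app cv7 (((QQ j).lev 7).app (c1 j c) (((QQ j).lev 7).app cv7 16)) =
      ((QQ j).lev 7).cj (yv j c) (((QQ j).lev 7).app (cr7 j) (((QQ j).lev 7).app (c1 j c)
        (((QQ j).lev 7).cj n 16))) → j = c) ∧
    (∀ n < 2 ^ 4, ((QQ j).lev 7).mul (yv j c) n < 2 ^ 6 ∧ ((QQ j).lev 7).mul 4 n < 2 ^ 4) ∧
    (∀ y < 2 ^ 6, ∀ l < 4, ((QQ j).lev 7).mul y (2 ^ l) = ((QQ j).lev 7).mul (2 ^ l) y) ∧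
    (j = c → ((QQ j).lev 7).app (c1 j c) (((QQ j).lev 7).app (cr7 j) 64) = ((QQ j).lev 7).cj 4
      (((QQ j).lev 7).app (cr7 j) (((QQ j).lev 7).app (c1 j c) 64))) ∧
    ∀ l < 4, ((QQ j).lev 7).app (cr7 j) (2 ^ l) = 2 ^ l := by
  cases j <;> cases c <;> decide +kernel

theorem ckw (j : Bool) : ∀ y < 2 ^ 4, ((QQ j).lev 7).app cv7 y < 2 ^ 4 := by cases j <;> decide +kernel

attribute [local irreducible] PC.app PC.cj PC.mul PC.iv PC.ce PC.lk PC.evk QQ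

theorem fixl {α x r l : G} (h1 : α * x * α⁻¹ = r) (h2 : α⁻¹ = α) (h3 : r * x * r⁻¹ = x * l) (h4 : l * l = 1)
    (h5 : r * l * r⁻¹ = l) (h6 : x * l * x⁻¹ = l) : α * l * α⁻¹ = l := by
  have a : α * r * α⁻¹ = x := by
    have : α * α = 1 := mul_eq_one_iff_inv_eq.2 h2
    calc _ = α * α * x * (α * α)⁻¹ := by rw [← h1]; group
      _ = _ := by rw [this]; group
  have b : x * r = r * x * l := by
    rw [mul_inv_eq_iff_eq_mul.1 h3, mul_assoc x l, ← (comm_of_cj h5).eq, mul_assoc, mul_assoc, h4, mul_one]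
  calc α * l * α⁻¹ = (α * x * α⁻¹)⁻¹ * (α * (x * l) * α⁻¹) := by group
    _ = (α * x * α⁻¹)⁻¹ * ((α * r * α⁻¹) * (α * x * α⁻¹) * (α * r * α⁻¹)⁻¹) := by rw [← h3]; group
    _ = r⁻¹ * (x * r) * x⁻¹ := by rw [h1, a]; group
    _ = x * l * x⁻¹ := by rw [b]; group
    _ = l := h6

namespace D5

variable [Finite G] {ρ φ α ρ' x1 x2 : G} {c : Bool} (k : D5 d ρ φ α ρ' x1 x2 c) (h : Hy d)
include k h

theorem exists_l {P' M' Q : Subgroup G} (ae' : AE d.swap A8T) (lo' : Lo d.swap A8T P' M' ρ') (φM : φ ∈ M')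
    (x1M : x1 ∈ M') (x2M : x2 ∈ M') (pg : IsPGroup 2 Q) (le : P' ≤ Q) (αQ : α ∈ Q) {r : G} (hr : α * x2 * α⁻¹ = r) :
    ∃ j, r * x2 * r⁻¹ = x2 * φ * TwoS.bp d.b (!j) := by
  have m := (k.md8 h.toRl false r 1 1).2.2
  have i := k.inj8 h.toRl false r 1 1
  obtain ⟨c1, c2, c3⟩ := cku
  have l32 : 32 < 2 ^ ((QQ false).lev 8).n := by decide
  have b5 : ((QQ false).lev 8).ev (gQ d φ x1 x2 r 1 1) 32 = x2 := ((QQ false).lev 8).ev_gen _ (j := 5) (by decide)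
  have ua : ∀ p ∈ Lu, r * x2 * r⁻¹ * ((QQ false).lev 8).ev (gQ d φ x1 x2 r 1 1) p.1 * (r * x2 * r⁻¹)⁻¹ =
      ((QQ false).lev 8).ev (gQ d φ x1 x2 r 1 1) p.2.2 := fun p hp => by
    obtain ⟨-, a2, -, a4, a5, a6, a7⟩ := c1 p hp
    rw [← a6, ← a7, ← (k.r8 h.toRl false hr 1 1 a4).2, ← (k.r8 h.toRl false hr 1 1 a5).2, m.cj l32 a2, b5]
    group
  have eg := fun j (hj : j < 8) => ((QQ false).lev 8).ev_gen (gQ d φ x1 x2 r 1 1) (j := j) hj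
  have sP : m.sub = P' := by
    have s0 := (lo'.toOv.swap h.swap.toRl).s0
    refine eq_of_le_of_card_ge (m.sub_le fun j hj => ?_) (by rw [lo'.card_P h.swap (gd8 false), m.card_sub i]; decide)
    have hj : j < 8 := hj
    interval_cases j
    exacts [show d.b ∈ P' from d.φb ▸ s0 _, show d.a ∈ P' from d.φa ▸ s0 _, lo'.le φM, show d.w ∈ P' from d.φw ▸ s0 _,
      lo'.le x1M, lo'.le x2M, show d.t ∈ P' from d.φt ▸ s0 _, show d.v ∈ P' from d.φv ▸ s0 _]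
  have x2Q : x2 ∈ Q := le (lo'.le x2M)
  have rQ : r ∈ Q := hr ▸ mul_mem (mul_mem αQ x2Q) (inv_mem αQ)
  have act : Act d.swap.φ4 (r * x2 * r⁻¹) (.of 11 2 4 8) := by
    have a1 := ((congrArg (_ * · * _) (eg 6 (by decide))).symm.trans (ua (64, 87, 74) (by decide))).trans (m.evE _ c3)
    have a2 := ((congrArg (_ * · * _) (eg 3 (by decide))).symm.trans (ua (8, 8, 8) (by decide))).trans (eg 3 (by decide))
    have a3 := ((congrArg (_ * · * _) (eg 0 (by decide))).symm.trans (ua (1, 1, 1) (by decide))).trans (eg 0 (by decide))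
    have a4 := ((congrArg (_ * · * _) (eg 1 (by decide))).symm.trans (ua (2, 2, 2) (by decide))).trans (eg 1 (by decide))
    refine Act.of_gen h.swap.c4 (a1.trans ?_) (a2.trans ?_) (a3.trans ?_) (a4.trans ?_) <;>
      simp [Dat.swap, W4, L4.of, V4.of, Nat.testBit, gQ, E.den]
  obtain ⟨y, hy, e1⟩ : r * x2 * r⁻¹ ∈ m.sub := sP ▸ lo'.max h.swap (gd8 false) ae' pg le
    (mul_mem (mul_mem rQ x2Q) (inv_mem rQ)) act.into
  obtain ⟨n, hn, n0, rfl, n1, n2, n3, n4⟩ := c2 y hy fun p hp => i _ (cj_lt m.ok hy (c1 p hp).1) _ (c1 p hp).2.2.1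
    (by rw [m.cj hy (c1 p hp).1, e1, ua p hp])
  rw [m.mul l32 hn, b5] at e1
  have a := k.α8 h.toRl false r 1 1 n0
  obtain ⟨j, hj⟩ := n4 (i _ a.1 _ hn (a.2.symm.trans (fixl hr k.α_inv e1.symm
    (by rw [← m.mul hn hn, n1, ev_zero]) ((k.r8 h.toRl false hr 1 1 n0).2.trans (congrArg _ n2))
    (by have := m.cj l32 hn; rw [n3, b5] at this; exact this.symm))))
  exact ⟨j, by rw [← e1, m.evE _ hj, mul_assoc]; rfl⟩

theorem pow8 (e : Bool) (r r1 β : G) {u : G} (hu : u ∈ normalizer ((k.md8 h.toRl e r r1 β).2.1.sub : Set G))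
    (hc : u ∈ centralizer ((k.md8 h.toRl e r r1 β).1.sub : Set G)) :
    u ^ 2 ^ 3 ∈ centralizer ((k.md8 h.toRl e r r1 β).2.1.sub : Set G) := by
  obtain ⟨m4, m, m8⟩ := k.md8 h.toRl e r r1 β
  have i : ((QQ e).lev 7).Inj (gQ d φ x1 x2 r r1 β) :=
    PC.Md.lev_inj (P := (QQ e).lev 8) (k.inj8 h.toRl e r r1 β) (by decide : 7 ≤ 8)
  obtain ⟨c1, c2, c3, c4, c5, c6⟩ := ckΓ2 e
  have m6 : Md ((QQ e).lev 6) (gQ d φ x1 x2 r r1 β) := PC.Md.lev (P := (QQ e).lev 7) m (by decide : 6 ≤ 7) c6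
  obtain ⟨θ, t1, t2, t3⟩ := m.aut i fun s hs => (mem_normalizer_iff.1 hu s).1 hs
  have lt : ∀ {y}, y < 128 → y < 2 ^ ((QQ e).lev 7).n := id
  have cN : ∀ n < 2 ^ 4, Commute u (((QQ e).lev 7).ev (gQ d φ x1 x2 r r1 β) n) := fun n hn =>
    (hc _ ⟨n, hn, (QQ e).lev_ev' _ hn (by decide)⟩).symm
  have fx : ∀ n < 2 ^ 4, θ n = n := fun n hn => i _ (t1 n (lt (by omega))).1 _ (lt (by omega))
    ((t1 n (lt (by omega))).2.symm.trans (cj_of_comm (cN n hn)))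
  have cm : ∀ y < 128, ((QQ e).lev 7).mul (θ y) 4 = ((QQ e).lev 7).mul 4 (θ y) ↔
      ((QQ e).lev 7).mul y 4 = ((QQ e).lev 7).mul 4 y := fun y hy => by
    have a := t2 y (lt hy) 4 (lt (by decide))
    have b := t2 4 (lt (by decide)) y (lt hy)
    rw [fx 4 (by decide)] at a b
    rw [← a, ← b]
    exact ⟨t3 _ (mul_lt m.ok hy (lt (by decide))) _ (mul_lt m.ok (lt (by decide)) hy), congrArg _⟩
  have sq : ∀ y < 128, (∃ n < 2 ^ 4, ((QQ e).lev 7).mul n n = 0 ∧ θ y = ((QQ e).lev 7).mul n y) →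
      Commute (u ^ 2) (((QQ e).lev 7).ev (gQ d φ x1 x2 r r1 β) y) := fun y hy ⟨n, hn, a, b⟩ => comm_of_cj (by
    have l := lt (y := n) (by omega)
    rw [pow_cj (cN n hn) (by rw [(t1 y hy).2, b, m.mul l hy]), pow_two, ← m.mul l l, a, ev_zero, one_mul])
  have eg := fun j (hj : j < 7) => ((QQ e).lev 7).ev_gen (gQ d φ x1 x2 r r1 β) (j := j) hj
  have y2 : ∀ j < 6, Commute (u ^ 2) (gQ d φ x1 x2 r r1 β j) := fun j hj => by
    rw [← eg j (by omega)]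
    rcases (by omega : j < 4 ∨ j = 4 ∨ j = 5) with a | rfl | rfl
    · exact (cN _ (Nat.pow_lt_pow_right one_lt_two a)).pow_left 2
    · exact sq 16 (by decide) (((ckΓ e _ (t1 16 (lt (by decide))).1).1 ((cm 16 (by decide)).2 c3)).1
        (by rw [← t2 16 (lt (by decide)) 16 (lt (by decide)), c1, fx 1 (by decide)]))
    · exact sq 32 (by decide) (((ckΓ e _ (t1 32 (lt (by decide))).1).1 ((cm 32 (by decide)).2 c4)).2.1
        (by rw [← t2 32 (lt (by decide)) 32 (lt (by decide)), c2, fx 10 (by decide)]))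
  refine m.cen_of fun j hj => ?_
  rcases (show j < 6 ∨ j = 6 from Nat.lt_succ_iff_lt_or_eq.1 hj) with a | rfl
  · exact (show 2 ^ 3 = 2 * 4 from rfl) ▸ pow_mul u 2 4 ▸ (y2 j a).pow_left 4
  have l64 := lt (y := 64) (by decide)
  have n1 := mt (cm 64 (by decide)).1 c5
  obtain ⟨n, hn, a⟩ := (ckΓ e _ (t1 _ (t1 64 l64).1).1).2.1 (mt (cm _ (t1 64 l64).1).1 n1)
  have l := lt (y := n) (by omega)
  have b : u ^ 2 * ((QQ e).lev 7).ev (gQ d φ x1 x2 r r1 β) 64 * (u ^ 2)⁻¹ =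
      ((QQ e).lev 7).ev (gQ d φ x1 x2 r r1 β) n * ((QQ e).lev 7).ev (gQ d φ x1 x2 r r1 β) 64 := by
    rw [← m.mul l l64, ← a, ← (t1 _ (t1 64 l64).1).2, ← (t1 64 l64).2, pow_two]; group
  have := pow_cj (show Commute _ _ from (m6.cen_of y2 _ ⟨n, hn, (QQ e).lev_ev' _ hn (by decide)⟩).symm) b 4
  rw [← pow_mul, show ∀ z : G, z ^ 4 = z * z * (z * z) from fun z => by simp only [pow_succ, pow_zero, one_mul, mul_assoc], ← m.mul l l,
    ← m.mul (mul_lt m.ok l l) (mul_lt m.ok l l), ((ckΓ e n l).2.2 hn).2, ev_zero, one_mul] at this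
  exact eg 6 (by decide) ▸ comm_of_cj this

theorem s0N (e : Bool) (r r1 β : G) {s : M5} (hc : d.φ5 s ∈ centralizer ((k.md8 h.toRl e r r1 β).1.sub : Set G)) :
    ∃ n < 2 ^ 4, d.φ5 s = ((QQ e).lev 7).ev (gQ d φ x1 x2 r r1 β) n := by
  obtain ⟨m4, -, m⟩ := k.md8 h.toRl e r r1 β
  have i := k.inj8 h.toRl e r r1 β
  obtain ⟨a, b⟩ := m.ce _ (ckS e s).1
  have b' : d.φ5 s = _ := b.symm
  have cN : ∀ n < 2 ^ 4, _ := fun n hn => (m.comm i a (hn.trans (by decide : 2 ^ 4 < 2 ^ 8))).1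
    (show Commute _ _ from b' ▸ (hc _ ⟨n, hn, (QQ e).lev_ev' _ hn (by decide)⟩).symm)
  have l := (ckS e s).2 (cN 4 (by decide)) (cN 8 (by decide))
  exact ⟨_, l, b'.trans (((QQ e).lev_ev' _ l (by decide)).symm.trans ((QQ e).lev_ev' _ l (by decide)))⟩

omit [Finite G] in
theorem move (e : Bool) (r r1 β : G) {σ : G} (hσ : ∀ y ∈ (k.md8 h.toRl e r r1 β).2.1.sub, σ * y * σ⁻¹ = ρ' * y * ρ'⁻¹) :
    D5 d ρ φ α σ x1 x2 c := by
  obtain ⟨-, m, -⟩ := k.md8 h.toRl e r r1 β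
  have gm := fun j (hj : j < 7) => m.gen_mem (j := j) hj
  have bm : ∀ {y : G}, y ∈ m.sub → ∀ b, TwoS.bp y b ∈ m.sub := fun hx b => by cases b; exacts [one_mem _, hx]
  have F : ∀ u, d.swap.φ4 u ∈ m.sub := fun u => mul_mem (mul_mem (mul_mem (bm (gm 6 (by decide)) _)
    (bm (gm 3 (by decide)) _)) (bm (gm 0 (by decide)) _)) (bm (gm 1 (by decide)) _)
  exact ⟨k.bn, ⟨fun u => (hσ _ (F u)).trans (k.tn'.ρa u), k.tn'.na, k.tn'.αa, (hσ _ (gm 4 (by decide))).trans k.tn'.ρn,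
    (hσ _ (gm 5 (by decide))).trans k.tn'.ρα, k.tn'.nn, k.tn'.αα, k.tn'.nα, k.tn'.wn, k.tn'.wα⟩,
    ⟨k.kn'.ka, (comm_of_cj ((hσ _ (mul_mem (mul_mem (gm 2 (by decide)) (gm 3 (by decide))) (bm (gm 0 (by decide)) _))).trans
      (cj_of_comm k.kn'.kρ.symm))).symm, k.kn'.kx, k.kn'.ky, k.kn'.wk, k.kn'.kk⟩, k.αx⟩

theorem exists_T {j : Bool} {r : G} (hr : α * x2 * α⁻¹ = r) (hl : r * x2 * r⁻¹ = x2 * φ * TwoS.bp d.b (!j)) :
    ∃ σ, D5 d ρ φ α σ x1 x2 c ∧ ∃ T : Subgroup G, IsPGroup 2 T ∧ (k.md9 h.toRl hr hl 1 1).1.sub ≤ T ∧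
      σ * r * σ⁻¹ ∈ T := by
  have := Fact.mk Nat.prime_two
  have p8 := @k.pow8 _ _ _ _ _ _ _ _ _ _ _ h j r 1 1
  have mv := @k.move _ _ _ _ _ _ _ _ _ _ h j r 1 1
  obtain ⟨m4, m7, m8⟩ := k.md8 h.toRl j r 1 1
  obtain ⟨m9, i9⟩ := k.md9 h.toRl hr hl 1 1
  have NM : m4.sub ≤ m7.sub := fun _ ⟨n, hn, e⟩ =>
    ⟨n, hn.trans (by decide : 2 ^ 4 < 2 ^ 7), ((QQ j).lev_ev' _ (j := 4) hn (by decide)).symm.trans e⟩
  have TH : m9.sub ≤ normalizer (m7.sub : Set G) ⊓ normalizer (m4.sub : Set G) := m9.sub_le fun l hl => by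
    have a := m9.inner (s := 2 ^ l) (Nat.pow_lt_pow_right one_lt_two hl)
    rw [((QQ j).lev 9).ev_gen _ hl] at a
    exact ⟨m7.nmz (a.lev (by decide) ((ckH j c).1 l hl).1), m4.nmz (a.lev (by decide) ((ckH j c).1 l hl).2)⟩
  obtain ⟨T, hT, le⟩ := exists_sylIn_ge (m9.pg_sub i9) TH
  have nΓ := le_normalizer_inf (H := normalizer (m7.sub : Set G) ⊓ normalizer (m4.sub : Set G)) le_normalizer
    (inf_le_right.trans (normalizer_le_normalizer_centralizer m4.sub))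
  have hR := hT.inf_normal_of_le nΓ inf_le_left
  have a7 := k.ρ7 h.toRl (r := r) 1 1 j
  have ρM := m7.nmz a7
  obtain ⟨u, hu, e1⟩ := frattini hR (g := ρ') fun y hy =>
    conj_mem_of_normalizes nΓ ⟨ρM, m4.nmz (a7.lev (by decide) (ckH j c).2)⟩ hy
  have cc : centralizer (m7.sub : Set G) ≤ centralizer (m4.sub : Set G) := centralizer_le NM
  obtain ⟨p, hp, o, ho, rfl⟩ := cover hR (C := centralizer (m7.sub : Set G))
    (le_inf (le_inf (centralizer_le_normalizer _) (cc.trans (centralizer_le_normalizer _))) cc)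
    ((inf_le_left.trans inf_le_left).trans (normalizer_le_normalizer_centralizer _)) (fun y hy => ⟨3, p8 hy.1.1 hy.2⟩) hu
  have rT : r ∈ m9.sub := m9.gen_mem (j := 8) (by decide : 8 < 9)
  have rC : r ∈ centralizer (m4.sub : Set G) := m4.cen_of fun l hl => comm_of_cj (by
    have l7 : l < 7 := hl.trans (by decide : 4 < 7)
    rw [(k.r7 h.toRl hr ‹_› 1 1).gen l7, (ckv j c).2.2.2.2.2.2.2 l hl, ((QQ j).lev 7).ev_gen _ l7])
  refine ⟨o * ρ', mv fun y hy => ?_, T, hT.pgroup, le, ?_⟩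
  · rw [← cj_of_comm (show Commute o _ from (ho _ ((mem_normalizer_iff.1 ρM y).1 hy)).symm)]; group
  · have pT : p ∈ T := hp.1
    have := mul_mem (mul_mem (inv_mem pT) (show _ ∈ T from (e1 r ⟨le rT, TH rT, rC⟩).1)) pT
    rwa [show p⁻¹ * (p * o * ρ' * r * (p * o * ρ')⁻¹) * p = o * ρ' * r * (o * ρ')⁻¹ by group] at this

theorem two (c1' : C1 d) {j : Bool} {r : G} (hr : α * x2 * α⁻¹ = r) (hl : r * x2 * r⁻¹ = x2 * φ * TwoS.bp d.b (!j))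
    {T : Subgroup G} (hT : IsPGroup 2 T) (le : (k.md9 h.toRl hr hl 1 1).1.sub ≤ T) {r1 : G} (h1 : ρ' * r * ρ'⁻¹ = r1)
    (r1T : r1 ∈ T) : j = c ∧
      (∃ i j k l, r1 * r * r1⁻¹ = r * TwoS.bp d.b i * TwoS.bp d.a j * TwoS.bp φ k * TwoS.bp d.w l) ∧
      (∃ i j k l p q s, d.v * r1 * d.v⁻¹ = TwoS.bp d.b i * TwoS.bp d.a j * TwoS.bp φ k * TwoS.bp d.w l *
        TwoS.bp x1 p * TwoS.bp x2 q * TwoS.bp r s * r1) ∧ Ov d T ∧ φ ∈ T ∧ x1 ∈ T ∧ x2 ∈ T ∧ r ∈ T := by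
  have sN := @k.s0N _ _ _ _ _ _ _ _ _ _ _ h j r 1 1
  obtain ⟨m4, m7, m8⟩ := k.md8 h.toRl j r 1 1
  have i : ((QQ j).lev 7).Inj (gQ d φ x1 x2 r 1 1) :=
    PC.Md.lev_inj (P := (QQ j).lev 8) (k.inj8 h.toRl j r 1 1) (by decide : 7 ≤ 8)
  have gT := fun l (hl' : l < 9) => le ((k.md9 h.toRl hr hl 1 1).1.gen_mem (j := l) hl')
  have ov : Ov d T := ⟨hT, s0_of (gT 6 (by decide)) (gT 7 (by decide)) (gT 1 (by decide)) (gT 0 (by decide))
    (gT 3 (by decide))⟩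
  have rT : r ∈ T := gT 8 (by decide)
  have vT : d.v ∈ T := gT 7 (by decide)
  have eT : ∀ y < 128, ((QQ j).lev 7).ev (gQ d φ x1 x2 r 1 1) y ∈ T := fun y hy =>
    m7.sub_le (fun l hl' => gT l (hl'.trans (by decide : 7 < 9))) (m7.ev_mem hy)
  obtain ⟨q1, q2, q3, q4, q5, q6, q7, q8⟩ := ckv j c
  have ar := k.r7 h.toRl hr hl 1 1
  have a1 := k.r17 h.toRl hr hl 1 1
  rw [h1] at a1
  have av : AM ((QQ j).lev 7) (gQ d φ x1 x2 r 1 1) d.v (((QQ j).lev 7).app cv7) := m7.am fun l hl' =>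
    ⟨(q1 l hl').1, mul_inv_eq_iff_eq_mul.2 (((m8.rel 7 (by decide : 7 < 8)).2 l hl').trans (by
      rw [(QQ j).lev_ev' _ (q1 l hl').1 (by decide : 7 ≤ 8), ← (q1 l hl').2]; rfl))⟩
  have vi : d.v⁻¹ = d.v := inv_eq_of_mul_eq_one_right h.c4.vv
  have lt : ∀ {y}, y < 128 → y < 2 ^ ((QQ j).lev 7).n := id
  have eg := fun l (hl : l < 7) => ((QQ j).lev 7).ev_gen (gQ d φ x1 x2 r 1 1) (j := l) hl
  have yC : ∀ y < 2 ^ 6, ((QQ j).lev 7).ev (gQ d φ x1 x2 r 1 1) y ∈ centralizer (m4.sub : Set G) := fun y hy =>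
    m4.cen_of fun l hl' => eg l (hl'.trans (by decide : 4 < 7)) ▸ (m7.comm i (lt (by omega))
      (Nat.pow_lt_pow_right one_lt_two (hl'.trans (by decide : 4 < 7)))).2 (q6 y hy l hl')
  have rC : r ∈ centralizer (m4.sub : Set G) := m4.cen_of fun l hl' => comm_of_cj (by
    have l7 : l < 7 := hl'.trans (by decide : 4 < 7)
    rw [ar.gen l7, q8 l hl', eg l l7])
  have r1C : r1 ∈ centralizer (m4.sub : Set G) := h1 ▸ conj_mem_of_normalizes (normalizer_le_normalizer_centralizer _)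
    (m4.nmz ((k.ρ7 h.toRl (r := r) 1 1 j).lev (by decide) (ckH j c).2)) rC
  have vN : d.v ∈ normalizer (m4.sub : Set G) := m4.nmz (av.lev (by decide) (ckw j))
  have nN : ∀ n < 2 ^ 4, ((QQ j).lev 7).ev (gQ d φ x1 x2 r 1 1) n ∈ m4.sub := fun n hn =>
    ⟨n, hn, (QQ j).lev_ev' _ hn (by decide)⟩
  have key : ∀ {u : G} {θ : ℕ → ℕ} {y : ℕ}, y < 2 ^ 6 → u ∈ T → u ∈ centralizer (m4.sub : Set G) →
      AM ((QQ j).lev 7) (gQ d φ x1 x2 r 1 1) u θ → θ 64 = ((QQ j).lev 7).cj y (((QQ j).lev 7).app (cr7 j)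
        (((QQ j).lev 7).app (c1 j c) 64)) → ∃ n < 2 ^ 4, u = ((QQ j).lev 7).ev (gQ d φ x1 x2 r 1 1)
          (((QQ j).lev 7).mul y n) * r * r1 ∧ θ 16 = ((QQ j).lev 7).cj y (((QQ j).lev 7).app (cr7 j)
        (((QQ j).lev 7).app (c1 j c) (((QQ j).lev 7).cj n 16))) := fun {u θ y} hy uT uC au e => by
    have ly := lt (y := y) (by omega)
    have aσ := (m7.inner ly).mul (ar.mul a1)
    obtain ⟨s, hs⟩ := h.cover1 c1' ov uT (mul_mem (eT y ly) (mul_mem rT r1T))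
      ((au.gen (j := 6) (by decide : 6 < 7)).trans ((congrArg _ e).trans (aσ.gen (j := 6) (by decide : 6 < 7)).symm))
    obtain ⟨n, hn, e2⟩ := sN (s := s) (by
      rw [← inv_mul_eq_iff_eq_mul.2 hs]
      exact mul_mem (inv_mem (mul_mem (yC y hy) (mul_mem rC r1C))) uC)
    have ln := lt (y := n) (by omega)
    rw [e2] at hs
    refine ⟨n, hn, ?_, au.eq i (hs ▸ aσ.mul (m7.inner ln)) (lt (by decide))⟩
    rw [hs, m7.mul ly ln, mul_assoc, ← mul_mem rC r1C _ (nN n hn)]; group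
  obtain ⟨n, hn, b1, b2⟩ := key q2 (mul_mem (mul_mem vT r1T) vT) (by
    simpa only [vi] using conj_mem_of_normalizes (normalizer_le_normalizer_centralizer _) vN r1C)
    (mul_assoc d.v r1 d.v ▸ av.mul (a1.mul av)) q3
  have jc := q4 n hn b2
  obtain ⟨n', hn', b3, -⟩ := key (y := 4) (by decide) (mul_mem r1T rT) (mul_mem r1C rC) (a1.mul ar) (q7 jc)
  rw [ev6 _ _ (by decide : 6 ≤ 7) (q5 n hn).1] at b1
  rw [← mul_inv_eq_iff_eq_mul, rC _ (nN _ (q5 n' hn').2), ev4 _ _ (by decide : 4 ≤ 7) (q5 n' hn').2, ← mul_assoc,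
    ← mul_assoc, ← mul_assoc] at b3
  exact ⟨jc, ⟨_, _, _, _, b3⟩, ⟨_, _, _, _, _, _, true, (congrArg _ vi).trans b1⟩, ov, gT 2 (by decide), gT 4 (by decide),
    gT 5 (by decide), rT⟩

end D5

end L5d

end CL.HS8
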