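import Cfsg.Agent.INV.HS8.L5f

/-!
Configuration K8 with types B, T: the model of order 2048.
-/

set_option autoImplicit false

open Subgroup CL.TwoS CL.MSS CL.K

namespace CL.HS8

variable {G : Type*} [Group G] {d : Dat G}

namespace L5d

open PC PC.E L5f

theorem gQ_ev (P : PC) (φ x1 x2 r s β s' β' : G) (y : ℕ) :
    (P.lev 9).ev (gQ d φ x1 x2 r s β) y = (P.lev 9).ev (gQ d φ x1 x2 r s' β') y := evk_ext y 9 fun j hj => by
  interval_cases j <;> rfl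

theorem ev_hi (P : PC) (g : ℕ → G) {y : ℕ} (hy : y < 2 ^ 9) : (P.lev 10).ev g (2 ^ 9 + y) = (P.lev 9).ev g y * g 9 :=
  evk_hi g hy

attribute [local irreducible] PC.app PC.cj PC.mul PC.iv PC.ce PC.lk PC.evk QQ

namespace D5

variable {ρ φ α ρ' x1 x2 r : G} {e : Bool} (k : D5 d ρ φ α ρ' x1 x2 e) (h : Rl d)
  (hr : α * x2 * α⁻¹ = r) (hl : r * x2 * r⁻¹ = x2 * φ * TwoS.bp d.b (!e))
include k h hr hl

theorem α9 : AM (T9 e) (gQ d φ x1 x2 r 1 1) α ((T9 e).app ca9) := by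
  obtain ⟨a0, a1, a2, a3, a4, a6, a7, -⟩ := k.α_im r 1 1
  refine (k.md9 h hr hl 1 1).1.amE (ck1 e).1 ⟨a0, a1, a2, a3, a4, a6, a7, hr, show α * r * α⁻¹ = x2 from ?_, trivial⟩
  calc _ = α * α * x2 * (α * α)⁻¹ := by rw [← hr]; group
    _ = _ := by rw [k.bn.αα]; group

theorem sq1 : ρ' * r * ρ'⁻¹ * (ρ' * r * ρ'⁻¹) = (T9 e).ev (gQ d φ x1 x2 r 1 1) ((QQ e).sq 9) := by
  obtain ⟨-, -, -, -, c1, c2, c3, -⟩ := ck1 e
  have a : r * r = _ := ((k.md9 h hr hl 1 1).1.rel 8 (by decide : 8 < 9)).1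
  rw [← (QQ e).lev_ev' _ c3 (by decide : 7 ≤ 9), ← c2, ← (k.ρ7 h 1 1 e _ c1).2, (QQ e).lev_ev' _ c1 (by decide : 7 ≤ 9),
    ← a]
  group

theorem r19 {r1 : G} (h1 : ρ' * r * ρ'⁻¹ = r1)
    (mu : ∃ i j k l, r1 * r * r1⁻¹ = r * TwoS.bp d.b i * TwoS.bp d.a j * TwoS.bp φ k * TwoS.bp d.w l)
    (vr : ∃ i j k l p q s, d.v * r1 * d.v⁻¹ = TwoS.bp d.b i * TwoS.bp d.a j * TwoS.bp φ k * TwoS.bp d.w l *
      TwoS.bp x1 p * TwoS.bp x2 q * TwoS.bp r s * r1) : ∃ μ < 16, ∃ y < 512, y &&& 192 = 0 ∧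
      AM (T9 e) (gQ d φ x1 x2 r 1 1) r1 ((T9 e).app (cc e μ y)) ∧
      r1 * d.t * r1⁻¹ = (T9 e).ev (gQ d φ x1 x2 r 1 1) (cond e 102 109) := by
  obtain ⟨i, j, k', l, mu⟩ := mu
  obtain ⟨i', j', k'', l', p, q, s, vr⟩ := vr
  obtain ⟨-, c1, -, -, -, -, -, c2, c3⟩ := ck1 e
  have m := (k.md9 h hr hl 1 1).1
  obtain ⟨a1, a2⟩ := m.ce (.bp (x 0) i * .bp (x 1) j * .bp (x 2) k' * .bp (x 3) l) rfl
  obtain ⟨b1, b2⟩ := m.ce (.bp (x 0) i' * .bp (x 1) j' * .bp (x 2) k'' * .bp (x 3) l' * .bp (x 4) p * .bp (x 5) q *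
      .bp (x 8) s) rfl
  have g7 : ∀ j < 7, (L5d.c1 e e).getD j 0 < 2 ^ 9 ∧ r1 * gQ d φ x1 x2 r 1 1 j * r1⁻¹ =
      (T9 e).ev (gQ d φ x1 x2 r 1 1) ((L5d.c1 e e).getD j 0) := fun j hj => ⟨(c1 j hj).2.trans (by decide), by
    rw [← h1, (k.r17 h hr hl 1 1).gen hj, (c1 j hj).1, (QQ e).lev_ev' _ (c1 j hj).2 (by decide : 7 ≤ 9)]⟩
  have l128 : 128 < 2 ^ (T9 e).n := (by decide : 128 < 2 ^ 9)
  have l256 : 256 < 2 ^ (T9 e).n := (by decide : 256 < 2 ^ 9)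
  refine ⟨_, c2 i j k' l, _, b1, c3 _ _ _ _ _ _ _, m.am fun j hj => ?_, (g7 6 (by decide)).2⟩
  rcases (by have : j < 9 := hj; omega : j < 7 ∨ j = 7 ∨ j = 8) with a | rfl | rfl
  · rw [cc, List.getD_append _ _ _ _ (show j < (L5d.c1 e e).length from a)]
    exact g7 j a
  · refine ⟨mul_lt m.ok l128 b1, Eq.trans ?_ (m.mul l128 b1).symm⟩
    rw [b2, show (T9 e).ev _ 128 = d.v from (T9 e).ev_gen _ (j := 7) hj]
    have vi : d.v⁻¹ = d.v := inv_eq_of_mul_eq_one_right h.c4.vv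
    change r1 * d.v * r1⁻¹ = d.v * _
    rw [← mul_inv_eq_iff_eq_mul] at vr
    refine Eq.trans ?_ (congrArg _ vr)
    rw [vi, ← mul_assoc, ← mul_assoc, ← mul_assoc, h.c4.vv, one_mul]
  · refine ⟨mul_lt m.ok l256 a1, Eq.trans ?_ (m.mul l256 a1).symm⟩
    rw [a2, show (T9 e).ev _ 256 = r from (T9 e).ev_gen _ (j := 8) hj]
    refine mu.trans ?_
    change _ = r * (_ * _ * _ * _)
    simp only [mul_assoc]; rfl

omit h in
theorem join [Finite G] (h : Hy d) (c : C1 d) {r1 : G} (h1 : ρ' * r * ρ'⁻¹ = r1) {θ : ℕ → ℕ}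
    (a1 : AM (T9 e) (gQ d φ x1 x2 r 1 1) r1 θ)
    (t1 : r1 * d.t * r1⁻¹ = (T9 e).ev (gQ d φ x1 x2 r 1 1) (cond e 102 109)) (p1 : IsPGroup 2 (zpowers r1)) :
    ∃ ρ α, D5 d ρ φ α ρ' x1 x2 e ∧ α * x2 * α⁻¹ = r ∧ ∃ P : Subgroup G, IsPGroup 2 P ∧
      (k.md9 h.toRl hr hl 1 1).1.sub ≤ P ∧ r1 ∈ P ∧ α ∈ P := by
  have aα := k.α9 h.toRl hr hl
  have s1 := h1 ▸ k.sq1 h.toRl hr hl
  obtain ⟨-, -, c1, c2, -, -, c3, -⟩ := ck1 e
  obtain ⟨m, i⟩ := k.md9 h.toRl hr hl 1 1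
  have gm := fun l (hl' : l < 9) => m.gen_mem (j := l) hl'
  have ov : Ov d m.sub := ⟨m.pg_sub i, s0_of (gm 6 (by decide)) (gm 7 (by decide)) (gm 1 (by decide))
    (gm 0 (by decide)) (gm 3 (by decide))⟩
  have nα := m.nmz aα
  have n1 := m.nmz a1
  have nW : ∀ σ ∈ [1, α, r1, α * r1], σ ∈ normalizer (m.sub : Set G) := by
    simp only [List.mem_cons, List.not_mem_nil, or_false, forall_eq_or_imp, forall_eq]
    exact ⟨one_mem _, nα, n1, mul_mem nα n1⟩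
  have cov : ∀ g, (∀ y ∈ m.sub, g * y * g⁻¹ ∈ m.sub) → ∃ σ ∈ [1, α, r1, α * r1], ∃ s ∈ m.sub,
      g * d.t * g⁻¹ = σ * s * d.t * (σ * s)⁻¹ := fun g hg => by
    obtain ⟨y, hy, e1⟩ := hg _ (gm 6 (by decide))
    obtain ⟨s, hs, u, hu, q, k1, k2⟩ := m.cls i (cls e) h.c4.tt h.toRl.t_ne hy (e1 ▸ isConj_iff.2 ⟨g, rfl⟩)
    simp only [Bool.or_eq_true, List.elem_eq_mem, decide_eq_true_eq, Bool.and_eq_true, Nat.beq_eq,
      Bool.not_eq_true'] at q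
    obtain ⟨σ, hσ, k3⟩ : ∃ σ ∈ [1, α, r1, α * r1], (T9 e).ev (gQ d φ x1 x2 r 1 1) u = σ * d.t * σ⁻¹ := by
      rcases q with (q | ⟨rfl, rfl⟩) | q
      · exact absurd k1 (h.big c m i hu (big e u q))
      · exact absurd k1 (h.ea m i hu ea.1 ea.2)
      simp only [L5f.rp, List.mem_cons, List.not_mem_nil, or_false] at q
      rcases q with rfl | rfl | rfl | rfl
      · exact ⟨1, by simp, by rw [one_mul, inv_one, mul_one]; exact (T9 e).ev_gen _ (j := 6) (by decide : 6 < 9)⟩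
      · exact ⟨α, by simp, c1 ▸ (aα.gen (j := 6) (by decide : 6 < 9)).symm⟩
      · exact ⟨r1, by simp, t1.symm⟩
      · refine ⟨α * r1, by simp, ?_⟩
        rw [← c2, ← (aα _ (by cases e <;> decide)).2, ← t1]; group
    refine ⟨σ, hσ, _, (mem_normalizer_iff.1 (inv_mem (nW σ hσ)) _).1 (m.ev_mem hs), e1.symm.trans (k2.trans ?_)⟩
    rw [k3]; group
  have sα : α * α ∈ Inn m.sub := by rw [k.bn.αα]; exact one_mem _
  have s1' : r1 * r1 ∈ Inn m.sub := mem_sup_left (s1 ▸ m.ev_mem (c3.trans (by decide : 2 ^ 7 < 2 ^ 9)))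
  have sW : ∀ σ ∈ [1, α, r1, α * r1], σ * σ ∈ Inn m.sub := by
    simp only [List.mem_cons, List.not_mem_nil, or_false, forall_eq_or_imp, forall_eq]
    refine ⟨mul_mem (one_mem _) (one_mem _), sα, s1', sq_four (inn_nm nα) (inn_nm n1) sα s1' ?_⟩
    have n2 := mul_mem (mul_mem nα n1) (mul_mem nα n1)
    obtain ⟨σ, hσ, s, hs, e1⟩ := cov _ fun y hy => (mem_normalizer_iff.1 n2 y).1 hy
    exact ⟨σ, hσ, h.inn c ov n2 (nW σ hσ) hs e1⟩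
  obtain ⟨o, ho, P, hP, l1, l2, l3⟩ := h.join1 c (P1 := zpowers r1) (P2 := zpowers α) ov _
    (fun σ hσ y hy => (mem_normalizer_iff.1 (nW σ hσ) y).1 hy) cov
    (fun σ hσ s hs => inn_two ov.pg (sq_mul_mem (inn_nm (nW σ hσ)) (sW σ hσ) (mem_sup_left hs))) p1
    (fun g hg y hy => (mem_normalizer_iff.1 (zpowers_le.2 n1 hg) y).1 hy)
    (isPGroup_zpowers (k := 1) (by rw [pow_one, pow_two, k.bn.αα]))
    fun g hg y hy => (mem_normalizer_iff.1 (zpowers_le.2 nα hg) y).1 hy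
  have oc : ∀ y ∈ m.sub, o * α * o⁻¹ * y * (o * α * o⁻¹)⁻¹ = α * y * α⁻¹ := fun y hy => by
    rw [← cj_of_comm (ho _ ((mem_normalizer_iff.1 nα y).1 hy))]
    conv_lhs => rw [← cj_of_comm (ho y hy)]
    group
  have bn := k.bn.cj (c := o) fun s => ho _ (ov.s0 s)
  rw [show o * φ * o⁻¹ = φ from cj_of_comm (ho _ (gm 2 (by decide)))] at bn
  exact ⟨_, _, ⟨bn, k.tn', k.kn', (oc _ (gm 4 (by decide))).trans k.αx⟩, (oc _ (gm 5 (by decide))).trans hr, P,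
    hP.pgroup, l1, l2 (mem_zpowers _), l3 _ (mem_zpowers _)⟩

omit h in
theorem fin [Finite G] (h : Hy d) (c : C1 d) {r1 : G} (h1 : ρ' * r * ρ'⁻¹ = r1) {μ y : ℕ} (hμ : μ < 16) (hy : y < 512)
    (y0 : y &&& 192 = 0) (a1 : AM (T9 e) (gQ d φ x1 x2 r 1 1) r1 ((T9 e).app (cc e μ y))) {P : Subgroup G}
    (hP : IsPGroup 2 P) (le : (k.md9 h.toRl hr hl 1 1).1.sub ≤ P) (r1P : r1 ∈ P) (αP : α ∈ P) :
    ∃ s, (s = r1 ∨ s = r1 * d.w ∨ s = r1 * d.a ∨ s = r1 * d.w * d.a) ∧ Md ((QQ e).lev 11) (gQ d φ x1 x2 r s α) := by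
  have aα := k.α9 h.toRl hr hl
  have s1 := h1 ▸ k.sq1 h.toRl hr hl
  obtain ⟨-, -, -, -, -, -, c3, -⟩ := ck1 e
  obtain ⟨f1, f2, f3, f4, f5, f6, f7, f8⟩ := ck2 e
  have md := fun s => (k.md9 h.toRl hr hl s α).1
  obtain ⟨m, i⟩ := k.md9 h.toRl hr hl 1 1
  have lt : ∀ {y}, y < 512 → y < 2 ^ (T9 e).n := id
  have ls := lt (y := (QQ e).sq 9) (by omega)
  have gm := fun l (hl' : l < 9) => m.gen_mem (j := l) hl'
  have sT := s0_of (gm 6 (by decide)) (gm 7 (by decide)) (gm 1 (by decide)) (gm 0 (by decide)) (gm 3 (by decide))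
  obtain ⟨⟨z0, hz0, b1⟩, b2⟩ := ckE e μ hμ y hy y0 (fun p hp => m.hom i a1 (f7 p hp).1 (f7 p hp).2) fun u hu =>
    (a1.mul a1).eq i (s1 ▸ m.inner ls) (lt (by revert u; decide))
  have aa := aα.mul (a1.mul aα)
  obtain ⟨s, hs⟩ := h.cover1 c ⟨hP, fun s => le (sT s)⟩ (mul_mem αP (mul_mem r1P αP))
    (mul_mem (le (m.ev_mem (lt hz0))) r1P) ((aa.gen (j := 6) (by decide : 6 < 9)).trans ((congrArg _ b1).trans
      (((m.inner (lt hz0)).mul a1).gen (j := 6) (by decide : 6 < 9)).symm))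
  obtain ⟨u, hu, e1⟩ := sT s
  obtain ⟨z, hz, e2⟩ : ∃ z < 512, α * r1 * α⁻¹ = (T9 e).ev (gQ d φ x1 x2 r 1 1) z * r1 :=
    ⟨_, mul_lt m.ok (lt hz0) (a1 u hu).1, by
      rw [m.mul (lt hz0) (a1 u hu).1, ← (a1 u hu).2, k.α_inv, mul_assoc, hs, e1]; group⟩
  have lz := lt hz
  obtain ⟨n, hn, b3, b4, b5⟩ := b2 z hz ((m.eq_one i (mul_lt m.ok (aα z lz).1 lz)).1 (by
      rw [m.mul (aα z lz).1 lz, ← (aα z lz).2, eq_mul_inv_of_mul_eq e2.symm]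
      calc _ = α * α * r1 * (α * α)⁻¹ * r1⁻¹ * (r1 * (α * r1⁻¹ * α⁻¹ * (α * r1 * α⁻¹)) * r1⁻¹) := by group
        _ = _ := by rw [k.bn.αα]; group))
    (fun u hu => aa.eq i (by
      rw [← mul_assoc, show α * r1 * α = _ from (congrArg _ k.α_inv).symm.trans e2]
      exact (m.inner lz).mul a1) (lt (y := u) (by revert u; decide)))
    (i _ (mul_lt m.ok (mul_lt m.ok lz (a1 z lz).1) ls) _ (aα _ ls).1 (by
      rw [m.mul (mul_lt m.ok lz (a1 z lz).1) ls, m.mul lz (a1 z lz).1, ← (a1 z lz).2, ← (aα _ ls).2, ← s1]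
      calc _ = (T9 e).ev (gQ d φ x1 x2 r 1 1) z * r1 * ((T9 e).ev (gQ d φ x1 x2 r 1 1) z * r1) := by group
        _ = _ := by rw [← e2]; group))
  have ln : n < 2 ^ (T9 e).n := lt (by clear b3 b4 b5; revert n; decide)
  refine ⟨r1 * (T9 e).ev (gQ d φ x1 x2 r 1 1) n, ?_, ?_⟩
  · simp only [List.mem_cons, List.not_mem_nil, or_false] at hn
    rcases hn with rfl | rfl | rfl | rfl
    · exact .inl (by rw [ev_zero, mul_one])
    · exact .inr (.inl (congrArg _ ((T9 e).ev_gen _ (j := 3) (by decide : 3 < 9))))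
    · exact .inr (.inr (.inl (congrArg _ ((T9 e).ev_gen _ (j := 1) (by decide : 1 < 9)))))
    · exact .inr (.inr (.inr ((congrArg _ (m.evE _ f8)).trans (mul_assoc _ _ _).symm)))
  have gg : ∀ s β, ∀ j < 9, gQ d φ x1 x2 r s β j = gQ d φ x1 x2 r 1 1 j := fun s β j hj => by interval_cases j <;> rfl
  refine ((md _).ext f1 ?_ fun j hj => ?_).ext f2 (k.bn.αα.trans (by rw [f3, ev_zero])) fun j hj => ?_
  · have l1 := (a1 n ln).1
    rw [gQ_ev _ _ _ _ _ _ α 1 1, ← b4, m.mul (mul_lt m.ok l1 ls) ln, m.mul l1 ls, ← (a1 n ln).2, ← s1]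
    change r1 * _ * (r1 * _) = _
    group
  · rw [gQ_ev _ _ _ _ _ _ α 1 1, ← b3 j hj, gg _ _ j hj]
    exact (a1.mul (m.inner ln)).gen hj
  · rcases (by omega : j < 9 ∨ j = 9) with a | rfl
    · rw [← f4 j a, ← (QQ e).lev_ev' _ (j := 9) (aα _ (Nat.pow_lt_pow_right one_lt_two a)).1 (by decide),
        gQ_ev _ _ _ _ _ _ α 1 1, gg _ _ j a]
      exact aα.gen a
    · have l1 := (aα n ln).1
      have := congrArg ((T9 e).ev (gQ d φ x1 x2 r 1 1)) b5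
      rw [m.mul f5 (a1 n ln).1, m.mul lz (a1 _ l1).1, ← (a1 n ln).2, ← (a1 _ l1).2, ← (aα n ln).2,
        eq_mul_inv_of_mul_eq e2.symm] at this
      rw [f6, ev_hi _ _ f5, gQ_ev _ _ _ _ _ _ α 1 1, eq_mul_inv_of_mul_eq this]
      change α * (r1 * _) * α⁻¹ = _ * (r1 * _)
      group

end D5

end L5d

end CL.HS8
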