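import Cfsg.Agent.INV.HS8.L5x

/-!
Reflection for polycyclic models: expressions, automorphisms given on generators, building a model level by level.
-/

set_option autoImplicit false

open Subgroup CL.TwoS CL.MSS CL.K

namespace CL.HS8

variable {G : Type*} [Group G] {d : Dat G}

namespace PC

/-- group expressions in the generators -/
inductive E
  | x (i : ℕ)
  | one
  | mul (a b : E)
  | inv (a : E)
  | bp (a : E) (i : Bool)

namespace E

instance : Mul E := ⟨mul⟩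
instance : Inv E := ⟨inv⟩
instance : One E := ⟨one⟩

/-- the value -/
def den (g : ℕ → G) : E → G
  | x i => g i
  | one => 1
  | mul a b => a.den g * b.den g
  | inv a => (a.den g)⁻¹
  | bp a i => TwoS.bp (a.den g) i

/-- all generators are below `n` -/
def wf (n : ℕ) : E → Bool
  | x i => Nat.blt i n
  | one => true
  | mul a b => a.wf n && b.wf n
  | inv a => a.wf n
  | bp a _ => a.wf n

end E

/-- the code of an expression -/
noncomputable def ce (P : PC) : E → ℕ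
  | .x i => Nat.pow 2 i
  | .one => 0
  | .mul a b => P.mul (P.ce a) (P.ce b)
  | .inv a => P.iv (P.ce a)
  | .bp a i => cond i (P.ce a) 0

/-- the product of the codes `c k` over the low bits of `x` -/
noncomputable def appk (P : PC) (c : List ℕ) (x k : ℕ) : ℕ :=
  Nat.rec (motive := fun _ => ℕ) 0 (fun k ih => cond (x.testBit k) (P.mul ih (c.getD k 0)) ih) k

/-- the endomorphism with the given images of the generators -/
noncomputable def app (P : PC) (c : List ℕ) (x : ℕ) : ℕ := force x fun x => P.appk c x P.n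

/-- `u` conjugates the listed generators to the listed expressions -/
def Im (u : G) (g : ℕ → G) : List (ℕ × E) → Prop
  | [] => True
  | p :: L => u * g p.1 * u⁻¹ = p.2.den g ∧ Im u g L

theorem Im.mem {u : G} {g : ℕ → G} : ∀ {L : List (ℕ × E)}, Im u g L → ∀ p ∈ L, u * g p.1 * u⁻¹ = p.2.den g
  | [], _, _, h => absurd h List.not_mem_nil
  | _ :: _, h, p, hp => (List.mem_cons.1 hp).elim (fun e => e ▸ h.1) (h.2.mem p)

/-- the list `L` describes `c` outside the mask `M` -/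
noncomputable def imb (P : PC) (M : ℕ) (L : List (ℕ × E)) (c : ℕ → ℕ) : Bool :=
  allLt (fun k => M.testBit k || L.any fun p => Nat.beq p.1 k && p.2.wf P.n && Nat.beq (P.ce p.2) (c k)) P.n

/-- the relations of `P` hold for the codes `c` of `Q` -/
noncomputable def relb (P Q : PC) (c : List ℕ) : Bool :=
  allLt (fun k => Nat.blt (c.getD k 0) (Nat.pow 2 Q.n) &&
    Nat.beq (Q.mul (c.getD k 0) (c.getD k 0)) (Q.appk c (P.sq k) P.n) &&
    allLt (fun j => Nat.beq (Q.mul (c.getD k 0) (c.getD j 0))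
      (Q.mul (Q.appk c (P.th k (Nat.pow 2 j)) P.n) (c.getD k 0))) k) P.n

/-- `u` acts on the codes as `θ` -/
def AM (P : PC) (g : ℕ → G) (u : G) (θ : ℕ → ℕ) : Prop :=
  ∀ x < 2 ^ P.n, θ x < 2 ^ P.n ∧ u * P.ev g x * u⁻¹ = P.ev g (θ x)

theorem evk_cj (u : G) (g : ℕ → G) (x : ℕ) : ∀ k, evk (fun i => u * g i * u⁻¹) k x = u * evk g k x * u⁻¹
  | 0 => by simp [evk]
  | k + 1 => by rw [evk, evk, evk_cj u g x k, Jn.cjb]; group

theorem lev_ev' (P : PC) (g : ℕ → G) {j k x : ℕ} (hj : x < 2 ^ j) (hk : j ≤ k) :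
    (P.lev j).ev g x = (P.lev k).ev g x := (evk_lt g hj k hk).symm

variable {P : PC} {g : ℕ → G} {u v : G} {θ θ' : ℕ → ℕ}

theorem AM.mul (h : AM P g u θ) (h' : AM P g v θ') : AM P g (u * v) fun x => θ (θ' x) := fun x hx =>
  ⟨(h _ (h' x hx).1).1, by rw [← (h _ (h' x hx).1).2, ← (h' x hx).2]; group⟩

theorem AM.inv (h : AM P g u θ) (k : ∀ x < 2 ^ P.n, θ' x < 2 ^ P.n ∧ θ (θ' x) = x) : AM P g u⁻¹ θ' := fun x hx =>
  ⟨(k x hx).1, by
    have := (h _ (k x hx).1).2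
    rw [(k x hx).2] at this
    rw [← this]; group⟩

theorem AM.congr (h : AM P g u θ) (e : ∀ x < 2 ^ P.n, v * P.ev g x * v⁻¹ = u * P.ev g x * u⁻¹) : AM P g v θ :=
  fun x hx => ⟨(h x hx).1, (e x hx).trans (h x hx).2⟩

theorem AM.eq (h : AM P g u θ) (i : P.Inj g) (h' : AM P g u θ') {x : ℕ} (hx : x < 2 ^ P.n) : θ x = θ' x :=
  i _ (h x hx).1 _ (h' x hx).1 ((h x hx).2.symm.trans (h' x hx).2)

theorem AM.gen (h : AM P g u θ) {j : ℕ} (hj : j < P.n) : u * g j * u⁻¹ = P.ev g (θ (2 ^ j)) := by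
  rw [← (h _ (Nat.pow_lt_pow_right one_lt_two hj)).2, P.ev_gen g hj]

namespace Md

variable (m : Md P g)
include m

theorem ce : ∀ e : E, e.wf P.n = true → P.ce e < 2 ^ P.n ∧ P.ev g (P.ce e) = e.den g
  | .x i, h => ⟨Nat.pow_lt_pow_right one_lt_two (Nat.blt_eq.mp h), P.ev_gen g (Nat.blt_eq.mp h)⟩
  | .one, _ => ⟨Nat.two_pow_pos _, P.ev_zero g⟩
  | .mul a b, h => by
    rw [E.wf, Bool.and_eq_true] at h
    have h1 := ce a h.1
    have h2 := ce b h.2
    exact ⟨mul_lt m.ok h1.1 h2.1, by rw [PC.ce, m.mul h1.1 h2.1, h1.2, h2.2, E.den]⟩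
  | .inv a, h => by
    have h1 := ce a h
    exact ⟨iv_lt m.ok h1.1, by rw [PC.ce, m.iv h1.1, h1.2, E.den]⟩
  | .bp a i, h => by
    have h1 := ce a h
    cases i
    exacts [⟨Nat.two_pow_pos _, P.ev_zero g⟩, h1]

theorem evE (e : E) {x : ℕ} (h : (e.wf P.n && Nat.beq (P.ce e) x) = true) : P.ev g x = e.den g := by
  rw [Bool.and_eq_true, Nat.beq_eq] at h
  exact h.2 ▸ (m.ce e h.1).2

theorem eqn (e e' : E) (h : (e'.wf P.n && (e.wf P.n && Nat.beq (P.ce e) (P.ce e'))) = true) : e.den g = e'.den g := by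
  rw [Bool.and_eq_true] at h
  exact (m.evE e h.2).symm.trans (m.ce e' h.1).2

theorem appk {c : List ℕ} {x : ℕ} {g' : ℕ → G} : ∀ j, (∀ k < j, x.testBit k = true →
    c.getD k 0 < 2 ^ P.n ∧ g' k = P.ev g (c.getD k 0)) →
    P.appk c x j < 2 ^ P.n ∧ evk g' j x = P.ev g (P.appk c x j)
  | 0, _ => ⟨Nat.two_pow_pos _, (P.ev_zero g).symm⟩
  | j + 1, h => by
    obtain ⟨h1, h2⟩ := appk j fun k hk => h k (hk.trans j.lt_succ_self)
    have e : P.appk c x (j + 1) = cond (x.testBit j) (P.mul (P.appk c x j) (c.getD j 0)) (P.appk c x j) := rfl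
    rw [e, evk, h2]
    cases hb : x.testBit j
    · exact ⟨h1, mul_one _⟩
    · obtain ⟨h3, h4⟩ := h j j.lt_succ_self hb
      exact ⟨mul_lt m.ok h1 h3, by rw [cond_true, m.mul h1 h3, h4, bp_true]⟩

theorem part {c : List ℕ} {M : ℕ} (h : ∀ k < P.n, M.testBit k = false →
    c.getD k 0 < 2 ^ P.n ∧ u * g k * u⁻¹ = P.ev g (c.getD k 0)) {x : ℕ} (hM : x &&& M = 0) :
    P.app c x < 2 ^ P.n ∧ u * P.ev g x * u⁻¹ = P.ev g (P.app c x) := by
  rw [app, force_eq, ev, ← evk_cj]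
  refine m.appk _ fun k hk hx => h k hk ?_
  have := congrArg (Nat.testBit · k) hM
  simpa [hx] using this

theorem im {c : ℕ → ℕ} {M : ℕ} {L : List (ℕ × E)} (hb : P.imb M L c = true) (h : Im u g L) :
    ∀ k < P.n, M.testBit k = false → c k < 2 ^ P.n ∧ u * g k * u⁻¹ = P.ev g (c k) := fun k hk hM => by
  simp only [imb, allLt_iff, Bool.or_eq_true, List.any_eq_true, Bool.and_eq_true, Nat.beq_eq] at hb
  obtain ⟨p, hp, ⟨rfl, a⟩, b⟩ := (hb k hk).resolve_left (by simp [hM])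
  rw [← b, (m.ce _ a).2]
  exact ⟨(m.ce _ a).1, h.mem p hp⟩

theorem am {c : List ℕ} (h : ∀ k < P.n, c.getD k 0 < 2 ^ P.n ∧ u * g k * u⁻¹ = P.ev g (c.getD k 0)) :
    AM P g u (P.app c) := fun x _ => m.part (M := 0) (fun k hk _ => h k hk) (Nat.and_zero x)

theorem amE {c : List ℕ} {L : List (ℕ × E)} (hb : P.imb 0 L (c.getD · 0) = true) (h : Im u g L) :
    AM P g u (P.app c) := m.am fun k hk => m.im hb h k hk (Nat.zero_testBit k)

theorem inner {s : ℕ} (hs : s < 2 ^ P.n) : AM P g (P.ev g s) (P.cj s) := fun _ hx =>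
  ⟨cj_lt m.ok hs hx, (m.cj hs hx).symm⟩

theorem hom (i : P.Inj g) (h : AM P g u θ) {x y : ℕ} (hx : x < 2 ^ P.n) (hy : y < 2 ^ P.n) :
    θ (P.mul x y) = P.mul (θ x) (θ y) := by
  have l := mul_lt m.ok hx hy
  refine i _ (h _ l).1 _ (mul_lt m.ok (h x hx).1 (h y hy).1) ?_
  rw [← (h _ l).2, m.mul hx hy, m.mul (h x hx).1 (h y hy).1, ← (h x hx).2, ← (h y hy).2]
  group

theorem nm (h : AM P g u θ) : ∀ s ∈ m.sub, u * s * u⁻¹ ∈ m.sub := by
  rintro _ ⟨x, hx, rfl⟩
  exact ⟨_, (h x hx).1, (h x hx).2.symm⟩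

theorem rel_of {R : PC} {c : List ℕ} (hb : R.relb P c = true) {g' : ℕ → G}
    (hg : ∀ k < R.n, g' k = P.ev g (c.getD k 0)) : R.Rel g' := by
  simp only [relb, allLt_iff, Bool.and_eq_true, Nat.blt_eq, Nat.beq_eq, Nat.pow_eq] at hb
  have k0 := fun x => m.appk (c := c) (x := x) (g' := g') R.n fun k hk _ => ⟨(hb k hk).1.1, hg k hk⟩
  intro k hk
  refine ⟨?_, fun j hj => ?_⟩
  · rw [ev, (k0 _).2, ← (hb k hk).1.2, m.mul (hb k hk).1.1 (hb k hk).1.1, hg k hk]
  · rw [ev, (k0 _).2, hg k hk, hg j (hj.trans hk), ← m.mul (k0 _).1 (hb k hk).1.1, ← (hb k hk).2 j hj,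
      m.mul (hb k hk).1.1 (hb j (hj.trans hk)).1.1]

end Md

theorem md0 (h : (P.lev 0).ok = true) : Md (P.lev 0) g := ⟨h, fun _ hk => absurd hk (Nat.not_lt_zero _)⟩

theorem Md.ext {k : ℕ} (m : Md (P.lev k) g) (ok : (P.lev (k + 1)).ok = true)
    (h1 : g k * g k = (P.lev k).ev g (P.sq k))
    (h2 : ∀ j < k, g k * g j * (g k)⁻¹ = (P.lev k).ev g (P.th k (2 ^ j))) : Md (P.lev (k + 1)) g := by
  refine ⟨ok, fun l hl => ?_⟩
  have s : P.sq l < 2 ^ k := ((ok_spec ok).1 l hl).1.trans_le (Nat.pow_le_pow_right two_pos (Nat.le_of_lt_succ hl))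
  have t : ∀ j < l, P.th l (2 ^ j) < 2 ^ k := fun j hj =>
    (th_lt ok hl (Nat.pow_lt_pow_right one_lt_two hj)).trans_le (Nat.pow_le_pow_right two_pos (Nat.le_of_lt_succ hl))
  rcases (Nat.le_of_lt_succ hl).lt_or_eq with h | rfl
  · exact ⟨(m.rel l h).1.trans (P.lev_ev' g s k.le_succ), fun j hj =>
      ((m.rel l h).2 j hj).trans (congrArg (· * g l) (P.lev_ev' g (t j hj) k.le_succ))⟩
  · exact ⟨h1.trans (P.lev_ev' g s l.le_succ), fun j hj =>
      (mul_inv_eq_iff_eq_mul.1 (h2 j hj)).trans (congrArg (· * g l) (P.lev_ev' g (t j hj) l.le_succ))⟩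

/-- the check for `Md.extE` -/
noncomputable def extb (P : PC) (k : ℕ) (s : E) (L : List (ℕ × E)) : Bool :=
  (P.lev (k + 1)).ok && (s.wf k && Nat.beq ((P.lev k).ce s) (P.sq k)) &&
    (P.lev k).imb 0 L fun j => P.th k (Nat.pow 2 j)

theorem Md.extE {k : ℕ} (m : Md (P.lev k) g) (s : E) (L : List (ℕ × E)) (hb : P.extb k s L = true)
    (h1 : g k * g k = s.den g) (h2 : Im (g k) g L) : Md (P.lev (k + 1)) g := by
  rw [extb, Bool.and_eq_true, Bool.and_eq_true] at hb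
  exact m.ext hb.1.1 (h1.trans (m.evE s hb.1.2).symm) fun j hj => (m.im hb.2 h2 j hj (Nat.zero_testBit j)).2

end PC

variable [Finite G]

/-- A conjugate of `t` does not lie in an elementary abelian group of order more than 16. -/
theorem Hy.ea (h : Hy d) {P : PC} {g : ℕ → G} (m : PC.Md P g) (i : P.Inj g) {x : ℕ} (hx : x < 2 ^ P.n)
    (hb : 16 < P.cenN x) (he : ∀ y < 2 ^ P.n, P.mul x y = P.mul y x → P.mul y y = 0) :
    ¬ IsConj d.t (P.ev g x) := fun k => by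
  have := h.rank4 k (B := m.sub ⊓ centralizer {P.ev g x}) (by
    rintro _ ⟨⟨y, hy, rfl⟩, c⟩
    rw [← m.mul hy hy, he y hy ((m.comm i hx hy).1 (mem_centralizer_singleton_iff.1 c).symm), PC.ev_zero])
    fun y hy => mem_centralizer_singleton_iff.1 hy.2
  rw [m.card_cen i hx] at this
  exact absurd hb (not_lt.2 this)

/-- The elements acting on `R` as elements of `R`. -/
abbrev Inn (R : Subgroup G) : Subgroup G := R ⊔ centralizer (R : Set G)

theorem Hy.inn (h : Hy d) (c : C1 d) {R : Subgroup G} (hR : Ov d R) {g σ s : G} (hg : g ∈ normalizer (R : Set G))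
    (hσ : σ ∈ normalizer (R : Set G)) (hs : s ∈ R) (e : g * d.t * g⁻¹ = σ * s * d.t * (σ * s)⁻¹) :
    σ⁻¹ * g ∈ Inn R := by
  obtain ⟨m, hm⟩ := h.stab1 c hR (g := (σ * s)⁻¹ * g) (fun x hx => (mem_normalizer_iff.1
    (mul_mem (inv_mem (mul_mem hσ (le_normalizer hs))) hg) x).1 hx) (comm_of_cj (by
      rw [show (σ * s)⁻¹ * g * d.t * ((σ * s)⁻¹ * g)⁻¹ = (σ * s)⁻¹ * (g * d.t * g⁻¹) * (σ * s) by group, e]; group))
  have : (d.φ5 m)⁻¹ * ((σ * s)⁻¹ * g) ∈ centralizer (R : Set G) := fun x hx => by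
    calc _ = (d.φ5 m)⁻¹ * (d.φ5 m * x * (d.φ5 m)⁻¹) * ((σ * s)⁻¹ * g) := by group
      _ = _ := by rw [← hm x hx]; group
  have := mul_mem (mem_sup_left (mul_mem hs (hR.s0 m))) (mem_sup_right this : _ ∈ Inn R)
  simpa [mul_assoc] using this

omit [Finite G] in
theorem inn_two {R : Subgroup G} (hR : IsPGroup 2 R) {g : G} (h : g * g ∈ Inn R) :
    ∃ k : ℕ, ∀ x ∈ R, Commute (g ^ 2 ^ k) x := by
  rw [Inn, sup_comm] at h
  obtain ⟨z, hz, s, hs, e⟩ := (mem_sup_of_le_normalizer (centralizer_le_normalizer _)).1 h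
  obtain ⟨k, hk⟩ := isPGroup_iff_forall_mem.1 hR s hs
  refine ⟨k + 1, fun x hx => ?_⟩
  rw [pow_succ', pow_mul, sq, ← e, Commute.mul_pow (hz s hs).symm, hk, mul_one]
  exact Commute.pow_left (hz x hx).symm _

omit [Finite G] in
theorem inn_nm {R : Subgroup G} : normalizer (R : Set G) ≤ normalizer (Inn R : Set G) :=
  le_normalizer_sup le_rfl (normalizer_le_normalizer_centralizer R)

omit [Finite G] in
theorem sq_four {D : Subgroup G} {A B : G} (hA : A ∈ normalizer (D : Set G)) (hB : B ∈ normalizer (D : Set G))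
    (a : A * A ∈ D) (b : B * B ∈ D) (h : ∃ σ ∈ [1, A, B, A * B], σ⁻¹ * (A * B * (A * B)) ∈ D) :
    A * B * (A * B) ∈ D := by
  have cA := fun x (hx : x ∈ D) => (mem_normalizer_iff.1 hA x).1 hx
  have cB := fun x (hx : x ∈ D) => (mem_normalizer_iff.1 hB x).1 hx
  have cB' := fun x (hx : x ∈ D) => (mem_normalizer_iff.1 (inv_mem hB) x).1 hx
  simp only [List.mem_cons, List.not_mem_nil, or_false, exists_eq_or_imp, exists_eq_left] at h
  rcases h with h | h | h | h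
  · simpa using h
  · have k : A ∈ D := by simpa [mul_assoc] using mul_mem (cB' _ h) (inv_mem b)
    simpa [mul_assoc] using mul_mem (mul_mem k (cB _ k)) b
  · have k : B ∈ D := by
      have h1 : A * B * A ∈ D := by simpa [mul_assoc] using cB _ h
      have h2 := (mem_normalizer_iff.1 (inv_mem hA) _).1 h1
      simpa [mul_assoc] using mul_mem h2 (inv_mem a)
    simpa [mul_assoc] using mul_mem (mul_mem (cA _ k) a) k
  · have k : A * B ∈ D := by simpa [mul_assoc] using h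
    exact mul_mem k k

omit [Finite G] in
theorem sq_mul_mem {D : Subgroup G} {A s : G} (hA : A ∈ normalizer (D : Set G)) (a : A * A ∈ D) (hs : s ∈ D) :
    A * s * (A * s) ∈ D := by
  simpa [mul_assoc] using mul_mem (mul_mem ((mem_normalizer_iff.1 hA s).1 hs) a) hs

end CL.HS8
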