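import Cfsg.Agent.INV.HS8.Base

/-!
A Sylow 2-subgroup of `N(E)` with an adapted element `ρ`.
-/

set_option autoImplicit false

open Subgroup CL.TwoS CL.MSS

namespace CL.HS8

variable {G : Type*} [Group G] [Finite G] {d : Dat G}

/-- `A` is an elementary abelian group normalised by `S3` and meeting it trivially. -/
def Gd (A : List L4) : Prop := A.Nodup ∧ 1 ∈ A ∧ (∀ f ∈ A, ∀ g ∈ A, f * g ∈ A) ∧ (∀ f ∈ A, f * f = 1) ∧
  (∀ f ∈ A, rr * f * ri ∈ A ∧ sg * f * sg ∈ A) ∧ ∀ f ∈ A, f ∈ S3 → f = 1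

instance (A : List L4) : Decidable (Gd A) := by unfold Gd; infer_instance

theorem gd1 : Gd A1 := by decide +kernel
theorem gd2 : Gd A2 := by decide +kernel
theorem gd4T : Gd A4T := by decide +kernel
theorem gd4B : Gd A4B := by decide +kernel
theorem gd8 (β : Bool) : Gd (A8 β) := by cases β <;> decide +kernel

namespace LE

theorem assoc (f g k : L4) : f * g * k = f * (g * k) := L4.eq_of_app fun e => by simp only [L4.mul_app]
theorem mul_one' (f : L4) : f * 1 = f := L4.eq_of_app fun e => by rw [L4.mul_app, L4.one_app]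
theorem one_mul' (f : L4) : 1 * f = f := L4.eq_of_app fun e => by rw [L4.mul_app, L4.one_app]

theorem act_E (r : Rl d) (e : V4) : Act d.φ4 (d.φ4 e) 1 := fun x => by
  rw [L4.one_app]; exact r.mod4.cj (mul_comm _ _)

theorem cancel {x y : G} {f s s' : L4} (h : Act d.φ4 x (f * s)) (h' : Act d.φ4 y s') (e : s * s' = 1) :
    Act d.φ4 (x * y) f := by
  have := h.mul h'
  rwa [assoc, e, mul_one'] at this

theorem div {x y : G} {f : L4} (h : Act d.φ4 x f) (h' : Act d.φ4 y f) : Act d.φ4 (x⁻¹ * y) 1 :=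
  fun e => by
    rw [L4.one_app]
    calc _ = x⁻¹ * (y * d.φ4 e * y⁻¹) * x := by group
      _ = _ := by rw [h', ← h]; group

/-- the elements acting in `A` -/
def KA (d : Dat G) {A : List L4} (gA : Gd A) : Subgroup G :=
  subOfMul {g | ∃ f ∈ A, Act d.φ4 g f} ⟨1, gA.2.1, Act.one⟩
    fun _ ⟨f, hf, a⟩ _ ⟨f', hf', b⟩ => ⟨_, gA.2.2.1 f hf f' hf', a.mul b⟩

/-- the normaliser of `E` -/
def NE (d : Dat G) : Subgroup G :=
  subOfMul {g | Into d.φ4 d.φ4 g} Act.one.into fun _ a _ b => Into.mul a b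

variable {A : List L4}

theorem w_nm (r : Rl d) (gA : Gd A) : d.w ∈ normalizer (KA d gA : Set G) :=
  mem_normalizer_of_cj_le (cj_le_iff_forall.2 fun _ ⟨f, hf, a⟩ =>
    ⟨_, (gA.2.2.2.2.1 f hf).2, (r.act_w.mul a).mul (r.act_w.inv (by decide))⟩)

theorem ρ_nm (r : Rl d) (gA : Gd A) : d.ρ ∈ normalizer (KA d gA : Set G) :=
  mem_normalizer_of_cj_le (cj_le_iff_forall.2 fun _ ⟨f, hf, a⟩ =>
    ⟨_, (gA.2.2.2.2.1 f hf).1, (r.act_ρ.mul a).mul (r.act_ρ.inv rr_ri)⟩)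

theorem dec (r : Rl d) (gA : Gd A) (hA : AE d A) {g : G} (hg : Into d.φ4 d.φ4 g) :
    ∃ x, (x = g ∨ x = g * d.w) ∧ (x ∈ KA d gA ∨ x * d.ρ ∈ KA d gA ∨ x * d.ρ⁻¹ ∈ KA d gA) := by
  obtain ⟨f, hf, s, hs, a⟩ := hA.le g hg
  have i := r.act_ρ.inv rr_ri
  simp only [S3, List.mem_cons, List.not_mem_nil, or_false] at hs
  rcases hs with rfl | rfl | rfl | rfl | rfl | rfl
  · exact ⟨_, Or.inl rfl, Or.inl ⟨f, hf, mul_one' f ▸ a⟩⟩
  · exact ⟨_, Or.inl rfl, Or.inr (Or.inr ⟨f, hf, cancel a i rr_ri⟩)⟩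
  · exact ⟨_, Or.inl rfl, Or.inr (Or.inl ⟨f, hf, cancel a r.act_ρ (by decide)⟩)⟩
  · exact ⟨_, Or.inr rfl, Or.inl ⟨f, hf, cancel a r.act_w (by decide)⟩⟩
  · exact ⟨_, Or.inr rfl, Or.inr (Or.inr ⟨f, hf, by
      rw [mul_assoc]; exact cancel a (r.act_w.mul i) (by decide)⟩)⟩
  · exact ⟨_, Or.inr rfl, Or.inr (Or.inl ⟨f, hf, by
      rw [mul_assoc]; exact cancel a (r.act_w.mul r.act_ρ) (by decide)⟩)⟩

theorem NE_nm (r : Rl d) (gA : Gd A) (hA : AE d A) : NE d ≤ normalizer (KA d gA : Set G) := fun g hg => by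
  obtain ⟨x, e, hx⟩ := dec r gA hA hg
  have : x ∈ normalizer (KA d gA : Set G) := by
    rcases hx with a | a | a
    · exact le_normalizer a
    · exact (mul_mem_cancel_right (ρ_nm r gA)).1 (le_normalizer a)
    · exact (mul_mem_cancel_right (inv_mem (ρ_nm r gA))).1 (le_normalizer a)
  rcases e with rfl | rfl
  · exact this
  · exact (mul_mem_cancel_right (w_nm r gA)).1 this

theorem no3 {K : Subgroup G} {x σ : G} (hσ : σ ∈ normalizer (K : Set G)) (h3 : σ * σ * σ ∈ K)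
    (hx : x * σ ∈ K) {k : ℕ} (h2 : x ^ 2 ^ k = 1) : σ ∈ K := by
  have c := fun y hy => conj_mem_of_normalizes' (Q := K) le_rfl hσ (y := y) hy
  have h : x ^ 3 ∈ K := by
    have := mul_mem (mul_mem (mul_mem hx (c _ hx)) (c _ (c _ hx))) (inv_mem h3)
    rwa [show x * σ * (σ⁻¹ * (x * σ) * σ) * (σ⁻¹ * (σ⁻¹ * (x * σ) * σ) * σ) * (σ * σ * σ)⁻¹ =
      x * x * x by group, ← pow_three'] at this
  obtain ⟨m, hm⟩ := exists_pow_eq_self_of_coprime (x := x) (n := 3)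
    (Nat.Coprime.coprime_dvd_right (orderOf_dvd_of_pow_eq_one h2) (Nat.Coprime.pow_right _ (by decide)))
  exact (mul_mem_cancel_left (hm ▸ pow_mem h m)).1 hx

theorem act2 (r : Rl d) (gA : Gd A) (hA : AE d A) {Q : Subgroup G} (hQ : IsPGroup 2 Q) (hw : d.w ∈ Q)
    {g : G} (hg : g ∈ Q) (hE : Into d.φ4 d.φ4 g) : g ∈ KA d gA ∨ g * d.w ∈ KA d gA := by
  obtain ⟨x, e, hx⟩ := dec r gA hA hE
  obtain ⟨k, hk⟩ := isPGroup_iff_forall_mem.1 hQ x (by
    rcases e with rfl | rfl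
    exacts [hg, mul_mem hg hw])
  have h3 : d.ρ * d.ρ * d.ρ ∈ KA d gA := ⟨1, gA.2.1,
    (show rr * rr * rr = 1 by decide) ▸ (r.act_ρ.mul r.act_ρ).mul r.act_ρ⟩
  have n : d.ρ ∉ KA d gA := fun ⟨f, hf, a⟩ => by
    obtain rfl := Act.unique r.mod4.inj a r.act_ρ
    exact absurd (gA.2.2.2.2.2 _ hf (by decide)) (by decide)
  have : x ∈ KA d gA := by
    rcases hx with a | a | a
    · exact a
    · exact absurd (no3 (ρ_nm r gA) h3 a hk) n
    · exact absurd (inv_mem_iff.1 (no3 (inv_mem (ρ_nm r gA)) (by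
        rw [← mul_inv_rev, ← mul_inv_rev, ← mul_assoc]; exact inv_mem h3) a hk)) n
  rcases e with rfl | rfl
  exacts [Or.inl this, Or.inr this]

theorem ker (h : Hy d) {Q : Subgroup G} (hQ : Ov d Q) {x : G} (hx : x ∈ Q) (a : Act d.φ4 x 1) :
    ∃ e, x = d.φ4 e := by
  have c : ∀ e, Commute x (d.φ4 e) := fun e => comm_of_cj (by rw [a, L4.one_app])
  exact h.cV hQ.pg (fun e => d.φ5_e e ▸ hQ.s0 _) hx (d.ψt ▸ c _) (d.ψv ▸ c _)
    ((d.ψa ▸ c _ : Commute x d.a).mul_right (d.ψb ▸ c _))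

/-- Adjusting `r` so that `W` inverts it. -/
theorem fix {Γ : Type*} [Group Γ] {ε : V4 → Γ} (hε : ∀ e f, ε (e * f) = ε e * ε f) {W r : Γ}
    (hW : Act ε W sg) (hr : Act ε r rr) (W2 : W * W = 1) (r3 : r * r * r = 1) {e : V4}
    (h : W * r * W * r = ε e) : ∃ c, W * (ε c * r * (ε c)⁻¹) * W * (ε c * r * (ε c)⁻¹) = 1 := by
  have e1 : ε 1 = 1 := by simpa using hε 1 1
  have ei : ∀ c, (ε c)⁻¹ = ε c := fun c => inv_eq_of_mul_eq_one_left (by rw [← hε, V4.mul_self, e1])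
  have hi := hr.inv rr_ri
  have h2 : ε (e * (sg * rr).app e) = 1 := by
    rw [hε, ← hW.mul hr e, ← h, show W * r * (W * r * W * r) * (W * r)⁻¹ = W * r * W * r by group, h,
      ← hε, V4.mul_self, e1]
  have h1 : ε (e * ri.app e * ri.app (ri.app e)) = 1 := by
    rw [hε, hε, ← hi (ri.app e), ← hi e, ← h]
    calc _ = W * r * (W * W) * r * (W * W) * r * W * (r * r * r) := by group
      _ = W * (r * r * r) * W * (r * r * r) := by rw [W2]; group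
      _ = 1 := by rw [r3, mul_one, mul_one, W2]
  have h3 : ∀ q, ε q = 1 → ε (rr.app q) = 1 := fun q a => by rw [← hr, a]; group
  have H : ∀ e : V4, ∃ c, ∀ y, y = sg.app (c * rr.app c) * (sg * rr * sg).app (c * rr.app c) * e →
      y = e * ri.app e * ri.app (ri.app e) ∨
      y = e * ri.app e * ri.app (ri.app e) * rr.app (e * (sg * rr).app e) ∨
      y = e * ri.app e * ri.app (ri.app e) * rr.app (rr.app (e * (sg * rr).app e)) := by decide +kernel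
  obtain ⟨c, hc⟩ := H e
  refine ⟨c, ?_⟩
  have k : ε c * r * (ε c)⁻¹ = ε (c * rr.app c) * r := by rw [hε, ← hr, ei]; group
  have : ε (sg.app (c * rr.app c) * (sg * rr * sg).app (c * rr.app c) * e) = 1 := by
    rcases hc _ rfl with a | a | a <;> rw [a]
    · exact h1
    · rw [hε, h1, h3 _ h2, mul_one]
    · rw [hε, h1, h3 _ (h3 _ h2), mul_one]
  rw [k, ← this, hε _ e, hε (sg.app _), ← hW, ← (hW.mul hr).mul hW, ← h]
  group

/-- The adapted element. -/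
theorem adapt (h : Hy d) {M : Subgroup G} (hM : IsPGroup 2 M) (hE : ∀ e, d.φ4 e ∈ M)
    (hw : d.w ∈ normalizer (M : Set G)) {ρ : G} (hρ : ρ ∈ normalizer (M : Set G))
    (a : Act d.φ4 ρ rr) : ∃ ρ ∈ normalizer (M : Set G), Act d.φ4 ρ rr ∧
      ρ * ρ * ρ ∈ centralizer (M : Set G) ∧ d.w * ρ * d.w * ρ ∈ centralizer (M : Set G) := by
  let θ := M.normalizerMonoidHom
  let ι : V4 → normalizer (M : Set G) := fun e => ⟨d.φ4 e, le_normalizer (hE e)⟩
  have hθ : ∀ g, θ g = 1 ↔ (g : G) ∈ centralizer (M : Set G) := fun g => by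
    rw [← MonoidHom.mem_ker, normalizerMonoidHom_ker, mem_subgroupOf]
  have st : ∀ g : normalizer (M : Set G), Act d.φ4 g 1 → ∃ e, θ g = θ (ι e) := fun g a => by
    obtain ⟨e, he⟩ := h.stabE hM hE (fun x hx => conj_mem_of_normalizes le_rfl g.2 hx) a
    exact ⟨e, MulEquiv.ext fun x => Subtype.ext (he x x.2)⟩
  have ac : ∀ (g : normalizer (M : Set G)) f, Act d.φ4 g f → Act (fun e => θ (ι e)) (θ g) f :=
    fun g f a e => by rw [← map_inv, ← map_mul, ← map_mul]; exact congrArg θ (Subtype.ext (a e))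
  have hε : ∀ e f, θ (ι (e * f)) = θ (ι e) * θ (ι f) := fun e f => by
    rw [← map_mul]; exact congrArg θ (Subtype.ext (h.toRl.mod4.mul e f))
  obtain ⟨r, rfl⟩ : ∃ r : normalizer (M : Set G), r = ρ := ⟨⟨ρ, hρ⟩, rfl⟩
  obtain ⟨w, hw⟩ : ∃ w : normalizer (M : Set G), w = d.w := ⟨⟨_, hw⟩, rfl⟩
  have aw : Act d.φ4 w sg := hw ▸ h.toRl.act_w
  have a3 : Act d.φ4 (r * r * r : normalizer (M : Set G)) 1 :=
    (show rr * rr * rr = 1 by decide) ▸ (a.mul a).mul a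
  obtain ⟨e, he⟩ := st _ a3
  have a4 : Act d.φ4 (r * r * r * r : normalizer (M : Set G)) rr := one_mul' rr ▸ a3.mul a
  have r3 : θ (r * r * r * r) * θ (r * r * r * r) * θ (r * r * r * r) = 1 := by
    have : θ (r * r * r) * θ (r * r * r) = 1 := by
      rw [he, ← hε, V4.mul_self]
      exact (congrArg θ (Subtype.ext h.toRl.mod4.one)).trans (map_one θ)
    rw [← mul_one 1, ← this]
    simp only [map_mul, mul_assoc]
  generalize r * r * r * r = q at a4 r3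
  obtain ⟨e', he'⟩ := st (w * q * w * q)
    ((show sg * rr * sg * rr = 1 by decide) ▸ ((aw.mul a4).mul aw).mul a4)
  obtain ⟨c, hc⟩ := fix hε (ac _ _ aw) (ac _ _ a4) (by
    rw [← map_mul, ← map_one θ]; exact congrArg θ (Subtype.ext (by simp [hw, h.ww]))) r3
    (by simpa only [map_mul] using he')
  refine ⟨_, (ι c * q * (ι c)⁻¹).2, ?_, (hθ (ι c * q * (ι c)⁻¹ * (ι c * q * (ι c)⁻¹) *
    (ι c * q * (ι c)⁻¹))).1 ?_, hw ▸ (hθ (w * (ι c * q * (ι c)⁻¹) * w * (ι c * q * (ι c)⁻¹))).1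
      (by simpa only [map_mul, map_inv] using hc)⟩
  · exact (show 1 * rr * 1 = rr by decide) ▸
      ((act_E h.toRl c).mul a4).mul ((act_E h.toRl c).inv (mul_one' 1))
  · simp only [map_mul, map_inv, conj_mul] at r3 ⊢
    rw [r3]; group

end LE

open LE

/-- Let `N = N(E)`, `C = C(E)`, `K = {g ∈ N acting in A}` (normal in `N`), `P ≥ R` Sylow in `N`,
`M = P ∩ K` (Sylow in `K`, covers `A` by `cover`; `ker` by `Hy.cV`; an element of `P` acts as `f s`, and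
`s ∈ {1, sg}` as `w ∈ P` and `P` is a 2-group). By `frattini` and `cov` there is `ρ1 ∈ N(M)` acting as `rr`.
By `Hy.stabE`, `ρ1 ^ 3` and `w ρ1 w ρ1` act on `M` as elements of `E`; replace `ρ1` by its odd part
(or by `ρ1 ^ 4`: if `ρ1 ^ 3` acts as `e` then `ρ1 ^ 12` acts as `e ^ 4 = 1`). If `w ρ w ρ` acts as `e` then `ρ w ρ`
acts as `w e`; replace `ρ` by `c ρ c⁻¹ = c (ρ c⁻¹ ρ⁻¹) ρ`, `c ∈ E`: on `M`, `w ρ w` acts as `e ρ⁻¹` and has order
three, so `e ∈ ⟨v, z⟩` modulo `Z(M)`, and `(w ρ w ρ)` is inverted by `w`, which leaves a suitable `c ∈ ⟨v, z⟩`. -/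
theorem Hy.le (h : Hy d) {A : List L4} (gA : Gd A) (hA : AE d A) {R : Subgroup G} (hR : Ov d R)
    (hN : ∀ x ∈ R, Into d.φ4 d.φ4 x) : ∃ P M ρ, R ≤ P ∧ Lo d A P M ρ := by
  have := Fact.mk Nat.prime_two
  have r := h.toRl
  obtain ⟨P, hP, le⟩ := exists_sylIn_ge (H := NE d) hR.pg hN
  have KN : KA d gA ≤ NE d := fun _ ⟨_, _, a⟩ => a.into
  have hM := hP.inf_normal_of_le (NE_nm r gA hA) KN
  have ov : Ov d P := ⟨hP.pgroup, fun m => le (hR.s0 m)⟩
  have wP : d.w ∈ P := d.φw ▸ ov.s0 _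
  have cov : ∀ f ∈ A, ∃ x ∈ P ⊓ KA d gA, Act d.φ4 x f := fun f hf => by
    obtain ⟨g, a⟩ := hA.ge f hf
    obtain ⟨p, hp, c, ⟨f', hf', b⟩, rfl⟩ := cover hM (C := KA d gd1)
      (fun _ ⟨f, hf, a⟩ => ⟨1, gA.2.1, List.mem_singleton.1 hf ▸ a⟩)
      (le_normalizer_of_cj_le fun k ⟨f, hf, a⟩ => cj_le_iff_forall.2 fun x ⟨f', hf', b⟩ =>
        ⟨1, List.mem_singleton_self _, by
          have := (a.mul b).mul (a.inv (gA.2.2.2.1 f hf))
          rwa [List.mem_singleton.1 hf', mul_one', gA.2.2.2.1 f hf] at this⟩)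
      (fun k ⟨f, hf, a⟩ => ⟨1, 1, List.mem_singleton_self _, by
        rw [pow_one, pow_two, ← gA.2.2.2.1 f hf]; exact a.mul a⟩) (g := g) ⟨f, hf, a⟩
    rw [List.mem_singleton.1 hf'] at b
    have := a.mul (b.inv (mul_one' 1))
    rw [mul_inv_cancel_right, mul_one'] at this
    exact ⟨p, hp, this⟩
  obtain ⟨c, ⟨f, hf, a⟩, hc⟩ := frattini hM fun x hx => conj_mem_of_normalizes le_rfl (ρ_nm r gA) hx
  obtain ⟨m, hm, b⟩ := cov f hf
  obtain ⟨ρ, n, a1, a2, a3⟩ := adapt h hM.pgroup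
    (fun e => ⟨d.φ5_e e ▸ ov.s0 _, 1, gA.2.1, act_E r e⟩)
    (le_normalizer_inf (zpowers_le.2 (le_normalizer wP)) (zpowers_le.2 (w_nm r gA)) (mem_zpowers _))
    (mul_mem (le_normalizer hm) (mem_normalizer_of_cj_le (cj_le_iff_forall.2 hc))) (by
      have := b.mul (a.mul r.act_ρ)
      rwa [← assoc, gA.2.2.2.1 f hf, one_mul'] at this)
  refine ⟨P, P ⊓ KA d gA, ρ, le, ov, fun x hx => ?_, fun _ => Iff.rfl, cov, fun x hx => ker h ov hx, a1,
    fun x hx => conj_mem_of_normalizes le_rfl n hx, fun x hx => (a2 x hx).symm, fun x hx => (a3 x hx).symm⟩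
  rcases act2 r gA hA hP.pgroup wP hx (hP.le hx) with ⟨f, hf, a⟩ | ⟨f, hf, a⟩
  · exact ⟨f, hf, Or.inl a⟩
  · exact ⟨f, hf, Or.inr (by simpa [mul_assoc, h.ww] using a.mul r.act_w)⟩

namespace Lo

variable {A : List L4} {P M : Subgroup G} {ρ : G}

theorem le (l : Lo d A P M ρ) : M ≤ P := fun x hx => ((l.memM x).1 hx).1

theorem e_mem (h : Hy d) (gA : Gd A) (l : Lo d A P M ρ) (e : V4) : d.φ4 e ∈ M := by
  exact (l.memM _).2 ⟨d.φ5_e e ▸ l.s0 _, 1, gA.2.1, act_E h.toRl e⟩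

theorem w_mem (l : Lo d A P M ρ) : d.w ∈ P := d.φw ▸ l.s0 _

theorem cases (h : Hy d) (l : Lo d A P M ρ) {x : G} (hx : x ∈ P) : x ∈ M ∨ x * d.w ∈ M := by
  obtain ⟨f, hf, a | a⟩ := l.act x hx
  · exact Or.inl ((l.memM _).2 ⟨hx, f, hf, a⟩)
  · exact Or.inr ((l.memM _).2 ⟨mul_mem hx l.w_mem, f, hf, cancel a h.toRl.act_w (by decide)⟩)

/-- Two elements of `P` with the same action differ by an element of `E`. -/
theorem eq_mul (h : Hy d) (l : Lo d A P M ρ) {x y : G} (hx : x ∈ P) (hy : y ∈ P) {f : L4}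
    (h1 : Act d.φ4 x f) (h2 : Act d.φ4 y f) : ∃ e, y = x * d.φ4 e := by
  obtain ⟨e, he⟩ := l.ker _ (mul_mem (inv_mem hx) hy) (LE.div h1 h2)
  exact ⟨e, by rw [← he, mul_inv_cancel_left]⟩

theorem nm (h : Hy d) (gA : Gd A) (l : Lo d A P M ρ) : ∀ g ∈ P, ∀ x ∈ M, g * x * g⁻¹ ∈ M := by
  intro g hg x hx
  have k : d.w * x * d.w⁻¹ ∈ M := (l.memM _).2
    ⟨mul_mem (mul_mem l.w_mem (l.le hx)) (inv_mem l.w_mem),
      conj_mem_of_normalizes le_rfl (w_nm h.toRl gA) ((l.memM _).1 hx).2⟩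
  rcases l.cases h hg with a | a
  · exact mul_mem (mul_mem a hx) (inv_mem a)
  · have := mul_mem (mul_mem a k) (inv_mem a)
    rwa [show g * d.w * (d.w * x * d.w⁻¹) * (g * d.w)⁻¹ = g * (d.w * d.w) * x * (d.w * d.w)⁻¹ * g⁻¹ by
      group, h.ww, mul_one, inv_one, mul_one] at this

theorem card_M (h : Hy d) (gA : Gd A) (l : Lo d A P M ρ) : Nat.card M = 16 * A.length := by
  have := ncard_acts h.toRl.mod4.inj (· ∈ P) A gA.1
  rw [show {g | g ∈ P ∧ ∃ f ∈ A, Act d.φ4 g f} = (M : Set G) from Set.ext fun x => (l.memM x).symm] at this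
  refine Eq.trans this ?_
  rw [List.map_congr_left (g := fun _ => 16), List.map_const', List.sum_replicate, smul_eq_mul, mul_comm]
  intro f hf
  obtain ⟨g, hg, a⟩ := l.cov f hf
  refine card_list (fun e => g * d.φ4 e) (fun _ _ e => h.toRl.mod4.inj (mul_left_cancel e)) _
    V4.nodup_all fun x => ⟨fun ⟨hx, b⟩ => ?_, ?_⟩
  · obtain ⟨e, he⟩ := l.eq_mul h (l.le hg) hx a b
    exact ⟨e, V4.mem_all e, he.symm⟩
  · rintro ⟨e, -, rfl⟩
    exact ⟨l.le (mul_mem hg (l.e_mem h gA e)), mul_one' f ▸ a.mul (act_E h.toRl e)⟩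

theorem card_P (h : Hy d) (gA : Gd A) (l : Lo d A P M ρ) : Nat.card P = 32 * A.length := by
  have n : d.w ∉ M := fun hw => by
    obtain ⟨-, f, hf, a⟩ := (l.memM _).1 hw
    obtain rfl := Act.unique h.toRl.mod4.inj a h.toRl.act_w
    exact absurd (gA.2.2.2.2.2 _ hf (by decide)) (by decide)
  have : P = ext2 M d.w (l.nm h gA _ l.w_mem) (h.ww ▸ one_mem M) := Subgroup.ext fun x => by
    rw [mem_ext2, inv_eq_of_mul_eq_one_left h.ww]
    exact ⟨l.cases h, fun a => a.elim (fun a => l.le a) fun a => (mul_mem_cancel_right l.w_mem).1 (l.le a)⟩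
  rw [this, card_ext2 n, l.card_M h gA]; omega

/-- `P` is a maximal 2-subgroup of `N(E)`. -/
theorem max (h : Hy d) (gA : Gd A) (hA : AE d A) (l : Lo d A P M ρ) {Q : Subgroup G}
    (hQ : IsPGroup 2 Q) (hle : P ≤ Q) {x : G} (hx : x ∈ Q) (hE : Into d.φ4 d.φ4 x) : x ∈ P := by
  have k : ∀ y ∈ Q, y ∈ KA d gA → y ∈ P := fun y hy ⟨f, hf, a⟩ => by
    obtain ⟨m, hm, b⟩ := l.cov f hf
    obtain ⟨e, he⟩ := LE.ker h ⟨hQ, fun m => hle (l.s0 m)⟩ (mul_mem (inv_mem (hle (l.le hm))) hy) (LE.div b a)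
    exact (mul_mem_cancel_left (inv_mem (l.le hm))).1 (he ▸ l.le (l.e_mem h gA e))
  rcases act2 h.toRl gA hA hQ (hle l.w_mem) hx hE with a | a
  · exact k _ hx a
  · exact (mul_mem_cancel_right l.w_mem).1 (k _ (mul_mem hx (hle l.w_mem)) a)

/-- An element normalising `M` and acting on `E` in `A` acts on `M` as an element of `M`. -/
theorem stabM (h : Hy d) (gA : Gd A) (l : Lo d A P M ρ) {g : G} (hg : ∀ x ∈ M, g * x * g⁻¹ ∈ M)
    {f : L4} (hf : f ∈ A) (ha : Act d.φ4 g f) : ∃ m ∈ M, ∀ x ∈ M, g * x * g⁻¹ = m * x * m⁻¹ := by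
  obtain ⟨m, hm, b⟩ := l.cov f hf
  obtain ⟨e, he⟩ := h.stabE (l.pg.to_le l.le) (l.e_mem h gA) (g := m⁻¹ * g) (fun x hx => by
    have := mul_mem (mul_mem (inv_mem hm) (hg x hx)) hm
    rwa [show m⁻¹ * (g * x * g⁻¹) * m = m⁻¹ * g * x * (m⁻¹ * g)⁻¹ by group] at this) (LE.div b ha)
  refine ⟨m * d.φ4 e, mul_mem hm (l.e_mem h gA e), fun x hx => ?_⟩
  calc _ = m * (m⁻¹ * g * x * (m⁻¹ * g)⁻¹) * m⁻¹ := by group
    _ = _ := by rw [he x hx]; group

end Lo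

end CL.HS8
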