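import Cfsg.Agent.INV.HS8.LE

/-!
Common part of the types T and B: the relations between `x`, `ρ x ρ⁻¹`, `ρ² x ρ⁻²`, `w` and `k`.
-/

set_option autoImplicit false
set_option linter.unusedSectionVars false

open Subgroup CL.TwoS CL.MSS

namespace CL.HS8

variable {G : Type*} [Group G] {d : Dat G}

namespace Ltb

theorem mv {φ : V4 → G} {x : G} {f : L4} (hx : Act φ x f) (hf : f * f = 1) (e : V4) :
    φ e * x = x * φ (f.app e) := by
  have := hx (f.app e)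
  rw [← L4.mul_app, hf, L4.one_app] at this
  rw [← this]; group

theorem mv' {φ : V4 → G} {x : G} {f : L4} (hx : Act φ x f) (hf : f * f = 1) (e : V4) (y : G) :
    φ e * (x * y) = x * (φ (f.app e) * y) := by rw [← mul_assoc, mv hx hf, mul_assoc]

theorem mm {φ : V4 → G} (h : IsMod φ) (e f : V4) : φ e * φ f = φ (e * f) := (h.mul e f).symm

theorem mm' {φ : V4 → G} (h : IsMod φ) (e f : V4) (y : G) : φ e * (φ f * y) = φ (e * f) * y := by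
  rw [h.mul, mul_assoc]

theorem inv {φ : V4 → G} (h : IsMod φ) (e : V4) : (φ e)⁻¹ = φ e :=
  inv_eq_of_mul_eq_one_right (by rw [← h.mul, V4.mul_self, h.one])

theorem act_e {φ : V4 → G} (h : IsMod φ) (e : V4) : Act φ (φ e) 1 := fun x => by
  rw [L4.one_app]; exact h.cj (mul_comm _ _)

theorem act_mul_e {φ : V4 → G} (h : IsMod φ) {x : G} {f : L4} (hx : Act φ x f) (e : V4) :
    Act φ (x * φ e) f := fun u => by
  rw [show x * φ e * φ u * (x * φ e)⁻¹ = x * (φ e * φ u * (φ e)⁻¹) * x⁻¹ by group, act_e h e u,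
    L4.one_app, hx]

theorem act_au {y : G} {mt mv ma mw : ℕ} (a : Au d y mt mv ma mw) {f : L4}
    (k : ∀ e : V4, app5 (.of mt) (.of mv) (.of ma) (.of mw) ⟨e, false⟩ = ⟨f.app e, false⟩) :
    Act d.φ4 y f := fun e => by
  rw [← d.φ5_e, a, k, d.φ5_e]

theorem φb (δ : Bool) : d.φ4 (bp (.of 8) δ) = bp d.b δ := by
  cases δ
  · exact W4_one _ _ _ _
  · exact d.ψb

theorem inZ {e : V4} (he : e.v = false) : InZ d (d.φ4 e) := ⟨_, _, _, Hyp.φ4_cen e he⟩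

/-- `w y w⁻¹ = y b ^ β`. -/
theorem w_au (h : Rl d) {y : G} {mt mv : ℕ} {β : Bool} (a : Au d y mt mv 4 (cond β 24 16)) :
    d.w * y * d.w⁻¹ = y * d.φ4 (bp (.of 8) β) := by
  have k1 := a (.of 16)
  have k2 := a (.of 8)
  rw [show app5 (.of mt) (.of mv) (.of 4) (.of (cond β 24 16)) (.of 8) = .of 8 by
    change 1 * 1 * 1 * (M5.of 4 * M5.of 12) * 1 = _; decide, d.φb] at k2
  rw [show app5 (.of mt) (.of mv) (.of 4) (.of (cond β 24 16)) (.of 16) = bp (.of 8) β * .of 16 by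
    change 1 * 1 * 1 * 1 * M5.of (cond β 24 16) = _; cases β <;> decide, h.mod5.mul,
    map_bp h.mod5.one, d.φw, d.φb] at k1
  have c1 : Commute y (bp d.b β) := comm_bp (comm_of_cj k2) β
  have c2 : Commute d.w (bp d.b β) := comm_bp h.bw.symm β
  have s : bp d.b β * bp d.b β = 1 := by cases β; exacts [one_mul 1, h.c4.bb]
  rw [φb]
  calc d.w * y * d.w⁻¹ = bp d.b β * (bp d.b β * d.w) * y * d.w⁻¹ := by rw [← mul_assoc, s, one_mul]
    _ = bp d.b β * y := by rw [← k1]; group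
    _ = _ := c1.eq.symm

/-- `f` and its two conjugates under `rr` form a four-group, and `sg` centralises `f`. -/
def Ok (f g1 g2 : L4) : Prop := f * f = 1 ∧ g1 * g1 = 1 ∧ g2 * g2 = 1 ∧ rr * f * ri = g1 ∧
  rr * g1 * ri = g2 ∧ f * g1 * g2 = 1 ∧ g1 * f = f * g1 ∧ sg * f * sg = f

instance (f g1 g2 : L4) : Decidable (Ok f g1 g2) := by unfold Ok; infer_instance

/-- The constraints not involving the square. -/
def Con1 (f g1 g2 : L4) (N c e : V4) : Prop := rr.app N = f.app N ∧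
  c * f.app (g1.app N * (N * rr.app c)) = 1 ∧ e * sg.app e = 1 ∧
  N * (rr.app c * (g1.app (g2.app e) * (g1.app (ri.app e) * rr.app e))) = sg.app N

/-- The constraints involving the square. -/
def Con2 (f g1 : L4) (s N c e : V4) : Prop := f.app s = s ∧
  s * (rr.app s * (g1.app c * (g1.app (f.app N) * ri.app s))) = N ∧ s * (f.app e * e) = sg.app s ∧
  g1.app s * (c * f.app c) = s

instance (f g1 g2 : L4) (N c e : V4) : Decidable (Con1 f g1 g2 N c e) := by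
  unfold Con1; infer_instance
instance (f g1 : L4) (s N c e : V4) : Decidable (Con2 f g1 s N c e) := by
  unfold Con2; infer_instance

theorem rr_rr (e : V4) : rr.app (rr.app e) = ri.app e := by revert e; decide +kernel
theorem ri_rr : ri * rr = 1 := by decide
theorem sg_sg : sg * sg = 1 := by decide

theorem cjm (g x y : G) : g * (x * y) * g⁻¹ = g * x * g⁻¹ * (g * y * g⁻¹) := by group

end Ltb

open Ltb

variable [Finite G] {A : List L4} {P M : Subgroup G} {ρ : G}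

namespace Lo

theorem ρ_three (l : Lo d A P M ρ) {x : G} (hx : x ∈ M) :
    ρ * (ρ * (ρ * x * ρ⁻¹) * ρ⁻¹) * ρ⁻¹ = x := by
  rw [← cj_of_comm (l.ρ3 x hx)]
  conv_lhs => rw [cj_of_comm (l.ρ3 x hx)]
  group

theorem act_ρi (l : Lo d A P M ρ) : Act d.φ4 ρ⁻¹ ri := l.ρa.inv rr_ri

/-- `w ρ = ρ⁻¹ w` on `M`. -/
theorem w_ρ (h : Hy d) (gA : Gd A) (l : Lo d A P M ρ) {x : G} (hx : x ∈ M) :
    d.w * (ρ * x * ρ⁻¹) * d.w⁻¹ = ρ * (ρ * (d.w * x * d.w⁻¹) * ρ⁻¹) * ρ⁻¹ := by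
  have k1 := cj_of_comm (l.ρw x hx)
  have k2 := l.ρ_three (l.nm h gA _ l.w_mem _ (l.ρn x hx))
  have wi : d.w⁻¹ = d.w := inv_eq_of_mul_eq_one_right h.ww
  have k3 : ρ * (d.w * (ρ * x * ρ⁻¹) * d.w⁻¹) * ρ⁻¹ = d.w * x * d.w⁻¹ := by
    conv_rhs => rw [← k1]
    calc _ = (d.w * d.w) * (ρ * (d.w * (ρ * x * ρ⁻¹) * d.w⁻¹) * ρ⁻¹) * (d.w * d.w)⁻¹ := by
          rw [h.ww]; group
      _ = _ := by group
  rw [← k2, k3]

theorem rel (h : Hy d) (gA : Gd A) (l : Lo d A P M ρ) {f g1 g2 : L4} (o : Ok f g1 g2) {x α γ : G}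
    (hx : x ∈ M) (ax : Act d.φ4 x f) (eα : ρ * x * ρ⁻¹ = α) (eγ : ρ * α * ρ⁻¹ = γ) :
    ∃ s N c e, x * x = d.φ4 s ∧ x * (α * γ) = d.φ4 N ∧ α * x = x * (α * d.φ4 c) ∧
      d.w * x * d.w⁻¹ = x * d.φ4 e ∧ Con1 f g1 g2 N c e ∧ Con2 f g1 s N c e := by
  obtain ⟨o1, o2, o3, o4, o5, o6, o7, o8⟩ := o
  have m := h.toRl.mod4
  have hα : α ∈ M := eα ▸ l.ρn x hx
  have hγ : γ ∈ M := eγ ▸ l.ρn α hα
  have aα : Act d.φ4 α g1 := by rw [← eα, ← o4]; exact (l.ρa.mul ax).mul l.act_ρi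
  have aγ : Act d.φ4 γ g2 := by rw [← eγ, ← o5]; exact (l.ρa.mul aα).mul l.act_ρi
  have ex : ρ * γ * ρ⁻¹ = x := by rw [← eγ, ← eα]; exact l.ρ_three hx
  have aw := h.toRl.act_w
  obtain ⟨s, hs⟩ := l.ker _ (l.le (mul_mem hx hx)) (o1 ▸ ax.mul ax)
  obtain ⟨N, hN⟩ := l.ker _ (l.le (mul_mem (mul_mem hx hα) hγ)) (o6 ▸ (ax.mul aα).mul aγ)
  rw [mul_assoc] at hN
  obtain ⟨c, hc⟩ := l.eq_mul h (l.le (mul_mem hx hα)) (l.le (mul_mem hα hx)) (ax.mul aα)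
    (o7 ▸ aα.mul ax)
  rw [mul_assoc] at hc
  obtain ⟨e, he⟩ := l.eq_mul h (l.le hx) (l.le (l.nm h gA _ l.w_mem _ hx)) ax
    (o8 ▸ (aw.mul ax).mul (aw.inv sg_sg))
  have sα : α * α = d.φ4 (rr.app s) := by rw [← l.ρa, ← hs, cjm, eα]
  have sγ : γ * γ = d.φ4 (ri.app s) := by rw [← rr_rr, ← l.ρa, ← sα, cjm, eγ]
  have N1 : α * (γ * x) = d.φ4 (rr.app N) := by rw [← l.ρa, ← hN, cjm, cjm, eα, eγ, ex]
  have c1 : γ * α = α * (γ * d.φ4 (rr.app c)) := by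
    have := congrArg (fun y => ρ * y * ρ⁻¹) hc
    simp only [cjm, eα, eγ, l.ρa c] at this
    exact this
  have wα : d.w * α * d.w⁻¹ = γ * d.φ4 (ri.app e) := by
    rw [← eα, l.w_ρ h gA hx, he, cjm ρ x, eα, cjm ρ α, eγ, l.ρa, l.ρa, rr_rr]
  have wγ : d.w * γ * d.w⁻¹ = α * d.φ4 (rr.app e) := by
    rw [← eγ, l.w_ρ h gA hα, wα, cjm ρ γ, ex, cjm ρ x, eα, l.ρa, l.ρa]
    rw [(by decide +kernel : ∀ e : V4, rr.app (rr.app (ri.app e)) = rr.app e)]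
  refine ⟨s, N, c, e, hs, hN, hc, he, ⟨m.inj ?_, m.inj ?_, m.inj ?_, m.inj ?_⟩,
    m.inj ?_, m.inj ?_, m.inj ?_, m.inj ?_⟩
  · refine mul_left_cancel (a := x) ?_
    rw [← mv ax o1, ← hN, ← N1]; group
  · have k : α * d.φ4 (g1.app N) = x * α * x⁻¹ * d.φ4 (N * rr.app c) := by
      rw [← mv aα o2, m.mul, ← hN]
      calc _ = x * α * (γ * α) := by group
        _ = _ := by rw [c1]; group
    rw [m.one, m.mul]
    calc _ = (x * α)⁻¹ * (x * (α * d.φ4 c)) * d.φ4 (f.app (g1.app N * (N * rr.app c))) := by group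
      _ = (x * α)⁻¹ * α * (x * d.φ4 (f.app (g1.app N * (N * rr.app c)))) := by rw [← hc]; group
      _ = (x * α)⁻¹ * (α * d.φ4 (g1.app N)) * d.φ4 (N * rr.app c) * x := by
        rw [← mv ax o1, m.mul]; group
      _ = x⁻¹ * (d.φ4 (N * rr.app c) * d.φ4 (N * rr.app c)) * x := by rw [k]; group
      _ = 1 := by rw [mm m, V4.mul_self, m.one]; group
  · refine mul_left_cancel (a := x) ?_
    rw [m.mul, m.one, ← mul_assoc, ← aw, ← he, ← cjm, ← he]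
    calc _ = (d.w * d.w) * x * (d.w * d.w)⁻¹ := by group
      _ = _ := by rw [h.ww]; group
  · rw [← aw N, ← hN, cjm, cjm, he, wα, wγ]
    simp only [mul_assoc, mv' aγ o3, mv' aα o2, mm m]
    rw [m.mul N, ← hN, m.mul (rr.app c), ← mul_assoc γ, c1]
    group
  · rw [← ax, ← hs]; group
  · have k : γ = d.φ4 N * (x * (α * d.φ4 (ri.app s))) := by
      rw [← sγ, show x * (α * (γ * γ)) = x * (α * γ) * γ by group, hN, mm' m, V4.mul_self, m.one,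
        one_mul]
    conv_rhs => rw [← hN, k]
    simp only [mv' ax o1, mv' aα o2, mm m]
    rw [← mul_assoc α x, hc]
    simp only [mul_assoc, mv' aα o2, mm m]
    rw [m.mul s, m.mul (rr.app s), ← hs, ← sα]
    group
  · rw [← aw s, ← hs, cjm, he]
    simp only [mul_assoc, mv' ax o1, mm m]
    rw [m.mul s, ← hs]
    group
  · refine mul_left_cancel (a := α) ?_
    rw [m.mul, ← mul_assoc, ← mv aα o2, ← hs, ← mul_assoc α, hc]
    simp only [mul_assoc, mv ax o1]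
    rw [← mul_assoc α x, hc]
    simp only [mul_assoc, mm m]

/-- A normalised generator. -/
theorem gen (h : Hy d) (gA : Gd A) (l : Lo d A P M ρ) {f g1 g2 : L4} (o : Ok f g1 g2) (hf : f ∈ A)
    (D : ∀ N c e, Con1 f g1 g2 N c e → ∀ s, Con2 f g1 s N c e → ∃ u : V4,
      N * (g2.app (g1.app u) * (g2.app (rr.app u) * ri.app u)) = 1 ∧
      ∃ δ, e * (sg.app u * u) = bp (.of 8) δ) :
    ∃ x ∈ M, ∃ α ∈ M, ∃ γ, Act d.φ4 x f ∧ Act d.φ4 α g1 ∧ Act d.φ4 γ g2 ∧ ρ * x * ρ⁻¹ = α ∧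
      ρ * α * ρ⁻¹ = γ ∧ x * (α * γ) = 1 ∧ ∃ s c δ, x * x = d.φ4 s ∧ α * x = x * (α * d.φ4 c) ∧
      d.w * x * d.w⁻¹ = x * d.φ4 (bp (.of 8) δ) ∧ Con1 f g1 g2 1 c (bp (.of 8) δ) ∧
      Con2 f g1 s 1 c (bp (.of 8) δ) := by
  have m := h.toRl.mod4
  obtain ⟨x, hx, ax⟩ := l.cov f hf
  obtain ⟨s0, N, c, e, -, hN, -, he, k, k'⟩ := l.rel h gA o hx ax rfl rfl
  obtain ⟨u, u1, δ, u2⟩ := D N c e k s0 k'
  have hx' : x * d.φ4 u ∈ M := mul_mem hx (l.e_mem h gA u)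
  have ax' := act_mul_e m ax u
  have ac : ∀ {y g}, Act d.φ4 y g → Act d.φ4 (ρ * y * ρ⁻¹) (rr * g * ri) := fun a =>
    (l.ρa.mul a).mul l.act_ρi
  have aα := o.2.2.2.1 ▸ ac ax
  have aγ := o.2.2.2.2.1 ▸ ac aα
  obtain ⟨s, N', c', e', hs, hN', hc, he', k1, k2⟩ := l.rel h gA o hx' ax' rfl rfl
  have e1 : N' = 1 := m.inj (by
    rw [← hN', ← u1, m.mul N, ← hN, cjm ρ x, cjm ρ (ρ * x * ρ⁻¹), l.ρa, l.ρa, rr_rr]
    generalize ρ * (ρ * x * ρ⁻¹) * ρ⁻¹ = γ at aγ ⊢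
    generalize ρ * x * ρ⁻¹ = α at aα ⊢
    simp only [mul_assoc, mv' aγ o.2.2.1, mv' aα o.2.1, mm m])
  have e2 : e' = bp (.of 8) δ := m.inj (mul_left_cancel (a := x * d.φ4 u) (by
    rw [← he', cjm, he, h.toRl.act_w, ← u2]
    simp only [mul_assoc, mm m]
    rw [(by decide +kernel : ∀ e q u : V4, e * q = u * (e * (q * u))) e _ u]))
  subst e1 e2
  exact ⟨_, hx', _, l.ρn _ hx', _, ax', o.2.2.2.1 ▸ ac ax', o.2.2.2.2.1 ▸ ac (o.2.2.2.1 ▸ ac ax'),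
    rfl, rfl, hN'.trans m.one, s, c', δ, hs, hc, he', k1, k2⟩

theorem kw (h : Hy d) (gA : Gd A) (l : Lo d A P M ρ) {k y : G} (hk : k ∈ M) (ak : Act d.φ4 k kb)
    (kρ : ρ * k * ρ⁻¹ = k) (hy : y ∈ P) {β : Bool} (a : Au d y 9 2 4 (cond β 24 16)) :
    d.w * k * d.w⁻¹ = k * d.φ4 (bp (.of 8) β) ∧ ∃ c, InZ d c ∧ y = k * c := by
  have m := h.toRl.mod4
  have aw := h.toRl.act_w
  obtain ⟨e, he⟩ := l.eq_mul h (l.le hk) (l.le (l.nm h gA _ l.w_mem _ hk)) ak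
    ((by decide : sg * kb * sg = kb) ▸ (aw.mul ak).mul (aw.inv sg_sg))
  obtain ⟨e', he'⟩ := l.eq_mul h (l.le hk) hy ak (act_au a (by cases β <;> decide +kernel))
  have k1 : ri.app e = e := m.inj (mul_left_cancel (a := k) (by
    have := l.w_ρ h gA hk
    rw [kρ, he, cjm ρ k, kρ, cjm ρ k, kρ, l.ρa, l.ρa, rr_rr] at this
    exact this.symm))
  have k2 : e * sg.app e' = e' * bp (.of 8) β := m.inj (mul_left_cancel (a := k) (by
    have := w_au h.toRl a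
    rw [he', cjm, he, aw] at this
    rw [m.mul, m.mul, ← mul_assoc, ← mul_assoc, this]))
  obtain ⟨k3, k4⟩ := (by decide +kernel : ∀ (e e' : V4) (β : Bool), ri.app e = e →
    e * sg.app e' = e' * bp (.of 8) β → e = bp (.of 8) β ∧ e'.v = false) e e' β k1 k2
  exact ⟨k3 ▸ he, _, inZ k4, he'⟩

/-- The element `k`. -/
theorem kn (h : Hy d) (gA : Gd A) (l : Lo d A P M ρ) {f g1 g2 : L4} (o : Ok f g1 g2) (hk : kb ∈ A)
    (of : kb * f * kb = f) (fb : f.app (.of 8) = .of 8) {x α γ y : G} (hx : x ∈ M)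
    (ax : Act d.φ4 x f) (aα : Act d.φ4 α g1) (aγ : Act d.φ4 γ g2) (eα : ρ * x * ρ⁻¹ = α)
    (eγ : ρ * α * ρ⁻¹ = γ) (hN : x * (α * γ) = 1) {δ β : Bool}
    (wx : d.w * x * d.w⁻¹ = x * d.φ4 (bp (.of 8) δ)) (hy : y ∈ P) {mw : ℕ}
    (a : Au d y 9 2 4 mw) (hw : mw = cond β 24 16)
    (D : ∀ c : V4, g2.app (g1.app c) * (g2.app (rr.app c) * ri.app c) = 1 → sg.app c = c →
      ∃ u : V4, rr.app u = u ∧ c * (kb.app (f.app u) * kb.app u) = 1) :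
    ∃ k ∈ M, ∃ η, KN d ρ k x α β η ∧ ∃ c, InZ d c ∧ y = k * c := by
  subst hw
  have m := h.toRl.mod4
  have aw := h.toRl.act_w
  have kk : kb * kb = 1 := by decide
  obtain ⟨x0, hx0, a0⟩ := l.cov kb hk
  obtain ⟨r, hr⟩ := l.eq_mul h (l.le hx0) (l.le (l.ρn _ hx0)) a0
    ((by decide : rr * kb * ri = kb) ▸ (l.ρa.mul a0).mul l.act_ρi)
  have r1 : r * (rr.app r * ri.app r) = 1 := m.inj (mul_left_cancel (a := x0) (by
    have := l.ρ_three hx0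
    rw [hr, cjm ρ x0, hr, l.ρa, cjm ρ, cjm ρ x0, hr, l.ρa, l.ρa, rr_rr] at this
    rw [m.one, mul_one, m.mul, m.mul, ← mul_assoc, ← mul_assoc, this]))
  obtain ⟨u0, hu0⟩ := (by decide +kernel : ∀ r : V4, r * (rr.app r * ri.app r) = 1 →
    ∃ u : V4, r * rr.app u = u) r r1
  have hk0 : x0 * d.φ4 u0 ∈ M := mul_mem hx0 (l.e_mem h gA u0)
  have ak0 := act_mul_e m a0 u0
  have ρ0 : ρ * (x0 * d.φ4 u0) * ρ⁻¹ = x0 * d.φ4 u0 := by
    rw [cjm, hr, l.ρa, mul_assoc, mm m, hu0]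
  generalize x0 * d.φ4 u0 = k0 at hk0 ak0 ρ0
  obtain ⟨w0, -⟩ := l.kw h gA hk0 ak0 ρ0 hy a
  obtain ⟨c, hc⟩ := l.eq_mul h (l.le hx) (l.le (l.nm h gA _ (l.le hk0) _ hx)) ax
    (of ▸ (ak0.mul ax).mul (ak0.inv kk))
  have ρi : ρ * k0⁻¹ * ρ⁻¹ = k0⁻¹ := by
    conv_rhs => rw [← ρ0]
    group
  have cα : k0 * α * k0⁻¹ = α * d.φ4 (rr.app c) := by
    rw [← eα, ← l.ρa, ← cjm, ← hc, cjm ρ, cjm ρ, ρ0, ρi]
  have cγ : k0 * γ * k0⁻¹ = γ * d.φ4 (ri.app c) := by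
    rw [← eγ, ← rr_rr, ← l.ρa, ← cjm, ← cα, cjm ρ, cjm ρ, ρ0, ρi]
  have c1 : g2.app (g1.app c) * (g2.app (rr.app c) * ri.app c) = 1 := m.inj (by
    have := congrArg (fun z => k0 * z * k0⁻¹) hN
    simp only [cjm k0, hc, cα, cγ] at this
    simp only [mul_assoc, mv' aγ o.2.2.1, mv' aα o.2.1, mm m] at this
    rw [← mul_assoc α, ← mul_assoc x, hN, one_mul, one_mul, mul_inv_cancel] at this
    rw [this, m.one])
  have fβ : f.app (bp (.of 8) β) = bp (.of 8) β := by cases β; exacts [f.app_one, fb]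
  have c2 : sg.app c = c := by
    have e1 := congrArg (fun z => d.w * z * d.w⁻¹) hc
    simp only [cjm d.w x, wx, aw c] at e1
    rw [show d.w * (k0 * x * k0⁻¹) * d.w⁻¹ = d.w * k0 * d.w⁻¹ * (d.w * x * d.w⁻¹) *
      (d.w * k0 * d.w⁻¹)⁻¹ by group, w0, wx, mul_inv_rev, inv m] at e1
    simp only [mul_assoc, mv' ax o.1, mm m, fβ, mv (ak0.inv kk) kk, mv' (ak0.inv kk) kk] at e1
    rw [← mul_assoc x, ← mul_assoc k0, ← mul_assoc k0, hc, mul_assoc, mm m] at e1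
    exact (by decide +kernel : ∀ (c : V4) (β δ : Bool), c * (kb.app (bp (.of 8) β * bp (.of 8) δ) *
      kb.app (bp (.of 8) β)) = bp (.of 8) δ * sg.app c → sg.app c = c) c β δ (m.inj (mul_left_cancel e1))
  obtain ⟨u, u1, u2⟩ := D c c1 c2
  have hk1 : k0 * d.φ4 u ∈ M := mul_mem hk0 (l.e_mem h gA u)
  have ak1 := act_mul_e m ak0 u
  have ρ1 : ρ * (k0 * d.φ4 u) * ρ⁻¹ = k0 * d.φ4 u := by rw [cjm, ρ0, l.ρa, u1]
  have x1 : Commute (k0 * d.φ4 u) x := comm_of_cj (by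
    rw [mul_inv_rev, inv m]
    simp only [mul_assoc, mv' ax o.1, mm m, mv (ak0.inv kk) kk, mv' (ak0.inv kk) kk]
    rw [← mul_assoc x, ← mul_assoc k0, ← mul_assoc k0, hc, mul_assoc, mm m, u2, m.one, mul_one])
  generalize k0 * d.φ4 u = k at hk1 ak1 ρ1 x1
  obtain ⟨w1, hc⟩ := l.kw h gA hk1 ak1 ρ1 hy a
  obtain ⟨s, hs⟩ := l.ker _ (l.le (mul_mem hk1 hk1)) (kk ▸ ak1.mul ak1)
  have kρ : Commute k ρ := (comm_of_cj ρ1).symm
  obtain ⟨η, rfl⟩ := (by decide +kernel : ∀ s : V4, rr.app s = s → kb.app s = s →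
    ∃ η, s = bp (.of 8) η) s (m.inj (by rw [← l.ρa, ← hs, cjm, ρ1]))
    (m.inj (by rw [← ak1, ← hs]; group))
  exact ⟨k, hk1, η, ⟨ak1, kρ, x1, eα ▸ (kρ.mul_right x1).mul_right kρ.inv_right, φb (d := d) β ▸ w1,
    φb (d := d) η ▸ hs⟩, hc⟩

end Lo

end CL.HS8
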