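import Cfsg.Agent.INV.HS8.D8
import Cfsg.Agent.REC.Basic
import Cfsg.Agent.INV.ZStarElt

/-!
The Sylow 2-subgroup of a group with a normal perfect subgroup `L` with Sylow subgroup `D8`.
-/

set_option autoImplicit false
set_option linter.unusedSectionVars false

open Subgroup CL.TwoS CL.MSS

namespace CL.HS8

variable {G : Type*} [Group G] [Finite G] {H L K S B1 B2 : Subgroup G} {v w ρ ρ' : G}

theorem D8.swap (h : D8 v w ρ ρ') : D8 w v ρ' ρ := by
  have e := h.r8.zz_swap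
  exact ⟨h.ww, h.vv, e ▸ h.z1, e ▸ h.z2, e ▸ h.ρ'z, e ▸ h.ρ'w, e ▸ h.ρz, e ▸ h.ρv⟩

/-- `zz w v = zz v w`. -/
theorem Lc.swap (h : Lc H L K S B1 B2 v w ρ ρ') : Lc H L K S B2 B1 w v ρ' ρ := by
  have r := h.toD8.r8
  have e := r.zz_swap
  refine ⟨h.toD8.swap, h.syl, h.wL, h.vL, h.ρ'L, h.ρL, h.wS, h.vS, DD_swap v w ▸ h.D, h.B2S, h.B1S,
    fun x hx => ⟨(h.c2 x hx).2.1, (h.c2 x hx).1, (h.c2 x hx).2.2⟩,
    fun x hx => ⟨(h.c1 x hx).2.1, (h.c1 x hx).1, (h.c1 x hx).2.2⟩, fun x hx a b => e ▸ h.m2 x hx b a,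
    fun x hx a b => e ▸ h.m1 x hx b a, fun x => and_comm.trans (h.int x), fun c hc => ?_⟩
  rcases h.sw c hc with ⟨b, hb, d, hd, rfl⟩ | ⟨a, b, d⟩
  · rcases h.m2 b (h.B1S hb) (h.c1 b hb).1 (h.c1 b hb).2.1 with k | k
    · exact .inl ⟨b, k, d, DD_swap v w ▸ hd, rfl⟩
    · exact .inl ⟨_, k, zz v w * d, DD_swap v w ▸ mul_mem (z_mem v w) hd, by
        rw [mul_assoc, ← mul_assoc (zz v w), h.z2, one_mul]⟩
  · exact .inr ⟨a.swap' e, d, b⟩

theorem Pr.nL (p : Pr H L K) : H ≤ normalizer (L : Set G) := fun g hg => mem_normalizer_fintype (p.Ln g hg)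

/-- `K ∩ L` has no 2-elements. -/
theorem Pr.two (p : Pr H L K) {x : G} (hK : x ∈ K) (hL : x ∈ L) {k : ℕ} (h : x ^ 2 ^ k = 1) : x = 1 :=
  orderOf_eq_one_iff.1 (Nat.Coprime.eq_one_of_dvd (Nat.Coprime.pow_right _ (Nat.coprime_two_right.2
    (p.odd.of_dvd_nat ((K ⊓ L).orderOf_dvd_natCard ⟨hK, hL⟩)))) (orderOf_dvd_of_pow_eq_one h))

namespace Loc

/-- `C_S(V)`. -/
def EE (S : Subgroup G) (v z : G) : Subgroup G := S ⊓ (centralizer {v} ⊓ centralizer {z})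

/-- `C_E(N_L(E))`. -/
def BB (S L : Subgroup G) (v z : G) : Subgroup G :=
  EE S v z ⊓ centralizer ((L ⊓ normalizer (EE S v z : Set G) : Subgroup G) : Set G)

theorem mem_EE {z x : G} : x ∈ EE S v z ↔ x ∈ S ∧ Commute x v ∧ Commute x z := by
  simp only [EE, mem_inf, mem_centralizer_singleton_iff, commute_iff_eq]

theorem mem_BB {z x : G} :
    x ∈ BB S L v z ↔ x ∈ EE S v z ∧ ∀ n ∈ L, n ∈ normalizer (EE S v z : Set G) → Commute n x :=
  and_congr_right fun _ => ⟨fun h n h1 h2 => h n ⟨h1, h2⟩, fun h n hn => h n hn.1 hn.2⟩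

theorem EE_mul {z : G} : EE S (v * z) z = EE S v z := Subgroup.ext fun x => by
  simp only [mem_EE]
  exact and_congr_right fun _ => and_congr_left fun h => ⟨fun k => by
    simpa using k.mul_right h.inv_right, fun k => k.mul_right h⟩

theorem BB_cj {z c u : G} (hS : c ∈ S) (hL : c ∈ normalizer (L : Set G)) (hz : Commute c z)
    (h : c * v * c⁻¹ = u ∨ c * v * c⁻¹ = u * z) {x : G} (hx : x ∈ BB S L v z) : c * x * c⁻¹ ∈ BB S L u z := by
  have e : c •ᶜ EE S v z = EE S u z := by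
    rw [EE, cj_inf, cj_inf, cj_centralizer_singleton, cj_centralizer_singleton, cj_eq_of_mem hS,
      hz.mul_inv_cancel]
    rcases h with h | h <;> rw [h]
    exacts [rfl, EE_mul]
  have := conj_mem_cj (g := c) hx
  rwa [BB, cj_inf, cj_centralizer, cj_inf, cj_normalizer, e, cj_eq_of_mem_normalizer hL] at this

variable (p : Pr H L K) (hS : SylIn 2 S H) (r : R8 v w) (hD : ∀ x, x ∈ DD v w ↔ x ∈ S ∧ x ∈ L)
include p hS r hD

theorem sD : SylIn 2 (DD v w) L := by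
  have : Fact (Nat.Prime 2) := ⟨Nat.prime_two⟩
  rw [show DD v w = S ⊓ L from Subgroup.ext hD]
  exact hS.inf_normal_of_le p.nL p.LH

theorem rot0 : ∃ ρ ∈ L, ρ * zz v w * ρ⁻¹ = v ∧ ρ * v * ρ⁻¹ = v * zz v w := by
  have s := sD p hS r hD
  obtain ⟨ψ, hψ⟩ := r.sgn
  obtain ⟨V, hV⟩ := tr_ext s ψ
  have vL := s.le (v_mem v w)
  have : ∃ g ∈ L, g * v * g⁻¹ = zz v w ∧ g * zz v w * g⁻¹ ∈ DD v w := by
    by_contra n
    have := hV v vL r.vv (zpowers (zz v w)) (isPGroup_zpowers (k := 1) (by rw [pow_one, pow_two, r.z2]))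
      (zpowers_le.2 (s.le (z_mem v w))) (by rintro _ ⟨k, rfl⟩; exact r.zv.zpow_left k) (-1)
      fun g hg h1 h2 => hψ _ h1 (by rw [conj_mul, r.vv]; simp) (by simpa using r.v1)
        fun e => n ⟨g, hg, e, h2 _ (mem_zpowers _)⟩
    rw [hom_perfect V p.pf le_rfl vL] at this
    exact absurd this (by decide)
  obtain ⟨g, hg, e1, e2⟩ := this
  obtain ⟨e, he, e3⟩ := r.mv e2 (by simpa using r.z1) fun k => r.vz (cj_inj.1 (e1.trans k.symm))
  have a : g⁻¹ * e * g * v * (g⁻¹ * e * g)⁻¹ = v := by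
    calc _ = g⁻¹ * (e * (g * v * g⁻¹) * e⁻¹) * g := by group
      _ = v := by rw [e1, (r.zc he).symm.mul_inv_cancel, ← e1]; group
  have b : g⁻¹ * e * g * zz v w * (g⁻¹ * e * g)⁻¹ = v * zz v w := by
    calc _ = g⁻¹ * (e * (g * zz v w * g⁻¹) * e⁻¹) * g := by group
      _ = zz v w * (g⁻¹ * zz v w * g) := by rw [e3]; group
      _ = _ := by rw [← r.zv.eq, ← e1]; group
  refine ⟨w * (g⁻¹ * e * g), mul_mem (s.le (w_mem v w)) (mul_mem (mul_mem (inv_mem hg) (s.le he)) hg), ?_, ?_⟩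
  · calc _ = w * (g⁻¹ * e * g * zz v w * (g⁻¹ * e * g)⁻¹) * w⁻¹ := by group
      _ = v := by rw [b, ← conj_mul, r.wvw, r.zw.symm.mul_inv_cancel, mul_assoc, r.z2, mul_one]
  · calc _ = w * (g⁻¹ * e * g * v * (g⁻¹ * e * g)⁻¹) * w⁻¹ := by group
      _ = _ := by rw [a, r.wvw]

theorem V_comm {u x : G} (hu : u ∈ DD v w) (c : Commute u v) (h1 : Commute x v) (h2 : Commute x (zz v w)) :
    Commute u x := by
  rcases r.cen_v hu c with rfl | rfl | rfl | rfl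
  exacts [.one_left _, h2.symm, h1.symm, (h1.mul_right h2).symm]

theorem two_elt {c : G} (hc : c ∈ L) {k : ℕ} (h : c ^ 2 ^ k = 1) (h1 : Commute c v) (h2 : Commute c (zz v w)) :
    c ∈ DD v w := by
  have : Fact (Nat.Prime 2) := ⟨Nat.prime_two⟩
  have s := sD p hS r hD
  obtain ⟨g, -, e⟩ := s.exists_conj_le (R := zpowers c ⊔ (DD v w ⊓ centralizer {v}))
    (isPGroup_sup_of_normalizes (isPGroup_zpowers h) (r.pg.to_le inf_le_left)
      (zpowers_le.2 (mem_normalizer_fintype fun x hx => by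
        rwa [(V_comm p hS r hD hx.1 (mem_centralizer_singleton_iff.1 hx.2) h1 h2).symm.mul_inv_cancel])))
    (sup_le (zpowers_le.2 hc) (inf_le_left.trans s.le))
  rw [cj_le_iff_forall] at e
  have := r.four (e v (mem_sup_right ⟨v_mem v w, mem_centralizer_singleton_iff.2 rfl⟩))
    (e _ (mem_sup_right ⟨z_mem v w, mem_centralizer_singleton_iff.2 r.zv⟩)) (e c (mem_sup_left (mem_zpowers c)))
    (by rw [conj_mul, r.vv]; simp) (by rw [conj_mul, r.z2]; simp) (by simpa using r.v1) (by simpa using r.z1)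
    (fun k => r.vz (cj_inj.1 k)) (comm_cj.2 r.zv.symm) (comm_cj.2 h1) (comm_cj.2 h2)
  rw [conj_mul, TwoS.cj_inj, TwoS.cj_inj, TwoS.cj_inj, conj_eq_one_iff] at this
  rcases this with rfl | rfl | rfl | rfl
  exacts [one_mem _, z_mem v w, v_mem _ w, mul_mem (v_mem v w) (z_mem v w)]

theorem rot : ∃ ρ ∈ L, ρ ∈ normalizer (EE S v (zz v w) : Set G) ∧ ρ * zz v w * ρ⁻¹ = v ∧
    ρ * v * ρ⁻¹ = v * zz v w := by
  obtain ⟨ρ, hρ, e1, e2⟩ := rot0 p hS r hD
  have nE : EE S v (zz v w) ≤ normalizer (L : Set G) := inf_le_left.trans (hS.le.trans p.nL)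
  have s : SylIn 2 (EE S v (zz v w)) ((EE S v (zz v w) ⊔ L) ⊓ (centralizer {v} ⊓ centralizer {zz v w})) := by
    refine ⟨le_inf le_sup_left inf_le_right, hS.pgroup.to_le inf_le_left, fun Q hQ h1 h2 =>
      le_antisymm (fun q hq => ?_) h1⟩
    obtain ⟨e, he, l, hl, rfl⟩ := (mem_sup_of_normalizes_right nE).1 (h2 hq).1
    have m := (mul_mem_cancel_left (h1 he)).1 hq
    obtain ⟨k, hk⟩ := isPGroup_iff_forall_mem.1 hQ l m
    exact mul_mem he ⟨((hD l).1 (two_elt p hS r hD hl hk (mem_centralizer_singleton_iff.1 (h2 m).2.1)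
      (mem_centralizer_singleton_iff.1 (h2 m).2.2))).1, (h2 m).2⟩
  obtain ⟨c, hc, e⟩ := frattini s (g := ρ) fun x hx => by
    have c1 : Commute x v := mem_centralizer_singleton_iff.1 hx.2.1
    have c2 : Commute x (zz v w) := mem_centralizer_singleton_iff.1 hx.2.2
    refine mem_inf.2 ⟨?_, mem_centralizer_singleton_iff.2 ?_, mem_centralizer_singleton_iff.2 ?_⟩
    · have := mul_mem (mem_sup_right (S := EE S v (zz v w)) (mul_mem hρ (p.Ln x
        (sup_le (inf_le_left.trans hS.le) p.LH hx.1) _ (inv_mem hρ)))) hx.1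
      simpa only [mul_assoc, inv_mul_cancel, mul_one] using this
    · have := (comm_cj (g := ρ)).2 c2
      rwa [e1] at this
    · have := (comm_cj (g := ρ)).2 (c1.mul_right c2)
      rwa [show ρ * (v * zz v w) * ρ⁻¹ = zz v w by
        rw [← conj_mul, e1, e2, mul_assoc, r.zv.eq, ← mul_assoc, r.vv, one_mul]] at this
  obtain ⟨x, hx, l, hl, rfl⟩ := (mem_sup_of_normalizes_right nE).1 hc.1
  have m := (mul_mem_cancel_left (mem_inf.1 hx).2).1 (mem_inf.1 hc).2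
  have c1 : Commute l v := mem_centralizer_singleton_iff.1 m.1
  have c2 : Commute l (zz v w) := mem_centralizer_singleton_iff.1 m.2
  refine ⟨l * ρ, mul_mem hl hρ, mem_normalizer_fintype fun y hy => ?_, ?_, ?_⟩
  · simpa only [mul_assoc, mul_inv_rev, inv_mul_cancel_left, inv_mul_cancel, mul_one, SetLike.mem_coe] using
      mul_mem (mul_mem (inv_mem hx) (e y hy)) hx
  · conv_rhs => rw [← c1.mul_inv_cancel, ← e1]
    group
  · rw [← (c1.mul_right c2).mul_inv_cancel, ← e2]; group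

theorem half : ∃ ρ ∈ L, ρ * zz v w * ρ⁻¹ = v ∧ ρ * v * ρ⁻¹ = v * zz v w ∧
    (∀ x ∈ BB S L v (zz v w), Commute x v ∧ Commute x w ∧ Commute x ρ) ∧
    (∀ x ∈ S, Commute x v → Commute x w → x ∈ BB S L v (zz v w) ∨ x * zz v w ∈ BB S L v (zz v w)) ∧
    ∀ x ∈ S, x ∈ K → x ∈ BB S L v (zz v w) := by
  obtain ⟨ρ, ρL, ρN, e1, e2⟩ := rot p hS r hD
  have e3 : ρ * (v * zz v w) * ρ⁻¹ = zz v w := by
    rw [← conj_mul, e1, e2, mul_assoc, r.zv.eq, ← mul_assoc, r.vv, one_mul]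
  obtain ⟨wS, wL⟩ := (hD w).1 (w_mem v w)
  have w3 : w * (v * zz v w) * w⁻¹ = v := by
    rw [← conj_mul, r.wvw, r.zw.symm.mul_inv_cancel, mul_assoc, r.z2, mul_one]
  have wN : w ∈ normalizer (EE S v (zz v w) : Set G) := mem_normalizer_fintype fun x hx => by
    obtain ⟨a, b, c⟩ := mem_EE.1 hx
    exact mem_EE.2 ⟨mul_mem (mul_mem wS a) (inv_mem wS), w3 ▸ comm_cj.2 (b.mul_right c),
      r.zw.symm.mul_inv_cancel ▸ comm_cj.2 c⟩
  have vE : v ∈ EE S v (zz v w) := mem_EE.2 ⟨((hD v).1 (v_mem v w)).1, .refl v, r.zv.symm⟩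
  have zE : zz v w ∈ EE S v (zz v w) := mem_EE.2 ⟨((hD _).1 (z_mem v w)).1, r.zv, .refl _⟩
  have inV : ∀ u ∈ EE S v (zz v w), u ∈ L → u = 1 ∨ u = zz v w ∨ u = v ∨ u = v * zz v w := fun u h1 h2 =>
    r.cen_v ((hD u).2 ⟨h1.1, h2⟩) (mem_EE.1 h1).2.1
  have cm : ∀ n ∈ L, n ∈ normalizer (EE S v (zz v w) : Set G) → ∀ x ∈ EE S v (zz v w), ∃ u ∈ EE S v (zz v w),
      u ∈ L ∧ n * x * n⁻¹ = u * x := fun n h1 h2 x hx =>
    ⟨n * x * n⁻¹ * x⁻¹, mul_mem ((mem_normalizer_iff.1 h2 x).1 hx) (inv_mem hx), by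
      simpa only [mul_assoc] using mul_mem h1 (p.Ln x (hS.le hx.1) _ (inv_mem h1)), by group⟩
  have cN : ∀ c ∈ L, c ∈ normalizer (EE S v (zz v w) : Set G) → Commute c v → Commute c (zz v w) →
      ∀ x ∈ EE S v (zz v w), Commute c x := fun c h1 h2 h3 h4 x hx => by
    refine comm_of_two ?_ fun m k hk => V_comm p hS r hD (two_elt p hS r hD (pow_mem h1 m) hk (h3.pow_left m)
      (h4.pow_left m)) (h3.pow_left m) (mem_EE.1 hx).2.1 (mem_EE.1 hx).2.2
    obtain ⟨u, a, b, e⟩ := cm c h1 h2 x hx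
    have k : Commute c u := (V_comm p hS r hD ((hD u).2 ⟨a.1, b⟩) (mem_EE.1 a).2.1 h3 h4).symm
    have u2 : u * u = 1 := by
      rcases inV u a b with rfl | rfl | rfl | rfl
      exacts [one_mul 1, r.z2, r.vv, by rw [r.zv.mul_mul_mul_comm, r.vv, r.z2, one_mul]]
    refine mul_inv_eq_iff_eq_mul.1 ?_
    calc _ = c * (c * x * c⁻¹) * c⁻¹ := by group
      _ = x := by rw [e, ← conj_mul, k.mul_inv_cancel, e, ← mul_assoc, u2, one_mul]
  have fpf : ∀ u ∈ EE S v (zz v w), u ∈ L → ρ * u * ρ⁻¹ = u → u = 1 := fun u a b e => by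
    rcases inV u a b with rfl | rfl | rfl | rfl
    · rfl
    · exact absurd (e1.symm.trans e) r.vz
    · exact absurd (mul_eq_left.1 (e2.symm.trans e)) r.z1
    · exact absurd (mul_eq_right.1 (e.symm.trans e3)) r.v1
  have fix : ∀ b ∈ EE S v (zz v w), Commute ρ b → b ∈ BB S L v (zz v w) := fun b hb hρ => by
    have cw : Commute w b := by
      obtain ⟨u, a, a', e⟩ := cm w wL wN b hb
      have a1 : w⁻¹ * v * w⁻¹⁻¹ = v * zz v w := by rw [r.wi]; exact r.wvw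
      have k := cN (ρ * w * ρ * w⁻¹) (mul_mem (mul_mem (mul_mem ρL wL) ρL) (inv_mem wL))
        (mul_mem (mul_mem (mul_mem ρN wN) ρN) (inv_mem wN))
        (mul_inv_eq_iff_eq_mul.1 (by
          calc _ = ρ * (w * (ρ * (w⁻¹ * v * w⁻¹⁻¹) * ρ⁻¹) * w⁻¹) * ρ⁻¹ := by group
            _ = v := by rw [a1, e3, r.zw.symm.mul_inv_cancel, e1]))
        (mul_inv_eq_iff_eq_mul.1 (by
          calc _ = ρ * (w * (ρ * (w⁻¹ * zz v w * w⁻¹⁻¹) * ρ⁻¹) * w⁻¹) * ρ⁻¹ := by group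
            _ = _ := by rw [r.zw.symm.inv_left.mul_inv_cancel, e1, r.wvw, e3])) _
        ((mem_normalizer_iff.1 wN b).1 hb)
      have k2 : ρ * (w * b * w⁻¹) * ρ⁻¹ = w * b * w⁻¹ := by
        conv_rhs => rw [← k.mul_inv_cancel]
        conv_lhs => rw [← hρ.mul_inv_cancel]
        group
      rw [e, ← conj_mul, hρ.mul_inv_cancel, mul_left_inj] at k2
      rw [fpf u a a' k2, one_mul] at e
      exact mul_inv_eq_iff_eq_mul.1 e
    have s1 : ∀ n ∈ L, n ∈ normalizer (EE S v (zz v w) : Set G) → n * zz v w * n⁻¹ = zz v w → Commute n b :=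
      fun n h1 h2 h3 => by
        rcases inV _ ((mem_normalizer_iff.1 h2 v).1 vE) (p.Ln n (p.LH h1) v ((hD v).1 (v_mem v w)).2) with
          e | e | e | e
        · exact absurd (conj_eq_one_iff.1 e) r.v1
        · exact absurd (cj_inj.1 (e.trans h3.symm)) r.vz
        · exact cN n h1 h2 (mul_inv_eq_iff_eq_mul.1 e) (mul_inv_eq_iff_eq_mul.1 h3) b hb
        · simpa using cw.inv_left.mul_left (cN (w * n) (mul_mem wL h1) (mul_mem wN h2)
            (mul_inv_eq_iff_eq_mul.1 (by conv_rhs => rw [← w3, ← e]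
                                         group))
            (r.zw.symm.mul_left (mul_inv_eq_iff_eq_mul.1 h3)) b hb)
    refine mem_BB.2 ⟨hb, fun n h1 h2 => ?_⟩
    rcases inV _ ((mem_normalizer_iff.1 h2 _).1 zE) (p.Ln n (p.LH h1) _ ((hD _).1 (z_mem v w)).2) with
      e | e | e | e
    · exact absurd (conj_eq_one_iff.1 e) r.z1
    · exact s1 n h1 h2 e
    · simpa using hρ.mul_left (s1 (ρ⁻¹ * n) (mul_mem (inv_mem ρL) h1) (mul_mem (inv_mem ρN) h2) (by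
        calc _ = ρ⁻¹ * (n * zz v w * n⁻¹) * ρ := by group
          _ = _ := by rw [e, mul_assoc, inv_mul_eq_iff_eq_mul, mul_inv_eq_iff_eq_mul.1 e1]))
    · simpa using hρ.inv_left.mul_left (s1 (ρ * n) (mul_mem ρL h1) (mul_mem ρN h2) (by
        conv_rhs => rw [← e3, ← e]
        group))
  have c1 : ∀ x ∈ BB S L v (zz v w), Commute x v ∧ Commute x w ∧ Commute x ρ := fun x hx =>
    ⟨(mem_EE.1 hx.1).2.1, ((mem_BB.1 hx).2 w wL wN).symm, ((mem_BB.1 hx).2 ρ ρL ρN).symm⟩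
  refine ⟨ρ, ρL, e1, e2, c1, fun x hx a b => ?_, fun x hx hK => ?_⟩
  · have xE := mem_EE.2 ⟨hx, a, comm_DD a b (z_mem v w)⟩
    obtain ⟨y, yE, yL, hy⟩ : ∃ y ∈ EE S v (zz v w), y ∈ L ∧ ρ * (x * y) * ρ⁻¹ = x * y := by
      have vL := ((hD v).1 (v_mem v w)).2
      have zL := ((hD _).1 (z_mem v w)).2
      have c := comm_DD a b (z_mem v w)
      obtain ⟨u, h1, h2, e⟩ := cm ρ ρL ρN x xE
      rcases inV u h1 h2 with rfl | rfl | rfl | rfl
      · exact ⟨1, one_mem _, one_mem _, by rw [mul_one, e, one_mul]⟩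
      · exact ⟨v, vE, vL, by
          rw [← conj_mul, e, e2, ← c.eq, mul_assoc, ← mul_assoc (zz v w), r.zv.eq, mul_assoc, r.z2, mul_one]⟩
      · exact ⟨_, mul_mem vE zE, mul_mem vL zL, by rw [← conj_mul, e, e3, ← a.eq, mul_assoc]⟩
      · exact ⟨_, zE, zL, by
          rw [← conj_mul, e, e1, ← (a.mul_right c).eq, mul_assoc, ← r.zv.eq, mul_assoc, r.vv, mul_one]⟩
    have m := fix _ (mul_mem xE yE) (mul_inv_eq_iff_eq_mul.1 hy)
    rcases r.cen ((hD y).2 ⟨yE.1, yL⟩) (mem_EE.1 yE).2.1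
      (by simpa using b.inv_left.mul_left (c1 _ m).2.1) with rfl | rfl
    exacts [.inl (mul_one x ▸ m), .inr m]
  · have k : ∀ n ∈ L, n * x * n⁻¹ ∈ S → Commute n x := fun n h1 h2 => by
      obtain ⟨j, hj⟩ := isPGroup_iff_forall_mem.1 hS.pgroup _ (mul_mem h2 (inv_mem hx))
      exact mul_inv_eq_iff_eq_mul.1 (mul_inv_eq_one.1 (p.two (mul_mem (p.Kn n (p.LH h1) x hK) (inv_mem hK)) (by
        simpa only [mul_assoc] using mul_mem h1 (p.Ln x (hS.le hx) _ (inv_mem h1))) hj))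
    have k' : ∀ n ∈ DD v w, Commute x n := fun n hn =>
      (k n ((hD n).1 hn).2 (mul_mem (mul_mem ((hD n).1 hn).1 hx) (inv_mem ((hD n).1 hn).1))).symm
    have xE := mem_EE.2 ⟨hx, k' v (v_mem v w), k' _ (z_mem v w)⟩
    exact mem_BB.2 ⟨xE, fun n h1 h2 => k n h1 ((mem_normalizer_iff.1 h2 x).1 xE).1⟩

/-- A 2-element centralising `D`, `ρ`, `ρ'` lies in `K`. -/
theorem mem_K (d : D8 v w ρ ρ') (h1 : ρ ∈ L) (h2 : ρ' ∈ L) (k : ℕ) : ∀ x ∈ S, x ^ 2 ^ k = 1 → Commute x v →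
    Commute x w → Commute x ρ → Commute x ρ' → x ∈ K := by
  have : Fact (Nat.Prime 2) := ⟨Nat.prime_two⟩
  induction k with
  | zero => intro x _ e _ _ _ _; rw [pow_zero, pow_one] at e; exact e ▸ one_mem K
  | succ k ih =>
  intro x hx e a b c c'
  have x2 := ih (x * x) (mul_mem hx hx) (by rw [← pow_two, ← pow_mul, ← pow_succ', e]) (a.mul_left a)
    (b.mul_left b) (c.mul_left c) (c'.mul_left c')
  have nx : zpowers x ≤ normalizer (L : Set G) := zpowers_le.2 (p.nL (hS.le hx))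
  have YH : zpowers x ⊔ L ≤ H := sup_le (zpowers_le.2 (hS.le hx)) p.LH
  have xY : x ∈ zpowers x ⊔ L := mem_sup_left (mem_zpowers x)
  have sT : SylIn 2 (S ⊓ (zpowers x ⊔ L)) (zpowers x ⊔ L) := by
    refine ⟨inf_le_right, hS.pgroup.to_le inf_le_left, fun Q hQ q1 q2 => le_antisymm (fun q hq => ?_) q1⟩
    obtain ⟨y, hy, l, hl, rfl⟩ := (mem_sup_of_normalizes_right nx).1 (q2 hq)
    have yS := zpowers_le.2 hx hy
    have := (sD p hS r hD).max (Q ⊓ L) (hQ.to_le inf_le_left)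
      (fun u hu => ⟨q1 ⟨((hD u).1 hu).1, mem_sup_right ((hD u).1 hu).2⟩, ((hD u).1 hu).2⟩) inf_le_right
    exact ⟨mul_mem yS ((hD l).1 (this.le ⟨(mul_mem_cancel_left (q1 ⟨yS, mem_sup_left hy⟩)).1 hq, hl⟩)).1, q2 hq⟩
  have cT : ∀ t ∈ S ⊓ (zpowers x ⊔ L), Commute t x ∧ Commute t (zz v w) := fun t ht => by
    obtain ⟨_, ⟨i, rfl⟩, l, hl, rfl⟩ := (mem_sup_of_normalizes_right nx).1 ht.2
    have m := (hD l).2 ⟨(mul_mem_cancel_left (zpow_mem hx i)).1 ht.1, hl⟩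
    exact ⟨((Commute.refl x).zpow_left i).mul_left (comm_DD a b m).symm,
      ((comm_DD a b (z_mem v w)).zpow_left i).mul_left (r.zc m).symm⟩
  have nz : ∀ g ∈ zpowers x ⊔ L, g * x * g⁻¹ ≠ x * zz v w := fun g hg e => by
    obtain ⟨n, n1, n2, n3⟩ := burn sT hg (fun t ht => (cT t ht).1)
      fun t ht => e ▸ (cT t ht).1.mul_right (cT t ht).2
    have nD : ∀ u ∈ DD v w, n * u * n⁻¹ ∈ DD v w := fun u hu => (hD _).2
      ⟨(n2 u ⟨((hD u).1 hu).1, mem_sup_right ((hD u).1 hu).2⟩).1, p.Ln n (YH n1) u ((hD u).1 hu).2⟩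
    have nc := (r.aut (nD v (v_mem v w)) (nD w (w_mem v w))).1
    rw [e] at n3
    have : Commute n x := comm_of_two (mul_inv_eq_iff_eq_mul.1 (by
        calc _ = n * (n * x * n⁻¹) * n⁻¹ := by group
          _ = x := by rw [n3, ← conj_mul, n3, nc.mul_inv_cancel, mul_assoc, r.z2, mul_one]))
      fun m j hj => (cT _ (sT.le_of_normalizes (isPGroup_zpowers hj) (zpowers_le.2 (pow_mem n1 m))
        (zpowers_le.2 (pow_mem (mem_normalizer_fintype n2) m)) (mem_zpowers _))).1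
    exact r.z1 (mul_eq_left.1 (n3.symm.trans this.mul_inv_cancel))
  have key : ∀ g ∈ zpowers x ⊔ L, g * x * g⁻¹ ∈ S → g * x * g⁻¹ = x := fun g hg m => by
    have dL : x⁻¹ * (g * x * g⁻¹) ∈ L := by
      obtain ⟨_, ⟨i, rfl⟩, l, hl, rfl⟩ := (mem_sup_of_normalizes_right nx).1 hg
      have := p.Ln _ (zpow_mem (hS.le hx) i) _ (mul_mem (p.Ln _ (inv_mem (hS.le hx)) l hl) (inv_mem hl))
      convert this using 1
      group
    have dD := (hD _).2 ⟨mul_mem (inv_mem hx) m, dL⟩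
    obtain ⟨u, hu⟩ : ∃ u, g * x * g⁻¹ = x * u := ⟨x⁻¹ * (g * x * g⁻¹), by group⟩
    rw [hu, inv_mul_cancel_left] at dD dL
    have u2 : u * u = 1 := by
      have := p.Kn g (YH hg) _ x2
      rw [← conj_mul, hu, (comm_DD a b dD).symm.mul_mul_mul_comm, mul_mem_cancel_left x2] at this
      obtain ⟨j, hj⟩ := isPGroup_iff_forall_mem.1 r.pg _ (mul_mem dD dD)
      exact p.two this (mul_mem dL dL) hj
    have tr : ∀ s ∈ L, Commute x s → s * u * s⁻¹ ≠ zz v w := fun s hs q e =>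
      nz (s * g) (mul_mem (mem_sup_right hs) hg) (by
        calc _ = s * (g * x * g⁻¹) * s⁻¹ := by group
          _ = _ := by rw [hu, ← conj_mul, e, q.symm.mul_inv_cancel])
    rcases r.inv_cases dD u2 with rfl | rfl | rfl | rfl | rfl | rfl
    · rw [hu, mul_one]
    · exact absurd hu (nz g hg)
    · exact absurd (by conv_lhs => rw [← d.ρz]
                       group) (tr _ (inv_mem h1) c.inv_right)
    · exact absurd (by rw [← conj_mul, d.ρz, d.ρv, mul_assoc, r.zv.eq, ← mul_assoc, r.vv, one_mul]) (tr _ h1 c)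
    · exact absurd (by conv_lhs => rw [← d.ρ'z]
                       group) (tr _ (inv_mem h2) c'.inv_right)
    · exact absurd (by rw [← conj_mul, d.ρ'z, d.ρ'w, mul_assoc, r.zw.eq, ← mul_assoc, r.ww, one_mul]) (tr _ h2 c')
  have iso : Cfsg.IsIsolated (⟨x, xY⟩ : ↥(zpowers x ⊔ L)) := fun g hg => Subtype.ext (by
    replace hg : Commute x (g * x * (g : G)⁻¹) := congrArg Subtype.val hg
    have s := sT.inf_of_le (K := centralizer {x}) fun t ht => mem_centralizer_singleton_iff.2 (cT t ht).1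
    obtain ⟨c, hc, q⟩ := s.exists_conj_le (R := zpowers (g * x * (g : G)⁻¹))
      (isPGroup_zpowers (k := k + 1) (by rw [conj_pow, e]; simp))
      (zpowers_le.2 (mem_inf.2 ⟨mul_mem (mul_mem g.2 xY) (inv_mem g.2), mem_centralizer_singleton_iff.2 hg.symm⟩))
    have := key (c * g) (mul_mem (mem_inf.1 hc).1 g.2) (by
      simpa only [mul_assoc, mul_inv_rev] using (mem_inf.1 (q (conj_mem_cj (mem_zpowers _)))).1)
    have cx : Commute c x := mem_centralizer_singleton_iff.1 hc.2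
    refine cj_inj.1 (Eq.trans ?_ (this.trans cx.mul_inv_cancel.symm))
    simp only [Subgroup.coe_mul, Subgroup.coe_inv, mul_assoc, mul_inv_rev])
  refine p.cen x (hS.le hx) ((Cfsg.oddCore ↥(zpowers x ⊔ L)).map (Subgroup.subtype _) ⊓ L) inf_le_right ?_ ?_
    fun y hy => mem_inf.2 ⟨⟨_, CL.Iso.zstar_elt (k := k + 1) (Subtype.ext e) iso ⟨y, mem_sup_right hy⟩, rfl⟩,
      mul_mem (p.Ln x (hS.le hx) y hy) (inv_mem hy)⟩
  · refine Odd.of_dvd_nat ?_ (card_dvd_of_le inf_le_left)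
    rw [card_map_of_injective (Subgroup.subtype_injective _)]
    exact CL.Rec.odd_card_oddCore
  · rintro y hy _ ⟨⟨o, ho, rfl⟩, oL⟩
    exact mem_inf.2 ⟨⟨_, (inferInstance : (Cfsg.oddCore _).Normal).conj_mem o ho ⟨y, mem_sup_right hy⟩, rfl⟩,
      mul_mem (mul_mem hy oL) (inv_mem hy)⟩

end Loc

/-- `D = S ∩ L` is Sylow in `L`, `D = ⟨v, w⟩`. As `L` is perfect both four-groups `V1`, `V2` of `D` are moved by elements of
order 3 of `L` (transfer to `D / V2`: `v` is conjugate into `V2`; extremal conjugation, or `S1255`).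
`C0 = C_S(D)`, `S0 = N_S(V1) = C0 D` (`Aut D8`), `E = C_S(V1) = C0 V1`. `S0` is Sylow in `N_H(V1)` (a 2-group `P ≥ S0` there has
`P ∩ L = D`, conjugate it into `S` by `N_H(D)`), so `E` is Sylow in `C_H(V1)`. Frattini in `N_L(V1) E` (`frattini`) gives `ρ ∈ N = N_L(E)`,
take it of odd order. `[E, N] ≤ E ∩ L = V1`. `C_N(V1)` has Sylow subgroup `V1` and acts on `E` as a 2-group, so centralises `E`: `N` acts
on `E` as `S3 = ⟨ρ, w⟩`. `B1 = C_E(ρ)`, `E = B1 × V1` (for `e ∈ E` take `e u` with `u ∈ V1`, `ρ` has no fixed point on `V1`), `B1` is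
`N`-invariant, `[B1, N] ≤ B1 ∩ V1 = 1`; so `B1 = C_E(N) ≤ C0 = B1 × ⟨z⟩`; this description of `B1` is canonical, which gives `sw`.
`S ∩ K ≤ B1`: `[r, N], [r, D] ≤ K ∩ L ∩ S = 1`. Conversely if `B1 ∩ B2 > R = S ∩ K` take `x ∈ B1 ∩ B2 - R` with `x² ∈ R`. In
`Y = L ⟨x⟩ K / K` (Sylow subgroup `D × ⟨x⟩`) the involutions `x d` are conjugate to `x` or `x z` (by `ρ`, `ρ'`), and `x`, `x z` are not
conjugate (both central in the Sylow subgroup, whose normaliser fixes `z` and acts by odd order). So `x` is isolated, `CL.BS.zstar`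
gives `[x, L] ≤ O(Y)`, whose preimage in `L` has odd order; `cen` gives `x ∈ K`. -/
theorem Pr.loc (h : Pr H L K) (hS : SylIn 2 S H) :
    ∃ B1 B2 v w ρ ρ', Lc H L K S B1 B2 v w ρ ρ' := by
  have : Fact (Nat.Prime 2) := ⟨Nat.prime_two⟩
  obtain ⟨D, s, ⟨e⟩⟩ := h.d8
  obtain ⟨g, -, hg⟩ := (hS.inf_normal_of_le h.nL h.LH).exists_conj s
  obtain ⟨v, w, r, e'⟩ := exists_r8 ((cjEquiv g (S ⊓ L)).trans ((MulEquiv.subgroupCongr hg).trans e))
  have hD : ∀ x, x ∈ DD v w ↔ x ∈ S ∧ x ∈ L := fun x => e' ▸ mem_inf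
  have z := r.zz_swap
  obtain ⟨ρ, a1, a2, a3, a4, a5, a6⟩ := Loc.half h hS r hD
  obtain ⟨ρ', b1, b2, b3, b4, b5, b6⟩ := Loc.half h hS r.swap (DD_swap v w ▸ hD)
  rw [z] at b2 b3 b4 b5 b6
  have d : D8 v w ρ ρ' := ⟨r.vv, r.ww, r.z1, r.z2, a2, a3, b2, b3⟩
  obtain ⟨vS, vL⟩ := (hD v).1 (v_mem v w)
  obtain ⟨wS, wL⟩ := (hD w).1 (w_mem v w)
  refine ⟨Loc.BB S L v (zz v w), Loc.BB S L w (zz v w), v, w, ρ, ρ', d, hS, vL, wL, a1, b1, vS, wS, fun x h1 h2 => (hD x).2 ⟨h1, h2⟩,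
    fun _ hx => hx.1.1, fun _ hx => hx.1.1, a4, fun x hx => ⟨(b4 x hx).2.1, (b4 x hx).1, (b4 x hx).2.2⟩, a5,
    fun x hx c1 c2 => b5 x hx c2 c1, fun x => ⟨fun ⟨h1, h2⟩ => ⟨h1.1.1, ?_⟩,
      fun ⟨h1, h2⟩ => ⟨a6 x h1 h2, b6 x h1 h2⟩⟩, fun c hc => ?_⟩
  · obtain ⟨k, hk⟩ := isPGroup_iff_forall_mem.1 hS.pgroup x h1.1.1
    exact Loc.mem_K h hS r hD d a1 b1 k x h1.1.1 hk (a4 x h1).1 (a4 x h1).2.1 (a4 x h1).2.2 (b4 x h2).2.2
  · obtain ⟨cz, ⟨e, he, c0, c1, c2, rfl⟩ | sp⟩ := r.aut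
      ((hD _).2 ⟨mul_mem (mul_mem hc vS) (inv_mem hc), h.Ln c (hS.le hc) v vL⟩)
      ((hD _).2 ⟨mul_mem (mul_mem hc wS) (inv_mem hc), h.Ln c (hS.le hc) w wL⟩)
    · rcases a5 c0 ((mul_mem_cancel_right ((hD e).1 he).1).1 hc) c1 c2 with k | k
      · exact .inl ⟨c0, k, e, he, rfl⟩
      · exact .inl ⟨_, k, zz v w * e, mul_mem (z_mem v w) he, by
          rw [mul_assoc, ← mul_assoc (zz v w), r.z2, one_mul]⟩
    · exact .inr ⟨sp, fun x => Loc.BB_cj hc (h.nL (hS.le hc)) cz sp.1,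
        fun x => Loc.BB_cj hc (h.nL (hS.le hc)) cz sp.2⟩

namespace Lc

variable (h : Lc H L K S B1 B2 v w ρ ρ')
include h

theorem z_not : zz v w ∉ B1 := by
  intro m
  have := h.ρz
  rw [(h.c1 _ m).2.2.symm.mul_inv_cancel] at this
  exact h.toD8.r8.vz this.symm

/-- `B1 ∩ D = 1`. -/
theorem eq_one {x : G} (h1 : x ∈ B1) (h2 : x ∈ DD v w) : x = 1 := by
  rcases h.toD8.r8.cen h2 (h.c1 x h1).1 (h.c1 x h1).2.1 with e | e
  exacts [e, absurd (e ▸ h1) h.z_not]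

/-- `|B1 : R| ≤ 2`: `x z, y z ∈ B2`. -/
theorem mul_mem_K {x y : G} (hx : x ∈ B1) (hy : y ∈ B1) (h1 : x ∉ K) (h2 : y ∉ K) : x * y ∈ K := by
  have k : ∀ x ∈ B1, x ∉ K → x * zz v w ∈ B2 := fun x hx n =>
    (h.m2 x (h.B1S hx) (h.c1 x hx).1 (h.c1 x hx).2.1).resolve_left fun m => n ((h.int x).1 ⟨hx, m⟩).2
  have := mul_mem (k x hx h1) (k y hy h2)
  rw [(comm_DD (h.c1 y hy).1 (h.c1 y hy).2.1 (z_mem v w)).symm.mul_mul_mul_comm, h.z2, mul_one] at this
  exact ((h.int _).1 ⟨mul_mem hx hy, this⟩).2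

theorem sylD (p : Pr H L K) : SylIn 2 (DD v w) L := by
  exact Loc.sD p h.syl h.toD8.r8 fun x => ⟨fun m => ⟨DD_le h.vS h.wS m, DD_le h.vL h.wL m⟩,
    fun m => h.D x m.1 m.2⟩

/-- Squares of elements of `C_S(D)` lie in `B1`. -/
theorem sq_mem {x : G} (hx : x ∈ S) (h1 : Commute x v) (h2 : Commute x w) : x * x ∈ B1 := by
  rcases h.m1 x hx h1 h2 with k | k
  · exact mul_mem k k
  · have := mul_mem k k
    rwa [(comm_DD h1 h2 (z_mem v w)).symm.mul_mul_mul_comm, h.z2, mul_one] at this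

theorem sq_one {b e : G} (hb : b ∈ B1) (he : e ∈ DD v w) (h2 : b * e * (b * e) = 1) : b * b = 1 ∧ e * e = 1 := by
  rw [(comm_DD (h.c1 b hb).1 (h.c1 b hb).2.1 he).symm.mul_mul_mul_comm] at h2
  have := h.eq_one (mul_mem hb hb) (eq_inv_of_mul_eq_one_left h2 ▸ inv_mem (mul_mem he he))
  exact ⟨this, by rwa [this, one_mul] at h2⟩

/-- If `x ∈ B` swaps then `[x, v] ∈ B` has order 4. So `x = b e`, `b² = e² = 1`; if `e ∉ ⟨z⟩` then `(c e c⁻¹ e)² = z`, so
`(c b c⁻¹ b)² = z`, but squares of `C_S(D) = B1 × ⟨z⟩` lie in `B1`. -/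
theorem le_cen {c : G} (hc : c ∈ S) (sp : Sp v w c) {B : Subgroup G} (hB : B ≤ S) (h2 : ∀ x ∈ B, x * x = 1)
    (hn : ∀ g ∈ S, ∀ x ∈ B, g * x * g⁻¹ ∈ B) : ∀ x ∈ B, Commute x v ∧ Commute x w := by
  have r := h.toD8.r8
  intro x hx
  have cz := r.aut (c := c) (by rcases sp.1 with e | e <;> rw [e]; exacts [w_mem v w, mul_mem (w_mem v w) (z_mem v w)])
    (by rcases sp.2 with e | e <;> rw [e]; exacts [v_mem v w, mul_mem (v_mem v w) (z_mem v w)])
  rcases h.sw x (hB hx) with ⟨b, hb, e, he, rfl⟩ | ⟨sp', -⟩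
  · obtain ⟨-, e2⟩ := h.sq_one hb he (h2 _ hx)
    obtain ⟨b1, b2, -⟩ := h.c1 b hb
    have q : (c * e * c⁻¹ * e) * (c * e * c⁻¹ * e) ≠ zz v w := fun q => by
      have m := (h.sw c hc).resolve_left (by
        rintro ⟨b', hb', e', he', rfl⟩
        have k : b' * e' * v * (b' * e')⁻¹ = e' * v * e'⁻¹ := by
          rw [← (comm_DD (h.c1 b' hb').1 (h.c1 b' hb').2.1
            (mul_mem (mul_mem he' (v_mem v w)) (inv_mem he'))).mul_inv_cancel]; group
        have k2 : Commute (e' * v * e'⁻¹) v := by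
          rcases r.cj he' (v_mem v w) with k | k <;> rw [k]
          exact (Commute.refl v).mul_left r.zv
        rcases sp.1 with s | s <;> rw [← k, s] at k2
        · exact r.nc k2.symm
        · exact r.nc (by simpa using (k2.mul_left r.zv.inv_left).symm))
      have m2 := m.2.1 b hb
      obtain ⟨b3, b4, -⟩ := h.c2 _ m2
      have nD : c * e * c⁻¹ ∈ DD v w := by
        have := conj_mem_cj (g := c) he
        refine (?_ : c •ᶜ DD v w ≤ DD v w) this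
        rw [cj_le_iff]
        refine DD_le (mem_cj.2 ?_) (mem_cj.2 ?_) <;> rw [inv_inv]
        · rcases sp.1 with e | e <;> rw [e]; exacts [w_mem v w, mul_mem (w_mem v w) (z_mem v w)]
        · rcases sp.2 with e | e <;> rw [e]; exacts [v_mem v w, mul_mem (v_mem v w) (z_mem v w)]
      have y := h2 _ (mul_mem (hn c hc _ hx) hx)
      rw [← conj_mul, (comm_DD b1 b2 nD).symm.mul_mul_mul_comm,
        (comm_DD (b3.mul_left b1) (b4.mul_left b2) (mul_mem nD he)).symm.mul_mul_mul_comm, q] at y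
      exact h.z_not (r.zi ▸ eq_inv_of_mul_eq_one_left y ▸
        h.sq_mem (mul_mem (h.B2S m2) (h.B1S hb)) (b3.mul_left b1) (b4.mul_left b2))
    obtain ⟨f, i, rfl, rfl, hz, m⟩ := r.hom
    have z1 := (m _).2 ⟨_, hz⟩
    suffices e = 1 ∨ e = zz (f (.sr 0)) (f (.sr 1)) by
      rcases this with rfl | rfl
      exacts [⟨b1.mul_left (.one_left _), b2.mul_left (.one_left _)⟩, ⟨b1.mul_left r.zv, b2.mul_left r.zw⟩]
    rcases r.inv_cases he e2 with k | k | k | k | k | k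
    · exact .inl k
    · exact .inr k
    all_goals
      exfalso
      subst k
      obtain ⟨s1, s2⟩ := sp
      try rw [← conj_mul, cz.1.mul_inv_cancel] at q
    · rcases s1 with s | s <;> rw [s] at q <;> simp only [ne_eq, ← hz, ← map_mul, i.eq_iff] at q <;>
        exact q (by decide)
    · rcases s1 with s | s <;> rw [s] at q <;> simp only [ne_eq, ← hz, ← map_mul, i.eq_iff] at q <;>
        exact q (by decide)
    · rcases s2 with s | s <;> rw [s] at q <;> simp only [ne_eq, ← hz, ← map_mul, i.eq_iff] at q <;>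
        exact q (by decide)
    · rcases s2 with s | s <;> rw [s] at q <;> simp only [ne_eq, ← hz, ← map_mul, i.eq_iff] at q <;>
        exact q (by decide)
  · exfalso
    have y := h2 _ (mul_mem (inv_mem hx) (hn v h.vS _ hx))
    have e : x⁻¹ * (v * x * v⁻¹) = x * v * x⁻¹ * v := by
      rw [r.vi, inv_eq_of_mul_eq_one_right (h2 x hx)]; group
    rw [e] at y
    obtain ⟨f, i, rfl, rfl, hz, m⟩ := r.hom
    rcases sp'.1 with s | s <;> rw [s] at y <;> simp only [← hz, ← map_mul, map_eq_one_iff f i] at y <;>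
      exact absurd y (by decide)

/-- An involution `b e` is conjugate under `⟨ρ, ρ'⟩` to `b` or `b z`: if `e ∈ V1` use `ρ`; if `e ∈ V2` write `b e = (b z)(e z)` when
`b ∉ B2`. -/
theorem inv_cj {b e : G} (hb : b ∈ B1) (he : e ∈ DD v w) (h2 : b * e * (b * e) = 1) :
    b * b = 1 ∧ ∃ g ∈ closure ({ρ, ρ'} : Set G), g * (b * e) * g⁻¹ = b ∨ g * (b * e) * g⁻¹ = b * zz v w := by
  have r := h.toD8.r8
  obtain ⟨b2, e2⟩ := h.sq_one hb he h2
  refine ⟨b2, ?_⟩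
  have m1 : ρ ∈ closure ({ρ, ρ'} : Set G) := subset_closure (.inl rfl)
  have m2 : ρ' ∈ closure ({ρ, ρ'} : Set G) := subset_closure (.inr rfl)
  obtain ⟨c1, c2, c3⟩ := h.c1 b hb
  have a1 : ρ⁻¹ * v * ρ⁻¹⁻¹ = zz v w := by conv_lhs => rw [← h.ρz]
                                           group
  have a2 : ρ * (v * zz v w) * ρ⁻¹ = zz v w := by
    rw [← conj_mul, h.ρz, h.ρv, mul_assoc, r.zv.eq, ← mul_assoc, r.vv, one_mul]
  have a3 : ρ'⁻¹ * w * ρ'⁻¹⁻¹ = zz v w := by conv_lhs => rw [← h.ρ'z]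
                                             group
  have a4 : ρ' * (w * zz v w) * ρ'⁻¹ = zz v w := by
    rw [← conj_mul, h.ρ'z, h.ρ'w, mul_assoc, r.zw.eq, ← mul_assoc, r.ww, one_mul]
  have k := h.m2 b (h.B1S hb) c1 c2
  have q : b * zz v w * zz v w = b := by rw [mul_assoc, r.z2, mul_one]
  rcases r.inv_cases he e2 with rfl | rfl | rfl | rfl | rfl | rfl
  · exact ⟨1, one_mem _, .inl (by simp)⟩
  · exact ⟨1, one_mem _, .inr (by simp)⟩
  · exact ⟨_, inv_mem m1, .inr (by rw [← conj_mul, a1, c3.symm.inv_left.mul_inv_cancel])⟩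
  · exact ⟨_, m1, .inr (by rw [← conj_mul, a2, c3.symm.mul_inv_cancel])⟩
  · rcases k with k | k
    · exact ⟨_, inv_mem m2, .inr (by rw [← conj_mul, a3, (h.c2 _ k).2.2.symm.inv_left.mul_inv_cancel])⟩
    · exact ⟨_, m2, .inl (by
        conv_lhs => rw [← q, mul_assoc (b * _), r.zw.eq, ← conj_mul, a4, (h.c2 _ k).2.2.symm.mul_inv_cancel, q])⟩
  · rcases k with k | k
    · exact ⟨_, m2, .inr (by rw [← conj_mul, a4, (h.c2 _ k).2.2.symm.mul_inv_cancel])⟩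
    · exact ⟨_, inv_mem m2, .inl (by
        rw [← r.zw.eq, ← mul_assoc b, ← conj_mul, a3, (h.c2 _ k).2.2.symm.inv_left.mul_inv_cancel, q])⟩

end Lc

end CL.HS8
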