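import Cfsg.Agent.INV.HS8.Loc
import Cfsg.Agent.INV.HS8.M1d
import Cfsg.Agent.INV.HS8.D8

/-!
`K` tightly embedded with `m(K) = 1` and Sylow subgroup `R` of order at least 4: the case that `H` has odd index.
-/

set_option autoImplicit false
set_option linter.unusedSectionVars false

open Subgroup CL.TwoS CL.MSS

namespace CL.HS8

variable {G : Type*} [Group G] [Finite G] {H L K S B1 B2 : Subgroup G} {v w ρ ρ' t : G}

/-- `t` is the involution of `R = S ∩ K`. -/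
structure Ti (H L K S B1 B2 : Subgroup G) (v w ρ ρ' t : G) : Prop
    extends Lc H L K S B1 B2 v w ρ ρ' where
  pr : Pr H L K
  ti : ∀ g y, y ∈ K → y * y = 1 → y ≠ 1 → g * y * g⁻¹ ∈ K → g ∈ H
  tS : t ∈ S
  tK : t ∈ K
  tt : t * t = 1
  t1 : t ≠ 1
  uq : ∀ x ∈ S, x ∈ K → x * x = 1 → x = 1 ∨ x = t
  four : ∃ r ∈ S, r ∈ K ∧ r * r = t

theorem M1.inv_nm {Q : Subgroup G} {g : G} (hg : ∀ x ∈ Q, g * x * g⁻¹ ∈ Q) : ∀ x ∈ Q, g⁻¹ * x * g⁻¹⁻¹ ∈ Q :=
  fun x hx => (mem_normalizer_iff.1 (inv_mem (mem_normalizer_of_cj_le (cj_le_iff_forall.2 hg))) x).1 hx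

theorem M1.pow_nm {Q : Subgroup G} {g : G} (hg : ∀ x ∈ Q, g * x * g⁻¹ ∈ Q) (n : ℕ) :
    ∀ x ∈ Q, g ^ n * x * (g ^ n)⁻¹ ∈ Q :=
  fun x hx => (mem_normalizer_iff.1 (pow_mem (mem_normalizer_of_cj_le (cj_le_iff_forall.2 hg)) n) x).1 hx

/-- Burnside's fusion lemma. -/
theorem M1.burn (hS : SylIn 2 S ⊤) {x y : G} (hx : ∀ s ∈ S, Commute s x) (hy : ∀ s ∈ S, Commute s y)
    (c : IsConj x y) : ∃ n, (∀ s ∈ S, n * s * n⁻¹ ∈ S) ∧ n * x * n⁻¹ = y := by
  have := Fact.mk Nat.prime_two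
  obtain ⟨g, rfl⟩ := isConj_iff.1 c
  have h1 := (hS.of_le (K := centralizer {x}) (fun s hs => mem_centralizer_singleton_iff.2 (hx s hs))
    le_top).cj g
  rw [cj_centralizer_singleton] at h1
  obtain ⟨c, hc, e⟩ := h1.exists_conj
    (hS.of_le (fun s hs => mem_centralizer_singleton_iff.2 (hy s hs)) le_top)
  refine ⟨c * g, cj_le_iff_forall.1 (by rw [cj_mul, e]), ?_⟩
  rw [← cj_of_comm (mem_centralizer_singleton_iff.1 hc)]; group

omit [Finite G] in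
theorem M1.cj_ne {g x : G} (h : x ≠ 1) : g * x * g⁻¹ ≠ 1 := by simpa using h

omit [Finite G] in
theorem M1.mc {t u x : G} : x ∈ centralizer ({t, u} : Set G) ↔ Commute x t ∧ Commute x u :=
  ⟨fun h => ⟨(h t (by simp)).symm, (h u (by simp)).symm⟩, by
    rintro ⟨a, b⟩ _ (rfl | rfl)
    exacts [a.symm, b.symm]⟩

omit [Finite G] in
theorem M1.isConj_cj' {x : G} (g : G) : IsConj x (g * x * g⁻¹) := isConj_iff.2 ⟨g, rfl⟩

namespace Ti

open M1

variable (h : Ti H L K S B1 B2 v w ρ ρ' t)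
include h

theorem swap : Ti H L K S B2 B1 w v ρ' ρ t :=
  ⟨h.toLc.swap, h.pr, h.ti, h.tS, h.tK, h.tt, h.t1, h.uq, h.four⟩

theorem d8 : D8 v w ρ ρ' := h.toD8
theorem DS : DD v w ≤ S := DD_le h.vS h.wS
theorem DL : DD v w ≤ L := DD_le h.vL h.wL
theorem zS : zz v w ∈ S := h.DS zD
theorem RB {x : G} (h1 : x ∈ S) (h2 : x ∈ K) : x ∈ B1 := ((h.int x).2 ⟨h1, h2⟩).1
theorem RB2 {x : G} (h1 : x ∈ S) (h2 : x ∈ K) : x ∈ B2 := ((h.int x).2 ⟨h1, h2⟩).2
theorem BK {x : G} (h1 : x ∈ B1) (h2 : x ∈ B2) : x ∈ K := ((h.int x).1 ⟨h1, h2⟩).2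
theorem tB : t ∈ B1 := h.RB h.tS h.tK
theorem cB {b e : G} (hb : b ∈ B1) (he : e ∈ DD v w) : Commute b e := comm_D (h.c1 b hb).1 (h.c1 b hb).2.1 he
theorem cB2 {b e : G} (hb : b ∈ B2) (he : e ∈ DD v w) : Commute b e := comm_D (h.c2 b hb).1 (h.c2 b hb).2.1 he
theorem tD : t ∉ DD v w := fun e => h.t1 (h.toLc.eq_one h.tB e)
theorem tz : t ≠ zz v w := fun e => h.tD (e ▸ zD)
theorem zswap : zz w v = zz v w := by
  have := (zv h.d8).eq
  rw [← mul_left_inj v, this, zz, zz, mul_assoc, h.vv, mul_one, ← mul_assoc, ← mul_assoc, ← mul_assoc, h.vv,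
    one_mul]

theorem nD {g : G} (hg : g ∈ H) (k : ∀ x ∈ DD v w, g * x * g⁻¹ ∈ S) : ∀ x ∈ DD v w, g * x * g⁻¹ ∈ DD v w :=
  fun x hx => h.D _ (k x hx) (h.pr.Ln g hg x (h.DL hx))

theorem nDS {g : G} (hg : g ∈ S) : ∀ x ∈ DD v w, g * x * g⁻¹ ∈ DD v w :=
  h.nD (h.syl.le hg) fun _ hx => mul_mem (mul_mem hg (h.DS hx)) (inv_mem hg)

theorem cz {g : G} (hg : g ∈ S) : Commute g (zz v w) := fix_z h.d8 (h.nDS hg _ vD) (h.nDS hg _ wD)

theorem fix_t {g : G} (hg : g ∈ H) (k : g * t * g⁻¹ ∈ S) : Commute g t :=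
  comm_of_cj ((h.uq _ k (h.pr.Kn g hg t h.tK) (by rw [cj_mul_cj, h.tt]; simp)).resolve_left
    (by simpa using h.t1))

theorem ct {g : G} (hg : g ∈ S) : Commute g t :=
  h.fix_t (h.syl.le hg) (mul_mem (mul_mem hg h.tS) (inv_mem hg))

theorem cH {g : G} (c : Commute g t) : g ∈ H := h.ti g t h.tK h.tt h.t1 (by rw [cj_of_comm c]; exact h.tK)

theorem nR {g x : G} (hg : g ∈ S) (h1 : x ∈ S) (h2 : x ∈ K) : g * x * g⁻¹ ∈ S ∧ g * x * g⁻¹ ∈ K :=
  ⟨mul_mem (mul_mem hg h1) (inv_mem hg), h.pr.Kn g (h.syl.le hg) x h2⟩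

theorem cρ {g : G} (hg : g ∈ closure ({ρ, ρ'} : Set G)) : Commute g t :=
  mem_centralizer_singleton_iff.1 ((closure_le (centralizer {t})).2 (by
    rintro _ (rfl | rfl)
    exacts [mem_centralizer_singleton_iff.2 (h.c1 t h.tB).2.2.symm,
      mem_centralizer_singleton_iff.2 (h.c2 t (h.RB2 h.tS h.tK)).2.2.symm]) hg)

/-- `t` is central in `S` and `C(t) ≤ H`. -/
theorem sylC : SylIn 2 S (centralizer {t}) :=
  h.syl.of_le (fun _ hx => mem_centralizer_singleton_iff.2 (h.ct hx)) fun _ hx =>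
    h.cH (mem_centralizer_singleton_iff.1 hx)

/-- Conjugating a 2-subgroup of `C(t)` into `S`. -/
theorem into {Q : Subgroup G} (hQ : IsPGroup 2 Q) (c : ∀ x ∈ Q, Commute x t) :
    ∃ g, Commute g t ∧ ∀ x ∈ Q, g * x * g⁻¹ ∈ S := by
  have := Fact.mk Nat.prime_two
  obtain ⟨g, hg, e⟩ := h.sylC.exists_conj_le hQ fun x hx => mem_centralizer_singleton_iff.2 (c x hx)
  exact ⟨g, mem_centralizer_singleton_iff.1 hg, cj_le_iff_forall.1 e⟩

theorem into1 {x : G} {k : ℕ} (hx : x ^ 2 ^ k = 1) (c : Commute x t) : ∃ g, Commute g t ∧ g * x * g⁻¹ ∈ S := by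
  obtain ⟨g, a, b⟩ := h.into (isPGroup_zpowers hx) fun y ⟨n, e⟩ => e ▸ c.zpow_left n
  exact ⟨g, a, b x (mem_zpowers x)⟩

/-- If `g` normalises `S`, `g ∉ H`, then `R' = g R g⁻¹` is normal in `S`, `R' ∩ R = 1`. If `R' ∩ D = 1` then `R' ≤ C_S(D) = B1 × ⟨z⟩`, whose squares
lie in `R`; but `R'` has an element of order 4. So `z ∈ R'`, whose only involution is `g t g⁻¹`. -/
theorem move {g : G} (hg : ∀ x ∈ S, g * x * g⁻¹ ∈ S) (n : g ∉ H) : g * t * g⁻¹ = zz v w := by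
  have hg' := inv_nm hg
  obtain ⟨r, rS, rK, rr⟩ := h.four
  have tK : g * t * g⁻¹ ∉ K := fun e => n (h.ti g t h.tK h.tt h.t1 e)
  have c : ∀ x ∈ S, Commute (g * t * g⁻¹) x := fun x hx => by
    have := (comm_cj (g := g)).2 (h.ct (hg' x hx)).symm
    rwa [show g * (g⁻¹ * x * g⁻¹⁻¹) * g⁻¹ = x by group] at this
  refine (cenD h.d8 ?_ (c _ h.vS) (c _ h.wS)).resolve_left (by simpa using h.t1)
  have key : ∀ e ∈ DD v w, ¬ Commute (g * r * g⁻¹) e → g * t * g⁻¹ ∈ DD v w := fun e he nc => by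
    have k : ∀ y ∈ DD v w, y ≠ 1 → y * y = 1 → g⁻¹ * y * g⁻¹⁻¹ ∈ K → g * t * g⁻¹ ∈ DD v w :=
      fun y hy y1 y2 yK => by
        rw [← (h.uq _ (hg' y (h.DS hy)) yK (by rw [cj_mul_cj, y2]; simp)).resolve_left (cj_ne y1)]
        simpa [mul_assoc] using hy
    have xD := mul_mem (h.nDS (hg r rS) e he) (inv_mem he)
    have xK : g⁻¹ * (g * r * g⁻¹ * e * (g * r * g⁻¹)⁻¹ * e⁻¹) * g⁻¹⁻¹ ∈ K := by
      have := mul_mem rK (h.nR (hg' e (h.DS he)) (inv_mem rS) (inv_mem rK)).2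
      convert this using 1; group
    have x1 : g * r * g⁻¹ * e * (g * r * g⁻¹)⁻¹ * e⁻¹ ≠ 1 := fun a => nc (comm_of_cj (mul_inv_eq_one.1 a))
    rcases sqD h.d8 xD with a | a
    · exact k _ xD x1 a xK
    · exact k _ zD h.z1 h.z2 (by rw [← a, ← cj_mul_cj]; exact mul_mem xK xK)
  by_contra nD
  have c1 := not_not.1 fun a => nD (key _ vD a)
  have c2 := not_not.1 fun a => nD (key _ wD a)
  have sq : ∀ {B : Subgroup G}, g * r * g⁻¹ ∈ B ∨ g * r * g⁻¹ * zz v w ∈ B → g * t * g⁻¹ ∈ B := by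
    rintro B (a | a)
    · rw [← rr, ← cj_mul_cj]; exact mul_mem a a
    · have := mul_mem a a
      rwa [(h.cz (hg r rS)).symm.mul_mul_mul_comm, h.z2, mul_one, cj_mul_cj, rr] at this
  exact tK (h.BK (sq (h.m1 _ (hg r rS) c1 c2)) (sq (h.m2 _ (hg r rS) c1 c2)))

variable (hS : SylIn 2 S ⊤)
include hS

theorem fixN {n : G} (hn : ∀ x ∈ S, n * x * n⁻¹ ∈ S) : Commute n t ∧ Commute n (zz v w) := by
  obtain ⟨i, j, k, e, h1, h2⟩ := two_part n
  have a : n ^ i ∈ S := hS.le_of_normalizes (isPGroup_zpowers h1) le_top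
    (zpowers_le.2 (mem_normalizer_of_cj_le (cj_le_iff_forall.2 (pow_nm hn i)))) (mem_zpowers _)
  have b := pow_nm hn j
  have c : n ^ j ∈ H := by
    by_contra c
    have c1 := h.move b c
    have c2 := h.move (inv_nm b) fun a => c (inv_mem_iff.1 a)
    obtain ⟨m, hm⟩ := exists_pow_eq_self_of_coprime (x := n ^ j) (n := 2) (Nat.coprime_two_left.2 h2)
    refine c (h.cH (hm ▸ Commute.pow_left (comm_of_cj ?_) m))
    rw [pow_two, show n ^ j * n ^ j * t * (n ^ j * n ^ j)⁻¹ = n ^ j * (n ^ j * t * (n ^ j)⁻¹) * (n ^ j)⁻¹ by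
      simp only [mul_inv_rev, mul_assoc], c1, ← c2]
    simp [mul_assoc]
  have d := h.nD c fun x hx => b x (h.DS hx)
  rw [e]
  exact ⟨(h.ct a).mul_left (h.fix_t c (b t h.tS)), (h.cz a).mul_left (fix_z h.d8 (d _ vD) (d _ wD))⟩

/-- Central involutions of `S` which are conjugate are conjugate by an element `n` of odd order of `N(S)`. If `n ∉ H` then `n` and `n⁻¹` map `t` to `z`
(`move`), so `n²` and `n` centralise `t`. So `n` fixes `t`, normalises `D = S ∩ L`, fixes `z`. -/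
theorem three : ¬ IsConj t (zz v w) ∧ ¬ IsConj t (t * zz v w) ∧ ¬ IsConj (zz v w) (t * zz v w) := by
  have c1 : ∀ s ∈ S, Commute s t := fun s hs => h.ct hs
  have c2 : ∀ s ∈ S, Commute s (zz v w) := fun s hs => h.cz hs
  have c3 : ∀ s ∈ S, Commute s (t * zz v w) := fun s hs => (h.ct hs).mul_right (h.cz hs)
  refine ⟨fun c => ?_, fun c => ?_, fun c => ?_⟩
  · obtain ⟨n, a, b⟩ := M1.burn hS c1 c2 c
    exact h.tz ((cj_of_comm (h.fixN hS a).1).symm.trans b)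
  · obtain ⟨n, a, b⟩ := M1.burn hS c1 c3 c
    exact h.z1 (left_eq_mul.1 ((cj_of_comm (h.fixN hS a).1).symm.trans b))
  · obtain ⟨n, a, b⟩ := M1.burn hS c2 c3 c
    exact h.t1 (right_eq_mul.1 ((cj_of_comm (h.fixN hS a).2).symm.trans b))

/-- An involution `r e` (`r ∈ R`, `e ∈ D`) is `t` or conjugate to `z` or `t z`. -/
theorem not_inner {u r e : G} (hu : IsConj t u) (rS : r ∈ S) (rK : r ∈ K) (he : e ∈ DD v w) (e1 : u = r * e) : u = t := by
  obtain ⟨r2, g, hg, a⟩ := h.toLc.inv_cj (h.RB rS rK) he (e1 ▸ sq_of_isConj h.tt hu)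
  rw [← e1] at a
  have c := (isConj_cj g).2 hu
  rcases h.uq r rS rK r2 with rfl | rfl <;> rcases a with a | a <;> rw [a] at c
  · exact absurd (isConj_one_left.1 c) h.t1
  · exact absurd (by simpa using c) (h.three hS).1
  · exact TwoS.cj_inj.1 (a.trans (cj_of_comm (h.cρ hg)).symm)
  · exact absurd c (h.three hS).2.1

omit hS in
theorem pow_t {r : G} (rS : r ∈ S) (rK : r ∈ K) (r2 : r * r ≠ 1) : ∃ j, r ^ j * r ^ j = t := by
  obtain ⟨k, hk⟩ := isPGroup_iff_forall_mem.1 h.syl.pgroup r rS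
  induction k generalizing r with
  | zero => exact absurd (by rw [show r = 1 by simpa using hk, one_mul]) r2
  | succ k ih =>
    by_cases a : r * r * (r * r) = 1
    · exact ⟨1, by simpa using (h.uq _ (mul_mem rS rS) (mul_mem rK rK) a).resolve_left r2⟩
    · obtain ⟨j, hj⟩ := ih (mul_mem rS rS) (mul_mem rK rK) a (by rw [← pow_two, ← pow_mul, ← pow_succ', hk])
      exact ⟨2 * j, by rw [pow_mul, pow_two, hj]⟩

/-- If `r ∈ R` of order 4 centralises `u = g t g⁻¹` then `g⁻¹ r g ∈ C(t)` is conjugate in `C(t)` to `s ∈ S`; `s² ≠ t` is a conjugate of `t`. It lies in `R D`, against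
`not_inner`: if `s = b e` use `mul_mem_K`; if `s` swaps and `s² = b e`, `b ∉ R`, then `s b s⁻¹ = b z` (it lies in `B2`), `s e s⁻¹ = e z`, so `e` has order 4 and
`b² = z`, against `eq_one`. -/
theorem cenR {u r : G} (hu : IsConj t u) (ne : u ≠ t) (rS : r ∈ S) (rK : r ∈ K) (c : Commute r u) : r = 1 ∨ r = t := by
  by_contra n
  obtain ⟨j, hj⟩ := h.pow_t rS rK fun e => n (h.uq r rS rK e)
  replace c := c.pow_left j
  generalize r ^ j = r at hj c
  obtain ⟨g, rfl⟩ := isConj_iff.1 hu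
  obtain ⟨c0, c1, sS⟩ := h.into1 (x := g⁻¹ * r * g⁻¹⁻¹) (k := 2) (by
      rw [conj_pow, show 2 ^ 2 = 2 * 2 from rfl, pow_mul, pow_two r, hj, pow_two, h.tt]; simp)
    (by simpa [mul_assoc] using (comm_cj (g := g⁻¹)).2 c)
  obtain ⟨s, hs⟩ : ∃ s, s = c0 * (g⁻¹ * r * g⁻¹⁻¹) * c0⁻¹ := ⟨_, rfl⟩
  have s2 : s * s = c0 * (g⁻¹ * t * g⁻¹⁻¹) * c0⁻¹ := by rw [hs, cj_mul_cj, cj_mul_cj, hj]
  rw [← hs] at sS
  have cj : IsConj t (s * s) := s2 ▸ (isConj_cj c0).2 (isConj_cj' _)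
  have ni : ∀ b ∈ B1, b ∈ K → ∀ e ∈ DD v w, s * s ≠ b * e := fun b hb bK e he a => by
    have := h.not_inner hS cj (h.B1S hb) bK he a
    rw [s2, ← cj_of_comm c1, TwoS.cj_inj, cj_of_comm c1] at this
    exact ne (by conv_lhs => rw [← this]
                 group)
  rcases h.sw s sS with ⟨b, hb, e, he, rfl⟩ | ⟨sp, s1, -⟩
  · refine ni _ (mul_mem hb hb) ?_ _ (mul_mem he he) ((h.cB hb he).symm.mul_mul_mul_comm _ _)
    by_cases bK : b ∈ K
    exacts [mul_mem bK bK, h.toLc.mul_mem_K hb hb bK bK]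
  obtain ⟨b, hb, e, he, a⟩ := (h.sw _ (mul_mem sS sS)).resolve_right fun a => sp_mul h.d8 sp sp a.1
  have bK : b ∉ K := fun bK => ni b hb bK e he a
  have b2 := s1 b hb
  have e1 : s * b * s⁻¹ * (s * e * s⁻¹) = b * e := by rw [cj_mul_cj, ← a]; group
  have b1 := (h.m1 _ (h.B2S b2) (h.c2 _ b2).1 (h.c2 _ b2).2.1).resolve_left fun b1 => bK (by
    simpa [mul_assoc] using h.pr.Kn _ (h.syl.le (inv_mem sS)) _ (h.BK b1 b2))
  have e2 := h.toLc.eq_one (mul_mem (inv_mem hb) b1) (by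
    rw [← mul_assoc, show b⁻¹ * (s * b * s⁻¹) = e * (s * e * s⁻¹)⁻¹ by
      rw [inv_mul_eq_iff_eq_mul, ← mul_assoc, ← e1, mul_inv_cancel_right]]
    exact mul_mem (mul_mem he (inv_mem (h.nDS sS e he))) zD)
  have e3 : s * e * s⁻¹ = zz v w * e := by
    rw [inv_mul_eq_one] at e2
    rw [← mul_right_inj (s * b * s⁻¹), e1, ← mul_assoc, ← e2]
  have t2 := sq_of_isConj h.tt cj
  rw [a] at t2
  have e4 : e * e = 1 := by
    have b2 := (h.toLc.inv_cj hb he t2).1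
    rwa [(h.cB hb he).symm.mul_mul_mul_comm, b2, one_mul] at t2
  obtain ⟨x, rfl⟩ := memD h.d8 he
  obtain ⟨i, j, k⟩ := sp_act h.d8 sp
  rw [k, ← ψz, ← (mod h.d8).mul] at e3
  exact (by decide : ∀ i j x, x * x = 1 → en ⟨false, true, i⟩ ⟨true, false, j⟩ x ≠ dz * x) i j x
    ((mod h.d8).sq.1 e4) ((mod h.d8).inj e3)

/-- Conjugate `u` into `S` by `C(t)`; `⟨t, u⟩` is proper in the 2-group `R ⟨u⟩`; an element of `R` normalising it, outside it, moves `u` (`cenR`). -/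
theorem rot {u : G} (hu : IsConj t u) (ne : u ≠ t) (c : Commute u t) : ∃ r, Commute r t ∧ r * u * r⁻¹ = u * t := by
  have := Fact.mk Nat.prime_two
  have k : ∀ u ∈ S, IsConj t u → u ≠ t → ∃ r, Commute r t ∧ r * u * r⁻¹ = u * t := fun u uS hu ne => by
    have u2 := sq_of_isConj h.tt hu
    have c := h.ct uS
    let W : Subgroup G := subOfMul {x | ∃ i j, x = bp t i * bp u j} ⟨false, false, by simp⟩ (by
      rintro _ ⟨i, j, rfl⟩ _ ⟨i', j', rfl⟩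
      exact ⟨_, _, by rw [(bp_comm c _ _).mul_mul_mul_comm, ← bp_xor h.tt, ← bp_xor u2]⟩)
    have hW : ∀ x, x ∈ W ↔ ∃ i j, x = bp t i * bp u j := fun x => Iff.rfl
    have le : ext2 (S ⊓ K) u (fun x hx => h.nR uS hx.1 hx.2) (u2 ▸ one_mem _) ≤ S := fun x hx =>
      hx.elim (fun a => a.1) fun a => (S.mul_mem_cancel_right (inv_mem uS)).1 a.1
    obtain ⟨r, rS, rK, rr⟩ := h.four
    have lt : W < ext2 (S ⊓ K) u (fun x hx => h.nR uS hx.1 hx.2) (u2 ▸ one_mem _) := by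
      refine lt_of_le_of_ne ?_ fun e => ?_
      · rintro _ ⟨i, j, rfl⟩
        exact mul_mem (Or.inl (bp_mem (mem_inf.2 ⟨h.tS, h.tK⟩) i)) (bp_mem self_mem_ext2 j)
      · obtain ⟨i, j, e⟩ := (hW r).1 (e ▸ Or.inl ⟨rS, rK⟩)
        rw [e, (bp_comm c _ _).mul_mul_mul_comm, ← bp_xor h.tt, ← bp_xor u2] at rr
        exact h.t1 (by simpa using rr.symm)
    obtain ⟨x, ⟨hx, xN⟩, xW⟩ := SetLike.exists_of_lt (lt_inf_normalizer_of_lt (h.syl.pgroup.to_le le) lt)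
    obtain ⟨r, ⟨rS, rK⟩, rN, rW⟩ : ∃ r ∈ S ⊓ K, r ∈ normalizer (W : Set G) ∧ r ∉ W := by
      have uW : u ∈ W := ⟨false, true, by simp⟩
      rcases hx with a | a
      exacts [⟨x, a, xN, xW⟩, ⟨_, a, mul_mem xN (inv_mem (le_normalizer uW)), fun b =>
        xW ((W.mul_mem_cancel_right (inv_mem uW)).1 b)⟩]
    obtain ⟨i, j, e⟩ := (hW _).1 ((mem_normalizer_iff.1 rN u).1 ⟨false, true, by simp⟩)
    refine ⟨r, h.ct rS, ?_⟩
    cases i <;> cases j <;> simp only [bp_true, bp_false, one_mul, mul_one] at e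
    · exact absurd (isConj_one_left.1 (e ▸ (isConj_cj r).2 hu)) h.t1
    · rcases h.cenR hS hu ne rS rK (comm_of_cj e) with rfl | rfl
      exacts [absurd W.one_mem rW, absurd ⟨true, false, by simp⟩ rW]
    · exact absurd (TwoS.cj_inj.1 (e.trans (cj_of_comm (h.ct rS)).symm)) ne
    · rw [c.eq]; exact e
  obtain ⟨g, a, b⟩ := h.into1 (k := 1) (by simpa [pow_two] using sq_of_isConj h.tt hu) c
  obtain ⟨r, a', b'⟩ := k _ b ((isConj_cj g).2 hu) fun e => ne (TwoS.cj_inj.1 (e.trans (cj_of_comm a).symm))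
  refine ⟨g⁻¹ * r * g, (a.inv_left.mul_left a').mul_left a, ?_⟩
  rw [← cj_of_comm a, cj_mul_cj] at b'
  calc _ = g⁻¹ * (r * (g * u * g⁻¹) * r⁻¹) * g := by group
    _ = _ := by rw [b']; group

/-- `rot` for `u` and, conjugated by `g` (`u = g t g⁻¹`), for `g⁻¹ t g`: `N(W)` induces `S3` on `W = ⟨t, u⟩`. Frattini. -/
theorem exists_σ {u : G} (hu : IsConj t u) (ne : u ≠ t) (c : Commute u t) {Q : Subgroup G}
    (hQ : SylIn 2 Q (centralizer {t, u})) : ∃ σ, Odd (orderOf σ) ∧ (∀ x ∈ Q, σ * x * σ⁻¹ ∈ Q) ∧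
      σ * t * σ⁻¹ = u ∧ σ * u * σ⁻¹ = t * u := by
  have u2 := sq_of_isConj h.tt hu
  obtain ⟨r, r1, r2⟩ := h.rot hS hu ne c
  obtain ⟨g, rfl⟩ := isConj_iff.1 hu
  obtain ⟨r', r3, r4⟩ := h.rot hS (isConj_cj' g⁻¹) (fun e => ne (by
      conv_lhs => rw [← e]
      group))
    (by simpa [mul_assoc] using (comm_cj (g := g⁻¹)).2 c.symm)
  have r5 := cjd_rel (g := g) r4
  have r6 := cj_of_comm ((comm_cj (g := g)).2 r3)
  rw [← cj_mul_cj g _ t, show g * (g⁻¹ * t * g⁻¹⁻¹) * g⁻¹ = t by group] at r5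
  generalize g * t * g⁻¹ = u at *
  generalize g * r' * g⁻¹ = q at *
  have cj : ∀ a b x : G, a * b * x * (a * b)⁻¹ = a * (b * x * b⁻¹) * a⁻¹ := fun a b x => by group
  have s1 : r * q * t * (r * q)⁻¹ = u := by
    rw [cj, r5, ← cj_mul_cj, r2, cj_of_comm r1, c.eq, ← mul_assoc, h.tt, one_mul]
  have s2 : r * q * u * (r * q)⁻¹ = t * u := by rw [cj, r6, r2, c.eq]
  obtain ⟨c0, hc, nQ⟩ := frattini hQ (g := r * q) fun x hx => by
    have := inv_nm (Q := centralizer {t, u}) (g := (r * q)⁻¹) (fun y hy => ?_) x hx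
    · simpa only [inv_inv] using this
    obtain ⟨y1, y2⟩ := mc.1 hy
    refine mc.2 ⟨comm_cj (g := r * q).1 ?_, comm_cj (g := r * q).1 ?_⟩ <;>
      rw [show r * q * ((r * q)⁻¹ * y * (r * q)⁻¹⁻¹) * (r * q)⁻¹ = y by group]
    exacts [s1.symm ▸ y2, s2.symm ▸ y1.mul_right y2]
  obtain ⟨c1, c2⟩ := mc.1 hc
  have s3 : c0 * (r * q) * t * (c0 * (r * q))⁻¹ = u := by rw [cj, s1, cj_of_comm c2]
  have s4 : c0 * (r * q) * u * (c0 * (r * q))⁻¹ = t * u := by rw [cj, s2, cj_of_comm (c1.mul_right c2)]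
  generalize c0 * (r * q) = σ at nQ s3 s4
  have s5 : σ * (t * u) * σ⁻¹ = t := by rw [← cj_mul_cj, s3, s4, ← mul_assoc, c.eq, mul_assoc, u2, mul_one]
  obtain ⟨i, j, k, e, h1, h2⟩ := two_part σ
  obtain ⟨m, hm⟩ := exists_pow_eq_self_of_coprime (x := σ ^ i) (n := 3)
    ((Nat.Coprime.pow_right k (by decide)).coprime_dvd_right (orderOf_dvd_of_pow_eq_one h1))
  have cy : ∀ x, Commute (σ ^ 3) x → Commute (σ ^ i)⁻¹ x := fun x a => by
    rw [← hm, ← pow_mul σ, mul_comm, pow_mul]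
    exact ((a.pow_left _).pow_left _).inv_left
  have p3 : σ ^ 3 = σ * (σ * σ) := by rw [pow_succ', pow_two]
  have y1 := cy t (comm_of_cj (by rw [p3, cj, cj, s3, s4, s5]))
  have y2 := cy u (comm_of_cj (by rw [p3, cj, cj, s4, s5, s3]))
  have e' : σ ^ j = (σ ^ i)⁻¹ * σ := by rw [eq_inv_mul_iff_mul_eq, ← e]
  exact ⟨σ ^ j, h2, pow_nm nQ j, by rw [e', cj, s3, cj_of_comm y2],
    by rw [e', cj, s4, cj_of_comm (y1.mul_right y2)]⟩

theorem cenU {u x : G} (hu : IsConj t u) (ne : u ≠ t) (uS : u ∈ S) (c1 : Commute u v) (c2 : Commute u w)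
    (xS : x ∈ S) (c : Commute x u) : ∃ i j, ∃ e ∈ DD v w, x = bp t i * bp u j * e := by
  have u2 := sq_of_isConj h.tt hu
  have uK : u ∉ K := fun a => (h.uq u uS a u2).elim (fun e => h.t1 (isConj_one_left.1 (e ▸ hu))) ne
  have zK : u * zz v w ∉ K := fun a => by
    have := h.not_inner hS hu (mul_mem uS h.zS) a zD (by rw [mul_assoc, h.z2, mul_one])
    exact ne this
  have cR : ∀ r ∈ S, r ∈ K → Commute r u → ∃ i, r = bp t i := fun r a b c =>
    (h.cenR hS hu ne a b c).elim (fun e => ⟨false, e⟩) fun e => ⟨true, e⟩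
  rcases h.sw x xS with ⟨b, hb, e, he, rfl⟩ | ⟨-, s1, s2⟩
  · have cb : Commute b u := by
      simpa [mul_assoc] using c.mul_left (comm_D c1 c2 he).symm.inv_left
    by_cases bK : b ∈ K
    · obtain ⟨i, rfl⟩ := cR b (h.B1S hb) bK cb
      exact ⟨i, false, e, he, by simp⟩
    rcases h.m1 u uS c1 c2 with a | a
    · obtain ⟨i, hi⟩ := cR _ (mul_mem (h.B1S hb) uS) (h.toLc.mul_mem_K hb a bK uK)
        (cb.mul_left (Commute.refl u))
      exact ⟨i, true, e, he, by rw [← hi, bp_true, mul_assoc b, u2, mul_one]⟩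
    · obtain ⟨i, hi⟩ := cR _ (mul_mem (h.B1S hb) (h.B1S a)) (h.toLc.mul_mem_K hb a bK zK)
        (cb.mul_left ((Commute.refl u).mul_left (h.cz uS).symm))
      refine ⟨i, true, _, mul_mem zD he, ?_⟩
      rw [← hi, bp_true, ← mul_assoc, mul_assoc b, mul_assoc b, mul_assoc (u * zz v w),
        (h.cz uS).symm.mul_mul_mul_comm, u2, h.z2, mul_one, mul_one]
  · exfalso
    have k1 := cj_of_comm c
    have k2 := cj_of_comm (c.mul_right (h.cz xS))
    rcases h.m1 u uS c1 c2 with a | a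
    exacts [uK (h.BK a (k1 ▸ s1 u a)), zK (h.BK a (k2 ▸ s1 _ a))]

/-- `u ∉ K`. `Q = ⟨t, u⟩ × D` is Sylow in `C(t, u)`: conjugate a larger 2-group into `S` by `C(t) ∩ N(D)`; the image `u'` of `u` lies in `B1 - R` or `B2 - R`, no
swapping element centralises it (`sw`, `int`), `|C_{B1}(u')| = 4` (`cenR`). `σ` fixes `z` (`Q' = ⟨z⟩`) and normalises `F = ⟨t, u, w, z⟩` (odd order; `Q` has two
elementary subgroups of order 16). `ρ'` centralises `t`, `u z`: `u ~ u w ~ u w z`, `t u ~ t u w ~ t u w z`, `t z ~ t w ~ t w z`; `σ`: `t z ~ u z ~ t u z`. So `w, w z` are the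
conjugates of `z` in `F - ⟨z⟩`, `σ` fixes `w` and maps `t w` to `u w`: `t z ~ t`. -/
theorem not_B1 {u : G} (hu : IsConj t u) (uB : u ∈ B1) : u = t := by
  have := Fact.mk Nat.prime_two
  by_contra ne
  have uS := h.B1S uB
  have u2 := sq_of_isConj h.tt hu
  have c := h.ct uS
  obtain ⟨Q, hQ, le⟩ := exists_sylIn_ge (R := S ⊓ centralizer {t, u}) h.syl.pgroup.to_inf_left inf_le_right
  have DQ : DD v w ≤ Q := fun e he => le ⟨h.DS he, mc.2 ⟨h.ct (h.DS he), (h.cB uB he).symm⟩⟩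
  have uQ : u ∈ Q := le ⟨uS, mc.2 ⟨c, Commute.refl u⟩⟩
  have mQ : ∀ x ∈ Q, ∃ i j, ∃ e ∈ DD v w, x = bp t i * bp u j * e := fun x hx => by
    obtain ⟨g, a, b⟩ := h.into hQ.pgroup fun y hy => (mc.1 (hQ.le hy)).1
    have n1 := inv_nm (h.nD (h.cH a) fun y hy => b y (DQ hy))
    have k : ∀ e ∈ DD v w, Commute (g * u * g⁻¹) e := fun e he => by
      simpa [mul_assoc] using (comm_cj (g := g)).2 (h.cB uB (n1 e he))
    obtain ⟨i, j, e, he, q⟩ := h.cenU hS ((isConj_cj g).2 hu)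
      (fun e => ne (TwoS.cj_inj.1 (e.trans (cj_of_comm a).symm))) (b u uQ) (k _ vD) (k _ wD) (b x hx)
      (comm_cj.2 (mc.1 (hQ.le hx)).2)
    refine ⟨i, j, _, n1 e he, (TwoS.cj_inj (g := g)).1 ?_⟩
    rw [q, ← cj_mul_cj, ← cj_mul_cj, ← Jn.cjb, ← Jn.cjb, cj_of_comm a]; group
  obtain ⟨σ, -, nQ, s1, s2⟩ := h.exists_σ hS hu ne c hQ
  have tu : IsConj t (t * u) := s2 ▸ (isConj_cj σ).2 hu
  have sq : ∀ x ∈ Q, x * x = 1 ∨ x * x = zz v w := fun x hx => by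
    obtain ⟨i, j, e, he, rfl⟩ := mQ x hx
    rw [(h.cB (mul_mem (bp_mem h.tB i) (bp_mem uB j)) he).symm.mul_mul_mul_comm,
      (bp_comm c _ _).mul_mul_mul_comm, ← bp_xor h.tt, ← bp_xor u2]
    simpa using sqD h.d8 he
  have σz : σ * zz v w * σ⁻¹ = zz v w := by
    have := sq _ (nQ _ (DQ (mul_mem vD wD)))
    rw [cj_mul_cj, ← mul_assoc (v * w)] at this
    exact this.resolve_left (cj_ne h.z1)
  have th := h.three hS
  have nz : ∀ x ∈ DD v w, IsConj (zz v w) x → σ * x * σ⁻¹ ∈ DD v w := fun x hx cx => by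
    obtain ⟨i, j, e, he, q⟩ := mQ _ (nQ x (DQ hx))
    have c1 := (isConj_cj σ).2 cx
    rw [q] at c1 ⊢
    obtain ⟨-, g, -, a⟩ := h.toLc.inv_cj (mul_mem (bp_mem h.tB i) (bp_mem uB j)) he (sq_of_isConj h.z2 c1)
    have c2 := (isConj_cj g).2 c1
    have k1 : IsConj (t * zz v w) (u * zz v w) := by
      simpa only [← cj_mul_cj, s1, σz] using isConj_cj' (x := t * zz v w) σ
    have k2 : IsConj (u * zz v w) (t * u * zz v w) := by
      simpa only [← cj_mul_cj, s2, σz] using isConj_cj' (x := u * zz v w) σ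
    cases i <;> cases j <;> simp only [bp_true, bp_false, one_mul, mul_one] at a c2 ⊢
    · exact he
    all_goals exfalso; rcases a with a | a <;> rw [a] at c2
    exacts [th.1 (hu.trans c2.symm), th.2.2 (c2.trans k1.symm), th.1 c2.symm, th.2.2 c2,
      th.1 (tu.trans c2.symm), th.2.2 (c2.trans (k1.trans k2).symm)]
  have uz : u * zz v w ∈ B2 := (h.m2 u uS (h.c1 u uB).1 (h.c1 u uB).2.1).resolve_left fun a =>
    (h.uq u uS (h.BK uB a) u2).elim (fun e => h.t1 (isConj_one_left.1 (e ▸ hu))) ne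
  have uw : ∀ k, IsConj t (u * ψ v w ⟨false, true, k⟩) := by
    have k1 : IsConj t (u * ψ v w ⟨false, true, true⟩) := by
      have := (isConj_cj ρ').2 hu
      rw [show u = u * zz v w * zz v w by rw [mul_assoc, h.z2, mul_one], ← cj_mul_cj, h.ρ'z,
        cj_of_comm (h.c2 _ uz).2.2.symm, mul_assoc, (zw h.d8).eq] at this
      simpa [ψ] using this
    rintro (_ | _)
    · have := (isConj_cj (ψ v w dv)).2 k1
      rwa [← cj_mul_cj, cj_of_comm (h.cB uB (ψD _)).symm, (mod h.d8).cj (k := dv) (m := ⟨false, true, true⟩) (n := ⟨false, true, false⟩) rfl]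
        at this
    · exact k1
  have fin : ∀ x, x ≠ 1 → ∀ k, σ * ψ v w x * σ⁻¹ ≠ ψ v w ⟨false, true, k⟩ := fun x x1 k e => by
    have := uw k
    rw [← e, ← s1, cj_mul_cj, isConj_cj] at this
    exact x1 ((mod h.d8).inj ((mul_eq_left.1 (h.not_inner hS this h.tS h.tK (ψD x) rfl)).trans
      (mod h.d8).one.symm))
  obtain ⟨p, hp⟩ := memD h.d8 (nz _ vD (isConj_iff.2 ⟨ρ, h.ρz⟩))
  obtain ⟨q, hq⟩ := memD h.d8 (nz _ wD (isConj_iff.2 ⟨ρ', h.ρ'z⟩))
  have a := act_en h.d8 hp.symm hq.symm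
  have a1 : p * p = 1 := (mod h.d8).sq.1 (by rw [hp, cj_mul_cj, h.vv]; simp)
  have a2 : q * q = 1 := (mod h.d8).sq.1 (by rw [hq, cj_mul_cj, h.ww]; simp)
  obtain ⟨x, x1, k, e⟩ := (by decide : ∀ p q : D3, p * p = 1 → q * q = 1 → en p q dz = dz →
    ∃ x ≠ 1, ∃ k, en p q x = ⟨false, true, k⟩) p q a1 a2 ((mod h.d8).inj (by rw [← a, ψz, σz]))
  exact fin x x1 k (by rw [a, e])

/-- `inv_cj` (`ρ, ρ'` centralise `t`): `u ~ b ∈ B1` or `b z`; `not_inner` if `b ∈ K`, else `b z ∈ B2`; `not_B1` and `swap`. -/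
theorem not_S0 {u b e : G} (hu : IsConj t u) (hb : b ∈ B1) (he : e ∈ DD v w) (e1 : u = b * e) : u = t := by
  by_cases bK : b ∈ K
  · exact h.not_inner hS hu (h.B1S hb) bK he e1
  obtain ⟨-, g, hg, a⟩ := h.toLc.inv_cj hb he (e1 ▸ sq_of_isConj h.tt hu)
  rw [← e1] at a
  have c := (isConj_cj g).2 hu
  refine TwoS.cj_inj.1 (Eq.trans ?_ (cj_of_comm (h.cρ hg)).symm)
  rcases a with a | a
  · exact h.not_B1 hS c (a ▸ hb)
  · exact h.swap.not_B1 hS c (a ▸ (h.m2 b (h.B1S hb) (h.c1 b hb).1 (h.c1 b hb).2.1).resolve_left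
      fun e => bK (h.BK hb e))

/-- Let `u ∈ S` swap. By `not_S0` we may assume that `Q = C_S(u)` is Sylow in `C(t, u)`. `(v w) u (v w)⁻¹ = u z`, also for `t u`; so `t, u, t u, u z, t u z` are
conjugate. If `σ z σ⁻¹ ∈ ⟨t, u, z⟩` then `σ` permutes `z, t z, u z, t u z`, fixes `z` and `t z` (`three`), so `t`. Else `f = σ z σ⁻¹ ∈ Q - ⟨t, u, z⟩`, `σ` maps
`u z, t u z` to `t u f, t f`; one of them does not swap: `not_S0`. Hence `t` is isolated. -/
theorem iso : Cfsg.IsIsolatedInvolution t := by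
  have := Fact.mk Nat.prime_two
  refine ⟨orderOf_eq_prime (by rw [pow_two, h.tt]) h.t1, fun g c => ?_⟩
  by_contra ne
  have hu := isConj_cj' (x := t) g
  generalize g * t * g⁻¹ = u at c ne hu
  obtain ⟨Q0, hQ0, le⟩ := exists_sylIn_ge (R := zpowers u) (H := centralizer {t, u})
    (isPGroup_zpowers (p := 2) (k := 1) (by simpa [pow_two] using sq_of_isConj h.tt hu))
    (zpowers_le.2 (mc.2 ⟨c.symm, Commute.refl u⟩))
  obtain ⟨c0, a, b⟩ := h.into hQ0.pgroup fun y hy => (mc.1 (hQ0.le hy)).1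
  have hQ := hQ0.cj c0
  rw [show c0 •ᶜ centralizer ({t, u} : Set G) = centralizer {t, c0 * u * c0⁻¹} by
    ext x
    obtain ⟨y, rfl⟩ := exists_cj c0 x
    rw [conj_mem_cj_iff, mc, mc, comm_cj, ← comm_cj (g := c0) (y := t), cj_of_comm a]] at hQ
  have QS := cj_le_iff_forall.2 b
  have uS := b u (le (mem_zpowers u))
  replace hu := (isConj_cj c0).2 hu
  replace ne : c0 * u * c0⁻¹ ≠ t := fun e => ne (TwoS.cj_inj.1 (e.trans (cj_of_comm a).symm))
  generalize c0 * u * c0⁻¹ = u at hQ uS hu ne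
  generalize c0 •ᶜ Q0 = Q at hQ QS
  have n0 : ∀ x ∈ S, IsConj t x → x = t ∨ Sp v w x := fun x hx cx =>
    (h.sw x hx).imp (fun ⟨b, hb, e, he, q⟩ => h.not_S0 hS cx hb he q) fun a => a.1
  have sp := (n0 u uS hu).resolve_left ne
  have u2 := sq_of_isConj h.tt hu
  obtain ⟨σ, -, nQ, s1, s2⟩ := h.exists_σ hS hu ne (h.ct uS) hQ
  have zQ : zz v w ∈ Q := (hQ.max (S ⊓ centralizer {t, u}) h.syl.pgroup.to_inf_left (le_inf QS hQ.le)
    inf_le_right).le ⟨h.zS, mc.2 ⟨h.ct h.zS, (h.cz uS).symm⟩⟩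
  have fS := QS (nQ _ zQ)
  have uz : v * w * u * (v * w)⁻¹ = u * zz v w := by
    obtain ⟨i, j, k⟩ := sp_act h.d8 sp
    have m := mod h.d8
    have k2 : en ⟨false, true, i⟩ ⟨true, false, j⟩ (en ⟨false, true, i⟩ ⟨true, false, j⟩ dv) = dv :=
      m.inj (by
        rw [← k, ← k, show ∀ x, u * (u * x * u⁻¹) * u⁻¹ = u * u * x * (u * u)⁻¹ from fun _ => by group, u2]
        simp)
    have k3 := k (dv * dw)
    rw [(by decide : ∀ i j, en ⟨false, true, i⟩ ⟨true, false, j⟩ (en ⟨false, true, i⟩ ⟨true, false, j⟩ dv) = dv →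
      en ⟨false, true, i⟩ ⟨true, false, j⟩ (dv * dw) = dz * (dv * dw)) i j k2, m.mul dz, m.mul, ψv, ψw, ψz,
      inv_eq_of_mul_eq_one_left u2] at k3
    rw [mul_inv_eq_iff_eq_mul, mul_assoc u (zz v w), ← k3, ← mul_assoc, ← mul_assoc, u2, one_mul]
  have c1 : IsConj t (u * zz v w) := uz ▸ (isConj_cj _).2 hu
  have c2 : IsConj t (t * u * zz v w) := by
    have := (isConj_cj (v * w)).2 (s2 ▸ (isConj_cj σ).2 hu)
    rwa [← cj_mul_cj, uz, cj_of_comm (h.ct (mul_mem h.vS h.wS)), ← mul_assoc] at this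
  replace c1 := (isConj_cj σ).2 c1
  replace c2 := (isConj_cj σ).2 c2
  rw [← cj_mul_cj, s2, ← (h.ct uS).eq, mul_assoc] at c1
  rw [← cj_mul_cj, ← cj_mul_cj, s1, s2, ← mul_assoc u, (h.ct uS).eq, mul_assoc t, u2, mul_one] at c2
  rcases n0 _ (mul_mem h.tS fS) c2 with e | e
  · exact h.z1 (by simpa using e)
  rcases n0 _ (mul_mem uS (mul_mem h.tS fS)) c1 with e' | e'
  · rw [← mul_assoc, (h.ct uS).eq, mul_assoc, mul_eq_left, mul_eq_one_iff_inv_eq,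
      inv_eq_of_mul_eq_one_left u2] at e'
    exact (h.three hS).1 ((isConj_cj σ).1 (e' ▸ hu))
  · exact sp_mul h.d8 sp e e' 

end Ti

end CL.HS8
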