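import Cfsg.Agent.INV.HS8.S2b

/-!
Case II, K8 of type T, `μ = 0`: computations in the models.
-/

set_option autoImplicit false
set_option synthInstance.maxSize 4000

open Subgroup CL.TwoS CL.MSS CL.K

namespace CL.HS8

namespace S2

open HS8.PC HS8.PC.E

def eS (m : M5) : E := .bp (x 8) m.e.t * .bp (x 4) m.e.v * .bp (x 2) m.e.a * .bp ((x 2)⁻¹ * x 0) m.e.b * .bp (x 6) m.w

theorem eS_wf : ∀ m, (eS m).wf 10 = true := by decide +kernel

/-- code of `φ5 m` -/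
noncomputable def cS (p r : Bool) (m : M5) : ℕ := (PR p r).ce (eS m)

theorem f1 (p r : Bool) : (∀ x < 64, (PR p r).mul x x = 0) ∧
    (∀ x < 16, ∀ j < 8, (PR p r).mul (2 ^ j) x = (PR p r).mul x (2 ^ j)) ∧
    (∀ x < 256, (∀ y ∈ [16, 32, 64, 128], (PR p r).mul x y = (PR p r).mul y x) → x < 16) ∧
    (∀ x < 1024, (PR p r).mul x x = 0 → x < 256 ∨ (p = false ∧ 512 ≤ x) ∨ ∃ s < 256, (PR p r).cj s 256 = x) ∧
    (∀ x < 64, (PR p r).mul x 256 = (PR p r).mul 256 x → ∃ u : V4, x = cS p r ⟨u, false⟩) ∧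
    (∀ u : V4, cS p r ⟨u, false⟩ < 64 ∨ (PR p r).mul (cS p r ⟨u, false⟩) 256 < 64) ∧
    (∀ m, cS p r m < 512) ∧ (∀ x < 512, x < 256 ∨ (PR p r).mul x 256 < 256) ∧
    ∀ q ∈ [(6, 9), (8, 10)], ∀ j < q.2, ∀ x < 2 ^ q.1, (PR p r).cj (2 ^ j) x < 2 ^ q.1 := by
  cases p <;> cases r <;> decide +kernel

/-- `ρ` on `B` -/
noncomputable def th (r : Bool) : ℕ → ℕ := (PR false r).app [16, 32, 21, 8, 17, 34]

theorem f2 (r : Bool) : (∀ x < 256, (PR false r).mul x x < 4) ∧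
    ((PR false r).mul 80 80 = 1 ∧ (PR false r).mul 96 96 = 2) ∧ (PR false r).mul 256 2 ≠ (PR false r).mul 2 256 ∧
    (∀ x < 16, (PR false r).mul ((PR false r).cj 512 x) x < 4 ∧ ((PR false r).cj 512 x = (PR false r).mul x 1 → x < 8)) ∧
    (cS false r ⟨.of 12, false⟩ = 1 ∧ cS false r ⟨.of 4, false⟩ = 4 ∧ cS false r ⟨.of 2, false⟩ = 16 ∧
      cS false r ⟨.of 10, false⟩ = 21 ∧ cS false r ⟨.of 14, false⟩ = 17 ∧ (PR false r).mul 2 32 = 34) ∧
    ∀ x < 64, x &&& 960 = 0 ∧ th r x < 64 ∧ (PR false r).cj 128 x < 64 := by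
  cases r <;> decide +kernel

noncomputable def t1 : ℕ → ℕ := (PR false true).app [2, 3, 7, 8, 49, 18]
noncomputable def t2 : ℕ → ℕ := (PR false true).app [3, 1, 6, 8, 33, 50]
noncomputable def t3 (x : ℕ) : ℕ := t1 ((PR false true).cj 512 (t2 ((PR false true).cj 512 x)))

theorem f3 : (∀ x < 256, (PR false true).mul x x = 0 → x < 64 ∨ (PR false true).cj 512 x < 64) ∧
    (∀ x < 64, (PR false true).cj 512 x < 64 → x < 16) ∧
    (∀ x < 64, th true ((PR false true).cj 128 (th true ((PR false true).cj 128 (th true (th true x))))) = t1 x ∧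
      (t2 x < 64 ∧ t1 (t2 x) = x) ∧ t1 ((PR false true).cj 64 (t2 x)) = (PR false true).cj 192 x ∧
      t1 ((PR false true).cj 128 (t2 x)) = (PR false true).cj 64 x ∧ (PR false true).cj 64 x < 64) ∧
    (∀ x < 16, t1 x < 16 ∧ t2 x < 16 ∧ (PR false true).cj 512 x < 16 ∧ (x < 4 → t3 x = x) ∧
      (PR false true).mul (t3 x) x < 4) ∧ t3 8 ≠ 8 := by
  decide +kernel

/-- squares in `J`, second model -/
def sqv (u : V4) : ℕ := cond (xor u.t u.v && xor u.a u.b) 2 0 ^^^ cond (u.t && u.a) 3 0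

def wχ : ℕ → V4 := PC.gl [1, 1, 1, 1, .of 1, .of 2, .of 4, .of 8]
def wκ : ℕ → V4 := PC.gl [1, 1, 1, .of 1, 1, 1, 1, 1, 1, 1]
def ft : L4 := .of 1 3 4 12
def fc : L4 := .of 4 8 1 2
def D8L : List L4 := [1, ft, fc, ft * fc, .of 11 3 14 12, .of 11 8 14 2, .of 14 2 11 8, .of 14 12 11 3]
/-- the action of `e s` -/
def fs (s : ℕ) : L4 := bp ft (s.testBit 8) * bp fc (s.testBit 9)
noncomputable def run (W : List Bool) (x : ℕ) : ℕ := W.foldl (fun y b => cond b ((PR false false).cj 128 y) (th false y)) x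

theorem f4 : ((PR false false).lev 8).Rel wχ ∧ ((PR false false).lev 10).Rel wκ ∧
    (∀ x < 2 ^ 8, evk wχ 8 x = .of (x / 16) ∧ (PR false false).mul x x = sqv (.of (x / 16)) ∧
      (V4.of (x / 16) = 1 → x < 16) ∧ (x < 64 ↔ (V4.of (x / 16)).a = false ∧ (V4.of (x / 16)).b = false) ∧
      ∀ s ∈ [256, 512], V4.of ((PR false false).cj s x / 16) = (fs s).app (.of (x / 16))) ∧
    (∀ x < 2 ^ 10, evk wκ 10 x = bp (.of 1) (x.testBit 3) ∧ (PR false false).mul (x % 256) (x / 256 * 256) = x ∧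
      (256 ≤ x → (PR false false).mul x x = 0 → x.testBit 3 = false) ∧
      ((∀ u ∈ [256, 16, 64, 512], (PR false false).mul x u = (PR false false).mul u x) →
        x = 0 ∨ x = 1 ∨ x = 256 ∨ x = (PR false false).cj 2 256)) ∧
    (∀ x < 256, V4.of (x / 16) ∈ [V4.of 2, .of 3, .of 8, .of 12] → x.testBit 3 = true →
      ∃ s ∈ [0, 256, 512, 768], (PR false false).cj s x < 64 ∧ ∃ W ∈ [[false], [false, false],
        [false, false, true, false], [false, true, false, false]], run W ((PR false false).cj s x) < 16 ∧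
          4 ≤ run W ((PR false false).cj s x)) ∧
    (∀ x < 16, ((PR false false).mul 512 x = (PR false false).mul x 512 → x ∈ [0, 1, 2, 3]) ∧
      ((PR false false).mul 768 x = (PR false false).mul x 768 → x ∈ [0, 1, 6, 7])) ∧
    (PR false false).mul 256 512 = 768 ∧ (PR false false).cj 512 4 = (PR false false).mul 4 1 ∧
      (PR false false).mul 512 4 ≠ (PR false false).mul 4 512 := by
  decide +kernel

theorem f5 : ∀ a : V4, sqv a = 0 → ∀ b : V4, sqv b = 0 → sqv (a * b) = 0 → ∀ c : V4, sqv c = 0 → ∀ d : V4,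
    (∀ u : V4, sqv (L4.app ⟨a, b, c, d⟩ u) = 0 ↔ sqv u = 0) → (⟨a, b, c, d⟩ : L4) ∈ D8L := by
  decide +kernel

end S2

end CL.HS8
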