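import Cfsg.Agent.INV.HS8.SPa
import Cfsg.Agent.INV.HS8.L5x
import Cfsg.Agent.INV.HS8.KU

/-!
Configuration K8 with both types T, `μ = 1`.
-/

set_option autoImplicit false
set_option linter.unusedSectionVars false

open Subgroup CL.TwoS CL.MSS

namespace CL.HS8

variable {G : Type*} [Group G] [Finite G] {d : Dat G} {X : Subgroup G}

namespace Spb

section
variable {Ω M : Subgroup G} {t : G} (t2 : t * t = 1) (hi : ∀ x ∈ Ω, t * x * t⁻¹ = x⁻¹)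
include t2 hi

theorem sq1 {y : G} (hy : y * t ∈ Ω) : y * y = 1 :=
  calc y * y = t⁻¹ * (t * (y * t) * t⁻¹) * y := by group
    _ = (t * t)⁻¹ := by rw [hi _ hy]; group
    _ = 1 := by rw [t2, inv_one]

theorem mem2 {y y' : G} (hy : y * t ∈ Ω) (hy' : y' * t ∈ Ω) : y * y' ∈ Ω := by
  have := Ω.mul_mem hy (Ω.inv_mem hy')
  rwa [show y * t * (y' * t)⁻¹ = y * y'⁻¹ by group,
    inv_eq_of_mul_eq_one_left (sq1 t2 hi hy')] at this

variable (hc : ∀ x ∈ Ω, ∀ y ∈ Ω, Commute x y)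
include hc

theorem add {x y z : G} (hx : x * t ∈ Ω) (hy : y * t ∈ Ω) (hz : z * t ∈ Ω) :
    x * z * (x * z) = x * y * (x * y) * (y * z * (y * z)) := by
  rw [← (hc _ (mem2 t2 hi hy hz) _ (mem2 t2 hi hx hy)).mul_mul_mul_comm, mul_assoc x y,
    ← mul_assoc y, sq1 t2 hi hy, one_mul]

theorem nrm (hM : ∀ x ∈ M, x ∈ Ω ∨ x * t ∈ Ω) (le : Ω ≤ M) (ht : t ∈ M) {n : G} (hn : n ∈ Ω)
    (n2 : n * n ≠ 1) {g : G} (hg : ∀ x ∈ M, g * x * g⁻¹ ∈ M) {y : G} (hy : y * t ∈ Ω) :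
    g * y * g⁻¹ * t ∈ Ω := by
  refine (hM _ (hg y ((M.mul_mem_cancel_right ht).1 (le hy)))).resolve_left fun a => n2 ?_
  have b := (hM _ (hg n (le hn))).resolve_right fun b => n2 (by
    have := sq1 t2 hi b
    rwa [cj_mul_cj, mul_inv_eq_one, mul_eq_left] at this)
  have c := comm_of_mul (comm_cj.1 (hc _ b _ a)) (hc _ hn _ hy)
  have e := hi n hn
  rw [cj_of_comm c.symm] at e
  rw [mul_eq_one_iff_eq_inv]; exact e

end

/-- Coordinates on `E0` of the conjugate of `F0`. -/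
def hc (i j : Bool) (e : V4) : V4 := W4 1 ⟨false, true, i, j⟩ (.of 8) (.of 4) e
/-- The inverse of `hc`. -/
def hi (i j : Bool) (e : V4) : V4 := W4 1 ⟨false, true, j, i⟩ (.of 8) (.of 4) e

theorem φt (e : V4) : d.φ4 e = bp d.t e.t * d.φ4 ⟨false, e.v, e.a, e.b⟩ := by
  simp [Dat.φ4, W4, mul_assoc]

theorem A8_dec : ∀ f ∈ A8T, ∃ i j l, f = bp kb i * bp nb j * bp al l := by decide +kernel

theorem act_bp {φ : V4 → G} {x : G} {f : L4} (h : Act φ x f) (i : Bool) : Act φ (bp x i) (bp f i) := by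
  cases i
  exacts [Act.one, h]

theorem bp_mem {H : Subgroup G} {x : G} (h : x ∈ H) (i : Bool) : bp x i ∈ H := by
  cases i
  exacts [H.one_mem, h]

end Spb

namespace TN

variable {ρ n α : G} {μ : Bool} (s : TN d ρ n α μ false) (r : Rl d)
include s r

omit r in
theorem αt1 : α * d.t * α⁻¹ = d.t * d.v := by
  have := s.αa (.of 1)
  rw [d.ψt] at this
  exact this.trans (by change d.φ4 (.of 3) = _; simp [Dat.φ4_of, Nat.testBit])

theorem cαv : Commute α d.v := d.ψv ▸ r.act_comm s.αa (e := .of 2) (by decide)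
theorem cαa : Commute α d.a := d.ψa ▸ r.act_comm s.αa (e := .of 4) (by decide)
theorem cαb : Commute α d.b := d.ψb ▸ r.act_comm s.αa (e := .of 8) (by decide)
theorem cnv : Commute n d.v := d.ψv ▸ r.act_comm s.na (e := .of 2) (by decide)
theorem cna : Commute n d.a := d.ψa ▸ r.act_comm s.na (e := .of 4) (by decide)
theorem cnb : Commute n d.b := d.ψb ▸ r.act_comm s.na (e := .of 8) (by decide)
omit r in
theorem cαn : Commute α n := (s.nα.trans (mul_one _)).symm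
omit r in
theorem cnw : Commute n d.w := (comm_of_cj (s.wn.trans (mul_one _))).symm

omit r in
theorem αw1 : α * d.w * α⁻¹ = n * (α * α) * d.w :=
  calc α * d.w * α⁻¹ = α * (d.w * α * d.w⁻¹)⁻¹ * d.w := by group
    _ = n * (α * α) * d.w := by
      rw [s.wα, bp_false, mul_one, inv_inv, ← mul_assoc, s.cαn.eq, mul_assoc n]

end TN

theorem SP.βn {P M P' M' : Subgroup G} {ρ n α k ρ' m β k' : G} {μ : Bool}
    (s : SP d P M P' M' ρ n α k ρ' m β k' μ) (r : Rl d) : Commute β n := by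
  obtain ⟨i, j, e⟩ := s.mn
  have := s.tn'.cαn
  rw [e, mul_assoc] at this
  have c : Commute β (bp d.a i * bp d.b j) :=
    (comm_bp (s.tn'.cαb r.swap) i).mul_right (comm_bp (s.tn'.cαa r.swap) j)
  simpa [mul_assoc] using this.mul_right c.inv_right

open Spa Spb Ltb

/-- `μ = 1`: `Ω = ⟨k, n, α⟩` is inverted by `t`, `M = Ω ⟨t⟩`; normalisers of `M` act affinely on the
classes `y E0` of `Ω t` through `y ↦ (y t)²`. -/
theorem SP.mu' (h : Hy d) {P M P' M' : Subgroup G} {ρ n α k ρ' m β k' : G}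
    (s : SP d P M P' M' ρ n α k ρ' m β k' true) : ∃ g, Commute g d.t ∧ Into d.φ4 d.swap.φ4 g := by
  have r := h.toRl
  have md := r.mod4
  have gd : Gd A8T := gd8 false
  have t2 := r.c4.tt
  have ti := inv_eq_of_mul_eq_one_left t2
  have nn : n * n = d.a * d.b := s.tn.nn.trans (one_mul _)
  have αα : α * α = d.v := s.tn.αα.trans (one_mul _)
  have kk : k * k = d.b := s.kn.kk
  have ββ : β * β = d.w := s.tn'.αα.trans (one_mul _)
  obtain ⟨Ω, kΩ, nΩ, αΩ, le, hc', hi'⟩ : ∃ Ω : Subgroup G, k ∈ Ω ∧ n ∈ Ω ∧ α ∈ Ω ∧ Ω ≤ M ∧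
      (∀ x ∈ Ω, ∀ y ∈ Ω, Commute x y) ∧ ∀ x ∈ Ω, d.t * x * d.t⁻¹ = x⁻¹ := by
    have c1 : ∀ x ∈ ({k, n, α} : Set G), ∀ y ∈ ({k, n, α} : Set G), x * y = y * x := by
      rintro _ (rfl | rfl | rfl) _ (rfl | rfl | rfl)
      exacts [rfl, s.kn.kx, s.kn.ky, s.kn.kx.symm, rfl, s.tn.cαn.symm, s.kn.ky.symm, s.tn.cαn, rfl]
    have c2 : ∀ x ∈ closure ({k, n, α} : Set G), ∀ y ∈ closure ({k, n, α} : Set G), Commute x y :=
      fun x hx y hy => (closure_le (centralizer {y})).2 (fun u hu => mem_centralizer_singleton_iff.2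
        ((closure_le (centralizer {u})).2 (fun v hv => mem_centralizer_singleton_iff.2 (c1 v hv u hu))
          hy u rfl)) hx y rfl |>.symm
    have c3 : ∀ {x : G} {f : L4} {e : V4}, Act d.φ4 x f → x * x = d.φ4 e → f.app (.of 1) = e * .of 1 →
        d.t * x * d.t⁻¹ = x⁻¹ := fun {x f e} a b c => by
      have := a (.of 1)
      rw [c, md.mul, ← b, d.ψt] at this
      rw [mul_assoc, mul_assoc, mul_right_inj] at this
      rw [ti, mul_assoc, ← this, ← mul_assoc, t2, one_mul]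
    refine ⟨closure {k, n, α}, subset_closure (by simp), subset_closure (by simp),
      subset_closure (by simp), (closure_le _).2 ?_, c2, fun x hx => ?_⟩
    · rintro _ (rfl | rfl | rfl)
      exacts [s.kM, s.nM, s.αM]
    · induction hx using closure_induction with
      | mem x hx =>
        rcases hx with rfl | rfl | rfl
        exacts [c3 s.kn.ka (kk.trans d.ψb.symm) (by decide), c3 s.tn.na (nn.trans Rl.ψz.symm) (by decide),
          c3 s.tn.αa (αα.trans d.ψv.symm) (by decide)]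
      | one => simp
      | mul x y hx hy a b => rw [← cj_mul_cj, a, b, ← mul_inv_rev, (c2 x hx y hy).eq]
      | inv x hx a => rw [← Jn.cji, a]
  have EΩ : ∀ e : V4, e.t = false → d.φ4 e ∈ Ω := fun e he => by
    have hb : d.b ∈ Ω := kk ▸ Ω.mul_mem kΩ kΩ
    rw [Dat.φ4, W4, he, bp_false, one_mul]
    exact Ω.mul_mem (Ω.mul_mem (bp_mem (αα ▸ Ω.mul_mem αΩ αΩ) _)
      (bp_mem ((Ω.mul_mem_cancel_right hb).1 (nn ▸ Ω.mul_mem nΩ nΩ)) _)) (bp_mem hb _)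
  have hM : ∀ x ∈ M, x ∈ Ω ∨ x * d.t ∈ Ω := fun x hx => by
    obtain ⟨xP, f, hf, a⟩ := (s.lo.memM x).1 hx
    obtain ⟨i, j, l, rfl⟩ := A8_dec f hf
    have o := Ω.mul_mem (Ω.mul_mem (bp_mem kΩ i) (bp_mem nΩ j)) (bp_mem αΩ l)
    obtain ⟨e, rfl⟩ := s.lo.eq_mul h (s.lo.le (le o)) xP
      (((act_bp s.kn.ka i).mul (act_bp s.tn.na j)).mul (act_bp s.tn.αa l)) a
    cases he : e.t
    · exact Or.inl (Ω.mul_mem o (EΩ e he))
    · right
      rw [← d.ψt, mul_assoc, mm md]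
      exact Ω.mul_mem o (EΩ _ (by change xor _ _ = _; rw [he]; rfl))
  have tM : d.t ∈ M := d.ψt ▸ s.lo.e_mem h gd _
  have z1 : d.a * d.b ≠ 1 := fun e => absurd (md.inj (Rl.ψz.trans (e.trans md.one.symm))) (by decide)
  have nr := fun g hg y hy => nrm t2 hi' hc' hM le tM nΩ (nn ▸ z1) (g := g) hg (y := y) hy
  have t0 : d.t * d.t ∈ Ω := t2 ▸ Ω.one_mem
  obtain ⟨i, j, mn⟩ := s.mn
  rw [mul_assoc, φab] at mn
  obtain ⟨u, hu⟩ : ∃ u, u = d.t * (n * d.φ4 ⟨false, true, i, j⟩) := ⟨_, rfl⟩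
  have cj2 : ∀ x, β * α * x * (β * α)⁻¹ = β * (α * x * α⁻¹) * β⁻¹ := fun x => by group
  have βv : β * d.v * β⁻¹ = m * d.w * d.v := ββ ▸ s.tn'.αw1
  have βt : β * d.t * β⁻¹ = d.t * d.w := s.tn'.αt1
  have βw : Commute β d.w := s.tn'.cαv r.swap
  have mw : Commute m d.w := s.tn'.cnv r.swap
  have κt : β * α * d.t * (β * α)⁻¹ = u := by
    rw [cj2, s.tn.αt1, ← cj_mul_cj, βv, βt, mw.eq, mul_assoc, mul_assoc d.w, ← mul_assoc d.w, r.ww,
      one_mul, mn, hu, mul_assoc, ← d.ψv, mm md]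
    cases i <;> cases j <;> rfl
  have κw : β * α * d.w * (β * α)⁻¹ = d.φ4 ⟨false, true, i, j⟩ := by
    have := r.act_w (.of 2)
    rw [inv_eq_of_mul_eq_one_left r.ww, d.ψv] at this
    rw [cj2, s.tn.αw1, αα, ← cj_mul_cj, ← cj_mul_cj, βv, cj_of_comm βw, cj_of_comm (s.βn r), mn]
    calc n * (n * d.φ4 ⟨false, false, i, j⟩ * d.w * d.v) * d.w =
          n * n * (d.φ4 ⟨false, false, i, j⟩ * (d.w * d.v * d.w)) := by group
      _ = _ := by
        rw [this, nn, ← Rl.ψz, mm md, mm md]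
        cases i <;> cases j <;> rfl
  have κv : β * α * d.v * (β * α)⁻¹ = m * d.w * d.v := by
    rw [cj2, cj_of_comm (s.tn.cαv r), βv]
  have κa : β * α * d.a * (β * α)⁻¹ = d.a :=
    cj_of_comm (Commute.mul_left (s.tn'.cαb r.swap) (s.tn.cαa r))
  have κb : β * α * d.b * (β * α)⁻¹ = d.b :=
    cj_of_comm (Commute.mul_left (s.tn'.cαa r.swap) (s.tn.cαb r))
  have φ2 : ∀ e, (cjd (β * α) d.swap).φ4 e = bp u e.t * d.φ4 (hc i j e) := fun e => by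
    change W4 (β * α * d.t * (β * α)⁻¹) (β * α * d.w * (β * α)⁻¹) (β * α * d.b * (β * α)⁻¹)
      (β * α * d.a * (β * α)⁻¹) e = _
    rw [κt, κw, κa, κb, hc, map_W4 md.one md.mul, md.one, d.ψa, d.ψb, W4, W4,
      show bp (1 : G) e.t = 1 by cases e.t <;> rfl]
    simp only [one_mul, mul_assoc]
  have hh : ∀ i j e, (hc i j e).t = false ∧ (hi i j e).t = false ∧
      (e.t = false → hc i j (hi i j e) = e) := by decide +kernel
  have φ3 : ∀ e : V4, e.t = false → d.φ4 e = (cjd (β * α) d.swap).φ4 (hi i j e) := fun e he => by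
    rw [φ2, (hh i j e).2.1, bp_false, one_mul, (hh i j e).2.2 he]
  have oΩ := Ω.mul_mem nΩ (EΩ ⟨false, true, i, j⟩ rfl)
  have u1 : u * d.t = (n * d.φ4 ⟨false, true, i, j⟩)⁻¹ := by rw [hu, ← hi' _ oΩ, ti]
  have uΩ : u * d.t ∈ Ω := u1 ▸ Ω.inv_mem oΩ
  have ut : u * d.t * (u * d.t) = d.φ4 (.of 12) := by
    rw [u1, ← mul_inv_rev, (hc' _ (EΩ _ rfl) _ nΩ).mul_mul_mul_comm, nn, mm md, V4.mul_self, md.one,
      mul_one, ← Rl.ψz, inv md]
  have sw : ∀ {y e}, y * d.t ∈ Ω → y * d.t * (y * d.t) = d.φ4 e → d.t * y * (d.t * y) = d.φ4 e :=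
    fun {y e} hy a => by
      rw [← inv md, ← a, mul_inv_rev, mul_inv_rev, ti, inv_eq_of_mul_eq_one_left (sq1 t2 hi' hy)]
  have fin : ∀ y, y * d.t ∈ Ω → y * d.t * (y * d.t) = d.φ4 (.of 12) →
      ∃ e, y = (cjd (β * α) d.swap).φ4 e ∧ e.t = true := fun y hy e => by
    have o := mem2 t2 hi' uΩ hy
    have o2 : u * y * (u * y) = 1 := by
      rw [add t2 hi' hc' uΩ t0 hy, ut, sw hy e, mm md, V4.mul_self, md.one]
    obtain ⟨xP, f, hf, a⟩ := (s.lo.memM _).1 (le o)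
    have c := hi' _ o
    rw [inv_eq_of_mul_eq_one_left o2] at c
    obtain rfl : f = 1 := (by decide +kernel : ∀ f ∈ A8T, f.app (.of 1) = .of 1 → f = 1) f hf
      (r.act_fix a (d.ψt ▸ (comm_of_cj c).symm))
    obtain ⟨e', he'⟩ := s.lo.ker _ xP a
    have t' : e'.t = false := (by decide +kernel : ∀ e : V4, nb.app e = e → e.t = false) e'
      (r.act_fix s.tn.na (he' ▸ hc' _ nΩ _ o))
    refine ⟨.of 1 * hi i j e', ?_, by change xor _ _ = _; rw [(hh i j e').2.1]; rfl⟩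
    rw [(h.swap.cj _).toRl.mod4.mul, ← φ3 _ t', ← he', Dat.ψt]
    change y = β * α * d.t * (β * α)⁻¹ * _
    rw [κt, ← mul_assoc, sq1 t2 hi' uΩ, one_mul]
  have st : ∀ g, (∀ x ∈ M, g * x * g⁻¹ ∈ M) → ∀ y, y * d.t ∈ Ω → ∀ x, x * d.t ∈ Ω →
      g * y * g⁻¹ * d.t * (g * y * g⁻¹ * d.t) =
        g * (y * x * (y * x)) * g⁻¹ * (g * x * g⁻¹ * d.t * (g * x * g⁻¹ * d.t)) := fun g hg y hy x hx => by
    rw [add t2 hi' hc' (nr g hg y hy) (nr g hg x hx) t0, cj_mul_cj, cj_mul_cj]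
  have h2 := h.swap.cj (β * α)
  have md2 := h2.toRl.mod4
  have into : ∀ g, (∀ e : V4, e.t = false → ∃ e' : V4, e'.t = false ∧ g * d.φ4 e * g⁻¹ = d.φ4 e') →
      ∀ y e, g * y * g⁻¹ = (cjd (β * α) d.swap).φ4 e → ∀ i e', e'.t = false →
        ∃ f, g * (bp y i * d.φ4 e') * g⁻¹ = (cjd (β * α) d.swap).φ4 f := fun g hg y e a i e' b => by
    obtain ⟨e2, c, c'⟩ := hg e' b
    exact ⟨_, by rw [← cj_mul_cj, ← Jn.cjb, a, c', φ3 _ c, ← map_bp md2.one, mm md2]⟩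
  have PE : ∀ g ∈ P, Into (cjd (β * α) d.swap).φ4 (cjd (β * α) d.swap).φ4 g := fun g hg e => by
    obtain ⟨F, a, b, c⟩ : ∃ F : L4, Act d.φ4 g F ∧ F.app (.of 12) = .of 12 ∧
        ∀ e : V4, e.t = false → (F.app e).t = false := by
      have k : ∀ f ∈ A8T, (f.app (.of 12) = .of 12 ∧ ∀ e : V4, e.t = false → (f.app e).t = false) ∧
        (f * sg).app (.of 12) = .of 12 ∧ ∀ e : V4, e.t = false → ((f * sg).app e).t = false := by
        decide +kernel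
      obtain ⟨f, hf, a | a⟩ := s.lo.act g hg
      exacts [⟨_, a, (k f hf).1⟩, ⟨_, a, (k f hf).2⟩]
    have hg' := s.lo.nm h gd g hg
    obtain ⟨e1, a1, -⟩ := fin _ (nr g hg' u uΩ) (by
      rw [st g hg' u uΩ _ t0, ut, a, b, ← d.ψt, a, mm md, mm md, V4.mul_self, md.one, mul_one])
    rw [φ2]
    exact into g (fun e he => ⟨_, c e he, a e⟩) u e1 a1 _ _ (hh i j e).1
  have sP := s.lo.s0
  have nP := s.lo.le s.nM
  have ov : Ov (cjd (β * α) d.swap) P := ⟨s.lo.pg, s0_of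
    (κt ▸ hu ▸ P.mul_mem (d.φt ▸ sP _) (P.mul_mem nP (d.φ5_e _ ▸ sP _)) :)
    (κw ▸ d.φ5_e _ ▸ sP _ :) (κb ▸ d.φb ▸ sP _ :) (κa ▸ d.φa ▸ sP _ :)
    (κv ▸ mn ▸ P.mul_mem (P.mul_mem (P.mul_mem nP (d.φ5_e _ ▸ sP _)) (d.φw ▸ sP _)) (d.φv ▸ sP _) :)⟩
  obtain ⟨P2, M2, θ, l2, lo2⟩ := h2.le gd (s.ae'.cj _) ov PE
  obtain rfl : P = P2 := eq_of_le_of_card_ge l2 ((lo2.card_P h2 gd).trans (s.lo.card_P h gd).symm).le
  obtain rfl : M = M2 := by
    refine eq_of_le_of_card_ge (fun x hx => (lo2.memM x).2 ⟨s.lo.le hx, ?_⟩)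
      ((lo2.card_M h2 gd).trans (s.lo.card_M h gd).symm).le
    obtain ⟨f, hf, a | a⟩ := lo2.act x (s.lo.le hx)
    · exact ⟨f, hf, a⟩
    obtain ⟨-, f', hf', a'⟩ := (s.lo.memM x).1 hx
    refine absurd (h2.toRl.act_fix a (e := .of 2) ?_)
      ((by decide +kernel : ∀ f ∈ A8T, (f * sg).app (.of 2) ≠ .of 2) f hf)
    rw [φ2]
    exact (Commute.one_right _).mul_right (r.act_comm a'
      ((by decide +kernel : ∀ f ∈ A8T, ∀ e : V4, e.t = false → f.app e = e) f' hf' _ (hh i j _).1))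
  have θu : θ * u * θ⁻¹ = u := by
    have := lo2.ρa (.of 1)
    rwa [show rr.app (.of 1) = .of 1 by decide, Dat.ψt, show (cjd (β * α) d.swap).t = u from κt] at this
  have θE : ∀ e : V4, e.t = false → θ * d.φ4 e * θ⁻¹ = d.φ4 (hc i j (rr.app (hi i j e))) := fun e he => by
    rw [φ3 e he, lo2.ρa, φ2, (by decide +kernel : ∀ i j e, (rr.app (hi i j e)).t = false), bp_false,
      one_mul]
  let R : G → V4 → Prop := fun g e =>
    (∀ e : V4, e.t = false → ∃ e' : V4, e'.t = false ∧ g * d.φ4 e * g⁻¹ = d.φ4 e') ∧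
      g * d.t * g⁻¹ * d.t ∈ Ω ∧ g * d.t * g⁻¹ * d.t * (g * d.t * g⁻¹ * d.t) = d.φ4 e ∧ e.t = false
  have cj3 : ∀ g k x : G, g * k * x * (g * k)⁻¹ = g * (k * x * k⁻¹) * g⁻¹ := fun g k x => by group
  have R1 : R 1 1 := ⟨fun e he => ⟨e, he, by simp⟩, by simpa using t0, by simp [t2, md.one], rfl⟩
  have Rρ : ∀ {g e}, R g e → R (ρ * g) (rr.app e) := fun {g e} ⟨a, b, c, c'⟩ => by
    have k : ∀ e : V4, e.t = false → (rr.app e).t = false := by decide +kernel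
    have ρt : ρ * d.t * ρ⁻¹ = d.t := d.ψt ▸ s.lo.ρa (.of 1)
    refine ⟨fun e he => ?_, cj3 ρ g _ ▸ nr ρ s.lo.ρn _ b, ?_, k e c'⟩
    · obtain ⟨e', a1, a2⟩ := a e he
      exact ⟨_, k e' a1, by rw [cj3, a2, s.lo.ρa]⟩
    · rw [cj3, st ρ s.lo.ρn _ b _ t0, c, s.lo.ρa, ρt, t2, mul_one, mul_one]
  have Rθ : ∀ {g e}, R g e → R (θ * g) (hc i j (rr.app (hi i j (e * .of 12))) * .of 12) :=
    fun {g e} ⟨a, b, c, c'⟩ => by
    refine ⟨fun e he => ?_, cj3 θ g _ ▸ nr θ lo2.ρn _ b, ?_, by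
      change xor _ _ = _; rw [(hh i j _).1]; rfl⟩
    · obtain ⟨e', a1, a2⟩ := a e he
      exact ⟨_, (hh i j _).1, by rw [cj3, a2, θE _ a1]⟩
    · rw [cj3, st θ lo2.ρn _ b _ uΩ, θu, ut, add t2 hi' hc' b t0 uΩ, c, sw uΩ ut, mm md,
        θE _ (by change xor _ _ = _; rw [c']; rfl), mm md]
  obtain ⟨τ, a, b, c, -⟩ : ∃ τ, R τ (.of 12) := by
    cases i <;> cases j
    exacts [⟨_, Rρ (Rθ R1)⟩, ⟨_, Rρ (Rρ (Rθ (Rρ (Rθ R1))))⟩, ⟨_, Rρ (Rθ (Rρ (Rρ (Rθ R1))))⟩,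
      ⟨_, Rρ (Rρ (Rθ R1))⟩]
  obtain ⟨e1, a1, t1⟩ := fin _ b c
  have I : Into d.φ4 d.swap.φ4 ((β * α)⁻¹ * τ) := fun e => by
    obtain ⟨f, hf⟩ := into τ a _ e1 a1 e.t ⟨false, e.v, e.a, e.b⟩ rfl
    exact ⟨f, by rw [cj3, φt, hf, cjd_φ4]; group⟩
  obtain ⟨f, hf, k1⟩ := (by decide +kernel : ∀ e : V4, e.t = true → ∃ f ∈ A8T, f.app e = .of 1) e1 t1
  obtain ⟨x, -, ax⟩ := s.lo'.cov f hf
  refine ⟨x * ((β * α)⁻¹ * τ), comm_of_cj ?_, ax.into.mul I⟩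
  rw [cj3, cj3, a1, cjd_φ4, ← cj3 (β * α)⁻¹, inv_mul_cancel, one_mul, inv_one, mul_one, ax, k1]
  exact d.swap.ψt

end CL.HS8
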