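import Cfsg.Agent.INV.HS8.W4b
import Cfsg.Agent.INV.HS8.L5x

/-!
The model of `T2 = ⟨z, n, a, v, w, α, β, t⟩` in configuration K4.
-/

set_option autoImplicit false
set_option linter.unusedSectionVars false
set_option linter.unusedSimpArgs false

open Subgroup CL.TwoS CL.MSS CL.K

namespace CL.HS8

variable {G : Type*} [Group G] [Finite G] {d : Dat G} {X : Subgroup G}

def PW0 : PC := ⟨8, 0x6506406606706106006206306d06c06e06f06906806a06b07407507707607007107307207c07d07f07e07807907b07a04e04f04d04c04a04b04904804604704504404204304104005e05f05d05c05a05b05905805605705505405205305105003703603403503303203003103f03e03c03d03b03a03803902602702502402202302102002e02f02d02c02a02b02902801e01f01d01c01a01b01901801601701501401201301101000e00f00d00c00a00b00900800600700500400200300100003c03d03e03f03803903a03b03703603503403303203103002c02d02e02f02802902a02b02702602502402302202102001c01d01e01f01801901a01b01701601501401301201101000c00d00e00f00800900a00b00700600500400300200100001d01c01f01e01901801b01a01501401701601101001301200f00e00d00c00b00a00900800700600500400300200100000e00f00c00d00a00b008009007006005004003002001000007006005004003002001000003002001000001000000000,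 0x0, 0xe50e40e60e70e10e00e20e30ee0ef0ed0ec0ea0eb0e90e80f60f70f50f40f20f30f10f00fc0fd0ff0fe0f80f90fb0fa0cd0cc0ce0cf0c90c80ca0cb0c60c70c50c40c20c30c10c00dc0dd0df0de0d80d90db0da0d60d70d50d40d20d30d10d00b50b40b60b70b10b00b20b30bc0bd0bf0be0b80b90bb0ba0a60a70a50a40a20a30a10a00ae0af0ad0ac0aa0ab0a90a809f09e09c09d09b09a09809909609709509409209309109008e08f08d08c08a08b08908808608708508408208308108007f07e07d07c07b07a07907807507407707607107007307206c06d06e06f06806906a06b06706606506406306206106005d05c05f05e05905805b05a05705605505405305205105004c04d04e04f04804904a04b04704604504404304204104003c03d03e03f03803903a03b03503403703603103003303202f02e02d02c02b02a02902802702602502402302202102001e01f01c01d01a01b01801901701601501401301201101000f00e00d00c00b00a009008007006005004003002001000⟩ -- z n a v w al be t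

def PW1 : PC := ⟨8, 0x6506406606706106006206306d06c06e06f06906806a06b07407507707607007107307207c07d07f07e07807907b07a04e04f04d04c04a04b04904804604704504404204304104005e05f05d05c05a05b05905805605705505405205305105003703603403503303203003103f03e03c03d03b03a03803902602702502402202302102002e02f02d02c02a02b02902801e01f01d01c01a01b01901801601701501401201301101000e00f00d00c00a00b00900800600700500400200300100003d03c03f03e03903803b03a03603703403503203303003102d02c02f02e02902802b02a02602702402502202302002101c01d01e01f01801901a01b01701601501401301201101000c00d00e00f00800900a00b00700600500400300200100001d01c01f01e01901801b01a01501401701601101001301200f00e00d00c00b00a00900800700600500400300200100000e00f00c00d00a00b008009007006005004003002001000007006005004003002001000003002001000001000000000, 0x0, 0xe40e50e70e60e00e10e30e20ef0ee0ec0ed0eb0ea0e80e90f70f60f40f50f30f20f00f10fd0fc0fe0ff0f90f80fa0fb0cd0cc0ce0cf0c90c80ca0cb0c60c70c50c40c20c30c10c00dc0dd0df0de0d80d90db0da0d60d70d50d40d20d30d10d00b50b40b60b70b10b00b20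b30bc0bd0bf0be0b80b90bb0ba0a60a70a50a40a20a30a10a00ae0af0ad0ac0aa0ab0a90a809f09e09c09d09b09a09809909609709509409209309109008e08f08d08c08a08b08908808608708508408208308108007e07f07c07d07a07b07807907407507607707007107207306d06c06f06e06906806b06a06606706406506206306006105d05c05f05e05905805b05a05705605505405305205105004c04d04e04f04804904a04b04704604504404304204104003c03d03e03f03803903a03b03503403703603103003303202f02e02d02c02b02a02902802702602502402302202102001e01f01c01d01a01b01801901701601501401301201101000f00e00d00c00b00a009008007006005004003002001000⟩ -- z n a v w al be t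

namespace W4d

open Kt Ltb

def PW (e : Bool) : PC := ⟨8, cond e PW1.tab PW0.tab, 0, cond e PW1.ivs PW0.ivs⟩

def SW (e : Bool) : ℕ := cond e 0x600620000000600620000000000000420400000000420400000000220200000000220200000000020000000000020000000000000000000000000000000000000000000000000000000000000000000000000000000000000000000000000000000000000000000000000000a00880a80800a00880a80800000000000000000000000000080280200000080280200000000000000000000000000000000000000000000000000000900c00d00800900c00d0080050010040000050010040000000000000000000000000000028020008000028020008000040050010000040050010000080000000000080000000000 0x60062000000060062000000000000042040000000042040000000022020000000022020000000002000000000002000098080090088098080090088000000000000000000000000000000000000000000000000008010018000008010018000000000000000000000000000088088080080088088080080000000000000000000000000008008000000008008000000000000000000000000000000000000000000000000000000090090080080090090080080010010000000010010000000000000000000000000000000028020008000028020008000040050010000040050010000080000000000080000000000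
def RW (e : Bool) : ℕ := cond e 0x8408400000008008000000000000008408400000008008000000008408400000008008000000008408400000008008000000000000000000000000000000000000000000000000000000000000000000000000000000000000000000000000000000000000000000000000004404404404404004004004000000000000000000000000004404404404404004004004000000000000000000000000000000000000000000000000002402402402402002002002002402402402402002002002000000000000000000000000001401401401401001001001000c00c00c00c008008008008006006005004002002001000 0x8408400000008008000000000000008408400000008008000000008408400000008008000000008408400000008008006406406406406006006006000000000000000000000000000000000000000000000000006406406406406006006006000000000000000000000000004504404504404104004104000000000000000000000000004404504504404004104104000000000000000000000000000000000000000000000000002402502502402002102102002502402502402102002102000000000000000000000000001401401401401001001001000c00c00c00c008008008008006006005004002002001000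
def LW (e : Bool) : List ℕ := cond e [1, 2, 4, 5, 6, 8, 12, 16, 20, 32, 36, 64, 68, 128, 132] [1, 2, 4, 5, 6, 8, 12, 16, 20, 32, 33, 36, 37, 64, 65, 68, 69, 96, 100, 128, 132]

theorem ok : ∀ e, (PW e).ok = true := by decide +kernel
theorem ok7 : ∀ e, ((PW e).lev 7).ok = true := by decide +kernel
theorem injb : ∀ e, (PW e).injb [1, 4, 5] = true := by decide +kernel
theorem clsb : ∀ e, (PW e).clsb (SW e) (RW e) (fun _ r => (LW e).elem r) = true := by decide +kernel
theorem reps : ∀ e, ∀ r ∈ LW e, r = 128 ∨ r = 132 ∨ 32 < (PW e).cenN r ∨ (16 < (PW e).cenN r ∧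
    allLt (fun y => !Nat.beq ((PW e).mul r y) ((PW e).mul y r) || Nat.beq ((PW e).mul y y) 0) 256 = true) := by
  decide +kernel

/-- The images in `T2 / W2`. -/
def wv : ℕ → V4 := PC.gl [1, 1, .of 4, 1, 1, 1, 1, .of 1]
theorem relw : ∀ e, (PW e).Rel wv := by decide +kernel

/-- The action of a swapping element on `T1`. -/
def im (i j k : Bool) : List ℕ := [1, cond k 3 2, 5, cond i 17 16, cond j 9 8, 0, 0, 132]

theorem noinv : ∀ e i j k, allLt (fun c => force ((PW e).cj c 132) fun x => force ((PW e).cj c (cond i 17 16)) fun y =>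
    !x.testBit 5 && !x.testBit 6 && !y.testBit 5 && !y.testBit 6 &&
    !(Nat.beq ((PW e).cj c ((PW e).ap (im i j k) x)) 128 && Nat.beq ((PW e).cj c ((PW e).ap (im i j k) y)) 8))
    256 = true := by
  decide +kernel

theorem zJ : ∀ e, ∀ c < 256, (∀ y ∈ [2, 8, 16, 32, 64], (PW e).mul c y = (PW e).mul y c) →
    ∃ p ∈ [(0, 0), (16, 8), (32, 16), (64, 8)], c = (PW e).mul ((PW e).mul p.1 p.2) ((PW e).mul p.1 p.2) ∨
      c = (PW e).mul 4 ((PW e).cm p.1 p.2) := by
  decide +kernel

/-- The generators. -/
def gW (d : Dat G) (n α β : G) : ℕ → G := PC.gl [d.a * d.b, n, d.a, d.v, d.w, α, β, d.t]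

theorem md (r : Rl d) {ρ n α ρ' β : G} {e : Bool} (l : TN d ρ n α false false)
    (l' : TN d.swap ρ' (n * (d.a * d.b)) β false false) (c0 : β * α * β⁻¹ = α * bp (d.a * d.b) e) :
    PC.Md (PW e) (gW d n α β) := by
  refine ⟨ok e, PC.rel_of [0, 0, 0, 0, 0, 0, 0, 0] [[], [1], [1, 2], [1, 2, 4], [1, 2, 4, 9],
    [1, 2, 4, 8, 18], [1, 2, 4, 11, 16, cond e 33 32], [1, 3, 4, 8, 16, 40, 80]]
    (by clear c0; revert e; decide +kernel) fun k hk => ?_⟩
  have c := r.c4
  have ca : ∀ {d : Dat G} {x f}, Rl d → Act d.φ4 x f → f.app (.of 4) = .of 4 → f.app (.of 8) = .of 8 →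
      f.app (.of 2) = .of 2 → Commute x d.a ∧ Commute x d.b ∧ Commute x d.v := fun {d _ _} r a k1 k2 k3 =>
    ⟨d.ψa ▸ r.act_comm a k1, d.ψb ▸ r.act_comm a k2, d.ψv ▸ r.act_comm a k3⟩
  obtain ⟨na, nb', nv⟩ := ca r l.na rfl rfl rfl
  obtain ⟨αa, αb, αv⟩ := ca r l.αa rfl rfl rfl
  obtain ⟨βb, βa, βw⟩ : Commute β d.b ∧ Commute β d.a ∧ Commute β d.w := ca r.swap l'.αa rfl rfl rfl
  have nz := na.mul_right nb'
  have αz := αa.mul_right αb
  have βz := βa.mul_right βb
  have az := (Commute.refl d.a).mul_right c.ab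
  have vz := c.va.mul_right c.vb
  have wz := r.aw.symm.mul_right r.bw.symm
  have tz := c.ta.mul_right c.tb
  have zz : d.a * d.b * (d.a * d.b) = 1 := by rw [← Rl.ψz, mm r.mod4, V4.mul_self, r.mod4.one]
  have nn : n * n = 1 := by simpa using l.nn
  have αα : α * α = 1 := by simpa using l.αα
  have ββ : β * β = 1 := by simpa using l'.αα
  have wv : d.w * d.v = d.a * d.b * d.v * d.w := by rw [r.wv', c.ab.eq]
  have αw : α * d.w = n * d.w * α := by
    have := l.αw r
    rw [bp_false, r.mod4.one, one_mul] at this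
    rw [← this]; group
  have βn : Commute β n := by
    have := l'.comm.symm.mul_right βz
    rwa [mul_assoc, zz, mul_one] at this
  have βv : β * d.v = d.a * d.b * n * d.v * β := by
    have := l'.αw r.swap
    rw [bp_false, r.swap.mod4.one, one_mul, nz.eq] at this
    exact mul_inv_eq_iff_eq_mul.1 this
  have βα : β * α = bp (d.a * d.b) e * α * β := by
    rw [← (comm_bp αz e).eq, ← c0]; group
  have tx : ∀ {x y : G}, x * x = 1 → Commute x y → Commute d.t y → x * d.t * x⁻¹ = d.t * y →
      d.t * x = y * x * d.t := fun {x y} h1 h2 h3 h4 => by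
    rw [inv_eq_of_mul_eq_one_right h1] at h4
    calc _ = x * (x * d.t * x) := by rw [← mul_assoc, ← mul_assoc, h1, one_mul]
      _ = _ := by rw [h4, h3.eq, ← mul_assoc, h2.eq]
  have tn := tx nn nz tz (by rw [act_t l.na, ← Rl.ψz, ← d.ψt, mm r.mod4]; rfl)
  have tα := tx αα αv c.tv (by rw [act_t l.αa, ← d.ψv, ← d.ψt, mm r.mod4]; rfl)
  have tβ := tx ββ βw r.tw (by rw [← d.ψt, β_e r l'.αa rfl]; rfl)
  change k < 8 at hk
  change _ = PC.evk _ 8 _ ∧ ∀ j < k, _ = PC.evk _ 8 _ * _
  unfold gW
  generalize d.a * d.b = z at *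
  cases e <;> interval_cases k <;> refine ⟨?_, fun j hj => ?_⟩ <;> (try interval_cases j) <;>
    simp [PC.gl, PC.evk, Nat.testBit, -mul_left_inj, -mul_right_inj] <;>
    first
    | assumption | exact Commute.eq (by assumption) | exact Commute.eq (Commute.symm (by assumption))
    | exact c.aa | exact c.vv | exact c.tt | exact r.ww | exact c.va.eq | exact c.ta.eq | exact c.tv.eq
    | exact r.tw.eq | exact r.aw.symm.eq | exact l.nw.symm.eq | exact l.comm.symm.eq | simpa using βα

variable {n α β : G} {e : Bool}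

theorem gen (e : Bool) (g : ℕ → G) (j : ℕ) (hj : j < 8 := by decide) : (PW e).ev g (2 ^ j) = g j :=
  PC.ev_gen _ _ hj

theorem gm {g : ℕ → G} (m : PC.Md (PW e) g) (j : ℕ) (hj : j < 8 := by decide) : g j ∈ m.sub := m.gmem hj

theorem em {g : ℕ → G} (m : PC.Md (PW e) g) (c : ℕ) (hc : c < 256 := by decide) : (PW e).ev g c ∈ m.sub :=
  m.ev_mem hc

theorem evz : (PW e).ev (gW d n α β) 1 = d.a * d.b := gen e _ 0
theorem evn : (PW e).ev (gW d n α β) 2 = n := gen e _ 1
theorem eva : (PW e).ev (gW d n α β) 4 = d.a := gen e _ 2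
theorem evv : (PW e).ev (gW d n α β) 8 = d.v := gen e _ 3
theorem evw : (PW e).ev (gW d n α β) 16 = d.w := gen e _ 4
theorem evα : (PW e).ev (gW d n α β) 32 = α := gen e _ 5
theorem evβ : (PW e).ev (gW d n α β) 64 = β := gen e _ 6
theorem evt : (PW e).ev (gW d n α β) 128 = d.t := gen e _ 7

theorem evb (r : Rl d) : (PW e).ev (gW d n α β) 5 = d.b := by
  change PC.evk _ 8 _ = _
  simp [gW, PC.gl, PC.evk, Nat.testBit, -mul_left_inj, -mul_right_inj]
  rw [r.c4.ab.eq, mul_assoc, r.c4.aa, mul_one]

theorem evta (r : Rl d) : (PW e).ev (gW d n α β) 132 = d.t * d.a := by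
  change PC.evk _ 8 _ = _
  simp [gW, PC.gl, PC.evk, Nat.testBit, -mul_left_inj, -mul_right_inj]
  rw [r.c4.ta.eq]

theorem inj (r : Rl d) (m : PC.Md (PW e) (gW d n α β)) : (PW e).Inj (gW d n α β) :=
  m.inj_of (injb e) fun x hx => by
    have k : ∀ c : V4, c ≠ 1 → d.φ4 c ≠ 1 := fun c h1 h2 => h1 (r.mod4.inj (h2.trans r.mod4.one.symm))
    simp only [List.mem_cons, List.not_mem_nil, or_false] at hx
    rcases hx with rfl | rfl | rfl
    · rw [evz, ← Rl.ψz]; exact k _ (by decide)
    · rw [eva, ← d.ψa]; exact k _ (by decide)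
    · rw [evb r, ← d.ψb]; exact k _ (by decide)

theorem ov (r : Rl d) (m : PC.Md (PW e) (gW d n α β)) : Ov d m.sub :=
  ⟨m.pg_sub (inj r m), r.s0_mem (gm m 7) (gm m 3) (gm m 2) (evb r (e := e) ▸ em m 5) (gm m 4)⟩

/-- The conjugates of `t` in `T2`. -/
theorem cl (h : Hy d) (c : C1 d) (m : PC.Md (PW e) (gW d n α β)) {u : G} (hu : u ∈ m.sub)
    (k : IsConj d.t u) : ∃ s ∈ m.sub, u = s * d.t * s⁻¹ ∨ u = s * (d.t * d.a) * s⁻¹ := by
  have r := h.toRl
  have i := inj r m
  obtain ⟨x, hx, rfl⟩ := hu
  obtain ⟨s, hs, y, hy, q, k1, k2⟩ := m.cls i (clsb e) r.c4.tt r.t_ne hx k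
  refine ⟨_, m.ev_mem hs, ?_⟩
  rcases reps e y (List.mem_of_elem_eq_true q) with rfl | rfl | a | ⟨a, b⟩
  · exact .inl (by rwa [evt] at k2)
  · exact .inr (by rwa [evta r] at k2)
  · exact absurd k1 (h.big c m i hy a)
  · have := h.rank4 k1 (B := m.sub ⊓ centralizer {(PW e).ev (gW d n α β) y}) (fun u hu => ?_)
      fun u hu => mem_centralizer_singleton_iff.1 hu.2
    · rw [m.card_cen i hy] at this
      exact absurd a (not_lt.2 this)
    · obtain ⟨⟨w, hw, rfl⟩, h2⟩ := hu
      have b1 := allLt_iff.1 b w hw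
      have b2 := (m.comm i hw hy).1 (mem_centralizer_singleton_iff.1 h2)
      simp only [b2, Nat.beq_refl, Bool.not_true, Bool.false_or, Nat.beq_eq] at b1
      rw [← m.mul hw hw, b1, PC.ev_zero]

/-- The map to `T2 / W2`. -/
structure Ch (T : Subgroup G) (χ : G → V4) : Prop where
  mul : ∀ x ∈ T, ∀ y ∈ T, χ (x * y) = χ x * χ y

namespace Ch

variable {T : Subgroup G} {χ : G → V4} (k : Ch T χ)
include k

theorem one : χ 1 = 1 := by
  simpa using k.mul 1 (one_mem _) 1 (one_mem _)

theorem inv {x : G} (hx : x ∈ T) : χ x⁻¹ = χ x := by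
  have := k.mul x hx _ (inv_mem hx)
  rw [mul_inv_cancel, k.one] at this
  exact (inv_eq_of_mul_eq_one_right this.symm).symm

theorem cj {s x : G} (hs : s ∈ T) (hx : x ∈ T) : χ (s * x * s⁻¹) = χ x := by
  rw [k.mul _ (mul_mem hs hx) _ (inv_mem hs), k.mul _ hs _ hx, k.inv hs, mul_right_comm, V4.mul_self, one_mul]

theorem sq {x : G} (hx : x ∈ T) : χ (x * x) = 1 := by rw [k.mul _ hx _ hx, V4.mul_self]

theorem mono {U : Subgroup G} (h : U ≤ T) : Ch U χ := ⟨fun x hx y hy => k.mul x (h hx) y (h hy)⟩

end Ch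

theorem exists_χ (r : Rl d) (m : PC.Md (PW e) (gW d n α β)) : ∃ χ, Ch m.sub χ ∧
    ∀ c < 256, χ ((PW e).ev (gW d n α β) c) = ⟨c.testBit 7, false, c.testBit 2, false⟩ := by
  classical
  obtain ⟨ψ, hψ⟩ := m.lift (inj r m) (relw e)
  refine ⟨fun x => if h : x ∈ m.sub then ψ ⟨x, h⟩ else 1, ⟨fun x hx y hy => ?_⟩, fun c hc => ?_⟩
  · simp only [dif_pos hx, dif_pos hy, dif_pos (mul_mem hx hy)]
    exact ψ.map_mul ⟨x, hx⟩ ⟨y, hy⟩
  · simp only [dif_pos (m.ev_mem hc)]
    exact (hψ c hc).trans ((by decide +kernel : ∀ c < 256, PC.evk wv 8 c =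
      ⟨c.testBit 7, false, c.testBit 2, false⟩) c hc)

theorem nrm {U : Subgroup G} {g : G} (hg : ∀ x ∈ U, g * x * g⁻¹ ∈ U) {x : G} (hx : x ∈ U) :
    g⁻¹ * x * g ∈ U :=
  (mem_normalizer_iff''.1 (mem_normalizer_of_cj_le (cj_le_iff_forall.2 hg)) x).1 hx

theorem comm_back {g x y : G} (h : Commute x (g⁻¹ * y * g)) : Commute (g * x * g⁻¹) y := by
  have := (comm_cj (g := g)).2 h
  rwa [show g * (g⁻¹ * y * g) * g⁻¹ = y by group] at this

variable (m : PC.Md (PW e) (gW d n α β))

/-- `J = ⟨z, n, a, v, w, α, β⟩`. -/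
def J7 : Subgroup G := (m.lev (k := 7) (show 7 ≤ 8 by decide) (ok7 e)).sub

theorem memJ {x : G} : x ∈ J7 m ↔ ∃ c < 128, (PW e).ev (gW d n α β) c = x :=
  exists_congr fun _ => and_congr_right fun hc => by rw [PC.Md.lev_ev (k := 7) (show 7 ≤ 8 by decide) hc]

theorem J_le {H : Subgroup G} (h : ∀ j < 7, gW d n α β j ∈ H) : J7 m ≤ H := PC.Md.sub_le _ h

theorem JT : J7 m ≤ m.sub := J_le m fun j hj => gm m j (by omega)

theorem eJ (c : ℕ) (hc : c < 128 := by decide) : (PW e).ev (gW d n α β) c ∈ J7 m := (memJ m).2 ⟨c, hc, rfl⟩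

theorem cenZ (r : Rl d) {x : G} (hx : x ∈ m.sub) : Commute x d.a ∧ Commute x d.b := by
  obtain ⟨c, hc, rfl⟩ := hx
  have k := (by decide +kernel : ∀ e, ∀ c < 256, ∀ y ∈ [4, 5], (PW e).mul c y = (PW e).mul y c) e c hc
  exact ⟨eva (e := e) (n := n) (α := α) (β := β) ▸ (m.comm (inj r m) hc (show 4 < 256 by decide)).2 (k 4 (by decide)),
    evb r (e := e) ▸ (m.comm (inj r m) hc (show 5 < 256 by decide)).2 (k 5 (by decide))⟩

theorem za (r : Rl d) {U : Subgroup G} (h1 : J7 m ≤ U) (h2 : U ≤ m.sub) {g : G}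
    (hg : ∀ x ∈ U, g * x * g⁻¹ ∈ U) : ∃ x ∈ J7 m, ∃ y ∈ J7 m, g * d.a * g⁻¹ = d.a * (x * y * x⁻¹ * y⁻¹) := by
  obtain ⟨χ, hχ, χe⟩ := exists_χ r m
  obtain ⟨c, hc, ec⟩ := h2 (hg _ (h1 (eJ m 4)))
  rw [eva] at ec
  have l : ∀ p ∈ [(0, 0), (16, 8), (32, 16), (64, 8)], p.1 < 128 ∧ p.2 < 128 := by decide
  have l' : ∀ y ∈ [2, 8, 16, 32, 64], y < 128 := by decide
  have l2 : ∀ {x}, x < 128 → x < 2 ^ (PW e).n := fun h => h.trans (show 128 < 256 by decide)
  obtain ⟨p, hp, e1 | e1⟩ := zJ e c hc fun y hy => (m.comm (inj r m) hc (l2 (l' y hy))).1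
    (ec ▸ comm_back (cenZ m r (h2 (nrm hg (h1 (eJ m y (l' y hy)))))).1.symm)
  all_goals obtain ⟨p1, p2⟩ := l p hp
  · have q := PC.mul_lt m.ok (l2 p1) (l2 p2)
    have := hχ.sq (h2 (nrm hg (h1 (mul_mem (eJ m _ p1) (eJ m _ p2)))))
    rw [← m.mul (l2 p1) (l2 p2), show ∀ y : G, g⁻¹ * y * g * (g⁻¹ * y * g) = g⁻¹ * (y * y) * g from
      fun y => by group, ← m.mul q q, ← e1, ec, show g⁻¹ * (g * d.a * g⁻¹) * g = d.a by group,
      ← eva (e := e), χe 4 (by decide)] at this
    exact absurd this (by decide)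
  · exact ⟨_, eJ m _ p1, _, eJ m _ p2, by
      rw [← ec, e1, m.mul (show 4 < 256 by decide) (PC.cm_lt m.ok (l2 p1) (l2 p2)), m.cm (l2 p1) (l2 p2), eva]⟩

end W4d

end CL.HS8
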