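import Cfsg.Agent.INV.HS8.LT
import Cfsg.Agent.INV.HS8.Cls
import Cfsg.Agent.INV.HS8.KU

/-!
Configuration K4 in case I, first reductions.
-/

set_option autoImplicit false
set_option linter.unusedSectionVars false
set_option linter.unusedSimpArgs false

open Subgroup CL.TwoS CL.MSS CL.K

namespace CL.HS8

variable {G : Type*} [Group G] [Finite G] {d : Dat G}

/-- Local data on both sides, `m = n c` with `c ∈ Z`. -/
structure W0 (d : Dat G) (P M P' M' : Subgroup G) (ρ n α ρ' m β : G) (μ : Bool) : Prop where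
  ae : AE d A4T
  ae' : AE d.swap A4T
  lo : Lo d A4T P M ρ
  lo' : Lo d.swap A4T P' M' ρ'
  nM : n ∈ M
  αM : α ∈ M
  mM : m ∈ M'
  βM : β ∈ M'
  tn : TN d ρ n α μ false
  tn' : TN d.swap ρ' m β μ false
  mn : ∃ i j, m = n * bp d.a i * bp d.b j

open Kt Ltb

/-- Take `g ∈ N(S0)` from `exists_nt`. If it normalises `E` use `AE.le`. If it swaps then `g y g⁻¹ ∈ N(E)` maps
`g t g⁻¹` to `g t g⁻¹ z`; no element of `A4T . S3` swaps `a` and `b`. -/
theorem K4.notD (h : Hy d) (c : C1 d) (k : K4 d) : ¬ IsConj d.t d.a ∧ ¬ IsConj d.t d.b := by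
  obtain ⟨ae, -, R, y, hR, hy, a⟩ := k
  have r := h.toRl
  have key : ∀ e : V4, e = .of 4 ∨ e = .of 8 → ¬ IsConj d.t (d.φ4 e) := fun e he hu => by
    obtain ⟨g, hg, k⟩ := h.exists_nt c (m := ⟨e, false⟩) (by rcases he with rfl | rfl <;> rfl)
      (by rwa [d.φ5_e])
    rw [d.φ5_e] at k
    rcases r.dich hg with ⟨b, -⟩ | ⟨-, b⟩
    · obtain ⟨f, hf, s, hs, b⟩ := ae.le g b
      exact (by decide +kernel : ∀ f ∈ A4T, ∀ s ∈ S3, ∀ e : V4, e = .of 4 ∨ e = .of 8 → (f * s).t ≠ e)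
        f hf s hs e he (r.mod4.inj ((act_t b).symm.trans k))
    · obtain ⟨f, hf, s, hs, b⟩ := act_sw (d := d.swap) r.swap ae b ((hR.swap r).nt y hy).2
      have k1 := b e
      change _ * d.φ4 e * _ = d.φ4 _ at k1
      have k2 := act_t (act_au a (f := nb) (by decide +kernel))
      rw [← k, show g * y * g⁻¹ * (g * d.t * g⁻¹) * (g * y * g⁻¹)⁻¹ = g * (y * d.t * y⁻¹) * g⁻¹ by group,
        k2, show nb.t = .of 1 * .of 12 from rfl, r.mod4.mul, d.ψt, Rl.ψz, cjm, k, r.nt_z hg, ← Rl.ψz,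
        mm r.mod4] at k1
      exact (by decide +kernel : ∀ f ∈ A4T, ∀ s ∈ S3, ∀ e : V4, e = .of 4 ∨ e = .of 8 →
        e * .of 12 ≠ (f * s).app e) f hf s hs e he (r.mod4.inj k1)
  exact ⟨d.ψa ▸ key _ (.inl rfl), d.ψb ▸ key _ (.inr rfl)⟩

theorem W4a.aux (r : Rl d) {ρ n α ρ' m β : G} (l : TN d ρ n α false false)
    (l' : TN d.swap ρ' m β true false) {e : V4} (h1 : e.v = false) (h2 : e.t = true)
    (hm : m = n * d.φ4 e) : ∃ x : V4, x.t = false ∧ IsConj d.t (d.φ4 x) := by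
  have M := r.mod4
  have b1 : β * d.t * β⁻¹ = d.t * d.w := by rw [← d.ψt, β_e r l'.αa rfl]; rfl
  have b2 : β * d.v * β⁻¹ = d.w * (m * d.v) := by
    have := l'.αw r.swap
    rwa [bp_true, d.swap.ψv] at this
  have b3 : β * n * β⁻¹ = m * (d.φ4 e * d.w) := by
    rw [show n = m * d.φ4 e by rw [hm, mul_assoc, mm M, V4.mul_self, M.one, mul_one], cjm,
      cj_of_comm l'.comm.symm, β_e r l'.αa h1, h2, bp_true]
  have b4 : β * d.w * β⁻¹ = d.w := cj_of_comm (by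
    have := r.swap.act_comm l'.αa (e := .of 2) rfl
    rwa [d.swap.ψv] at this)
  have a1 : α * (d.t * d.w) * α⁻¹ = d.t * (d.v * (n * d.w)) := by
    rw [cjm, act_t l.αa, l.αw r, bp_false, M.one, one_mul, show al.t = .of 1 * .of 2 from rfl, M.mul,
      d.ψt, d.ψv, mul_assoc]
  refine ⟨.of 1 * nb.app (e * .of 2), (by decide +kernel : ∀ e : V4, e.t = true →
    (V4.of 1 * nb.app (e * .of 2)).t = false) e h2, isConj_iff.2 ⟨β * α * β, ?_⟩⟩
  rw [show β * α * β * d.t * (β * α * β)⁻¹ = β * (α * (β * d.t * β⁻¹) * α⁻¹) * β⁻¹ by group, b1, a1,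
    cjm, cjm, cjm, b1, b2, b3, b4, hm]
  have nn := l.n_sq r
  rw [bp_false, M.one] at nn
  calc _ = d.t * (d.w * d.w) * (n * (d.φ4 e * d.v)) * n * (d.φ4 e * d.φ4 e) * (d.w * d.w) := by group
    _ = _ := by
      rw [r.ww, mm M, V4.mul_self, M.one, ← d.ψv, ← d.ψt, mm M, comm_l l.na]
      simp only [mul_assoc, mul_one, nn, mm M]

/-- `Hy.le` and `Lo.t4` on both sides (`K4.swap`; use the same `R`, `y`): `y = n c = m c'`, so `m = n c'' t ^ j`, `c'' ∈ Z`.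
If `j = 1` then `m ^ 2 = n ^ 2 z`. For `(μ, μ') = (0, 1)`: modulo `Z`, `α : t ↦ t v, w ↦ w n`; `β : t ↦ t w, n ↦ n w,
v ↦ v n t w`, so `β α β` maps `t` into `v Z`, whose elements are conjugate to `z` or `a` (`cc_rp`): against `z_not`,
`notD`. Symmetrically for `(1, 0)`. If `j = 0` then `μ = μ'`. -/
theorem K4.w0 (h : Hy d) (c : C1 d) (k : K4 d) :
    ∃ P M P' M' ρ n α ρ' m β μ, W0 d P M P' M' ρ n α ρ' m β μ := by
  have nD := k.notD h c
  obtain ⟨ae, ae', R, y, hR, hy, a⟩ := k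
  have r := h.toRl
  have M4 := r.mod4
  obtain ⟨P, M, ρ, hle, lo⟩ := h.le gd4T ae hR.toOv fun x hx => (hR.nt x hx).2
  obtain ⟨P', M', ρ', hle', lo'⟩ := h.swap.le gd4T ae' (hR.swap r).toOv fun x hx =>
    ((hR.swap r).nt x hx).2
  obtain ⟨n, hn, α, hα, μ, l, c1, h1, e1⟩ := lo.t4 h (hle hy) a
  obtain ⟨m, hm, β, hβ, μ', l', c2, h2, e2⟩ := lo'.t4 h.swap (hle' hy) (au_swap r a)
  obtain ⟨x1, h3, rfl⟩ := inZ_e h1
  obtain ⟨x2, h4, rfl⟩ := inZ_sw r h2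
  have hv : (x1 * x2).v = false := by change xor x1.v x2.v = false; rw [h3, h4]; rfl
  have em : m = n * d.φ4 (x1 * x2) := by
    rw [M4.mul, ← mul_assoc, ← e1, e2, mul_assoc, mm M4, V4.mul_self, M4.one, mul_one]
  generalize x1 * x2 = e at hv em
  have sq : bp (.of 12) μ' = bp (.of 12) μ * (nb.app e * e) := M4.inj (by
    have := l'.nn
    rw [bp_false, one_mul, em, mul_assoc, mv' l.na (by decide), ← mul_assoc, l.n_sq r, mm M4, mm M4] at this
    rw [this, map_bp M4.one, Rl.ψz, r.c4.ab.eq]; rfl)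
  have no : ∀ x : V4, x.t = false → ¬ IsConj d.t (d.φ4 x) := fun x hx k => by
    rw [← d.φ5_e] at k
    have k1 := isConj_rp r k
    rcases (by decide +kernel : ∀ x : V4, x.t = false → rp ⟨x, false⟩ = 1 ∨ rp ⟨x, false⟩ = .of 4 ∨
      rp ⟨x, false⟩ = .of 8 ∨ rp ⟨x, false⟩ = .of 12) x hx with e | e | e | e <;> rw [e] at k1
    · rw [r.mod5.one] at k1; exact t_ne r (isConj_one_left.1 k1)
    · exact nD.1 (d.φa ▸ k1)
    · exact nD.2 (d.φb ▸ k1)
    · exact h.z_not c (Rl.φz (d := d) ▸ k1)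
  cases ht : e.t
  · obtain rfl : μ' = μ := (by decide +kernel : ∀ (e : V4) (μ μ' : Bool), e.t = false →
      bp (.of 12) μ' = bp (.of 12) μ * (nb.app e * e) → μ' = μ) e μ μ' ht sq
    refine ⟨P, M, P', M', ρ, n, α, ρ', m, β, μ', ae, ae', lo, lo', hn, hα, hm, hβ, l, l', e.a, e.b, ?_⟩
    rw [em, Hyp.φ4_cen e hv, Z3, ht, bp_false, one_mul, mul_assoc]
  · exfalso
    obtain rfl : μ' = !μ := (by decide +kernel : ∀ (e : V4) (μ μ' : Bool), e.t = true →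
      bp (.of 12) μ' = bp (.of 12) μ * (nb.app e * e) → μ' = !μ) e μ μ' ht sq
    cases μ
    · obtain ⟨x, hx, k⟩ := W4a.aux r l l' hv ht em
      exact no x hx k
    · obtain ⟨x, hx, k⟩ := W4a.aux (d := d.swap) r.swap l' (n := m) (m := n) ⟨l.ρa, l.na, l.αa, l.ρn,
        l.ρα, l.nn, l.αα, l.nα, l.wn, l.wα⟩ (e := ⟨e.t, false, e.b, e.a⟩) rfl ht
        (by rw [← φ4_sw r hv, em, mul_assoc, mm M4, V4.mul_self, M4.one, mul_one])
      rw [r.φ4_swap] at k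
      have k1 := isConj_rp r k
      obtain ⟨x', h1, h2⟩ := (by decide +kernel : ∀ x : V4, x.t = false → ∃ x' : V4, x'.t = false ∧
        rp (sw5 ⟨x, false⟩) = ⟨x', false⟩) x hx
      rw [h2, d.φ5_e] at k1
      exact no x' h1 k1

namespace W4a

def PM1 : PC := ⟨6, 0x1a01b01801901e01f01c01d01301201101001701601501400e00f00c00d00a00b00800900700600500400300200100000f00e00d00c00b00a009008007006005004003002001000007006005004003002001000003002001000001000000000, 0x4001000000000, 0x3f03e03d03c03b03a03903803703603503403303203103002f02e02d02c02b02a02902802702602502402302202102001a01b01801901e01f01c01d01301201101001701601501400e00f00c00d00a00b008009007006005004003002001000⟩ -- z b v n al t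

/-- The generators of `M`. -/
def gM (d : Dat G) (n α : G) : ℕ → G :=
  PC.gl [d.φ4 (.of 12), d.φ4 (.of 8), d.φ4 (.of 2), n, α, d.φ4 (.of 1)]

theorem mdM (h : Rl d) {ρ n α : G} (l : TN d ρ n α true false) : PC.Md PM1 (gM d n α) := by
  refine ⟨by decide +kernel, PC.rel_of [0, 0, 0, 1, 4, 0] [[], [1], [1, 2], [1, 2, 4], [1, 2, 4, 8],
    [1, 2, 4, 9, 20]] (by decide +kernel) fun k hk => ?_⟩
  have m := h.mod4
  change k < 6 at hk
  change _ = PC.evk _ 6 _ ∧ ∀ j < k, _ = PC.evk _ 6 _ * _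
  interval_cases k <;> refine ⟨?_, fun j hj => ?_⟩ <;> (try interval_cases j) <;>
    simp [gM, PC.gl, PC.evk, Nat.testBit, -mul_left_inj, -mul_right_inj] <;>
    simp only [mul_assoc, comm_l l.na, comm_l' l.na, comm_l l.αa, comm_l' l.αa, mm m, mm' m, l.n_sq h,
      l.α_sq h, l.comm.symm.eq] <;>
    e_fin m

/-- Codes of the elements of `E`. -/
def ce (e : V4) : ℕ := cond e.a 1 0 + cond (xor e.a e.b) 2 0 + cond e.v 4 0 + cond e.t 32 0
def de (c : ℕ) : V4 := ⟨c.testBit 5, c.testBit 2, c.testBit 0, xor (c.testBit 0) (c.testBit 1)⟩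

theorem ev_ce (h : Rl d) (n α : G) (e : V4) : PM1.ev (gM d n α) (ce e) = d.φ4 e := by
  have m := h.mod4
  change PC.evk _ 6 _ = _
  obtain ⟨_ | _, _ | _, _ | _, _ | _⟩ := e <;>
    simp [ce, gM, PC.gl, PC.evk, Nat.testBit, -mul_left_inj, -mul_right_inj] <;>
    (try simp only [mul_assoc, mm m]) <;> e_fin m

/-- The linear map induced on `E`. -/
noncomputable def lin (Ψ : List ℕ) : L4 :=
  ⟨de (PM1.ap Ψ 32), de (PM1.ap Ψ 4), de (PM1.ap Ψ 3), de (PM1.ap Ψ 2)⟩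

def Bad (Ψ : List ℕ) : Prop := (∀ e, PM1.ap Ψ (ce e) = ce ((lin Ψ).app e)) ∧
  ((∀ f ∈ A4T, ∀ s ∈ S3, lin Ψ ≠ f * s) ∨
    (lin Ψ ∈ A4T ∧ ∀ m < 64, PM1.cj m 8 = PM1.ap Ψ 8 → PM1.cj m 16 ≠ PM1.ap Ψ 16))

noncomputable instance (Ψ : List ℕ) : Decidable (Bad Ψ) := by unfold Bad; infer_instance

/-- The action of `ρ`. -/
def Rρ : List ℕ := [4, 2, 5, 16, 29, 32]

def Fin3 (Θ : List ℕ) (x y T : ℕ) : Prop := PM1.ap Θ 45 = 45 → PM1.ap Θ (PM1.ap Θ x) = 8 →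
    PM1.ap Θ (PM1.ap Θ y) = 16 → (∃ q ∈ [0, 1, 4, 5], PM1.ap Rρ T = PM1.mul 45 q) ∨
      Bad (PM1.cp (PM1.cp Θ (PM1.cp Θ Rρ)) (PM1.cp Θ (PM1.cp Θ Rρ)))

noncomputable instance (Θ : List ℕ) (x y T : ℕ) : Decidable (Fin3 Θ x y T) := by
  unfold Fin3; infer_instance

def Fin2 (x y : ℕ) : Prop := PM1.mul y y = 5 → PM1.mul x y = PM1.mul y x →
    ∀ T < 64, Fin3 [4, 7, 5, x, y, T] x y T

noncomputable instance (x y : ℕ) : Decidable (Fin2 x y) := by unfold Fin2; infer_instance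

theorem search : ∀ x < 64, PM1.mul x x = 4 → ∀ y < 64, Fin2 x y := by
  decide +kernel

/-- The facts about `κ = β α`. -/
theorem kap (r : Rl d) {ρ n α ρ' m β : G} (l : TN d ρ n α true false)
    (l' : TN d.swap ρ' m β true false) {c : V4} (h1 : c.v = false) (h2 : c.t = false)
    (hm : m = n * d.φ4 c) : β * α * d.t * (β * α)⁻¹ = d.φ4 (.of 3 * c) * n ∧
      β * α * d.w * (β * α)⁻¹ = d.φ4 (.of 2 * c) ∧
      β * α * d.v * (β * α)⁻¹ = d.w * (m * d.v) ∧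
      β * α * d.a * (β * α)⁻¹ = d.a ∧ β * α * d.b * (β * α)⁻¹ = d.b := by
  have M := r.mod4
  have cj : ∀ x, β * α * x * (β * α)⁻¹ = β * (α * x * α⁻¹) * β⁻¹ := fun x => by group
  have b1 : β * d.t * β⁻¹ = d.t * d.w := by rw [← d.ψt, β_e r l'.αa rfl]; rfl
  have b2 : β * d.v * β⁻¹ = d.w * (m * d.v) := by
    have := l'.αw r.swap
    rwa [bp_true, d.swap.ψv] at this
  have b3 : β * n * β⁻¹ = n := by
    rw [show n = m * d.φ4 c by rw [hm, mul_assoc, mm M, V4.mul_self, M.one, mul_one], cjm,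
      cj_of_comm l'.comm.symm, β_e r l'.αa h1, h2, bp_false, mul_one]
  have b4 : β * d.w * β⁻¹ = d.w := cj_of_comm (by
    have := r.swap.act_comm l'.αa (e := .of 2) rfl
    rwa [d.swap.ψv] at this)
  have wc : sg.app c = c := (by decide +kernel : ∀ c : V4, c.v = false → sg.app c = c) c h1
  have nc : nb.app c = c := (by decide +kernel : ∀ c : V4, c.t = false → nb.app c = c) c h2
  refine ⟨?_, ?_, ?_, ?_, ?_⟩ <;> rw [cj]
  · rw [act_t l.αa, show al.t = .of 1 * .of 2 from rfl, M.mul, d.ψt, d.ψv, cjm, b1, b2, hm,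
      mul_assoc, ← mul_assoc d.w, r.ww, one_mul, ← d.ψt, ← d.ψv]
    simp only [mul_assoc, comm_l l.na, comm_l' l.na, mm M, mm' M, L4.app_mul, nc]
    exact fin1 (by generalize c = c'; revert c'; decide +kernel)
  · rw [l.αw r, bp_true, d.ψv, cjm, cjm, b2, b3, b4, hm, ← d.ψv]
    simp only [mul_assoc, comm_l l.na, comm_l' l.na, mm M, mm' M, L4.app_mul, nc, comm_l r.act_w,
      comm_l' r.act_w, wc]
    rw [← mul_assoc n n, l.n_sq r, comm_l' r.act_w, r.ww, mul_one, mm M]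
    exact fin2 (by generalize c = c'; revert c'; decide +kernel)
  · rw [← b2, ← d.ψv, l.αa]; rfl
  · rw [← d.ψa, l.αa]; exact (β_e r l'.αa rfl).trans (mul_one _)
  · rw [← d.ψb, l.αa]; exact (β_e r l'.αa rfl).trans (mul_one _)

theorem theta (h : Hy d) {P M P' M' : Subgroup G} {ρ n α ρ' m β : G}
    (k : W0 d P M P' M' ρ n α ρ' m β true) {c : V4} (h1 : c.v = false) (h2 : c.t = false)
    (hm : m = n * d.φ4 c) : ∃ θ, (∀ x ∈ M, θ * x * θ⁻¹ ∈ M) ∧ (∀ x ∈ M, Commute (θ * θ * θ) x) ∧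
      θ * (d.φ4 (.of 3 * c) * n) * θ⁻¹ = d.φ4 (.of 3 * c) * n ∧
      θ * d.φ4 (.of 2 * c) * θ⁻¹ = d.φ4 (.of 14 * c) ∧ θ * d.a * θ⁻¹ = d.a ∧
      θ * d.b * θ⁻¹ = d.φ4 (.of 6 * c) := by
  have r := h.toRl
  have M4 := r.mod4
  obtain ⟨k1, k2, k3, k4, k5⟩ := kap r k.tn k.tn' h1 h2 hm
  have h' : Hy (cjd (β * α) d.swap) := h.swap.cj _
  have ae := k.ae'.cj (β * α)
  obtain ⟨d2, hd⟩ : ∃ d2, d2 = cjd (β * α) d.swap := ⟨_, rfl⟩
  have e1 : d2.t = d.φ4 (.of 3 * c) * n := hd ▸ k1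
  have e2 : d2.v = d.φ4 (.of 2 * c) := hd ▸ k2
  have e3 : d2.w = d.w * (m * d.v) := hd ▸ k3
  have e4 : d2.b = d.φ4 (.of 4) := hd ▸ k4.trans d.ψa.symm
  have e5 : d2.a = d.φ4 (.of 8) := hd ▸ k5.trans d.ψb.symm
  rw [← hd] at h' ae
  have f4 : ∀ e : V4, d2.φ4 e = bp d2.t e.t *
      d.φ4 (bp (.of 2 * c) e.v * bp (.of 8) e.a * bp (.of 4) e.b) := fun e => by
    rw [M4.mul, M4.mul, map_bp M4.one, map_bp M4.one, map_bp M4.one, ← e2, ← e4, ← e5,
      ← mul_assoc, ← mul_assoc]; rfl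
  have f5 : ∀ (i : Bool) (q : V4), q.t = false → ∃ e, bp d2.t i * d.φ4 q = d2.φ4 e := fun i q hq => by
    obtain ⟨e, a1, a2⟩ := (by decide +kernel : ∀ c : V4, c.v = false → c.t = false → ∀ (i : Bool) (q : V4),
      q.t = false → ∃ e : V4, e.t = i ∧ bp (.of 2 * c) e.v * bp (.of 8) e.a * bp (.of 4) e.b = q)
      c h1 h2 i q hq
    exact ⟨e, by rw [f4, a1, a2]⟩
  have nE : ∀ {x : G} {f : L4} {q : V4}, Act d.φ4 x f → (∀ e : V4, (f.app e).t = e.t) → q.t = false →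
      x * n * x⁻¹ = d.φ4 q * n → x ∈ LE.NE d2 := fun {x f q} a hf hq hx e => by
    have t1 : x * d2.t * x⁻¹ = d2.t * d.φ4 (nb.app (.of 3 * c * (f.app (.of 3 * c) * q))) := by
      rw [e1, cjm, a, hx, mul_assoc, ← mv k.tn.na (by decide), mm' M4, mm' M4, ← mul_assoc (_ : V4),
        V4.mul_self, one_mul]
    have t2 : (nb.app (.of 3 * c * (f.app (.of 3 * c) * q))).t = false := by
      rw [(by decide +kernel : ∀ e : V4, (nb.app e).t = e.t)]
      change xor _ (xor _ _) = false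
      rw [hf, hq]; simp
    have t3 : (bp (.of 2 * c) e.v * bp (.of 8) e.a * bp (.of 4) e.b : V4).t = false :=
      (by decide +kernel : ∀ c e : V4, c.t = false →
        (bp (.of 2 * c) e.v * bp (.of 8) e.a * bp (.of 4) e.b : V4).t = false) c e h2
    rw [f4, cjm, a]
    cases e.t
    · rw [bp_false, mul_one, mul_inv_cancel]; exact f5 false _ ((hf _).trans t3)
    · rw [bp_true, t1, mul_assoc, mm M4]
      refine f5 true _ ?_
      change xor _ _ = false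
      rw [t2, hf, t3]; rfl
  have o1 : ∀ {x}, Commute n x → x * n * x⁻¹ = d.φ4 1 * n := fun e => by
    rw [M4.one, one_mul, cj_of_comm e.symm]
  have le : P ≤ LE.NE d2 := k.lo.P_le4 h k.nM k.αM k.tn.na k.tn.αa
    (fun e => nE (q := e * nb.app e) (act_e M4 e) (fun e => by rw [L4.one_app])
      ((by decide +kernel : ∀ e : V4, (e * nb.app e).t = false) e)
      (by rw [inv M4, mul_assoc, comm_l k.tn.na, mm' M4]))
    (nE k.tn.na (by decide +kernel) rfl (o1 (Commute.refl _)))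
    (nE k.tn.αa (by decide +kernel) rfl (o1 k.tn.comm))
    (nE r.act_w (by decide +kernel) rfl (o1 k.tn.nw))
  have eP : ∀ e, d.φ4 e ∈ P := fun e => k.lo.le (k.lo.e_mem h gd4T e)
  have nP := k.lo.le k.nM
  obtain ⟨P2, M2, θ, hle, lo⟩ := h'.le gd4T ae (R := P) ⟨k.lo.pg, h'.toRl.s0_mem
    (e1 ▸ mul_mem (eP _) nP) (e2 ▸ eP _) (e5 ▸ eP _) (e4 ▸ eP _)
    (e3 ▸ mul_mem k.lo.w_mem (mul_mem (hm ▸ mul_mem nP (eP _)) (d.ψv ▸ eP _)))⟩ le
  obtain rfl : P = P2 := eq_of_le_of_card_ge hle (by rw [lo.card_P h' gd4T, k.lo.card_P h gd4T])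
  obtain rfl : M = M2 := Subgroup.ext fun x => by
    rw [lo.memM4 h', k.lo.memM4 h, e2, M4.mul, d.ψv]
    refine and_congr_right fun hx => ?_
    have := k.lo.commZ4 h hx h2 h1
    exact ⟨fun a => a.mul_right this, fun a => comm_of_mul this (by
      rwa [← d.ψv, mm M4, mul_comm, M4.mul, d.ψv])⟩
  have a := lo.ρa
  refine ⟨θ, lo.ρn, lo.ρ3, ?_, ?_, ?_, ?_⟩
  · rw [← e1, act_t a]; exact d2.ψt
  · rw [← e2, ← d2.ψv, a, f4]
    exact (one_mul _).trans (fin2 (by generalize c = c'; revert c'; decide +kernel))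
  · rw [← d.ψa, ← e4, ← d2.ψb, a]; rfl
  · rw [← d.ψb, ← e5, ← d2.ψa, a, f4]
    exact (one_mul _).trans (fin2 (by generalize c = c'; revert c'; decide +kernel))

theorem subM (h : Hy d) {P M : Subgroup G} {ρ n α : G} (lo : Lo d A4T P M ρ) (hn : n ∈ M) (hα : α ∈ M)
    (l : TN d ρ n α true false) : (mdM h.toRl l).sub = M ∧ PM1.Inj (gM d n α) := by
  have md := mdM h.toRl l
  refine ⟨le_antisymm (md.sub_le fun j hj => ?_) (lo.M_le4 h hn hα l.na l.αa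
    (fun e => ev_ce h.toRl n α e ▸ md.ev_mem ((by decide +kernel : ∀ e, ce e < 2 ^ 6) e))
    (md.gmem (j := 3) (by decide)) (md.gmem (j := 4) (by decide))),
    md.inj_of (K := [1, 2, 3, 4, 5, 6, 7]) (by decide +kernel) fun x hx e => ?_⟩
  · change j < 6 at hj
    interval_cases j
    exacts [lo.e_mem h gd4T _, lo.e_mem h gd4T _, lo.e_mem h gd4T _, hn, hα, lo.e_mem h gd4T _]
  · obtain ⟨k1, k2⟩ := (by decide +kernel : ∀ x ∈ [1, 2, 3, 4, 5, 6, 7], ce (de x) = x ∧ de x ≠ 1) x hx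
    rw [← k1, ev_ce h.toRl, ← h.toRl.mod4.one] at e
    exact k2 (h.toRl.mod4.inj e)

theorem main (h : Hy d) {P M P' M' : Subgroup G} {ρ α ρ' n β : G}
    (k : W0 d P M P' M' ρ n α ρ' n β true) : ∃ g, Commute g d.t ∧ Into d.φ4 d.swap.φ4 g := by
  have r := h.toRl
  have M4 := r.mod4
  have l := k.tn
  have hm : n = n * d.φ4 1 := by rw [M4.one, mul_one]
  obtain ⟨k1, k2, -, k4, k5⟩ := kap r l k.tn' rfl rfl hm
  obtain ⟨θ, t1, t2, t3, t4, t5, t6⟩ := theta h k rfl rfl hm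
  simp only [mul_one] at k1 k2 t3 t4 t6
  have md := mdM r l
  obtain ⟨hM, i⟩ := subM h k.lo k.nM k.αM l
  have ec := ev_ce r n α
  have gn : PM1.ev (gM d n α) 8 = n := PC.ev_gen _ _ (j := 3) (by decide)
  have gα : PM1.ev (gM d n α) 16 = α := PC.ev_gen _ _ (j := 4) (by decide)
  have u0 : PM1.ev (gM d n α) 45 = d.φ4 (.of 3) * n := by
    rw [show 45 = PM1.mul (ce (.of 3)) 8 by decide +kernel, md.mul (by decide) (by decide), ec, gn]
  obtain ⟨x, hx, ex⟩ := hM.ge (t1 n k.nM)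
  obtain ⟨y, hy, ey⟩ := hM.ge (t1 α k.αM)
  obtain ⟨T, hT, eT⟩ := hM.ge (t1 _ (k.lo.e_mem h gd4T (.of 1)))
  have tz : θ * d.φ4 (.of 12) * θ⁻¹ = d.φ4 (.of 2) := by
    rw [Rl.ψz, cjm, t5, t6, ← d.ψa, mm M4]; rfl
  have aΘ : PM1.Ac (gM d n α) θ [4, 7, 5, x, y, T] := ⟨rfl, fun j hj => by
    change j < 6 at hj
    interval_cases j
    exacts [⟨show 4 < 2 ^ 6 by decide, tz.trans (ec _).symm⟩,
      ⟨show 7 < 2 ^ 6 by decide, (d.ψb ▸ t6 :).trans (ec _).symm⟩,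
      ⟨show 5 < 2 ^ 6 by decide, t4.trans (ec _).symm⟩, ⟨hx, ex.symm⟩, ⟨hy, ey.symm⟩, ⟨hT, eT.symm⟩]⟩
  have aρ : PM1.Ac (gM d n α) ρ Rρ := ⟨rfl, fun j hj => by
    change j < 6 at hj
    interval_cases j
    exacts [⟨by decide, (l.ρa _).trans (ec _).symm⟩, ⟨by decide, (l.ρa _).trans (ec _).symm⟩,
      ⟨by decide, (l.ρa _).trans (ec _).symm⟩, ⟨by decide, l.ρn.trans gα.symm⟩,
      ⟨by decide, l.ρα.trans (by
        rw [show Rρ.getD 4 0 = PM1.iv (PM1.mul 8 16) by decide +kernel, md.iv (by decide +kernel),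
          md.mul (by decide) (by decide), gn, gα])⟩, ⟨by decide, (l.ρa _).trans (ec _).symm⟩]⟩
  have ap := md.ap aΘ
  have a3 : ∀ {u : G} {z w : ℕ}, u ∈ M → w < 2 ^ 6 → PM1.ev (gM d n α) w = u →
      PM1.ev (gM d n α) z = θ * u * θ⁻¹ →
      PM1.ap [4, 7, 5, x, y, T] (PM1.ap [4, 7, 5, x, y, T] z) = w := fun {u z w} hu hw e1 e2 =>
    i _ (ap _).1 _ hw (by
      rw [← (ap _).2, ← (ap _).2, e2, e1]
      conv_rhs => rw [← cj_of_comm (t2 u hu)]
      group)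
  rcases search x hx (i _ (PC.mul_lt md.ok hx hx) _ (by decide) (by
      rw [md.mul hx hx, ex, ← cjm, l.n_sq r, bp_true, tz]; exact (ec _).symm)) y hy
    (i _ (PC.mul_lt md.ok hy hy) _ (by decide) (by
      rw [md.mul hy hy, ey, ← cjm, l.α_sq r, bp_true, t4]; exact (ec _).symm))
    ((md.comm i hx hy).1 (by rw [ex, ey]; exact comm_cj.2 l.comm)) T hT
    (i _ (ap _).1 _ (by decide) (by rw [← (ap _).2, u0, t3])) (a3 k.nM (by decide) gn ex)
    (a3 k.αM (by decide) gα ey) with ⟨q, hq, e⟩ | ⟨b1, b2⟩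
  · have r' := r.swap
    obtain ⟨q', q1, q2, rfl⟩ := (by decide +kernel : ∀ q ∈ [0, 1, 4, 5], ∃ q' : V4, q'.t = false ∧
      q'.a = q'.b ∧ q = ce q') q hq
    have c0 : ∀ e : V4, e.t = false → (β * α)⁻¹ * d.φ4 e * (β * α) = d.swap.φ4 ⟨false, e.v, e.b, e.a⟩ := by
      intro e he
      have : β * α * d.swap.φ4 ⟨false, e.v, e.b, e.a⟩ * (β * α)⁻¹ = d.φ4 e := by
        rw [Dat.φ4, cj_W4]
        change W4 _ (β * α * d.w * _) (β * α * d.b * _) (β * α * d.a * _) _ = _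
        rw [k2, k4, k5, d.ψv, Dat.φ4, W4, W4, he, mul_assoc, mul_assoc _ (bp d.a _),
          (bp_comm r.c4.ab _ _).eq]
        rfl
      rw [← this]; group
    have aθ : ∀ e : V4, e.t = false → ∃ e' : V4, e'.t = false ∧ ρ * (θ * d.φ4 e * θ⁻¹) * ρ⁻¹ = d.φ4 e' := by
      intro e he
      obtain ⟨e', e1, e2⟩ := (by decide +kernel : ∀ e : V4, e.t = false → ∃ e' : V4, e'.t = false ∧
        rr.app (bp (.of 14) e.v * bp (.of 4) e.a * bp (.of 6) e.b) = e') e he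
      refine ⟨e', e1, ?_⟩
      rw [← e2, ← l.ρa, M4.mul, M4.mul, map_bp M4.one, map_bp M4.one, map_bp M4.one, ← t4, ← t6, d.ψa,
        d.ψv, Dat.φ4, cj_W4, t5, W4, he, bp_false, one_mul]
    have e1 : (β * α)⁻¹ * (ρ * (θ * d.t * θ⁻¹) * ρ⁻¹) * (β * α) =
        d.swap.φ4 ⟨true, q'.v, q'.b, q'.a⟩ := by
      rw [← d.ψt, ← eT, (md.ap aρ T).2, e, md.mul (by decide) ((by decide +kernel : ∀ e, ce e < 2 ^ 6) _),
        u0, ec, ← k1, show (⟨true, q'.v, q'.b, q'.a⟩ : V4) = .of 1 * ⟨false, q'.v, q'.b, q'.a⟩ by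
          generalize q' = c'; revert c'; decide +kernel, r'.mod4.mul, d.swap.ψt, ← c0 q' q1]
      change _ = d.t * _
      group
    have fin : ∀ {s : G} {f : L4}, Act d.swap.φ4 s f → f.app ⟨true, q'.v, q'.b, q'.a⟩ = .of 1 →
        ∃ g, Commute g d.t ∧ Into d.φ4 d.swap.φ4 g := fun {s f} a e => by
      refine ⟨s * ((β * α)⁻¹ * ρ * θ), comm_of_cj ?_, a.into.mul fun x => ?_⟩
      · calc _ = s * ((β * α)⁻¹ * (ρ * (θ * d.t * θ⁻¹) * ρ⁻¹) * (β * α)) * s⁻¹ := by group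
          _ = _ := by rw [e1, a, e]; exact d.swap.ψt
      · obtain ⟨x', x1, x2⟩ := aθ ⟨false, x.v, x.a, x.b⟩ rfl
        have x3 : (β * α)⁻¹ * ρ * θ * d.φ4 ⟨false, x.v, x.a, x.b⟩ * ((β * α)⁻¹ * ρ * θ)⁻¹ =
            d.swap.φ4 ⟨false, x'.v, x'.b, x'.a⟩ := by rw [← c0 x' x1, ← x2]; group
        obtain ⟨_ | _, xv, xa, xb⟩ := x
        · exact ⟨_, x3⟩
        · refine ⟨⟨true, q'.v, q'.b, q'.a⟩ * ⟨false, x'.v, x'.b, x'.a⟩, ?_⟩
          change _ * d.φ4 ⟨false, xv, xa, xb⟩ * _ = _ at x3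
          rw [r'.mod4.mul, ← x3, ← e1, (by decide : ∀ xv xa xb, (⟨true, xv, xa, xb⟩ : V4) =
            .of 1 * ⟨false, xv, xa, xb⟩) xv xa xb, M4.mul, d.ψt]
          group
    obtain ⟨qt, qv, qa, qb⟩ := q'
    obtain rfl : qa = qb := q2
    cases qv <;> cases qa
    exacts [fin Act.one rfl, fin k.tn'.na rfl, fin k.tn'.αa rfl, fin (k.tn'.na.mul k.tn'.αa) rfl]
  · exfalso
    have aΨ := md.cp (md.cp aΘ (md.cp aΘ aρ)) (md.cp aΘ (md.cp aΘ aρ))
    generalize θ * (θ * ρ) * (θ * (θ * ρ)) = g at aΨ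
    generalize PM1.cp _ _ = Ψ at aΨ b1 b2
    have ag : Act d.φ4 g (lin Ψ) := fun e => by rw [← ec, (md.ap aΨ _).2, b1, ec]
    rcases b2 with b2 | ⟨b2, b3⟩
    · obtain ⟨f, hf, s, hs, a⟩ := k.ae.le g ag.into
      exact b2 f hf s hs (Act.unique M4.inj ag a)
    · obtain ⟨m, hm, e⟩ := k.lo.stabM h gd4T (g := g) (fun u hu => by
        obtain ⟨z, -, rfl⟩ := hM.ge hu
        rw [(md.ap aΨ _).2]
        exact hM.le (md.ev_mem (md.ap aΨ _).1)) b2 ag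
      obtain ⟨z, hz, rfl⟩ := hM.ge hm
      have k8 : ∀ w < 2 ^ 6, PM1.ev (gM d n α) w ∈ M → PM1.cj z w = PM1.ap Ψ w := fun w hw hw' =>
        i _ (PC.cj_lt md.ok hz hw) _ (md.ap aΨ _).1 (by rw [md.cj hz hw, ← e _ hw', (md.ap aΨ _).2])
      exact b3 z hz (k8 8 (by decide) (by rw [gn]; exact k.nM)) (k8 16 (by decide) (by rw [gα]; exact k.αM))

end W4a

open W4a

/-- `μ = 1` (this uses `C1` only at the end, through `no_EF`; prove first the version `W0.mu'` below).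
`M = ⟨z, b, v, n, α, t⟩` has the model `PC('z b v n al t', t n t = n z, t α t = α v, n² = z, α² = v)`; `V = ⟨v, z⟩` is the
set of squares of `M`. `m = n c`. From `wα`: `α w α⁻¹ = n v w`, `β v β⁻¹ = m w v`. `κ = β α` centralises `Z`, `κ w κ⁻¹ = v c`,
`u0 = κ t κ⁻¹ = t n c v`. For `d'' = cjd κ d.swap` (`Hy.cj`, `AE.cj`): `κ S0 κ⁻¹ ≤ ⟨S0, n⟩ ≤ P` and `P` normalises
`E'' = ⟨u0, E0⟩`; `Hy.le` with `R = P` gives `P'' = P` (`card_P`), `M'' = M` (the centraliser of `E0` in `P`) and `θ = ρ''`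
normalising `M`, `θ ^ 3` trivial on `M`, fixing `u0`, `a`, with `z ↦ v c ↦ v c z`. As `z = n²`, `v c` is a square, `c ∈ ⟨z⟩`;
by `TN.shift` (on `d.swap`) assume `c = 1` from the start. Python: `θ n θ⁻¹ ∈ α V` or `b α V`.
If in `α V`: `ρ θ` maps `t` into `u0 V` and `E` to `E''`, so `κ⁻¹ ρ θ` maps `E` to `F`, `t` into `t ⟨w, z⟩`; adjust by `m, β`.
If in `b α V` and `θ α θ⁻¹ ∈ b n α V`: `θ ρ⁻¹ θ` normalises `E` and maps `t` into `t b V`, against `AE.le`.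
If in `b α V` and `θ α θ⁻¹ ∈ n α V`: `(θ² ρ)²` normalises `E`, centralises `E0` (so acts in `A4T` by `AE.le`), but is not inner on `M`,
against `Lo.stabM`. -/
theorem W0.mu' (h : Hy d) {P M P' M' : Subgroup G} {ρ n α ρ' m β : G}
    (k : W0 d P M P' M' ρ n α ρ' m β true) : ∃ g, Commute g d.t ∧ Into d.φ4 d.swap.φ4 g := by
  have r := h.toRl
  have M4 := r.mod4
  obtain ⟨i, j, hm⟩ := k.mn
  have hm' : m = n * d.φ4 ⟨false, false, i, j⟩ := by
    rw [hm, Hyp.φ4_cen _ rfl, Z3, bp_false, one_mul, mul_assoc]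
  obtain ⟨θ, t1, -, -, -, t5, t6⟩ := theta h k rfl rfl hm'
  have md := mdM r k.tn
  obtain ⟨hM, inj⟩ := subM h k.lo k.nM k.αM k.tn
  obtain ⟨x, hx, ex⟩ := hM.ge (t1 n k.nM)
  have e1 : PM1.mul x x = ce (.of 4 * (.of 6 * ⟨false, false, i, j⟩)) :=
    inj _ (PC.mul_lt md.ok hx hx) _ ((by decide +kernel : ∀ e, ce e < 2 ^ 6) _) (by
      rw [md.mul hx hx, ex, ← cjm, k.tn.n_sq r, bp_true, Rl.ψz, cjm, t5, t6, ev_ce r, M4.mul (.of 4), d.ψa])
  obtain rfl : i = j := (by decide +kernel : ∀ x < 64, ∀ i j : Bool,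
    PM1.mul x x = ce (.of 4 * (.of 6 * ⟨false, false, i, j⟩)) → i = j) x hx i j e1
  cases i
  · obtain rfl : m = n := by simpa using hm
    exact main h k
  · have e2 : m * (d.b * d.a) = n := by
      rw [hm, bp_true, bp_true, mul_assoc, mul_assoc, ← mul_assoc d.b, r.c4.bb, one_mul, r.c4.aa, mul_one]
    have l := k.tn'.shift r.swap
    change TN _ _ (m * (d.b * d.a)) _ _ _ at l
    rw [e2] at l
    refine main h (β := β * d.w) ⟨k.ae, k.ae', k.lo, k.lo', k.nM, k.αM, ?_, mul_mem k.βM ?_, k.tn, l,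
      false, false, by simp⟩
    · rw [← e2]
      exact mul_mem k.mM (Rl.ψz (d := d.swap) ▸ k.lo'.e_mem h.swap gd4T (.of 12))
    · exact (d.swap.ψv ▸ k.lo'.e_mem h.swap gd4T (.of 2) :)

theorem W0.mu (h : Hy d) (c : C1 d) {P M P' M' : Subgroup G} {ρ n α ρ' m β : G}
    (k : W0 d P M P' M' ρ n α ρ' m β true) : False :=
  (k.mu' h).elim fun _ e => h.no_EF c e.1 e.2

end CL.HS8
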