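import Cfsg.Agent.INV.HS8.W4d

/-!
Configuration K4 with `t ~ t a`: the swapping element.
-/

set_option autoImplicit false
set_option linter.unusedSectionVars false
set_option linter.unusedSimpArgs false

open Subgroup CL.TwoS CL.MSS CL.K

namespace CL.HS8

variable {G : Type*} [Group G] [Finite G] {d : Dat G}

theorem PC.Md.ap' {P : PC} {g : ℕ → G} (h : PC.Md P g) {u : G} {im : List ℕ} (x : ℕ)
    (a : ∀ j < P.n, x.testBit j = true → im.getD j 0 < 2 ^ P.n ∧ u * g j * u⁻¹ = P.ev g (im.getD j 0)) :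
    P.ap im x < 2 ^ P.n ∧ u * P.ev g x * u⁻¹ = P.ev g (P.ap im x) := by
  have k : ∀ k ≤ P.n, P.apk im x k < 2 ^ P.n ∧ u * PC.evk g k x * u⁻¹ = P.ev g (P.apk im x k) := by
    intro k hk
    induction k with
    | zero => exact ⟨Nat.two_pow_pos _, by rw [PC.evk, mul_one, mul_inv_cancel]; exact (P.ev_zero g).symm⟩
    | succ k ih =>
      obtain ⟨i1, i2⟩ := ih (by omega)
      have e : P.apk im x (k + 1) = cond (x.testBit k) (P.mul (P.apk im x k) (im.getD k 0))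
        (P.apk im x k) := rfl
      rw [e, PC.evk]
      cases hb : x.testBit k
      · exact ⟨i1, by rw [bp_false, mul_one]; exact i2⟩
      · obtain ⟨a1, a2⟩ := a k hk hb
        exact ⟨PC.mul_lt h.ok i1 a1, by rw [bp_true, Jn.cjm, i2, a2, cond_true, h.mul i1 a1]⟩
  rw [PC.ap, force_eq]
  exact k _ le_rfl

namespace W4e

open Kt Ltb W4d

theorem tK (r : Rl d) (ae : AE d A4T) {x : G} (h1 : NT d x) (h2 : Into d.φ4 d.φ4 x) :
    x * d.t * x⁻¹ = d.t ∨ x * d.t * x⁻¹ = d.φ4 nb.t := by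
  obtain ⟨f, hf, s, hs, a⟩ := ae.le x h2
  obtain ⟨mv, mw, -, ma, -, -, -, mt, ct, hA⟩ := r.exists_A h1
  have k := hA (.of 1)
  rw [Cls.a5t, d.φt, act_t a, ← d.φ5_e] at k
  rw [act_t a]
  rcases (by decide +kernel : ∀ f ∈ A4T, ∀ s ∈ S3, M5.cen ⟨(f * s).t, false⟩ = true →
    (f * s).t = .of 1 ∨ (f * s).t = nb.t) f hf s hs (r.inj k ▸ ct) with e | e <;> rw [e]
  exacts [.inl d.ψt, .inr rfl]

theorem D (h : Hy d) (ae' : AE d.swap A4T) {P M P' M' Q : Subgroup G} {ρ n α ρ' m β g : G}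
    (lo : Lo d A4T P M ρ) (lo' : Lo d.swap A4T P' M' ρ') (l : TN d ρ n α false false)
    (l' : TN d.swap ρ' m β false false) (nM : n ∈ M) (αM : α ∈ M) (mM : m ∈ M') (βM : β ∈ M')
    (hQ : IsPGroup 2 Q) (MQ : M ≤ Q) (PQ : P' ≤ Q) (gQ : g ∈ Q) (hg : Into d.φ4 d.swap.φ4 g)
    (gz : g * (d.a * d.b) * g⁻¹ = d.a * d.b) {χ : G → V4} (hχ : Ch M' χ) (χt : χ d.t = .of 1)
    (χw : χ d.w = 1) (χa : χ d.a = .of 4) (χb : χ d.b = .of 4) (χm : χ m = 1) (χβ : χ β = 1) :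
    (∃ i, g * d.v * g⁻¹ = bp (d.a * d.b) i * d.w) ∧ (g * n * g⁻¹ ∈ M' ∧ χ (g * n * g⁻¹) = 1) ∧
      g * α * g⁻¹ ∈ M' ∧ χ (g * α * g⁻¹) = 1 := by
  have r := h.toRl
  have m' := r.swap.mod4
  obtain ⟨f, hf, s, hs, a⟩ := act_sw r ae' hg lo.ρa.into
  have cc : ∀ x, g * ρ * g⁻¹ * (g * x * g⁻¹) * (g * ρ * g⁻¹)⁻¹ = g * (ρ * x * ρ⁻¹) * g⁻¹ := fun x => by group
  have z' : d.swap.φ4 (.of 12) = d.a * d.b := (Rl.ψz (d := d.swap)).trans r.c4.ab.eq.symm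
  have e1 := a (.of 12)
  rw [z', ← gz, cc, ← Rl.ψz, lo.ρa, show rr.app (.of 12) = .of 2 from rfl, d.ψv] at e1
  have e2 := a ((f * s).app (.of 12))
  rw [← e1, cc, ← d.ψv, lo.ρa, show rr.app (.of 2) = .of 2 * .of 12 from rfl, r.mod4.mul, d.ψv, Rl.ψz, cjm,
    gz, e1, ← z', mm m'] at e2
  have hs' := (by decide +kernel : ∀ f ∈ A4T, ∀ s ∈ S3, (f * s).app (.of 12) * .of 12 =
    (f * s).app ((f * s).app (.of 12)) → (s = rr ∨ s = ri) ∧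
      ∃ i, (f * s).app (.of 12) = bp (.of 12) i * .of 2) f hf s hs (m'.inj e2)
  obtain ⟨hs', i, e3⟩ := hs'
  rw [e3, m'.mul, map_bp m'.one, z', d.swap.ψv] at e1
  change _ = _ * d.w at e1
  have gM : ∀ x ∈ M, g * x * g⁻¹ ∈ M' := fun x hx => by
    obtain ⟨hP, f, -, b⟩ := (lo.memM x).1 hx
    refine (lo'.memM4 h.swap).2 ⟨lo'.max h.swap gd4T ae' hQ PQ (mul_mem (mul_mem gQ (MQ hx)) (inv_mem gQ))
      (into_cj r.mod4 m' hg b.into), comm_of_mul (comm_bp ?_ i) (e1 ▸ comm_cj.2 ((lo.memM4 h).1 hx).2)⟩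
    rw [← gz, ← Rl.ψz]
    exact comm_cj.2 (lo.commZ4 h hP rfl rfl)
  have eM : g •ᶜ M = M' := eq_of_le_of_card_ge (cj_le_iff_forall.2 gM) (by
    rw [card_cj, lo.card_M h gd4T, lo'.card_M h.swap gd4T])
  have σM : ∀ y ∈ M', g * ρ * g⁻¹ * y * (g * ρ * g⁻¹)⁻¹ ∈ M' := fun y hy => by
    obtain ⟨x, hx, rfl⟩ := mem_cj'.1 (eM ▸ hy)
    exact cc x ▸ gM _ (lo.ρn x hx)
  have eF := lo'.e_mem h.swap gd4T
  have χF : ∀ e, χ (d.swap.φ4 e) = (L4.of 1 0 4 4).app e := fun e => by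
    have := map_W4 (ψ := fun e => χ (d.swap.φ4 e)) (by rw [m'.one, hχ.one])
      (fun x y => by rw [m'.mul, hχ.mul _ (eF x) _ (eF y)]) (.of 1) (.of 2) (.of 4) (.of 8) e
    simp only [Dat.ψt, Dat.ψv, Dat.ψa, Dat.ψb] at this
    conv_lhs => rw [← L4.one_app e]
    exact this.trans (by change TwoS.W4 (χ d.t) (χ d.w) (χ d.b) (χ d.a) _ = _; rw [χt, χw, χa, χb]; rfl)
  have iv : ∀ y ∈ M', χ (ρ' * y * ρ'⁻¹) = χ y := fun y hy =>
    (lo'.M_le4 h.swap mM βM l'.na l'.αa (H := subOfMul {y | y ∈ M' ∧ χ (ρ' * y * ρ'⁻¹) = χ y}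
      ⟨one_mem _, by rw [mul_one, mul_inv_cancel]⟩ fun x hx y hy => ⟨mul_mem hx.1 hy.1, by
        rw [cjm, hχ.mul _ (lo'.ρn _ hx.1) _ (lo'.ρn _ hy.1), hx.2, hy.2, hχ.mul _ hx.1 _ hy.1]⟩)
      (fun e => ⟨eF e, by rw [l'.ρa, χF, χF]; revert e; decide +kernel⟩) ⟨mM, by rw [l'.ρn, χm, χβ]⟩
      ⟨βM, by rw [l'.ρα, hχ.inv (mul_mem mM βM), hχ.mul _ mM _ βM, χm, one_mul]⟩ hy).2
  have key : ∀ τ : G, (∀ y ∈ M', τ * y * τ⁻¹ ∈ M') → (∀ y ∈ M', χ (τ * y * τ⁻¹) = χ y) →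
      Act d.swap.φ4 (g * ρ * g⁻¹ * τ) f → ∀ y ∈ M', χ (g * ρ * g⁻¹ * y * (g * ρ * g⁻¹)⁻¹) = χ y := by
    intro τ h1 h2 b y hy
    generalize g * ρ * g⁻¹ = σ at σM b
    obtain ⟨x, hx, e⟩ := lo'.stabM h.swap gd4T (g := σ * τ) (fun y hy => by
      have := σM _ (h1 y hy)
      rwa [show σ * (τ * y * τ⁻¹) * σ⁻¹ = σ * τ * y * (σ * τ)⁻¹ by group] at this) hf b
    have k := nrm h1 hy
    rw [show σ * y * σ⁻¹ = σ * τ * (τ⁻¹ * y * τ) * (σ * τ)⁻¹ by group, e _ k, hχ.cj hx k, ← h2 _ k]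
    congr 1; group
  have k : ∀ x ∈ M, χ (g * (ρ * x * ρ⁻¹) * g⁻¹) = χ (g * x * g⁻¹) := fun x hx => by
    rw [← cc]
    rcases hs' with rfl | rfl
    · refine key ρ'⁻¹ (fun y hy => by rw [inv_inv]; exact nrm lo'.ρn hy) (fun y hy => ?_)
        (LE.cancel a lo'.act_ρi rr_ri) _ (gM x hx)
      rw [inv_inv, ← iv _ (nrm lo'.ρn hy)]
      congr 1; group
    · exact key ρ' lo'.ρn iv (LE.cancel a lo'.ρa ri_rr) _ (gM x hx)
  have k1 := k n nM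
  have k2 := k α αM
  rw [l.ρn] at k1
  rw [l.ρα, ← Jn.cji, hχ.inv (gM _ (mul_mem nM αM)), cjm, hχ.mul _ (gM _ nM) _ (gM _ αM), mul_eq_right] at k2
  exact ⟨⟨i, e1⟩, ⟨gM _ nM, k2⟩, gM _ αM, k1.trans k2⟩

/-- `Q = T ∪ T g`, no involution in `T g`. -/
structure Sg (T Q : Subgroup G) (χ : G → V4) (g : G) : Prop where
  gQ : g ∈ Q
  nm : ∀ x ∈ T, g * x * g⁻¹ ∈ T ∧ χ (g * x * g⁻¹) = (L4.of 5 2 4 8).app (χ x)
  sq : g * g ∈ T
  cov : ∀ q ∈ Q, q ∈ T ∨ q * g⁻¹ ∈ T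
  ni : ∀ s ∈ T, s * g * (s * g) ≠ 1

theorem Sg.mul {T Q : Subgroup G} {χ : G → V4} {g s : G} (k : Sg T Q χ g) (hχ : Ch T χ) (le : T ≤ Q)
    (hs : s ∈ T) : Sg T Q χ (s * g) where
  gQ := mul_mem (le hs) k.gQ
  nm x hx := by
    rw [show s * g * x * (s * g)⁻¹ = s * (g * x * g⁻¹) * s⁻¹ by group, hχ.cj hs (k.nm x hx).1]
    exact ⟨mul_mem (mul_mem hs (k.nm x hx).1) (inv_mem hs), (k.nm x hx).2⟩
  sq := by
    rw [show s * g * (s * g) = s * (g * s * g⁻¹) * (g * g) by group]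
    exact mul_mem (mul_mem hs (k.nm s hs).1) k.sq
  cov q hq := (k.cov q hq).imp_right fun a => by
    rw [mul_inv_rev, ← mul_assoc]; exact mul_mem a (inv_mem hs)
  ni u hu := by rw [← mul_assoc u]; exact k.ni _ (mul_mem hu hs)

variable {P M P' M' T1 Q : Subgroup G} {ρ n α ρ' β : G} {e : Bool}

theorem not_ta (r : Rl d) (ae : AE d A4T) {g : G} {i : Bool} (k : g * d.t * g⁻¹ = d.φ4 (.of 5 * bp (.of 12) i)) :
    ¬ Into d.φ4 d.φ4 g := fun a => by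
  obtain ⟨f, hf, s, hs, a⟩ := ae.le g a
  exact (by decide +kernel : ∀ f ∈ A4T, ∀ s ∈ S3, ∀ i, (f * s).t ≠ .of 5 * bp (.of 12) i) f hf s hs i
    (r.mod4.inj ((act_t a).symm.trans k))

theorem ψta (r : Rl d) : d.φ4 (.of 5) = d.t * d.a := by rw [← d.ψt, ← d.ψa, mm r.mod4]; rfl

variable (h : Hy d) (c : C1 d) (k : W4 d P M P' M' T1 Q ρ n α ρ' β e)
include h k

theorem s1 (m : M5) : d.φ5 m ∈ T1 := (k.t1 _).2 ⟨m, false, (mul_one _).symm⟩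

theorem n1 : n ∈ T1 := (k.t1 _).2 ⟨1, true, by rw [h.toRl.mod5.one, one_mul, bp_true]⟩

theorem T1_le {H : Subgroup G} (h1 : ∀ m, d.φ5 m ∈ H) (h2 : n ∈ H) : T1 ≤ H := fun x hx => by
  obtain ⟨m, _ | _, rfl⟩ := (k.t1 x).1 hx
  exacts [mul_mem (h1 m) (one_mem _), mul_mem (h1 m) h2]

theorem ovQ : Ov d Q := ⟨k.sq.pgroup, fun m => k.t1Q (s1 h k m)⟩

/-- The model. -/
theorem mk : PC.Md (PW e) (gW d n α β) := md h.toRl k.tn k.tn' k.c0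

theorem T12 : T1 ≤ (mk h k).sub := T1_le h k (ov h.toRl (mk h k)).s0 (gm (mk h k) 1)

theorem T2Q : (mk h k).sub ≤ Q := (mk h k).sub_le fun j hj => by
  have s := (ovQ h k).s0
  change j < 8 at hj
  interval_cases j
  exacts [show d.a * d.b ∈ Q from Rl.φz (d := d) ▸ s _, k.t1Q (n1 h k), show d.a ∈ Q from d.φa ▸ s _,
    show d.v ∈ Q from d.φv ▸ s _, show d.w ∈ Q from d.φw ▸ s _, k.αQ, k.βQ, show d.t ∈ Q from d.φt ▸ s _]

theorem zT1 {γ : G} (hγ : ∀ x ∈ T1, γ * x * γ⁻¹ ∈ T1) :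
    γ * d.a * γ⁻¹ = 1 ∨ γ * d.a * γ⁻¹ = d.a * d.b ∨ γ * d.a * γ⁻¹ = d.a ∨ γ * d.a * γ⁻¹ = d.b := by
  have r := h.toRl
  have m := mk h k
  obtain ⟨x, hx, ex⟩ := T12 h k (hγ _ (d.φa ▸ s1 h k _))
  have q : ∀ y < 256, (PW e).ev (gW d n α β) y ∈ T1 → (PW e).mul x y = (PW e).mul y x := fun y hy h1 =>
    (m.comm (inj r m) hx hy).1 (ex ▸ comm_back (cenZ m r (T12 h k (nrm hγ h1))).1.symm)
  rw [← ex]
  rcases (by decide +kernel : ∀ e, ∀ x < 256, (∀ y ∈ [2, 8, 16, 128], (PW e).mul x y = (PW e).mul y x) →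
    x = 0 ∨ x = 1 ∨ x = 4 ∨ x = 5) e x hx (by
      simp only [List.forall_mem_cons]
      exact ⟨q _ (by decide) (by rw [evn]; exact n1 h k), q _ (by decide) (by rw [evv, ← d.φv]; exact s1 h k _),
        q _ (by decide) (by rw [evw, ← d.φw]; exact s1 h k _),
        q _ (by decide) (by rw [evt, ← d.φt]; exact s1 h k _), by simp⟩) with rfl | rfl | rfl | rfl
  exacts [.inl (PC.ev_zero _ _), .inr (.inl evz), .inr (.inr (.inl eva)), .inr (.inr (.inr (evb r)))]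

include c

theorem B {γ : G} (hγ : ∀ x ∈ T1, γ * x * γ⁻¹ ∈ T1) (ht : γ * d.t * γ⁻¹ = d.t * d.a) :
    NT d γ ∧ Into d.φ4 d.swap.φ4 γ ∧ Into d.swap.φ4 d.φ4 γ ∧ γ * d.a * γ⁻¹ = d.b := by
  have r := h.toRl
  have nt : NT d γ := fun m => h.cT c (ovQ h k) (k.t1Q (hγ _ (s1 h k m))) (comm_of_mul
    (cenZ (mk h k) r (T12 h k (hγ _ (s1 h k m)))).1 (by rw [← r.c4.ta.eq, ← ht]; exact comm_cj.2 (r.comm_t m)))
  obtain ⟨a1, a2⟩ := (r.dich nt).resolve_left fun a =>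
    not_ta r k.ae (i := false) (by rw [ht, bp_false, mul_one, ψta r]) a.1
  refine ⟨nt, a1, a2, ?_⟩
  have ne : ∀ x y : V4, x ≠ y → d.φ4 x ≠ d.φ4 y := fun x y => r.mod4.inj.ne
  rcases zT1 h k hγ with e1 | e1 | e1 | e1
  · exact absurd (by rw [d.ψa, r.mod4.one]; simpa using e1) (ne (.of 4) 1 (by decide))
  · rw [← r.nt_z nt, TwoS.cj_inj] at e1
    exact absurd (d.ψa.trans (e1.trans Rl.ψz.symm)) (ne _ _ (by decide))
  · obtain ⟨f, hf, s, hs, a⟩ := act_sw r k.ae' a1 r.act_ρ.into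
    have := r.swap.act_comm a ((by decide +kernel : ∀ f ∈ A4T, ∀ s ∈ S3, (f * s).app (.of 8) = .of 8) f hf s hs)
    rw [d.swap.ψb] at this
    change Commute _ d.a at this
    rw [← e1, comm_cj, ← d.ψa] at this
    exact absurd (r.act_fix r.act_ρ this) (by decide)
  · exact e1

theorem exP (hn : IsConj d.t (d.t * d.a)) : ∃ R : Subgroup G, IsPGroup 2 R ∧
    (∀ y ∈ R, ∀ x ∈ T1, y * x * y⁻¹ ∈ T1) ∧ ∃ p ∈ R, p * d.t * p⁻¹ = d.t * d.a := by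
  have := Fact.mk Nat.prime_two
  have r := h.toRl
  have M4 := r.mod4
  obtain ⟨g, hg, e0⟩ := h.exists_nt c (m := .of 5) rfl (Rl.φta (d := d) ▸ hn)
  rw [Rl.φta] at e0
  let N : Subgroup G := subOfMul {g | NT d g} (r.ov_S0.nt 1 (one_mem _)).1 fun _ a _ b => a.mul b
  let K : Subgroup G := subOfMul {g | NT d g ∧ Into d.φ4 d.φ4 g} (r.ov_S0.nt 1 (one_mem _))
    fun _ a _ b => ⟨a.1.mul b.1, Into.mul a.2 b.2⟩
  have TK : T1 ≤ K := T1_le h k (fun m => ⟨r.nt_φ m, r.into_φ m⟩) ⟨fun m => ⟨_, k.tn.au r m⟩, k.tn.na.into⟩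
  have KN : K ≤ N := fun x hx => hx.1
  have nK : ∀ y ∈ N, ∀ x ∈ K, y * x * y⁻¹ ∈ K := fun y hy x hx => ⟨(NT.mul hy hx.1).mul (r.nt_inv hy),
    (r.dich hy).elim (fun a => into_cj M4 M4 a.1 hx.2) fun a =>
      into_cj r.swap.mod4 M4 a.2 (Cls.into_swap r hx.1 hx.2)⟩
  obtain ⟨R, hR, le⟩ := exists_sylIn_ge (k.sq.pgroup.to_le k.t1Q) (TK.trans KN)
  have oR : Ov d R := ⟨hR.pgroup, fun m => le (s1 h k m)⟩
  obtain ⟨p, hp, x, hx, e1⟩ := cover hR KN (le_normalizer_of_cj_le fun y hy => cj_le_iff_forall.2 (nK y hy))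
    (fun y hy => ⟨1, by
      rw [pow_one, pow_two]
      exact ⟨NT.mul hy hy, (r.dich hy).elim (fun a => a.1.mul a.1) fun a => a.2.mul a.1⟩⟩) (show g ∈ N from hg)
  refine ⟨R, hR.pgroup, fun y hy u hu => ?_, ?_⟩
  · have a := nK y (hR.le hy) u (TK hu)
    have b := mul_mem (mul_mem hy (le hu)) (inv_mem hy)
    rcases tK r k.ae a.1 a.2 with e2 | e2
    · obtain ⟨m, e3⟩ := h.cT c oR b (comm_of_cj e2)
      exact e3 ▸ s1 h k m
    · obtain ⟨m, e3⟩ := h.cover1 c oR b (le (n1 h k)) (e2.trans (act_t k.tn.na).symm)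
      exact e3 ▸ mul_mem (n1 h k) (s1 h k m)
  · have e2 : p * d.t * p⁻¹ = g * (x⁻¹ * d.t * x⁻¹⁻¹) * g⁻¹ := by rw [e1]; group
    rcases tK r k.ae (inv_mem hx).1 (inv_mem hx).2 with e3 | e3 <;> rw [e3] at e2
    · exact ⟨p, hp, e2.trans e0⟩
    · refine ⟨n * p, mul_mem (le (n1 h k)) hp, ?_⟩
      rw [show nb.t = .of 1 * .of 12 from rfl, M4.mul, d.ψt, Rl.ψz, cjm, e0, r.nt_z hg, ← ψta r, ← Rl.ψz,
        mm M4] at e2
      rw [show n * p * d.t * (n * p)⁻¹ = n * (p * d.t * p⁻¹) * n⁻¹ by group, e2, k.tn.na, ← ψta r]; rfl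

theorem exG (hn : IsConj d.t (d.t * d.a)) : ∃ g ∈ Q, g * d.t * g⁻¹ = d.t * d.a := by
  have := Fact.mk Nat.prime_two
  have r := h.toRl
  have m := mk h k
  obtain ⟨R, hR, nR, p, hp, e0⟩ := exP h c k hn
  obtain ⟨x, hx, le⟩ := k.sq.exists_conj_le hR (le_normalizer_of_cj_le fun y hy => cj_le_iff_forall.2 (nR y hy))
  have hq := le (conj_mem_cj hp)
  have nQ := fun y (hy : y ∈ Q) => le_normalizer_iff.1 k.sq.le y hy
  obtain ⟨s, hs, e1 | e1⟩ := cl h c m (T12 h k (nQ _ hq _ (d.φt ▸ s1 h k _))) (isConj_iff.2 ⟨_, rfl⟩)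
  · exfalso
    obtain ⟨y, e2⟩ := h.cover1 c (ovQ h k) hq (T2Q h k hs) e1
    obtain ⟨c1, c2⟩ := cenZ m r (e2 ▸ mul_mem hs ((ov r m).s0 y))
    have : Commute (x * p * x⁻¹) (x * d.a * x⁻¹) := by
      rcases zT1 h k (fun u hu => (mem_normalizer_iff.1 hx u).1 hu) with e3 | e3 | e3 | e3 <;> rw [e3]
      exacts [Commute.one_right _, c1.mul_right c2, c1, c2]
    have e3 := (B h c k (nR p hp) e0).2.2.2
    rw [cj_of_comm (comm_cj.1 this), ← d.ψa, ← d.ψb] at e3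
    exact absurd (r.mod4.inj e3) (by decide)
  · exact ⟨s⁻¹ * (x * p * x⁻¹), mul_mem (inv_mem (T2Q h k hs)) hq, by
      rw [show ∀ q : G, s⁻¹ * q * d.t * (s⁻¹ * q)⁻¹ = s⁻¹ * (q * d.t * q⁻¹) * s from fun q => by group, e1]; group⟩

theorem sg {χ : G → V4} (hχ : Ch (mk h k).sub χ)
    (χe : ∀ c < 256, χ ((PW e).ev (gW d n α β) c) = ⟨c.testBit 7, false, c.testBit 2, false⟩)
    {g : G} (gQ : g ∈ Q) (gt : g * d.t * g⁻¹ = d.t * d.a) : Sg (mk h k).sub Q χ g := by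
  have r := h.toRl
  have m := mk h k
  have i := inj r m
  have s0 := (ov r m).s0
  obtain ⟨nt, a1, a2, ga⟩ := B h c k (le_normalizer_iff.1 k.sq.le g gQ) gt
  have gz := r.nt_z nt
  have ab := r.c4.ab.eq
  have mT : n * (d.a * d.b) ∈ m.sub := mul_mem (gm m 1) (gm m 0)
  have MT : M ≤ m.sub := k.lo.M_le4 h k.nM k.αM k.tn.na k.tn.αa (fun e => d.φ5_e e ▸ s0 _) (gm m 1) (gm m 5)
  have MT' : M' ≤ m.sub := k.lo'.M_le4 h.swap k.mM k.βM k.tn'.na k.tn'.αa (fun e => r.φ4_swap e ▸ s0 _) mT (gm m 6)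
  have TQ := T2Q h k
  have PQ : P ≤ Q := k.lo.P_le4 h k.nM k.αM k.tn.na k.tn.αa (fun e => d.φ5_e e ▸ TQ (s0 _)) (TQ (gm m 1))
    k.αQ (TQ (gm m 4))
  have PQ' : P' ≤ Q := k.lo'.P_le4 h.swap k.mM k.βM k.tn'.na k.tn'.αa (fun e => r.φ4_swap e ▸ TQ (s0 _))
    (TQ mT) k.βQ (TQ (gm m 3))
  have χg : ∀ j < 8, χ (gW d n α β j) = ⟨(2 ^ j).testBit 7, false, (2 ^ j).testBit 2, false⟩ := fun j hj => by
    rw [← gen e (gW d n α β) j hj, χe _ (Nat.pow_lt_pow_right one_lt_two hj)]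
  have χb : χ d.b = .of 4 := by rw [← evb r (e := e), χe 5 (by decide)]; rfl
  have χz : χ (d.a * d.b) = 1 := χg 0 (by decide)
  have χn : χ n = 1 := χg 1 (by decide)
  obtain ⟨⟨i1, gv⟩, ⟨n1, n2⟩, α1, α2⟩ := D h k.ae' k.lo k.lo' k.tn k.tn' k.nM k.αM k.mM k.βM k.sq.pgroup
    (MT.trans TQ) PQ' gQ a1 gz (hχ.mono MT') (χg 7 (by decide)) (χg 4 (by decide)) (χg 2 (by decide)) χb
    ((hχ.mul n (gm m 1) _ (gm m 0)).trans (by change χ n * χ (d.a * d.b) = 1; rw [χn, χz, mul_one])) (χg 6 (by decide))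
  obtain ⟨⟨i2, gw⟩, -, β1, β2⟩ := D h.swap k.ae k.lo' k.lo k.tn' k.tn k.mM k.βM k.nM k.αM k.sq.pgroup
    (MT'.trans TQ) PQ gQ a2 (by change g * (d.b * d.a) * g⁻¹ = d.b * d.a; rw [← ab, gz]) (hχ.mono MT)
    (χg 7 (by decide)) (χg 3 (by decide)) χb (χg 2 (by decide)) χn (χg 5 (by decide))
  change g * d.w * g⁻¹ = bp (d.b * d.a) i2 * d.v at gw
  have ez : ∀ (b : Bool) (x : ℕ), x ∈ [8, 16] → (PW e).ev (gW d n α β) (cond b (x + 1) x) =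
      bp (d.a * d.b) b * (PW e).ev (gW d n α β) x := fun b x hx => by
    cases b
    · exact (one_mul _).symm
    · obtain ⟨h1, h2⟩ := (by decide +kernel : ∀ e, ∀ x ∈ [8, 16], x < 256 ∧ x + 1 = (PW e).mul 1 x) e x hx
      rw [cond_true, h2, m.mul (show 1 < 256 by decide) h1, evz, bp_true]
  rw [← evw (e := e), ← ez _ _ (by decide)] at gv
  rw [← ab, ← evv (e := e), ← ez _ _ (by decide)] at gw
  rw [← evta r (e := e)] at gt
  obtain ⟨x, hx, ex⟩ := MT' n1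
  have l1 : cond i1 17 16 < 256 := by cases i1 <;> decide
  have l2 : cond i2 9 8 < 256 := by cases i2 <;> decide
  obtain ⟨i3, rfl⟩ := (by decide +kernel : ∀ e i1 i2, ∀ x < 256, ((⟨x.testBit 7, false, x.testBit 2, false⟩ : V4) = 1 ∧
    (∀ y ∈ [cond i1 17 16, cond i2 9 8], (PW e).mul x y = (PW e).mul y x) ∧ (PW e).mul x 132 ≠ (PW e).mul 132 x) →
      ∃ i3, x = cond i3 3 2) e i1 i2 x hx ⟨by rw [← χe x hx, ex, n2], by
      simp only [List.forall_mem_cons]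
      exact ⟨(m.comm i hx l1).1 (by rw [ex, ← gv]; exact comm_cj.2 (d.ψv ▸ r.act_comm k.tn.na rfl)),
        (m.comm i hx l2).1 (by rw [ex, ← gw]; exact comm_cj.2 k.tn.nw), by simp⟩, fun e => by
      have := (m.comm i hx (show 132 < 256 by decide)).2 e
      rw [ex, ← gt, comm_cj, ← d.ψt] at this
      exact absurd (r.act_fix k.tn.na this) (by decide)⟩
  have ac : ∀ j < 8, j ≠ 5 → j ≠ 6 → (im i1 i2 i3).getD j 0 < 256 ∧
      g * gW d n α β j * g⁻¹ = (PW e).ev (gW d n α β) ((im i1 i2 i3).getD j 0) := fun j hj h5 h6 => by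
    interval_cases j
    exacts [⟨show 1 < 256 by decide, gz.trans evz.symm⟩, ⟨hx, ex.symm⟩,
      ⟨show 5 < 256 by decide, ga.trans (evb r).symm⟩, ⟨l1, gv⟩, ⟨l2, gw⟩, absurd rfl h5, absurd rfl h6,
      ⟨show 132 < 256 by decide, gt⟩]
  have nm : ∀ x ∈ m.sub, g * x * g⁻¹ ∈ m.sub ∧ χ (g * x * g⁻¹) = (L4.of 5 2 4 8).app (χ x) := fun x hx =>
    (m.sub_le (H := subOfMul {x | x ∈ m.sub ∧ g * x * g⁻¹ ∈ m.sub ∧ χ (g * x * g⁻¹) = (L4.of 5 2 4 8).app (χ x)}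
      ⟨one_mem _, by rw [mul_one, mul_inv_cancel, hχ.one]; exact ⟨one_mem _, rfl⟩⟩
      fun x hx y hy => ⟨mul_mem hx.1 hy.1, by
        rw [cjm, hχ.mul _ hx.2.1 _ hy.2.1, hx.2.2, hy.2.2, hχ.mul _ hx.1 _ hy.1, L4.app_mul]
        exact ⟨mul_mem hx.2.1 hy.2.1, rfl⟩⟩) (fun j hj => ⟨gm m j hj, by
      by_cases h5 : j = 5
      · subst h5; exact ⟨MT' α1, α2.trans (by rw [χg 5 (by decide)]; rfl)⟩
      by_cases h6 : j = 6
      · subst h6; exact ⟨MT β1, β2.trans (by rw [χg 6 (by decide)]; rfl)⟩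
      obtain ⟨b1, b2⟩ := ac j hj h5 h6
      rw [b2, χe _ b1, χg j hj]
      exact ⟨m.ev_mem b1, (by decide +kernel : ∀ i1 i2 i3, ∀ j < 8, (⟨((im i1 i2 i3).getD j 0).testBit 7, false,
        ((im i1 i2 i3).getD j 0).testBit 2, false⟩ : V4) = (L4.of 5 2 4 8).app ⟨(2 ^ j).testBit 7, false,
          (2 ^ j).testBit 2, false⟩) i1 i2 i3 j hj⟩⟩) hx).2
  have tT : d.t ∈ m.sub := gm m 7
  refine ⟨gQ, nm, ?_, fun q hq => ?_, ?_⟩
  · obtain ⟨y, e1⟩ := h.cover1 c (ovQ h k) (mul_mem gQ gQ) (TQ (gm m 1)) (by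
      rw [show g * g * d.t * (g * g)⁻¹ = g * (g * d.t * g⁻¹) * g⁻¹ by group, gt, evta r, cjm, gt, evta r, ga]
      change _ = n * d.t * n⁻¹
      rw [act_t k.tn.na, ← ψta r, ← d.ψb, mm r.mod4]; rfl)
    exact e1 ▸ mul_mem (gm m 1) (s0 y)
  · obtain ⟨s, hs, e1 | e1⟩ := cl h c m (T12 h k (le_normalizer_iff.1 k.sq.le q hq _ (d.φt ▸ s1 h k _)))
      (isConj_iff.2 ⟨_, rfl⟩)
    · obtain ⟨y, e2⟩ := h.cover1 c (ovQ h k) hq (TQ hs) e1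
      exact .inl (e2 ▸ mul_mem hs (s0 y))
    · obtain ⟨y, e2⟩ := h.cover1 c (ovQ h k) hq (mul_mem (TQ hs) gQ) (by rw [e1, ← evta r (e := e), ← gt]; group)
      refine .inr ?_
      rw [e2, show s * g * d.φ5 y * g⁻¹ = s * (g * d.φ5 y * g⁻¹) by group]
      exact mul_mem hs (nm _ (s0 y)).1
  · rintro _ ⟨s, hs, rfl⟩ e1
    have b := allLt_iff.1 (noinv e i1 i2 i3) s hs
    simp only [force_eq, Bool.and_eq_true, Bool.not_eq_true', Bool.and_eq_false_iff] at b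
    obtain ⟨⟨⟨⟨b1, b2⟩, b3⟩, b4⟩, b5⟩ := b
    have key : ∀ x < 256, ∀ y < 256, g * (PW e).ev (gW d n α β) x * g⁻¹ = (PW e).ev (gW d n α β) y →
        ((PW e).cj s y).testBit 5 = false → ((PW e).cj s y).testBit 6 = false →
        Nat.beq ((PW e).cj s ((PW e).ap (im i1 i2 i3) ((PW e).cj s y))) x = true := fun x hx y hy e2 c5 c6 => by
      obtain ⟨d1, d2⟩ := m.ap' (u := g) (im := im i1 i2 i3) ((PW e).cj s y) fun j hj hb =>
        ac j hj (by rintro rfl; simp [c5] at hb) (by rintro rfl; simp [c6] at hb)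
      refine Nat.beq_eq ▸ i _ (PC.cj_lt m.ok hs d1) _ hx ?_
      rw [m.cj hs d1, ← d2, m.cj hs hy, ← e2]
      generalize (PW e).ev (gW d n α β) s = u at e1
      calc _ = (u * g * (u * g)) * (PW e).ev (gW d n α β) x * (u * g * (u * g))⁻¹ := by group
        _ = _ := by rw [e1]; group
    rcases b5 with b5 | b5
    · exact absurd (key 128 (by decide) 132 (by decide) (by rw [evt, gt]) b1 b2) (by simp [b5])
    · exact absurd (key 8 (by decide) _ l1 (by rw [evv, gv]) b3 b4) (by simp [b5])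

end W4e

end CL.HS8
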