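import Cfsg.Agent.INV.HS8.Def2
import Cfsg.Agent.INV.GW.DFactsA7

/-!
The centraliser of `(0 1)(2 3)` in `S7`.
-/

set_option autoImplicit false

open Equiv Equiv.Perm CL.GW.A7

namespace CL.HS8.ZAp

/-- `(4 5 6)` -/
def θ₀ : Perm (Fin 7) := swap 4 5 * swap 5 6

/-- Permutations coded by numbers. -/
def fn (c : ℕ) (i : Fin 7) : Fin 7 := Fin.ofNat 7 (Nat.land (Nat.shiftRight c (Nat.mul 3 i.val)) 7)

def CA : List ℕ := [1754760, 1525384, 1726088, 1267336, 1468040, 1238664, 1754312, 1524936, 1725640, 1266888, 1467592, 1238216, 1754753, 1525377, 1726081, 1267329, 1468033, 1238657, 1754305, 1524929, 1725633, 1266881, 1467585, 1238209, 1753626, 1524250, 1724954, 1266202, 1466906, 1237530, 1753178, 1523802, 1724506, 1265754, 1466458, 1237082, 1753619, 1524243, 1724947, 1266195, 1466899, 1237523, 1753171, 1523795, 1724499, 1265747, 1466451,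 1237075]
def CE : List ℕ := [1754760, 1524936, 1725640, 1238216, 1525377, 1726081, 1238657, 1754305, 1753626, 1753171]

theorem cA {σ : Perm (Fin 7)} (h : Commute σ t₀) : ∃ c ∈ CA, ⇑σ = fn c := by
  have k : ∀ x, σ (t₀ x) = t₀ (σ x) := fun x => DFunLike.congr_fun h.eq x
  have ne : ∀ {x y : Fin 7}, x ≠ y → σ x ≠ σ y := fun e => σ.injective.ne e
  obtain ⟨p, hp, p0, p1, p2, p3, p4, p5, p6⟩ := (by decide +kernel : ∀ e : Fin 7, t₀ e = e → ∀ f : Fin 7,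
    (t₀ f = f ∧ e ≠ f) → ∀ g : Fin 7, (t₀ g = g ∧ e ≠ g ∧ f ≠ g) → ∀ a : Fin 7, a ≠ t₀ a → ∀ c : Fin 7,
      (c ≠ t₀ c ∧ a ≠ c ∧ t₀ a ≠ c) → ∃ p ∈ CA, fn p 0 = a ∧ fn p 1 = t₀ a ∧ fn p 2 = c ∧ fn p 3 = t₀ c ∧
        fn p 4 = e ∧ fn p 5 = f ∧ fn p 6 = g)
    (σ 4) (k 4).symm (σ 5) ⟨(k 5).symm, ne (by decide)⟩ (σ 6) ⟨(k 6).symm, ne (by decide), ne (by decide)⟩
    (σ 0) (k 0 ▸ ne (by decide)) (σ 2) ⟨k 2 ▸ ne (by decide), ne (by decide), k 0 ▸ ne (by decide)⟩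
  refine ⟨p, hp, funext fun x => ?_⟩
  fin_cases x
  exacts [p0.symm, (k 0).trans p1.symm, p2.symm, (k 2).trans p3.symm, p4.symm, p5.symm, p6.symm]

/-- The odd involutions. -/
def QL : List (Fin 6 → Fin 7) := [![5, 6, 0, 1, 0, 1], ![4, 5, 0, 1, 0, 1], ![4, 6, 0, 1, 0, 1], ![2, 3, 0, 1, 0, 1], ![0, 1, 0, 1, 0, 1], ![0, 1, 2, 3, 5, 6], ![0, 1, 2, 3, 4, 5], ![0, 1, 2, 3, 4, 6], ![0, 2, 1, 3, 5, 6], ![0, 2, 1, 3, 4, 5], ![0, 2, 1, 3, 4, 6], ![0, 3, 1, 2, 5, 6], ![0, 3, 1, 2, 4, 5], ![0, 3, 1, 2, 4, 6]]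

theorem cE {σ : Perm (Fin 7)} (h : Commute σ t₀) (h1 : sign σ = 1) (h2 : σ * σ = 1) : ∃ c ∈ CE, ⇑σ = fn c := by
  obtain ⟨c, hc, e⟩ := cA h
  rcases (by decide +kernel : ∀ c ∈ CA, (∀ i, fn c (fn c i) = i) → c ∈ CE ∨ ∃ q ∈ QL, (q 0 ≠ q 1 ∧ q 2 ≠ q 3 ∧
    q 4 ≠ q 5) ∧ ∀ i, fn c i = swap (q 0) (q 1) (swap (q 2) (q 3) (swap (q 4) (q 5) i))) c hc
    (e ▸ Perm.ext_iff.1 h2) with a | ⟨q, -, ⟨q1, q2, q3⟩, a⟩
  · exact ⟨c, a, e⟩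
  · rw [← e] at a
    rw [show σ = swap (q 0) (q 1) * (swap (q 2) (q 3) * swap (q 4) (q 5)) from Perm.ext a, Perm.sign_mul, Perm.sign_mul,
      sign_swap q1, sign_swap q2, sign_swap q3] at h1
    exact absurd h1 (by decide)

def Fa (T θ V W : Fin 7 → Fin 7) : Prop :=
  (∀ C ∈ CA, ¬ (∀ i, fn C (V i) = W (fn C i)) ∧ ¬ ∀ i, fn C (V i) = W (T (fn C i))) ∧
  ∀ B ∈ CA, ((∀ i, fn B (V i) = V (fn B i)) ∧ (∀ i, fn B (W i) = W (fn B i)) ∧ (¬ ∀ i, fn B i = i) ∧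
    ¬ ∀ i, fn B (T i) = i) → (¬ ∀ i, V (W (θ (W (V (θ (θ (fn B i))))))) = fn B (V (W (θ (W (V (θ (θ i)))))))) ∧
      ∃ p ∈ [((4 : Fin 7), (5 : Fin 7)), (4, 6), (5, 6)], (∀ i, fn B i = swap p.1 p.2 i) ∨ ∀ i, fn B (T i) = swap p.1 p.2 i

instance (T θ V W : Fin 7 → Fin 7) : Decidable (Fa T θ V W) := by unfold Fa; infer_instance

theorem fa0 : ∀ V ∈ CE, ∀ W ∈ CE, (∀ i, fn V (fn W (fn V (fn W i))) = fn 1754305 i) →
    Fa (fn 1754305) (fn 1267336) (fn V) (fn W) := by decide +kernel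

theorem fa {V W : Perm (Fin 7)} (sV : sign V = 1) (sW : sign W = 1) (VV : V * V = 1) (WW : W * W = 1)
    (z : zz V W = t₀) : (∀ C, ¬ Sp V W C) ∧ ∀ B, Commute B V → Commute B W → B ≠ 1 → B * t₀ ≠ 1 →
      ¬ Commute (V * W * θ₀ * (V * W)⁻¹ * θ₀⁻¹) B ∧ ∃ i j : Fin 7, i ≠ j ∧ (B = swap i j ∨ B * t₀ = swap i j) := by
  have tt : t₀ * t₀ = 1 := by decide
  have iV := inv_eq_of_mul_eq_one_right VV
  have iW := inv_eq_of_mul_eq_one_right WW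
  have z' : W * V * W * V = t₀ := by
    rw [← inv_eq_of_mul_eq_one_right tt, ← z, zz]; simp only [mul_inv_rev, iV, iW, mul_assoc]
  have cV : Commute V t₀ := by
    rw [commute_iff_eq]; nth_rewrite 1 [← z']; rw [← z, zz]; simp only [mul_assoc]
  have cW : Commute W t₀ := by
    rw [commute_iff_eq]; nth_rewrite 2 [← z']; rw [← z, zz]; simp only [mul_assoc]
  obtain ⟨v, hv, ev⟩ := cE cV sV VV
  obtain ⟨w, hw, ew⟩ := cE cW sW WW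
  have eT : ⇑t₀ = fn 1754305 := by decide
  have eθ : ⇑θ₀ = fn 1267336 := by decide
  have ap : ∀ {σ τ : Perm (Fin 7)}, σ = τ ↔ ∀ i, σ i = τ i := Perm.ext_iff
  obtain ⟨k1, k2⟩ := fa0 v hv w hw (by rw [← ev, ← ew, ← eT]; exact ap.1 z)
  rw [← ev, ← ew, ← eT] at k1 k2
  rw [← eθ] at k2
  refine ⟨fun C ⟨s1, s2⟩ => ?_, fun B b1 b2 b3 b4 => ?_⟩
  · rw [z] at s1 s2
    obtain ⟨c, hc, ec⟩ := cA (σ := C) (CL.TwoS.comm_of_cj (by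
      rw [← z, show C * zz V W * C⁻¹ = zz (C * V * C⁻¹) (C * W * C⁻¹) by simp only [zz]; group, z, zz]
      have c2 : ∀ x, t₀ * (V * x) = V * (t₀ * x) := fun x => by rw [← mul_assoc, ← cV.eq, mul_assoc]
      have c3 : ∀ x, t₀ * (W * x) = W * (t₀ * x) := fun x => by rw [← mul_assoc, ← cW.eq, mul_assoc]
      rcases s1 with e1 | e1 <;> rcases s2 with e2 | e2 <;> rw [e1, e2] <;>
        simp only [mul_assoc, c2, c3, ← cV.eq, tt, mul_one] <;> simpa only [mul_assoc] using z'))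
    obtain ⟨n1, n2⟩ := k1 c hc
    rw [← ec] at n1 n2
    exact s1.elim (fun e => n1 (ap.1 (mul_inv_eq_iff_eq_mul.1 e))) fun e => n2 (ap.1 (mul_inv_eq_iff_eq_mul.1 e))
  · obtain ⟨c, hc, ec⟩ := cA (σ := B) (z ▸ ((b1.mul_right b2).mul_right b1).mul_right b2)
    have := k2 c hc
    rw [← ec] at this
    obtain ⟨n1, p, hp, n2⟩ := this ⟨ap.1 b1, ap.1 b2, fun e => b3 (Perm.ext e), fun e => b4 (Perm.ext e)⟩
    refine ⟨fun e => n1 ?_, p.1, p.2, (by decide : ∀ p ∈ [((4 : Fin 7), (5 : Fin 7)), (4, 6), (5, 6)], p.1 ≠ p.2) p hp,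
      n2.imp ap.2 ap.2⟩
    rw [mul_inv_rev, iV, iW, show θ₀⁻¹ = θ₀ * θ₀ by decide] at e
    exact ap.1 e

/-- A 7-cycle and the map `x ↦ 3 x`. -/
theorem seven : ∃ X Y : Perm (Fin 7), sign X = 1 ∧ sign Y = -1 ∧ X ^ 7 = 1 ∧ X ^ 3 ≠ 1 ∧
    Y * X ^ 3 * Y⁻¹ = (X ^ 3) ^ 3 :=
  ⟨c[0, 1, 2, 3, 4, 5, 6], c[1, 3, 2, 6, 4, 5], by decide +kernel⟩

end CL.HS8.ZAp
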